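import Mathlib
import Cfsg.Prelude.Def_Transfer

set_option autoImplicit false

namespace Cfsg.Agent.Helper63

open Subgroup

/-- In a finite `p`-group a subgroup of index `p` is normal. -/
theorem normal_of_index_eq_prime {G : Type*} [Group G] [Finite G] {p : ℕ} [Fact p.Prime]
    (hG : IsPGroup p G) (H : Subgroup G) (hH : H.index = p) : H.Normal := by
  apply Subgroup.normal_of_index_eq_minFac_card
  obtain ⟨n, hn⟩ := IsPGroup.iff_card.mp hG
  have hp : p.Prime := Fact.out
  have hn0 : n ≠ 0 := by
    rintro rfl
    have h1 : Nat.card G = 1 := by simpa using hn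
    have : H.index ∣ Nat.card G := Subgroup.index_dvd_card H
    rw [h1, hH] at this
    exact hp.one_lt.ne' (Nat.dvd_one.mp this)
  rw [hH, hn, Nat.Prime.pow_minFac hp hn0]

/-- In a finite `p`-group, a nontrivial normal subgroup meets the centre nontrivially. -/
theorem normal_inf_center_ne_bot {G : Type*} [Group G] [Finite G] {p : ℕ} [Fact p.Prime]
    (hG : IsPGroup p G) (N : Subgroup G) [N.Normal] (hN : N ≠ ⊥) :
    N ⊓ Subgroup.center G ≠ ⊥ := by
  have hG' : IsPGroup p (ConjAct G) := hG
  have hp : p.Prime := Fact.out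
  have hNp : IsPGroup p N := hG.to_subgroup N
  have hdvd : p ∣ Nat.card N := by
    rcases hNp.card_eq_or_dvd with h | h
    · exfalso
      apply hN
      exact (Subgroup.card_eq_one).mp h
    · exact h
  have h1 : (1 : N) ∈ MulAction.fixedPoints (ConjAct G) N := by
    intro g
    exact smul_one g
  obtain ⟨b, hb, hne⟩ := hG'.exists_fixed_point_of_prime_dvd_card_of_fixed_point (α := N) hdvd h1
  intro hbot
  have hbc : (b : G) ∈ N ⊓ Subgroup.center G := by
    refine Subgroup.mem_inf.mpr ⟨b.2, ?_⟩
    rw [Subgroup.mem_center_iff]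
    intro g
    have := hb (ConjAct.toConjAct g)
    have h2 : ((ConjAct.toConjAct g • b : N) : G) = (b : G) := by rw [this]
    rw [ConjAct.Subgroup.val_conj_smul, ConjAct.smul_def, ConjAct.ofConjAct_toConjAct] at h2
    calc g * (b : G) = (g * b * g⁻¹) * g := by group
      _ = b * g := by rw [h2]
  rw [hbot, Subgroup.mem_bot] at hbc
  apply hne
  exact (Subtype.ext hbc).symm

/-- In a finite `p`-group, a normal subgroup of order `p` is central. -/
theorem le_center_of_normal_of_card_eq_prime {G : Type*} [Group G] [Finite G] {p : ℕ} [Fact p.Prime]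
    (hG : IsPGroup p G) (N : Subgroup G) [N.Normal] (hN : Nat.card N = p) :
    N ≤ Subgroup.center G := by
  have hp : p.Prime := Fact.out
  have hNb : N ≠ ⊥ := by
    rintro rfl
    rw [Subgroup.card_bot] at hN
    exact hp.one_lt.ne hN
  have h1 := normal_inf_center_ne_bot hG N hNb
  have h2 : Nat.card ↥(N ⊓ Subgroup.center G) ∣ Nat.card N :=
    Subgroup.card_dvd_of_le inf_le_left
  rw [hN, Nat.dvd_prime hp] at h2
  rcases h2 with h2 | h2
  · exact absurd (Subgroup.card_eq_one.mp h2) h1
  · have : N ⊓ Subgroup.center G = N := by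
      apply Subgroup.eq_of_le_of_card_ge inf_le_left
      rw [h2, hN]
    rw [← this]
    exact inf_le_right

end Cfsg.Agent.Helper63
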