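import Mathlib

set_option autoImplicit false

namespace Cfsg.Agent.Helper63

open Subgroup

/-- Maximal subgroups of finite `p`-groups are normal. -/
theorem normal_of_isCoatom_of_isPGroup {G : Type*} [Group G] [Finite G] {p : ℕ} [Fact p.Prime]
    (hG : IsPGroup p G) (M : Subgroup G) (hM : IsCoatom M) : M.Normal := by
  have hnil : Group.IsNilpotent G := hG.isNilpotent
  have h02 := (Group.isNilpotent_of_finite_tfae (G := G)).out 0 2
  exact h02.mp hnil M hM

/-- Maximal subgroups of finite `p`-groups have index `p`. -/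
theorem index_of_isCoatom_of_isPGroup {G : Type*} [Group G] [Finite G] {p : ℕ} [Fact p.Prime]
    (hG : IsPGroup p G) (M : Subgroup G) (hM : IsCoatom M) : M.index = p := by
  have hp : p.Prime := Fact.out
  have hn : M.Normal := normal_of_isCoatom_of_isPGroup hG M hM
  have hQ : IsPGroup p (G ⧸ M) := hG.to_quotient M
  have hidx : M.index ≠ 1 := fun h => hM.1 (Subgroup.index_eq_one.mp h)
  have hdvd : p ∣ Nat.card (G ⧸ M) := by
    rcases hQ.card_eq_or_dvd with h | h
    · exact absurd (Subgroup.index_eq_card M ▸ h) hidx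
    · exact h
  obtain ⟨g, hg⟩ := exists_prime_orderOf_dvd_card' p hdvd
  set C : Subgroup (G ⧸ M) := Subgroup.zpowers g with hC
  have hCcard : Nat.card C = p := by rw [hC, Nat.card_zpowers, hg]
  have hsurj := QuotientGroup.mk'_surjective M
  set K : Subgroup G := C.comap (QuotientGroup.mk' M) with hK
  have hMK : M ≤ K := by
    intro x hx
    rw [hK, Subgroup.mem_comap, QuotientGroup.mk'_apply, (QuotientGroup.eq_one_iff x).mpr hx]
    exact one_mem _
  have hmapK : K.map (QuotientGroup.mk' M) = C := Subgroup.map_comap_eq_self_of_surjective hsurj C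
  have hKM : K ≠ M := by
    intro h
    have h1 : K.map (QuotientGroup.mk' M) = ⊥ := by
      rw [h, Subgroup.map_eq_bot_iff, QuotientGroup.ker_mk']
    rw [hmapK] at h1
    rw [h1, Subgroup.card_bot] at hCcard
    exact hp.one_lt.ne hCcard
  have hKtop : K = ⊤ := (hM.le_iff.mp hMK).resolve_right hKM
  have hCtop : C = ⊤ := by
    rw [← hmapK, hKtop, Subgroup.map_top_of_surjective _ hsurj]
  rw [Subgroup.index_eq_card, ← Subgroup.card_top (G := G ⧸ M), ← hCtop, hCcard]

/-- In a finite `p`-group, `p`-th powers lie in the Frattini subgroup. -/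
theorem pow_prime_mem_frattini {G : Type*} [Group G] [Finite G] {p : ℕ} [Fact p.Prime]
    (hG : IsPGroup p G) (g : G) : g ^ p ∈ frattini G := by
  unfold frattini Order.radical
  simp only [Subgroup.mem_iInf]
  intro M hM
  have hn : M.Normal := normal_of_isCoatom_of_isPGroup hG M hM
  have := Subgroup.pow_index_mem M g
  rwa [index_of_isCoatom_of_isPGroup hG M hM] at this

end Cfsg.Agent.Helper63
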