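import Mathlib.GroupTheory.Sylow
import Mathlib.GroupTheory.Nilpotent
import Mathlib.GroupTheory.Index
import Cfsg.Agent.Lib.Cores

/-!
# Elements of prime power order (helper63)

* `le_of_forall_primePow_mem`: a subgroup `K` containing all elements of prime power order of `H`
  contains `H` (finite group).
* `mem_of_pow_eq_one_of_coprime_index`: a `p`-element lies in every normal subgroup of index
  prime to `p`.
* `mem_pCore_of_mem_fittingSubgroup`: a `p`-element of `F(G)` lies in `O_p(G)`.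
-/

set_option autoImplicit false

namespace Cfsg.Agent.Helper63

variable {G : Type*} [Group G]

/-- Bezout in a group: if `x ^ a ∈ K` and `x ^ b ∈ K` with `a`, `b` coprime, then `x ∈ K`. -/
theorem mem_of_pow_mem_of_coprime {K : Subgroup G} {x : G} {a b : ℕ} (hab : a.Coprime b)
    (ha : x ^ a ∈ K) (hb : x ^ b ∈ K) : x ∈ K := by
  have h1 : (a : ℤ) * Nat.gcdA a b + (b : ℤ) * Nat.gcdB a b = 1 := by
    have := Nat.gcd_eq_gcd_ab a b
    rw [hab.gcd_eq_one] at this
    exact_mod_cast this.symm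
  have h2 : x = (x ^ a) ^ (Nat.gcdA a b) * (x ^ b) ^ (Nat.gcdB a b) := by
    rw [← zpow_natCast x a, ← zpow_natCast x b, ← zpow_mul, ← zpow_mul, ← zpow_add, h1, zpow_one]
  rw [h2]
  exact K.mul_mem (K.zpow_mem ha _) (K.zpow_mem hb _)

/-- A subgroup `K` containing all elements of prime power order of `H` contains `H`. -/
theorem le_of_forall_primePow_mem [Finite G] {H K : Subgroup G}
    (h : ∀ x ∈ H, ∀ p k : ℕ, p.Prime → orderOf x = p ^ k → x ∈ K) : H ≤ K := by
  suffices hs : ∀ n : ℕ, ∀ x ∈ H, orderOf x = n → x ∈ K from fun x hx => hs _ x hx rfl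
  intro n
  induction n using Nat.strong_induction_on with
  | _ n ih => ?_
  intro x hx hn
  by_cases h1 : n = 1
  · rw [h1, orderOf_eq_one_iff] at hn
    rw [hn]; exact K.one_mem
  have hn0 : n ≠ 0 := by
    rw [← hn]; exact (orderOf_pos x).ne'
  set p := n.minFac with hp
  have hpp : p.Prime := Nat.minFac_prime h1
  have hpn : p ∣ n := Nat.minFac_dvd n
  set a := n.factorization p with ha
  set m := n / p ^ a with hm
  have hpa : p ^ a ∣ n := Nat.ordProj_dvd n p
  have hnm : n = p ^ a * m := (Nat.mul_div_cancel' hpa).symm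
  have hcop : Nat.Coprime (p ^ a) m := Nat.Coprime.pow_left _ (Nat.coprime_ordCompl hpp hn0)
  have ha1 : 1 ≤ a := (hpp.dvd_iff_one_le_factorization hn0).mp hpn
  have hm0 : m ≠ 0 := by
    intro h0; rw [h0, mul_zero] at hnm; exact hn0 hnm
  have hpa0 : p ^ a ≠ 0 := pow_ne_zero _ hpp.ne_zero
  have hmn : m < n := by
    have h2 : 2 ≤ p ^ a := le_trans hpp.two_le (Nat.le_self_pow (by omega) p)
    calc m = 1 * m := (one_mul m).symm
      _ < p ^ a * m := Nat.mul_lt_mul_of_pos_right (by omega) (Nat.pos_of_ne_zero hm0)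
      _ = n := hnm.symm
  -- `x ^ (p ^ a)` has order `m < n`
  have ho1 : orderOf (x ^ (p ^ a)) = m := by
    rw [orderOf_pow_of_dvd hpa0 (by rw [hn]; exact hpa), hn]
  -- `x ^ m` has order `p ^ a`
  have ho2 : orderOf (x ^ m) = p ^ a := by
    rw [orderOf_pow_of_dvd hm0 (by rw [hn]; exact Dvd.intro_left _ hnm.symm), hn]
    exact Nat.div_eq_of_eq_mul_left (Nat.pos_of_ne_zero hm0) hnm
  have hk1 : x ^ (p ^ a) ∈ K := ih m hmn _ (H.pow_mem hx _) ho1
  have hk2 : x ^ m ∈ K := h _ (H.pow_mem hx _) p a hpp ho2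
  exact mem_of_pow_mem_of_coprime hcop hk1 hk2

/-- A `p`-element lies in every normal subgroup of index prime to `p`. -/
theorem mem_of_pow_eq_one_of_coprime_index {N : Subgroup G} [N.Normal] {p k : ℕ}
    (hcop : N.index.Coprime p) {z : G} (hz : z ^ (p ^ k) = 1) : z ∈ N := by
  refine mem_of_pow_mem_of_coprime (Nat.Coprime.pow_right k hcop) (N.pow_index_mem z) ?_
  rw [hz]; exact N.one_mem

/-- A `p`-element of the Fitting subgroup lies in `O_p(G)`. -/
theorem mem_pCore_of_mem_fittingSubgroup [Finite G] {p : ℕ} [Fact p.Prime] {k : ℕ} {z : G}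
    (hz : z ∈ Cfsg.fittingSubgroup G) (hzp : z ^ (p ^ k) = 1) : z ∈ Cfsg.pCore p G := by
  have hn : (Cfsg.pCore p G).Normal := inferInstance
  have hcop : ((Cfsg.pCore p G).subgroupOf (Cfsg.fittingSubgroup G)).index.Coprime p :=
    Cfsg.Agent.Lib.relIndex_pCore_fittingSubgroup_coprime (G := G) p
  have h1 : (⟨z, hz⟩ : Cfsg.fittingSubgroup G) ∈
      (Cfsg.pCore p G).subgroupOf (Cfsg.fittingSubgroup G) := by
    refine mem_of_pow_eq_one_of_coprime_index (k := k) hcop ?_
    ext; simpa using hzp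
  simpa [Subgroup.mem_subgroupOf] using h1

end Cfsg.Agent.Helper63
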