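import Mathlib
import Cfsg.Prelude.Def_Local
import Cfsg.Agent.Lib.Cores
import Cfsg.Agent.Helper11.PLength
import Cfsg.Agent.S0044

/-!
# `p`-length of quotients; iterated commutators (helper63)

* `map_upperPSeries_le`: a surjective homomorphism maps the upper `p`-series into the upper
  `p`-series.
* `pLengthLE_quotient`: `p`-length at most `k` passes to quotients.
* lemmas on `Cfsg.Agent.S0044.dser` (iterated commutator subgroups in the ambient group).
-/

set_option autoImplicit false

namespace Cfsg.Agent.Helper63

open Cfsg Cfsg.Agent.Lib Cfsg.Agent.Helper11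

section series

variable {G H : Type*} [Group G] [Group H]

/-- The image of `O_p(G)` under a surjective homomorphism lies in `O_p(H)`. -/
theorem map_pCore_le (p : ℕ) (f : G →* H) (hf : Function.Surjective f) :
    (pCore p G).map f ≤ pCore p H :=
  le_pCore (Subgroup.Normal.map inferInstance f hf) ((isPGroup_pCore p).map f)

/-- The image of `O_{p'}(G)` under a surjective homomorphism lies in `O_{p'}(H)`. -/
theorem map_pPrimeCore_le [Finite G] (p : ℕ) (f : G →* H) (hf : Function.Surjective f) :
    (pPrimeCore p G).map f ≤ pPrimeCore p H := by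
  have hn : (pPrimeCore p G).Normal := inferInstance
  refine le_pPrimeCore (Subgroup.Normal.map hn f hf) ?_
  have h1 : Nat.card ((pPrimeCore p G).map f) ∣ Nat.card (pPrimeCore p G) :=
    Subgroup.card_map_dvd _ _
  exact Nat.Coprime.coprime_dvd_left h1 (card_pPrimeCore_coprime p)

/-- A surjective homomorphism maps the upper `p`-series into the upper `p`-series. -/
theorem map_upperPSeries_le [Finite G] (p : ℕ) (f : G →* H) (hf : Function.Surjective f) (j : ℕ) :
    (upperPSeries p G j).1.map f ≤ (upperPSeries p H j).1 := by
  induction j with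
  | zero =>
    rw [upperPSeries_zero, Subgroup.map_bot]
    exact bot_le
  | succ j ih =>
    have hle : (upperPSeries p G j).1 ≤ (upperPSeries p H j).1.comap f :=
      Subgroup.map_le_iff_le_comap.mp ih
    -- the induced map on quotients
    let fbar : G ⧸ (upperPSeries p G j).1 →* H ⧸ (upperPSeries p H j).1 :=
      QuotientGroup.map _ _ f hle
    have hfbar : Function.Surjective fbar := by
      intro y
      obtain ⟨h, rfl⟩ := QuotientGroup.mk_surjective y
      obtain ⟨g, rfl⟩ := hf h
      exact ⟨(g : G ⧸ (upperPSeries p G j).1), rfl⟩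
    have hfbar_mk : ∀ g : G, fbar (QuotientGroup.mk' _ g) = QuotientGroup.mk' _ (f g) :=
      fun g => rfl
    rintro _ ⟨g, hg, rfl⟩
    by_cases hj : Even j
    · rw [upperPSeries_succ_even p j hj] at hg ⊢
      rw [SetLike.mem_coe, Subgroup.mem_comap] at hg
      rw [Subgroup.mem_comap, ← hfbar_mk]
      exact map_pPrimeCore_le p fbar hfbar (Subgroup.mem_map_of_mem _ hg)
    · rw [upperPSeries_succ_odd p j hj] at hg ⊢
      rw [SetLike.mem_coe, Subgroup.mem_comap] at hg
      rw [Subgroup.mem_comap, ← hfbar_mk]
      exact map_pCore_le p fbar hfbar (Subgroup.mem_map_of_mem _ hg)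

/-- `p`-length at most `k` passes to homomorphic images. -/
theorem pLengthLE_of_surjective [Finite G] {p k : ℕ} (f : G →* H) (hf : Function.Surjective f)
    (h : PLengthLE p k G) : PLengthLE p k H := by
  unfold PLengthLE at h ⊢
  rw [eq_top_iff, ← Subgroup.map_top_of_surjective f hf, ← h]
  exact map_upperPSeries_le p f hf _

/-- `p`-length at most `k` passes to quotients. -/
theorem pLengthLE_quotient [Finite G] {p k : ℕ} (N : Subgroup G) [N.Normal]
    (h : PLengthLE p k G) : PLengthLE p k (G ⧸ N) :=
  pLengthLE_of_surjective (QuotientGroup.mk' N) (QuotientGroup.mk'_surjective N) h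

end series

section dser

open Cfsg.Agent.S0044

variable {G H : Type*} [Group G] [Group H]

theorem dser_mono {C C' : Subgroup G} (h : C ≤ C') (n : ℕ) : dser C n ≤ dser C' n := by
  induction n with
  | zero => exact h
  | succ n ih => exact Subgroup.commutator_mono ih ih

theorem map_dser (f : G →* H) (C : Subgroup G) (n : ℕ) : (dser C n).map f = dser (C.map f) n := by
  induction n with
  | zero => rfl
  | succ n ih =>
    show (⁅dser C n, dser C n⁆).map f = ⁅dser (C.map f) n, dser (C.map f) n⁆
    rw [Subgroup.map_commutator, ih]

theorem derivedSeries_add (a b : ℕ) : derivedSeries G (a + b) = dser (derivedSeries G a) b := by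
  induction b with
  | zero => rfl
  | succ b ih =>
    show ⁅derivedSeries G (a + b), derivedSeries G (a + b)⁆ = ⁅dser (derivedSeries G a) b, dser (derivedSeries G a) b⁆
    rw [ih]

theorem dser_eq_map_derivedSeries (P : Subgroup G) (n : ℕ) :
    dser P n = (derivedSeries P n).map P.subtype := by
  induction n with
  | zero =>
    show P = (⊤ : Subgroup P).map P.subtype
    rw [← MonoidHom.range_eq_map, Subgroup.range_subtype]
  | succ n ih =>
    show ⁅dser P n, dser P n⁆ = (⁅derivedSeries P n, derivedSeries P n⁆).map P.subtype
    rw [Subgroup.map_commutator, ih]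

theorem dser_eq_bot_of_derivedSeries_eq_bot {P : Subgroup G} {n : ℕ}
    (h : derivedSeries P n = ⊥) : dser P n = ⊥ := by
  rw [dser_eq_map_derivedSeries, h, Subgroup.map_bot]

end dser

end Cfsg.Agent.Helper63
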