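import Mathlib
import Cfsg.Prelude.Def_Local
import Cfsg.Agent.Lib.Cores
import Cfsg.Agent.Helper11.PLength
import Cfsg.Agent.Helper63.PLenQuot

/-!
# Tools for the upper `p`-series (helper63)

Element-power criteria for membership in the next term of the upper `p`-series, and the
consequences: `p`-length passes to subgroups, the upper `p`-series is characteristic, and
`p`-length is subadditive on extensions (`pLengthLE_add_of_normal`).
-/

set_option autoImplicit false

namespace Cfsg.Agent.Helper63

open Cfsg Cfsg.Agent.Lib Cfsg.Agent.Helper11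

section tools

variable {G : Type*} [Group G]

/-- The kind of exponent allowed at step `j` of the upper `p`-series: prime to `p` at even steps,
a power of `p` at odd steps. -/
def StepNat (p j n : ℕ) : Prop := (Even j → n.Coprime p) ∧ (¬ Even j → ∃ k, n = p ^ k)

/-- Criterion: a normal subgroup all of whose elements have a step-`j` power in `U_j` lies in
`U_{j+1}`. -/
theorem le_upperPSeries_succ_of_pow_mem [Finite G] {p : ℕ} [hp : Fact p.Prime] (j : ℕ)
    (T : Subgroup G) [hT : T.Normal]
    (h : ∀ t ∈ T, ∃ n, StepNat p j n ∧ t ^ n ∈ (upperPSeries p G j).1) :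
    T ≤ (upperPSeries p G (j + 1)).1 := by
  have hTn : (T.map (QuotientGroup.mk' (upperPSeries p G j).1)).Normal :=
    hT.map _ (QuotientGroup.mk'_surjective _)
  have hle : T ≤ (T.map (QuotientGroup.mk' (upperPSeries p G j).1)).comap
      (QuotientGroup.mk' (upperPSeries p G j).1) := Subgroup.le_comap_map _ _
  by_cases hj : Even j
  · rw [upperPSeries_succ_even p j hj]
    refine hle.trans (Subgroup.comap_mono ?_)
    refine le_pPrimeCore hTn ?_
    rw [Nat.coprime_comm, Nat.Prime.coprime_iff_not_dvd hp.out]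
    intro hdvd
    obtain ⟨x, hx⟩ := exists_prime_orderOf_dvd_card' p hdvd
    obtain ⟨t, ht, htx⟩ := x.2
    obtain ⟨n, hn, hmem⟩ := h t ht
    have h1 : (x : G ⧸ (upperPSeries p G j).1) ^ n = 1 := by
      rw [← htx, ← map_pow]
      exact (QuotientGroup.eq_one_iff _).mpr hmem
    have h2 : orderOf (x : G ⧸ (upperPSeries p G j).1) = p := by
      rw [Subgroup.orderOf_coe]; exact hx
    have h3 : p ∣ n := h2 ▸ orderOf_dvd_of_pow_eq_one h1
    have h4 : n.Coprime p := hn.1 hj
    have h5 : p ∣ 1 := by
      have := Nat.dvd_gcd h3 (dvd_refl p)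
      rwa [h4] at this
    exact hp.out.one_lt.ne' (Nat.dvd_one.mp h5)
  · rw [upperPSeries_succ_odd p j hj]
    refine hle.trans (Subgroup.comap_mono ?_)
    refine le_pCore hTn ?_
    intro x
    obtain ⟨t, ht, htx⟩ := x.2
    obtain ⟨n, hn, hmem⟩ := h t ht
    obtain ⟨k, rfl⟩ := hn.2 hj
    refine ⟨k, ?_⟩
    apply Subtype.ext
    rw [Subgroup.coe_pow, Subgroup.coe_one, ← htx, ← map_pow]
    exact (QuotientGroup.eq_one_iff _).mpr hmem

/-- Converse: every element of `U_{j+1}` has a step-`j` power in `U_j`. -/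
theorem exists_pow_mem_upperPSeries [Finite G] (p : ℕ) (j : ℕ) {t : G}
    (ht : t ∈ (upperPSeries p G (j + 1)).1) :
    ∃ n, StepNat p j n ∧ t ^ n ∈ (upperPSeries p G j).1 := by
  by_cases hj : Even j
  · rw [upperPSeries_succ_even p j hj, Subgroup.mem_comap] at ht
    refine ⟨Nat.card (pPrimeCore p (G ⧸ (upperPSeries p G j).1)),
      ⟨fun _ => card_pPrimeCore_coprime p, fun h => absurd hj h⟩, ?_⟩
    rw [← QuotientGroup.eq_one_iff, ← QuotientGroup.mk'_apply, map_pow]
    have := pow_card_eq_one' (G := pPrimeCore p (G ⧸ (upperPSeries p G j).1)) (x := ⟨_, ht⟩)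
    exact congrArg Subtype.val this
  · rw [upperPSeries_succ_odd p j hj, Subgroup.mem_comap] at ht
    obtain ⟨k, hk⟩ := isPGroup_pCore (G := G ⧸ (upperPSeries p G j).1) p ⟨_, ht⟩
    refine ⟨p ^ k, ⟨fun h => absurd h hj, fun _ => ⟨k, rfl⟩⟩, ?_⟩
    rw [← QuotientGroup.eq_one_iff, ← QuotientGroup.mk'_apply, map_pow]
    exact congrArg Subtype.val hk

/-- The upper `p`-series of `G` meets a subgroup `M` inside the upper `p`-series of `M`. -/
theorem upperPSeries_subgroupOf_le [Finite G] (p : ℕ) [Fact p.Prime] (M : Subgroup G) (j : ℕ) :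
    (upperPSeries p G j).1.subgroupOf M ≤ (upperPSeries p M j).1 := by
  induction j with
  | zero =>
    rw [upperPSeries_zero, upperPSeries_zero, Subgroup.bot_subgroupOf]
  | succ j ih =>
    apply le_upperPSeries_succ_of_pow_mem
    intro t ht
    rw [Subgroup.mem_subgroupOf] at ht
    obtain ⟨n, hn, hmem⟩ := exists_pow_mem_upperPSeries p j ht
    refine ⟨n, hn, ih ?_⟩
    rw [Subgroup.mem_subgroupOf, Subgroup.coe_pow]
    exact hmem

/-- `p`-length at most `k` passes to subgroups. -/
theorem pLengthLE_subgroup [Finite G] {p k : ℕ} [Fact p.Prime] (M : Subgroup G)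
    (h : PLengthLE p k G) : PLengthLE p k M := by
  unfold PLengthLE at h ⊢
  rw [eq_top_iff]
  refine le_trans ?_ (upperPSeries_subgroupOf_le p M _)
  rw [h, Subgroup.top_subgroupOf]

/-- The terms of the upper `p`-series are characteristic subgroups. -/
theorem upperPSeries_characteristic [Finite G] (p j : ℕ) :
    (upperPSeries p G j).1.Characteristic := by
  rw [Subgroup.characteristic_iff_map_le]
  intro φ
  exact map_upperPSeries_le p φ.toMonoidHom φ.surjective j

/-- The upper `p`-series of a normal subgroup lies in the upper `p`-series of the group. -/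
theorem map_subtype_upperPSeries_le [Finite G] (p : ℕ) [Fact p.Prime] (N : Subgroup G) [N.Normal]
    (j : ℕ) : (upperPSeries p N j).1.map N.subtype ≤ (upperPSeries p G j).1 := by
  induction j with
  | zero =>
    rw [upperPSeries_zero, Subgroup.map_bot]
    exact bot_le
  | succ j ih =>
    have : (upperPSeries p N (j + 1)).1.Characteristic := upperPSeries_characteristic p (j + 1)
    have : ((upperPSeries p N (j + 1)).1.map N.subtype).Normal :=
      ConjAct.normal_of_characteristic_of_normal
    apply le_upperPSeries_succ_of_pow_mem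
    rintro _ ⟨x, hx, rfl⟩
    obtain ⟨n, hn, hmem⟩ := exists_pow_mem_upperPSeries p j hx
    refine ⟨n, hn, ih ?_⟩
    rw [← map_pow]
    exact Subgroup.mem_map_of_mem _ hmem

/-- If `K ≤ O_{p'}(Q)` is normal, the preimage of the upper `p`-series of `Q / K` lies in the
upper `p`-series of `Q` (from position `1` on). -/
theorem comap_upperPSeries_quotient_le [Finite G] (p : ℕ) [Fact p.Prime] (K : Subgroup G)
    [K.Normal] (hK : K ≤ (upperPSeries p G 1).1) (j : ℕ) :
    (upperPSeries p (G ⧸ K) (j + 1)).1.comap (QuotientGroup.mk' K) ≤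
      (upperPSeries p G (j + 1)).1 := by
  induction j with
  | zero =>
    apply le_upperPSeries_succ_of_pow_mem
    intro t ht
    rw [Subgroup.mem_comap] at ht
    obtain ⟨n, hn, hmem⟩ := exists_pow_mem_upperPSeries p 0 ht
    rw [upperPSeries_zero, Subgroup.mem_bot, ← map_pow, QuotientGroup.mk'_apply,
      QuotientGroup.eq_one_iff] at hmem
    obtain ⟨n', hn', hmem'⟩ := exists_pow_mem_upperPSeries p 0 (hK hmem)
    refine ⟨n * n', ⟨fun h => Nat.Coprime.mul_left (hn.1 h) (hn'.1 h),
      fun h => absurd (by decide : Even 0) h⟩, ?_⟩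
    rw [pow_mul]
    exact hmem'
  | succ j ih =>
    apply le_upperPSeries_succ_of_pow_mem
    intro t ht
    rw [Subgroup.mem_comap] at ht
    obtain ⟨n, hn, hmem⟩ := exists_pow_mem_upperPSeries p (j + 1) ht
    refine ⟨n, hn, ih ?_⟩
    rw [Subgroup.mem_comap, map_pow]
    exact hmem

/-- If `K ≤ O_{p'}(Q)` is normal and `Q / K` has `p`-length at most `b`, so does `Q`. -/
theorem pLengthLE_of_quotient_pPrime [Finite G] {p b : ℕ} [Fact p.Prime] (K : Subgroup G)
    [K.Normal] (hK : K ≤ (upperPSeries p G 1).1) (h : PLengthLE p b (G ⧸ K)) :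
    PLengthLE p b G := by
  unfold PLengthLE at h ⊢
  rw [eq_top_iff]
  refine le_trans ?_ (comap_upperPSeries_quotient_le p K hK (2 * b))
  rw [h, Subgroup.comap_top]

/-- **Subadditivity of `p`-length on extensions.** -/
theorem pLengthLE_add_of_normal [Finite G] {p a b : ℕ} [Fact p.Prime] (N : Subgroup G) [N.Normal]
    (hN : PLengthLE p a N) (hQ : PLengthLE p b (G ⧸ N)) : PLengthLE p (a + b) G := by
  -- `N ≤ U_{2a+1}(G)`
  have hNle : N ≤ (upperPSeries p G (2 * a + 1)).1 := by
    have h1 := map_subtype_upperPSeries_le p N (2 * a + 1)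
    unfold PLengthLE at hN
    rw [hN, ← MonoidHom.range_eq_map, Subgroup.range_subtype] at h1
    exact h1
  -- pass to `Q = G / U_{2a}(G)`
  have hshift := comap_upperPSeries_quotient (G := G) p (2 * a) (even_two_mul a)
  suffices hQ' : PLengthLE p b (G ⧸ (upperPSeries p G (2 * a)).1) by
    unfold PLengthLE at hQ' ⊢
    have := hshift (2 * b + 1)
    rw [hQ', Subgroup.comap_top] at this
    rw [show 2 * (a + b) + 1 = 2 * b + 1 + 2 * a by ring]
    exact this.symm
  have hKn : (N.map (QuotientGroup.mk' (upperPSeries p G (2 * a)).1)).Normal :=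
    Subgroup.Normal.map inferInstance _ (QuotientGroup.mk'_surjective _)
  refine pLengthLE_of_quotient_pPrime (N.map (QuotientGroup.mk' (upperPSeries p G (2 * a)).1)) ?_ ?_
  · rintro _ ⟨x, hx, rfl⟩
    have h1 := hNle hx
    rw [show 2 * a + 1 = 1 + 2 * a by ring, ← hshift 1] at h1
    exact h1
  · -- `Q / K` is a quotient of `G / N`
    let f : G →* (G ⧸ (upperPSeries p G (2 * a)).1) ⧸
        (N.map (QuotientGroup.mk' (upperPSeries p G (2 * a)).1)) :=
      (QuotientGroup.mk' _).comp (QuotientGroup.mk' _)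
    have hf : Function.Surjective f :=
      (QuotientGroup.mk'_surjective _).comp (QuotientGroup.mk'_surjective _)
    have hker : N ≤ f.ker := by
      intro x hx
      rw [MonoidHom.mem_ker]
      show QuotientGroup.mk' _ (QuotientGroup.mk' _ x) = 1
      rw [QuotientGroup.mk'_apply, QuotientGroup.eq_one_iff]
      exact Subgroup.mem_map_of_mem _ hx
    refine pLengthLE_of_surjective (QuotientGroup.lift N f hker) ?_ hQ
    intro y
    obtain ⟨g, rfl⟩ := hf y
    exact ⟨(g : G ⧸ N), rfl⟩

end tools

end Cfsg.Agent.Helper63
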