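import Mathlib

set_option autoImplicit false

namespace Cfsg.Agent.Helper63

open Subgroup

/-- In a group all of whose commutators are central, `a ↦ [a, x]` is a homomorphism into the centre. -/
def commHom {G : Type*} [Group G] (hc : ∀ a b : G, a * b * a⁻¹ * b⁻¹ ∈ Subgroup.center G) (x : G) :
    G →* Subgroup.center G where
  toFun a := ⟨a * x * a⁻¹ * x⁻¹, hc a x⟩
  map_one' := by apply Subtype.ext; simp
  map_mul' := by
    intro g h
    apply Subtype.ext
    show g * h * x * (g * h)⁻¹ * x⁻¹ = (g * x * g⁻¹ * x⁻¹) * (h * x * h⁻¹ * x⁻¹)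
    have hcen := Subgroup.mem_center_iff.mp (hc h x)
    calc g * h * x * (g * h)⁻¹ * x⁻¹
        = g * (h * x * h⁻¹ * x⁻¹) * (x * g⁻¹ * x⁻¹) := by group
      _ = (h * x * h⁻¹ * x⁻¹) * g * (x * g⁻¹ * x⁻¹) := by rw [hcen g]
      _ = (h * x * h⁻¹ * x⁻¹) * (g * x * g⁻¹ * x⁻¹) := by group
      _ = (g * x * g⁻¹ * x⁻¹) * (h * x * h⁻¹ * x⁻¹) := by
          rw [← hcen (g * x * g⁻¹ * x⁻¹)]

theorem commHom_apply_coe {G : Type*} [Group G] (hc : ∀ a b : G, a * b * a⁻¹ * b⁻¹ ∈ Subgroup.center G)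
    (x a : G) : ((commHom hc x a : Subgroup.center G) : G) = a * x * a⁻¹ * x⁻¹ := rfl

theorem commHom_eq_one_iff {G : Type*} [Group G] (hc : ∀ a b : G, a * b * a⁻¹ * b⁻¹ ∈ Subgroup.center G)
    (x a : G) : commHom hc x a = 1 ↔ a * x = x * a := by
  constructor
  · intro h
    have h1 : a * x * a⁻¹ * x⁻¹ = 1 := congrArg Subtype.val h
    calc a * x = (a * x * a⁻¹ * x⁻¹) * (x * a) := by group
      _ = x * a := by rw [h1, one_mul]
  · intro h
    apply Subtype.ext
    show a * x * a⁻¹ * x⁻¹ = 1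
    rw [h]; group

/-- Index formula: if the centre has prime order `p`, all commutators are central and some element of `B` does not
commute with `x`, then `|B| = |C_B(x)| · p`. -/
theorem card_eq_card_centralizer_mul {G : Type*} [Group G] [Finite G] {p : ℕ} (hp : p.Prime)
    (hc : ∀ a b : G, a * b * a⁻¹ * b⁻¹ ∈ Subgroup.center G)
    (hZ : Nat.card (Subgroup.center G) = p) (B : Subgroup G) (x : G)
    (hex : ∃ b ∈ B, b * x ≠ x * b) :
    Nat.card B = Nat.card ↥(B ⊓ Subgroup.centralizer {x}) * p := by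
  set ψ : B →* Subgroup.center G := (commHom hc x).comp B.subtype with hψ
  have hker : ψ.ker = (Subgroup.centralizer ({x} : Set G)).subgroupOf B := by
    ext b
    rw [MonoidHom.mem_ker, Subgroup.mem_subgroupOf, Subgroup.mem_centralizer_iff, hψ,
      MonoidHom.comp_apply, commHom_eq_one_iff]
    constructor
    · intro h y hy
      rw [Set.mem_singleton_iff] at hy
      subst hy
      exact h.symm
    · intro h
      exact (h x rfl).symm
  have h1 : ψ.ker.index = Nat.card ψ.range := Subgroup.index_ker ψ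
  have h2 : Nat.card ψ.range = p := by
    have hdvd : Nat.card ψ.range ∣ p := hZ ▸ Subgroup.card_subgroup_dvd_card ψ.range
    rw [Nat.dvd_prime hp] at hdvd
    rcases hdvd with h | h
    · exfalso
      obtain ⟨b, hb, hbx⟩ := hex
      have hbot : ψ.range = ⊥ := Subgroup.card_eq_one.mp h
      have hmem : ψ ⟨b, hb⟩ ∈ ψ.range := ⟨_, rfl⟩
      rw [hbot, Subgroup.mem_bot, hψ, MonoidHom.comp_apply, commHom_eq_one_iff] at hmem
      exact hbx hmem
    · exact h
  have h3 := Subgroup.card_mul_index ψ.ker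
  rw [h1, h2] at h3
  have h4 : Nat.card ψ.ker = Nat.card ↥(B ⊓ Subgroup.centralizer {x}) := by
    rw [hker, inf_comm, ← Subgroup.card_map_of_injective (Subgroup.subtype_injective B),
      Subgroup.subgroupOf_map_subtype]
  rw [← h3, h4]

/-- If `c = [y, x] ≠ 1` and the centre has prime order then for every `a` some `a * y ^ j` commutes with `x`. -/
theorem exists_pow_commute {G : Type*} [Group G] [Finite G] {p : ℕ} (hp : p.Prime)
    (hc : ∀ a b : G, a * b * a⁻¹ * b⁻¹ ∈ Subgroup.center G)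
    (hZ : Nat.card (Subgroup.center G) = p) (x y : G) (hxy : y * x ≠ x * y) (a : G) :
    ∃ j : ℕ, (a * y ^ j) * x = x * (a * y ^ j) := by
  have : Fact p.Prime := ⟨hp⟩
  set c : Subgroup.center G := commHom hc x y with hcdef
  have hc1 : c ≠ 1 := by
    intro h
    rw [hcdef, commHom_eq_one_iff] at h
    exact hxy h
  have hmem : (commHom hc x a)⁻¹ ∈ Subgroup.zpowers c := mem_zpowers_of_prime_card hZ hc1
  rw [← mem_powers_iff_mem_zpowers] at hmem
  obtain ⟨j, hj⟩ := hmem
  refine ⟨j, ?_⟩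
  rw [← commHom_eq_one_iff hc x, map_mul, map_pow, ← hcdef]
  show commHom hc x a * c ^ j = 1
  have : c ^ j = (commHom hc x a)⁻¹ := hj
  rw [this, mul_inv_cancel]

end Cfsg.Agent.Helper63
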