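import Mathlib
import Cfsg.Prelude.Def_Transfer

set_option autoImplicit false

namespace Cfsg.Agent.Helper63

open Subgroup

/-- A subgroup of prime index is maximal. -/
theorem eq_top_of_lt_of_index_prime {G : Type*} [Group G] {p : ℕ} (hp : p.Prime) (B K : Subgroup G)
    (hB : B.index = p) (hlt : B < K) : K = ⊤ := by
  have h1 : B.relIndex K * K.index = p := by rw [Subgroup.relIndex_mul_index hlt.le, hB]
  have h2 : K.index ∣ p := Dvd.intro_left _ h1
  rw [Nat.dvd_prime hp] at h2
  rcases h2 with h2 | h2
  · exact Subgroup.index_eq_one.mp h2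
  · exfalso
    rw [h2] at h1
    have h3 : B.relIndex K = 1 := Nat.eq_of_mul_eq_mul_right hp.pos (by rw [h1, one_mul])
    rw [Subgroup.relIndex_eq_one] at h3
    exact hlt.not_ge h3

section
variable {E : Type*} [Group E] {p : ℕ}

theorem es_isPGroup (h : Cfsg.IsExtraspecial p E) : IsPGroup p E := h.1.1

theorem es_card_center (h : Cfsg.IsExtraspecial p E) : Nat.card (Subgroup.center E) = p := h.2

theorem es_commutator_eq (h : Cfsg.IsExtraspecial p E) : commutator E = Subgroup.center E :=
  h.1.2.2

theorem es_frattini_eq (h : Cfsg.IsExtraspecial p E) : frattini E = Subgroup.center E :=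
  h.1.2.1

/-- commutators are central in an extraspecial group -/
theorem es_comm_mem_center (h : Cfsg.IsExtraspecial p E) (x y : E) :
    x * y * x⁻¹ * y⁻¹ ∈ Subgroup.center E := by
  rw [← es_commutator_eq h, commutator_def, ← commutatorElement_def]
  exact Subgroup.commutator_mem_commutator (Subgroup.mem_top x) (Subgroup.mem_top y)

theorem es_center_ne_top [Fact p.Prime] (h : Cfsg.IsExtraspecial p E) :
    Subgroup.center E ≠ ⊤ := by
  have hp : p.Prime := Fact.out
  intro htop
  have h1 : commutator E = ⊥ := (commutator_eq_bot_iff_center_eq_top E).mpr htop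
  rw [es_commutator_eq h] at h1
  have h2 := es_card_center h
  rw [h1, Subgroup.card_bot] at h2
  exact hp.one_lt.ne h2

theorem es_not_isMulCommutative [Fact p.Prime] (h : Cfsg.IsExtraspecial p E) :
    ¬ IsMulCommutative E := by
  intro hc
  exact es_center_ne_top h (Subgroup.center_eq_top_iff.mpr hc)

theorem es_exists_not_commute [Fact p.Prime] (h : Cfsg.IsExtraspecial p E) :
    ∃ x y : E, x * y ≠ y * x := by
  by_contra hcon
  push Not at hcon
  exact es_not_isMulCommutative h ⟨⟨hcon⟩⟩

/-- an extraspecial group has order at least `p³` -/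
theorem es_pow_three_le_card [Fact p.Prime] [Finite E] (h : Cfsg.IsExtraspecial p E) :
    p ^ 3 ≤ Nat.card E := by
  have hp : p.Prime := Fact.out
  obtain ⟨k, hk⟩ := IsPGroup.iff_card.mp (es_isPGroup h)
  rw [hk]
  apply Nat.pow_le_pow_right hp.pos
  by_contra hlt
  rw [not_le] at hlt
  apply es_not_isMulCommutative h
  have hk' : k = 0 ∨ k = 1 ∨ k = 2 := by omega
  rcases hk' with rfl | rfl | rfl
  · rw [pow_zero] at hk
    have : Subsingleton E := (Nat.card_eq_one_iff_unique.mp hk).1
    exact ⟨⟨fun a b => Subsingleton.elim _ _⟩⟩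
  · rw [pow_one] at hk
    have := isCyclic_of_prime_card hk
    exact IsCyclic.isMulCommutative
  · exact IsPGroup.isMulCommutative_of_card_eq_prime_sq hk

end

end Cfsg.Agent.Helper63
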