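import Mathlib
import Cfsg.Prelude.Def_CaseTheorems

/-!
# General tools for the metacyclic theorem (2-groups of sectional rank ≤ 2)

* `M2.comm_mem_of_gens` : generators commuting modulo a normal subgroup `K` ⇒ all commutators in `K`.
* `M2.zpowers_normal_of_gens` : `⟨c⟩` is normal if the generators conjugate `c` into `⟨c⟩` (finite group).
* `M2.sectionalPRankLE_of_surjective` : sectional rank bounds pass to homomorphic images.
* `M2.pRankLE_of_sectional`.
-/

set_option autoImplicit false

namespace Cfsg.Agent.Helper63.M2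

open Subgroup

/-- generators commuting modulo a normal subgroup `K` ⇒ all commutators lie in `K`. -/
theorem comm_mem_of_gens {G : Type*} [Group G] (K : Subgroup G) [K.Normal] (X : Set G)
    (hX : closure X = ⊤) (hcomm : ∀ x ∈ X, ∀ y ∈ X, x * y * x⁻¹ * y⁻¹ ∈ K) :
    ∀ a b : G, a * b * a⁻¹ * b⁻¹ ∈ K := by
  have hgen : closure ((QuotientGroup.mk' K) '' X) = ⊤ := by
    rw [← MonoidHom.map_closure, hX, ← MonoidHom.range_eq_map]
    exact MonoidHom.range_eq_top.2 (QuotientGroup.mk'_surjective K)
  have hcen : ∀ q : G ⧸ K, q ∈ center (G ⧸ K) := by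
    have h1 : (QuotientGroup.mk' K) '' X ⊆ (centralizer ((QuotientGroup.mk' K) '' X) : Set (G ⧸ K)) := by
      rintro _ ⟨x, hx, rfl⟩
      rw [SetLike.mem_coe, mem_centralizer_iff]
      rintro _ ⟨y, hy, rfl⟩
      have h := hcomm y hy x hx
      have h2 : (QuotientGroup.mk' K) (y * x * y⁻¹ * x⁻¹) = 1 := (QuotientGroup.eq_one_iff _).2 h
      rw [map_mul, map_mul, map_mul, map_inv, map_inv] at h2
      have h3 := mul_inv_eq_one.1 h2
      rw [mul_inv_eq_iff_eq_mul] at h3
      exact h3
    have h2 : (⊤ : Subgroup (G ⧸ K)) ≤ centralizer ((QuotientGroup.mk' K) '' X) := by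
      rw [← hgen, closure_le]; exact h1
    have h3 : (QuotientGroup.mk' K) '' X ⊆ (center (G ⧸ K) : Set (G ⧸ K)) := by
      rintro _ ⟨x, hx, rfl⟩
      rw [SetLike.mem_coe, mem_center_iff]
      intro g
      have hg := h2 (mem_top g)
      rw [mem_centralizer_iff] at hg
      exact (hg _ ⟨x, hx, rfl⟩).symm
    have h4 : (⊤ : Subgroup (G ⧸ K)) ≤ center (G ⧸ K) := by
      rw [← hgen, closure_le]; exact h3
    exact fun q => h4 (mem_top q)
  intro a b
  rw [← QuotientGroup.eq_one_iff]
  have h := (mem_center_iff.1 (hcen (b : G ⧸ K))) (a : G ⧸ K)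
  have e : ((a * b * a⁻¹ * b⁻¹ : G) : G ⧸ K) = (a : G ⧸ K) * b * (a : G ⧸ K)⁻¹ * (b : G ⧸ K)⁻¹ := by
    simp
  rw [e, h]
  group

/-- `⟨c⟩` is normal if the generators conjugate `c` into `⟨c⟩` (finite group). -/
theorem zpowers_normal_of_gens {G : Type*} [Group G] [Finite G] (c : G) (X : Set G)
    (hX : closure X = ⊤) (h : ∀ x ∈ X, x * c * x⁻¹ ∈ zpowers c) : (zpowers c).Normal := by
  rw [← normalizer_eq_top_iff, eq_top_iff, ← hX, closure_le]
  intro x hx
  apply mem_normalizer_fintype
  intro n hn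
  obtain ⟨k, rfl⟩ := mem_zpowers_iff.1 hn
  have : x * c ^ k * x⁻¹ = (x * c * x⁻¹) ^ k := by
    rw [conj_zpow]
  rw [SetLike.mem_coe, this]
  exact zpow_mem (h x hx) k

/-- the `p`-rank bound passes along isomorphisms. -/
theorem pRankLE_of_mulEquiv {p k : ℕ} {G H : Type*} [Group G] [Group H] (e : G ≃* H)
    (h : Cfsg.PRankLE p k G) : Cfsg.PRankLE p k H := by
  intro A hAc hAp
  have hc : IsMulCommutative (A.comap e.toMonoidHom) := by
    refine ⟨⟨fun a b => Subtype.ext ?_⟩⟩
    have h1 : e (a : G) ∈ A := a.2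
    have h2 : e (b : G) ∈ A := b.2
    have := setLike_mul_comm h1 h2
    rw [← map_mul, ← map_mul] at this
    exact e.injective this
  have hp : ∀ a ∈ A.comap e.toMonoidHom, a ^ p = 1 := by
    intro a ha
    have := hAp (e a) ha
    rw [← map_pow] at this
    exact e.injective (by rw [this, map_one])
  have hcard := h (A.comap e.toMonoidHom) hc hp
  have : Nat.card (A.comap e.toMonoidHom) = Nat.card A := by
    refine Nat.card_congr ⟨fun a => ⟨e a, a.2⟩, fun b => ⟨e.symm b, by
      show e (e.symm b) ∈ A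
      rw [e.apply_symm_apply]; exact b.2⟩, fun a => Subtype.ext (by simp), fun b => Subtype.ext (by simp)⟩
  rw [← this]; exact hcard

/-- sectional rank bounds pass to homomorphic images. -/
theorem sectionalPRankLE_of_surjective {p k : ℕ} {S Q : Type*} [Group S] [Group Q] (π : S →* Q)
    (hπ : Function.Surjective π) (hr : Cfsg.SectionalPRankLE p k S) : Cfsg.SectionalPRankLE p k Q := by
  intro H M hM
  let φ : H.comap π →* H := π.subgroupComap H
  have hφ : Function.Surjective φ := π.subgroupComap_surjective_of_surjective H hπ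
  let ψ : H.comap π →* H ⧸ M := (QuotientGroup.mk' M).comp φ
  have hψ : Function.Surjective ψ := (QuotientGroup.mk'_surjective M).comp hφ
  have e := QuotientGroup.quotientKerEquivOfSurjective ψ hψ
  exact pRankLE_of_mulEquiv e (hr (H.comap π) ψ.ker)

/-- sectional rank bounds restrict to subgroups. -/
theorem sectionalPRankLE_subgroup {p k : ℕ} {S : Type*} [Group S] (T : Subgroup S)
    (hr : Cfsg.SectionalPRankLE p k S) : Cfsg.SectionalPRankLE p k T := by
  intro H M hM
  -- `H.map T.subtype ≤ S` is isomorphic to `H`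
  let e : H ≃* H.map T.subtype := H.equivMapOfInjective T.subtype T.subtype_injective
  let ψ : H.map T.subtype →* H ⧸ M := (QuotientGroup.mk' M).comp e.symm.toMonoidHom
  have hψ : Function.Surjective ψ := (QuotientGroup.mk'_surjective M).comp e.symm.surjective
  have e' := QuotientGroup.quotientKerEquivOfSurjective ψ hψ
  exact pRankLE_of_mulEquiv e' (hr (H.map T.subtype) ψ.ker)

/-- a sectional rank bound gives a rank bound. -/
theorem pRankLE_of_sectional {p k : ℕ} {S : Type*} [Group S] (hr : Cfsg.SectionalPRankLE p k S) :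
    Cfsg.PRankLE p k S := by
  intro A hAc hAp
  have h := hr A ⊥
  have e : A ⧸ (⊥ : Subgroup A) ≃* A := QuotientGroup.quotientBot
  have h' := pRankLE_of_mulEquiv e h
  have := h' ⊤ ⟨⟨fun a b => Subtype.ext (hAc.is_comm.comm (a : A) (b : A))⟩⟩ (fun a _ => by
    apply Subtype.ext
    have := hAp a a.2
    simpa using this)
  rwa [card_top] at this

end Cfsg.Agent.Helper63.M2
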