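import Mathlib

set_option autoImplicit false

namespace Cfsg.Agent.Helper63

open scoped Pointwise

/-- The product formula `|AB| · |A ∩ B| = |A| · |B|` for two subgroups of a group. -/
theorem card_mul_card_inf {X : Type*} [Group X] (A B : Subgroup X) :
    Nat.card ((A : Set X) * (B : Set X) : Set X) * Nat.card ↥(A ⊓ B) = Nat.card A * Nat.card B := by
  classical
  -- a choice of the `A`-part
  have hex : ∀ x : X, ∃ a : X, x ∈ (A : Set X) * (B : Set X) → a ∈ A ∧ a⁻¹ * x ∈ B := by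
    intro x
    by_cases hx : x ∈ (A : Set X) * (B : Set X)
    · obtain ⟨a, ha, b, hb, rfl⟩ := Set.mem_mul.mp hx
      refine ⟨a, fun _ => ⟨ha, ?_⟩⟩
      simpa using hb
    · exact ⟨1, fun h => absurd h hx⟩
  choose fa hfa using hex
  rw [← Nat.card_prod, ← Nat.card_prod]
  apply Nat.card_congr
  refine
    { toFun := fun xd => (⟨fa xd.1 * xd.2, ?_⟩, ⟨(xd.2 : X)⁻¹ * ((fa xd.1)⁻¹ * xd.1), ?_⟩)
      invFun := fun ab => (⟨ab.1 * ab.2, ?_⟩, ⟨(fa (ab.1 * ab.2))⁻¹ * ab.1, ?_⟩)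
      left_inv := ?_
      right_inv := ?_ }
  · exact A.mul_mem (hfa _ xd.1.2).1 (Subgroup.mem_inf.mp xd.2.2).1
  · exact B.mul_mem (B.inv_mem (Subgroup.mem_inf.mp xd.2.2).2) (hfa _ xd.1.2).2
  · exact Set.mul_mem_mul ab.1.2 ab.2.2
  · have hmem : (ab.1 : X) * ab.2 ∈ (A : Set X) * (B : Set X) := Set.mul_mem_mul ab.1.2 ab.2.2
    refine Subgroup.mem_inf.mpr ⟨A.mul_mem (A.inv_mem (hfa _ hmem).1) ab.1.2, ?_⟩
    have h1 := (hfa _ hmem).2
    have : (fa (↑ab.1 * ↑ab.2))⁻¹ * (ab.1 : X) = ((fa (↑ab.1 * ↑ab.2))⁻¹ * (↑ab.1 * ↑ab.2)) * (ab.2 : X)⁻¹ := by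
      group
    rw [this]
    exact B.mul_mem h1 (B.inv_mem ab.2.2)
  · rintro ⟨⟨x, hx⟩, ⟨d, hd⟩⟩
    have hprod : fa x * d * (d⁻¹ * ((fa x)⁻¹ * x)) = x := by group
    apply Prod.ext
    · apply Subtype.ext
      exact hprod
    · apply Subtype.ext
      show (fa (fa x * d * (d⁻¹ * ((fa x)⁻¹ * x))))⁻¹ * (fa x * d) = d
      rw [hprod]
      group
  · rintro ⟨⟨a, ha⟩, ⟨b, hb⟩⟩
    apply Prod.ext
    · apply Subtype.ext
      show fa (a * b) * ((fa (a * b))⁻¹ * a) = a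
      group
    · apply Subtype.ext
      show ((fa (a * b))⁻¹ * a)⁻¹ * ((fa (a * b))⁻¹ * (a * b)) = b
      group

/-- `AB ⊆ ⟨A, B⟩`. -/
theorem mul_subset_sup {X : Type*} [Group X] (A B : Subgroup X) :
    (A : Set X) * (B : Set X) ⊆ ((A ⊔ B : Subgroup X) : Set X) := by
  rintro _ ⟨a, ha, b, hb, rfl⟩
  exact Subgroup.mul_mem _ (Subgroup.mem_sup_left ha) (Subgroup.mem_sup_right hb)

end Cfsg.Agent.Helper63
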