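import Mathlib
import Cfsg.Prelude.Def_CaseTheorems
import Cfsg.Agent.Helper63.Meta2A
import Cfsg.Agent.Helper63.ProdCard
import Cfsg.Agent.Helper63.PGroup

/-!
# Tools for 2-groups of bounded sectional rank

* `SR4.card_le_of_gens` : `|closure Y| ≤ 2 ^ k * |N|` when `Y` normalises `N ≤ closure Y`, squares into `N` and
  commutes modulo `N` (sectional rank ≤ `k`).
* `SR4.card_sup_mul_card_inf`.
* `SR4.inf_eq_bot_and_commute` : two subgroups of a `p`-group normalising each other, with centres `{1, z}`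
  and `{1, z'}`, `z ≠ z'`, `z` centralising the second and `z'` the first, intersect trivially and commute.
-/

set_option autoImplicit false

namespace Cfsg.Agent.Helper63.SR4

open Subgroup
open scoped Pointwise

/-- general index bound: if `H ⧸ N` has 2-rank ≤ `k` and `H` is generated by a set whose elements square
into `N` and commute modulo `N` then `|H : N| ≤ 2 ^ k`. -/
theorem index_le_of_gens {H : Type*} [Group H] (k : ℕ) (N : Subgroup H) [N.Normal]
    (hr : Cfsg.PRankLE 2 k (H ⧸ N)) (X : Set H) (hX : closure X = ⊤)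
    (hsq : ∀ x ∈ X, x ^ 2 ∈ N) (hcomm : ∀ x ∈ X, ∀ y ∈ X, x * y * x⁻¹ * y⁻¹ ∈ N) :
    N.index ≤ 2 ^ k := by
  have hgen : closure ((QuotientGroup.mk' N) '' X) = ⊤ := by
    rw [← MonoidHom.map_closure, hX, ← MonoidHom.range_eq_map]
    exact MonoidHom.range_eq_top.2 (QuotientGroup.mk'_surjective N)
  have hall := M2.comm_mem_of_gens N X hX hcomm
  have hc : ∀ a b : H ⧸ N, a * b = b * a := by
    intro a b
    obtain ⟨a, rfl⟩ := QuotientGroup.mk_surjective a
    obtain ⟨b, rfl⟩ := QuotientGroup.mk_surjective b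
    rw [← QuotientGroup.mk_mul, ← QuotientGroup.mk_mul, QuotientGroup.eq]
    have := hall b⁻¹ a⁻¹
    have e : (a * b)⁻¹ * (b * a) = b⁻¹ * a⁻¹ * b⁻¹⁻¹ * a⁻¹⁻¹ := by group
    rw [e]; exact this
  let K : Subgroup (H ⧸ N) :=
    { carrier := {q | q ^ 2 = 1}
      one_mem' := by simp
      mul_mem' := by
        intro a b ha hb
        simp only [Set.mem_ofPred_eq] at ha hb ⊢
        rw [pow_two, mul_assoc, ← mul_assoc b a b, hc b a, mul_assoc, ← mul_assoc, ← pow_two, ← pow_two,
          ha, hb, one_mul]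
      inv_mem' := by
        intro a ha
        simp only [Set.mem_ofPred_eq] at ha ⊢
        rw [inv_pow, ha, inv_one] }
  have hK : (⊤ : Subgroup (H ⧸ N)) ≤ K := by
    rw [← hgen, closure_le]
    rintro _ ⟨x, hx, rfl⟩
    show ((QuotientGroup.mk' N) x) ^ 2 = 1
    rw [← map_pow]
    exact (QuotientGroup.eq_one_iff _).2 (hsq x hx)
  have hcard := hr ⊤ ⟨⟨fun a b => Subtype.ext (hc a b)⟩⟩ (fun a _ => hK (mem_top a))
  rw [card_top] at hcard
  rw [index_eq_card]
  exact hcard

/-- subgroup version. -/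
theorem card_le_of_gens {S : Type*} [Group S] [Finite S] {k : ℕ} (hr : Cfsg.SectionalPRankLE 2 k S)
    (Y : Set S) (N : Subgroup S) (hN : N ≤ closure Y) (hnorm : ∀ y ∈ Y, ∀ n ∈ N, y * n * y⁻¹ ∈ N)
    (hsq : ∀ y ∈ Y, y ^ 2 ∈ N) (hcomm : ∀ x ∈ Y, ∀ y ∈ Y, x * y * x⁻¹ * y⁻¹ ∈ N) :
    Nat.card (closure Y) ≤ 2 ^ k * Nat.card N := by
  set H : Subgroup S := closure Y with hH
  have hHn : H ≤ normalizer (N : Set S) := by
    rw [hH, closure_le]
    intro y hy
    exact mem_normalizer_fintype (fun n hn => hnorm y hy n hn)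
  let N' : Subgroup H := N.subgroupOf H
  have hNn : N'.Normal := by
    refine ⟨fun n hn g => ?_⟩
    rw [mem_subgroupOf] at hn ⊢
    have hg := hHn g.2
    rw [Subgroup.coe_mul, Subgroup.coe_mul, Subgroup.coe_inv]
    exact (mem_normalizer_iff.1 hg _).1 hn
  have hX : closure (((↑) : H → S) ⁻¹' Y) = ⊤ := by
    rw [hH]; exact closure_closure_coe_preimage
  have hidx : N'.index ≤ 2 ^ k := by
    refine index_le_of_gens k N' (hr H N') _ hX ?_ ?_
    · intro x hx
      rw [mem_subgroupOf, Subgroup.coe_pow]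
      exact hsq _ hx
    · intro x hx y hy
      rw [mem_subgroupOf]
      simp only [Subgroup.coe_mul, Subgroup.coe_inv]
      exact hcomm _ hx _ hy
  have hcardN : Nat.card N' = Nat.card N :=
    Nat.card_congr (subgroupOfEquivOfLe hN).toEquiv
  have := N'.card_mul_index
  rw [hcardN] at this
  calc Nat.card H = Nat.card N * N'.index := this.symm
    _ ≤ Nat.card N * 2 ^ k := Nat.mul_le_mul_left _ hidx
    _ = 2 ^ k * Nat.card N := Nat.mul_comm _ _

/-- the product formula for subgroups one of which normalises the other. -/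
theorem card_sup_mul_card_inf {X : Type*} [Group X] (A B : Subgroup X) (h : A ≤ normalizer (B : Set X)) :
    Nat.card ↥(A ⊔ B) * Nat.card ↥(A ⊓ B) = Nat.card A * Nat.card B := by
  have h1 := card_mul_card_inf A B
  have h2 : ((A ⊔ B : Subgroup X) : Set X) = (A : Set X) * (B : Set X) :=
    coe_mul_of_left_le_normalizer_right A B h
  have h3 : Nat.card ↥(A ⊔ B) = Nat.card ((A : Set X) * (B : Set X) : Set X) := by
    rw [← h2]; rfl
  rw [h3]; exact h1

/-- commuting subgroups. -/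
theorem le_normalizer_of_commute {X : Type*} [Group X] (A B : Subgroup X)
    (h : ∀ a ∈ A, ∀ b ∈ B, a * b = b * a) : A ≤ normalizer (B : Set X) := by
  intro a ha
  rw [mem_normalizer_iff]
  intro b
  constructor
  · intro hb
    rw [h a ha b hb, mul_inv_cancel_right]; exact hb
  · intro hb
    have := h a ha _ hb
    have e : b = a⁻¹ * (a * b * a⁻¹) * a := by group
    rw [e, mul_assoc, ← this, inv_mul_cancel_left]
    exact hb

/-- two subgroups of a finite `p`-group normalising each other, with centres `{1, z}` and `{1, z'}`, `z ≠ z'`,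
such that `z` centralises the second, intersect trivially and commute elementwise. -/
theorem inf_eq_bot_and_commute {S : Type*} [Group S] [Finite S] {p : ℕ} [Fact p.Prime] (hS : IsPGroup p S)
    (P Q : Subgroup S) (z z' : S) (hPQ : ∀ x ∈ P, ∀ y ∈ Q, x * y * x⁻¹ ∈ Q)
    (hQP : ∀ y ∈ Q, ∀ x ∈ P, y * x * y⁻¹ ∈ P)
    (hcenP : ∀ x ∈ P, (∀ y ∈ P, x * y = y * x) → x = 1 ∨ x = z)
    (hcenQ : ∀ x ∈ Q, (∀ y ∈ Q, x * y = y * x) → x = 1 ∨ x = z')
    (hzQ : ∀ y ∈ Q, z * y = y * z) (hne : z ≠ z') :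
    P ⊓ Q = ⊥ ∧ ∀ x ∈ P, ∀ y ∈ Q, x * y = y * x := by
  have hbot : P ⊓ Q = ⊥ := by
    by_contra hne'
    let N' : Subgroup P := (P ⊓ Q).subgroupOf P
    have hN'n : N'.Normal := by
      refine ⟨fun n hn g => ?_⟩
      rw [mem_subgroupOf] at hn ⊢
      rw [Subgroup.coe_mul, Subgroup.coe_mul, Subgroup.coe_inv]
      exact ⟨P.mul_mem (P.mul_mem g.2 n.2) (P.inv_mem g.2), hPQ g g.2 n hn.2⟩
    have hN'ne : N' ≠ ⊥ := by
      intro h
      apply hne'
      rw [eq_bot_iff]
      intro x hx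
      have : (⟨x, hx.1⟩ : P) ∈ N' := by rw [mem_subgroupOf]; exact hx
      rw [h, mem_bot] at this
      rw [mem_bot]
      exact congrArg Subtype.val this
    have h0 := normal_inf_center_ne_bot (hS.to_subgroup P) N' hN'ne
    rw [Ne, eq_bot_iff_forall] at h0
    push Not at h0
    obtain ⟨x, hxmem, hx1⟩ := h0
    have hxN : (x : S) ∈ P ⊓ Q := by
      have h1 : x ∈ N' := hxmem.1
      exact mem_subgroupOf.1 h1
    have hxc : ∀ y ∈ P, (x : S) * y = y * x := by
      intro y hy
      have := (mem_center_iff.1 hxmem.2) ⟨y, hy⟩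
      exact (congrArg Subtype.val this).symm
    have hx1' : (x : S) ≠ 1 := fun h => hx1 (Subtype.ext h)
    have hxz : (x : S) = z := (hcenP x x.2 hxc).resolve_left hx1'
    have hzQ' : z ∈ Q := hxz ▸ hxN.2
    rcases hcenQ z hzQ' hzQ with h | h
    · exact hx1' (hxz.trans h)
    · exact hne h
  refine ⟨hbot, fun x hx y hy => ?_⟩
  have h1 : x * y * x⁻¹ * y⁻¹ ∈ P ⊓ Q := by
    refine ⟨?_, Q.mul_mem (hPQ x hx y hy) (Q.inv_mem hy)⟩
    have : x * y * x⁻¹ * y⁻¹ = x * (y * x⁻¹ * y⁻¹) := by group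
    rw [this]
    exact P.mul_mem hx (hQP y hy _ (P.inv_mem hx))
  rw [hbot, mem_bot] at h1
  have h3 := mul_inv_eq_one.1 h1
  rw [mul_inv_eq_iff_eq_mul] at h3
  exact h3

end Cfsg.Agent.Helper63.SR4
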