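import Mathlib.GroupTheory.Sylow
import Mathlib.GroupTheory.Nilpotent
import Mathlib.GroupTheory.Solvable
import Mathlib.GroupTheory.Index
import Cfsg.Agent.Lib.Cores
import Cfsg.Agent.Lib.Nilpotent
import Cfsg.Agent.S0044

/-!
# Chief factors and the Fitting subgroup (helper63)

* `IsChiefFactor U V`: `V < U` normal subgroups of `G` with no normal subgroup strictly between.
* `commute_of_minimal_normal_of_nilpotent`: a nilpotent normal subgroup centralizes every minimal
  normal subgroup.
* `centralizes_chief_of_nilpotent`: a nilpotent normal subgroup centralizes every chief factor.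
* `le_fittingMap_of_centralizes_chief`: in a finite solvable group, a normal subgroup `C ≤ N`
  centralizing all chief factors of `G` below `F(N)` lies in `F(N)`.
-/

set_option autoImplicit false

namespace Cfsg.Agent.Helper63

variable {G : Type*} [Group G]

/-- `U/V` is a chief factor of `G`. -/
def IsChiefFactor (U V : Subgroup G) : Prop :=
  U.Normal ∧ V.Normal ∧ V < U ∧
    ∀ W : Subgroup G, W.Normal → V ≤ W → W ≤ U → W = V ∨ W = U

/-- A nilpotent normal subgroup centralizes every minimal normal subgroup. -/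
theorem commute_of_minimal_normal_of_nilpotent {H : Type*} [Group H] (U M : Subgroup H)
    [hU : U.Normal] [hM : M.Normal]
    (hmin : ∀ W : Subgroup H, W.Normal → W ≤ U → W = ⊥ ∨ W = U) (hnil : Group.IsNilpotent M) :
    ∀ u ∈ U, ∀ m ∈ M, u * m = m * u := by
  intro u hu m hm
  rcases hmin (U ⊓ M) inferInstance inf_le_left with h | h
  · have h1 : u * m * u⁻¹ * m⁻¹ ∈ U ⊓ M := by
      refine ⟨?_, ?_⟩
      · have : u * m * u⁻¹ * m⁻¹ = u * (m * u⁻¹ * m⁻¹) := by group
        rw [this]
        exact U.mul_mem hu (hU.conj_mem _ (U.inv_mem hu) m)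
      · exact M.mul_mem (hM.conj_mem _ hm u) (M.inv_mem hm)
    rw [h, Subgroup.mem_bot] at h1
    calc u * m = (u * m * u⁻¹ * m⁻¹) * (m * u) := by group
      _ = m * u := by rw [h1, one_mul]
  · have hUM : U ≤ M := by rw [← h]; exact inf_le_right
    by_cases hUb : U = ⊥
    · rw [hUb, Subgroup.mem_bot] at hu
      rw [hu, one_mul, mul_one]
    -- the centre of `M`, as a subgroup of `H`
    have hZn : ((Subgroup.center M).map M.subtype).Normal := inferInstance
    have hne : U.subgroupOf M ≠ ⊥ := by
      intro hb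
      apply hUb
      rw [eq_bot_iff]
      intro x hx
      have : (⟨x, hUM hx⟩ : M) ∈ U.subgroupOf M := by
        rw [Subgroup.mem_subgroupOf]; exact hx
      rw [hb, Subgroup.mem_bot] at this
      rw [Subgroup.mem_bot]
      exact congrArg Subtype.val this
    have hne2 := Cfsg.Agent.Lib.normal_inf_center_ne_bot (U.subgroupOf M) hne
    have hne3 : U ⊓ (Subgroup.center M).map M.subtype ≠ ⊥ := by
      intro hb
      apply hne2
      rw [eq_bot_iff]
      intro z hz
      have hz1 : (z : H) ∈ U := by
        have h0 : z ∈ U.subgroupOf M := hz.1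
        rwa [Subgroup.mem_subgroupOf] at h0
      have hz2 : (z : H) ∈ (Subgroup.center M).map M.subtype :=
        Subgroup.mem_map_of_mem M.subtype hz.2
      have : (z : H) ∈ U ⊓ (Subgroup.center M).map M.subtype := ⟨hz1, hz2⟩
      rw [hb, Subgroup.mem_bot] at this
      rw [Subgroup.mem_bot]
      exact Subtype.ext this
    rcases hmin (U ⊓ (Subgroup.center M).map M.subtype) inferInstance inf_le_left with h2 | h2
    · exact absurd h2 hne3
    · have hu2 : u ∈ (Subgroup.center M).map M.subtype := by
        have : u ∈ U ⊓ (Subgroup.center M).map M.subtype := by rw [h2]; exact hu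
        exact this.2
      obtain ⟨z, hz, rfl⟩ := hu2
      have hz' : z ∈ Subgroup.center M := hz
      rw [Subgroup.mem_center_iff] at hz'
      have := hz' ⟨m, hm⟩
      have h3 := congrArg Subtype.val this
      simpa using h3.symm

/-- A nilpotent normal subgroup centralizes every chief factor. -/
theorem centralizes_chief_of_nilpotent {M U V : Subgroup G} [hM : M.Normal]
    (hnil : Group.IsNilpotent M) (hUV : IsChiefFactor U V) :
    ∀ g ∈ M, ∀ u ∈ U, u * g * u⁻¹ * g⁻¹ ∈ V := by
  obtain ⟨hU, hV, hlt, hmax⟩ := hUV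
  intro g hg u hu
  have hsurj : Function.Surjective (QuotientGroup.mk' V) := QuotientGroup.mk'_surjective V
  have hUn : (U.map (QuotientGroup.mk' V)).Normal := Subgroup.Normal.map hU _ hsurj
  have hMn : (M.map (QuotientGroup.mk' V)).Normal := Subgroup.Normal.map hM _ hsurj
  have hMnil : Group.IsNilpotent (M.map (QuotientGroup.mk' V)) :=
    Group.nilpotent_of_surjective ((QuotientGroup.mk' V).subgroupMap M)
      (MonoidHom.subgroupMap_surjective _ _)
  have hmin : ∀ W : Subgroup (G ⧸ V), W.Normal → W ≤ U.map (QuotientGroup.mk' V) →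
      W = ⊥ ∨ W = U.map (QuotientGroup.mk' V) := by
    intro W hW hWU
    have h1 : (W.comap (QuotientGroup.mk' V)).Normal := Subgroup.Normal.comap hW _
    have h2 : V ≤ W.comap (QuotientGroup.mk' V) := by
      intro v hv
      rw [Subgroup.mem_comap]
      have : (QuotientGroup.mk' V) v = 1 := by
        rw [QuotientGroup.mk'_apply, QuotientGroup.eq_one_iff]; exact hv
      rw [this]; exact W.one_mem
    have h3 : W.comap (QuotientGroup.mk' V) ≤ U := by
      have := Subgroup.comap_mono (f := QuotientGroup.mk' V) hWU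
      rw [Subgroup.comap_map_eq, QuotientGroup.ker_mk', sup_eq_left.mpr hlt.le] at this
      exact this
    have h4 : W = (W.comap (QuotientGroup.mk' V)).map (QuotientGroup.mk' V) :=
      (Subgroup.map_comap_eq_self_of_surjective hsurj W).symm
    rcases hmax _ h1 h2 h3 with h | h
    · left
      rw [h4, h]
      rw [eq_bot_iff]
      rintro _ ⟨v, hv, rfl⟩
      rw [Subgroup.mem_bot, QuotientGroup.mk'_apply, QuotientGroup.eq_one_iff]; exact hv
    · right
      rw [h4, h]
  have key := commute_of_minimal_normal_of_nilpotent (U.map (QuotientGroup.mk' V))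
    (M.map (QuotientGroup.mk' V)) hmin hMnil _ (Subgroup.mem_map_of_mem _ hu) _
    (Subgroup.mem_map_of_mem _ hg)
  rw [← QuotientGroup.eq_one_iff]
  have : ((u * g * u⁻¹ * g⁻¹ : G) : G ⧸ V) =
      (QuotientGroup.mk' V u) * (QuotientGroup.mk' V g) * (QuotientGroup.mk' V u)⁻¹ *
        (QuotientGroup.mk' V g)⁻¹ := by
    simp
  rw [this, key]
  group

/-- The iterated commutator `[M, C, ..., C]`. -/
def iterComm (C : Subgroup G) (M : Subgroup G) : ℕ → Subgroup G
  | 0 => M
  | k + 1 => ⁅iterComm C M k, C⁆

theorem iterComm_mono (C : Subgroup G) {M M' : Subgroup G} (h : M ≤ M') (k : ℕ) :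
    iterComm C M k ≤ iterComm C M' k := by
  induction k with
  | zero => exact h
  | succ k ih => exact Subgroup.commutator_mono ih le_rfl

theorem iterComm_succ' (C M : Subgroup G) (k : ℕ) :
    iterComm C M (k + 1) = iterComm C ⁅M, C⁆ k := by
  induction k with
  | zero => rfl
  | succ k ih =>
    show ⁅iterComm C M (k + 1), C⁆ = ⁅iterComm C ⁅M, C⁆ k, C⁆
    rw [ih]

/-- If `C` centralizes all chief factors of `G` below `F`, then `[M, C, ..., C] = 1` for every
normal subgroup `M ≤ F` of `G`. -/
theorem exists_iterComm_eq_bot [Finite G] {C F : Subgroup G}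
    (hC : ∀ U V : Subgroup G, IsChiefFactor U V → U ≤ F →
      ∀ g ∈ C, ∀ u ∈ U, u * g * u⁻¹ * g⁻¹ ∈ V) :
    ∀ M : Subgroup G, M.Normal → M ≤ F → ∃ k, iterComm C M k = ⊥ := by
  suffices hs : ∀ n : ℕ, ∀ M : Subgroup G, Nat.card M = n → M.Normal → M ≤ F →
      ∃ k, iterComm C M k = ⊥ from fun M => hs _ M rfl
  intro n
  induction n using Nat.strong_induction_on with
  | _ n ih => ?_
  intro M hcard hMn hMF
  by_cases hMb : M = ⊥
  · exact ⟨0, hMb⟩
  -- a maximal normal subgroup of `G` properly contained in `M`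
  have hfin : {W : Subgroup G | W.Normal ∧ W < M}.Finite := Set.toFinite _
  have hne : {W : Subgroup G | W.Normal ∧ W < M}.Nonempty :=
    ⟨⊥, inferInstance, bot_lt_iff_ne_bot.mpr hMb⟩
  obtain ⟨W, hW⟩ := hfin.exists_maximal hne
  have hWn : W.Normal := hW.prop.1
  have hWM : W < M := hW.prop.2
  have hchief : IsChiefFactor M W := by
    refine ⟨hMn, hWn, hWM, ?_⟩
    intro X hXn hWX hXM
    by_cases hXeq : X = M
    · right; exact hXeq
    · left
      have hXlt : X < M := lt_of_le_of_ne hXM hXeq
      exact le_antisymm (hW.le_of_ge ⟨hXn, hXlt⟩ hWX) hWX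
  have hcomm : ⁅M, C⁆ ≤ W := by
    rw [Subgroup.commutator_le]
    intro m hm c hc
    rw [commutatorElement_def]
    exact hC M W hchief hMF c hc m hm
  have hlt : Nat.card W < n := by
    rw [← hcard]
    have hss : (W : Set G) ⊂ (M : Set G) := SetLike.coe_ssubset_coe.mpr hWM
    have := Set.ncard_lt_ncard hss (Set.toFinite _)
    rw [← Nat.card_coe_set_eq, ← Nat.card_coe_set_eq] at this
    exact this
  obtain ⟨k, hk⟩ := ih _ hlt W rfl hWn (hWM.le.trans hMF)
  refine ⟨k + 1, ?_⟩
  rw [iterComm_succ', eq_bot_iff, ← hk]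
  exact iterComm_mono C hcomm k

/-- A subgroup `L ≤ C` with `[L, L] ≤ F` and `[F, C, ..., C] = 1` is nilpotent. -/
theorem isNilpotent_of_iterComm {C F L : Subgroup G} (hLC : L ≤ C) (hLL : ⁅L, L⁆ ≤ F) {k : ℕ}
    (hk : iterComm C F k = ⊥) : Group.IsNilpotent L := by
  rw [Subgroup.isNilpotent_iff_lowerCentralSeries]
  have h : ∀ n : ℕ, L.lowerCentralSeries (n + 1) ≤ iterComm C F n := by
    intro n
    induction n with
    | zero => exact hLL
    | succ n ih =>
      rw [Subgroup.lowerCentralSeries_succ]
      exact Subgroup.commutator_mono ih hLC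
  exact ⟨k + 1, by rw [eq_bot_iff, ← hk]; exact h k⟩

/-- A nilpotent subgroup `L ≤ N`, normal in `G`, lies in `F(N)`. -/
theorem le_fittingMap_of_nilpotent {N L : Subgroup G} [hL : L.Normal] (hLN : L ≤ N)
    (hnil : Group.IsNilpotent L) : L ≤ (Cfsg.fittingSubgroup N).map N.subtype := by
  have h1 : (L.subgroupOf N).Normal := inferInstance
  have h2 : Group.IsNilpotent (L.subgroupOf N) :=
    (Group.isNilpotent_congr (Subgroup.subgroupOfEquivOfLe hLN)).mpr hnil
  have h3 : L.subgroupOf N ≤ Cfsg.fittingSubgroup N := Cfsg.Agent.Lib.le_fittingSubgroup h1 h2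
  have h4 := Subgroup.map_mono (f := N.subtype) h3
  rwa [Subgroup.map_subgroupOf_eq_of_le hLN] at h4

/-- In a finite solvable group, a normal subgroup `C` with `F(N) ≤ C ≤ N` that centralizes all
chief factors of `G` below `F(N)` is equal to `F(N)`. -/
theorem le_fittingMap_of_centralizes_chief [Finite G] [hsolv : Group.IsSolvable G]
    (N : Subgroup G) [hN : N.Normal] (C : Subgroup G) [hCn : C.Normal] (hCN : C ≤ N)
    (hFC : (Cfsg.fittingSubgroup N).map N.subtype ≤ C)
    (hC : ∀ U V : Subgroup G, IsChiefFactor U V → U ≤ (Cfsg.fittingSubgroup N).map N.subtype →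
      ∀ g ∈ C, ∀ u ∈ U, u * g * u⁻¹ * g⁻¹ ∈ V) :
    C ≤ (Cfsg.fittingSubgroup N).map N.subtype := by
  set F := (Cfsg.fittingSubgroup N).map N.subtype with hF
  have hFn : F.Normal := by
    have : (Cfsg.fittingSubgroup N).Characteristic :=
      Cfsg.Agent.Lib.fittingSubgroup_characteristic
    rw [hF]; infer_instance
  obtain ⟨k, hk⟩ := exists_iterComm_eq_bot hC F hFn le_rfl
  obtain ⟨n, hn⟩ := hsolv.solvable
  have hbase : Cfsg.Agent.S0044.dser C n ≤ F := by
    have := Cfsg.Agent.S0044.dser_le_derivedSeries C n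
    rw [hn] at this
    exact this.trans bot_le
  -- downward induction
  have hdown : ∀ i : ℕ, i ≤ n → Cfsg.Agent.S0044.dser C (n - i) ≤ F := by
    intro i
    induction i with
    | zero => intro _; exact hbase
    | succ i ih =>
      intro hi
      have h1 : Cfsg.Agent.S0044.dser C (n - i) ≤ F := ih (by omega)
      have h2 : n - i = (n - (i + 1)) + 1 := by omega
      rw [h2] at h1
      set A := Cfsg.Agent.S0044.dser C (n - (i + 1)) with hA
      have hAn : A.Normal := Cfsg.Agent.S0044.dser_normal C _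
      have hAC : A ≤ C := Cfsg.Agent.S0044.dser_le C _
      have hAA : ⁅A, A⁆ ≤ F := h1
      -- `L = A F`
      have hLn : (A ⊔ F).Normal := inferInstance
      have hLC : A ⊔ F ≤ C := sup_le hAC hFC
      have hLL : ⁅A ⊔ F, A ⊔ F⁆ ≤ F := by
        rw [Subgroup.commutator_le]
        intro x hx y hy
        obtain ⟨a, ha, f, hf, rfl⟩ := Subgroup.mem_sup_of_normal_right.mp hx
        obtain ⟨b, hb, f', hf', rfl⟩ := Subgroup.mem_sup_of_normal_right.mp hy
        have hab : a * b * a⁻¹ * b⁻¹ ∈ F := by
          have := hAA (Subgroup.commutator_mem_commutator ha hb)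
          rwa [commutatorElement_def] at this
        rw [commutatorElement_def]
        rw [← QuotientGroup.eq_one_iff] at hab ⊢
        have e1 : ((f : G) : G ⧸ F) = 1 := (QuotientGroup.eq_one_iff f).mpr hf
        have e2 : ((f' : G) : G ⧸ F) = 1 := (QuotientGroup.eq_one_iff f').mpr hf'
        simp only [QuotientGroup.mk_mul, QuotientGroup.mk_inv, e1, e2, mul_one] at hab ⊢
        exact hab
      have hnil : Group.IsNilpotent (A ⊔ F : Subgroup G) := isNilpotent_of_iterComm hLC hLL hk
      have := le_fittingMap_of_nilpotent (hLC.trans hCN) hnil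
      exact le_sup_left.trans this
  have := hdown n le_rfl
  rwa [Nat.sub_self] at this

end Cfsg.Agent.Helper63
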