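import Mathlib
import Cfsg.Agent.Helper63.ChiefCent

/-!
# Iterated commutators with the whole group, and indices in `p`-groups (helper63)

* `commutator_lcs_le_iterComm`: `[M, γ_{j+1}(G)] ≤ [M, G, ..., G]` (`j + 1` copies of `G`) for a
  normal subgroup `M` (P. Hall; three subgroups lemma).
* `eq_bot_of_commutator_top_eq`: in a nilpotent group a normal subgroup `M` with `[M, G] = M` is
  trivial.
* `iterComm_top_le_of_relIndex_le`: in a finite `p`-group, if `C₀ ≤ B` are normal and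
  `|B : C₀| ≤ p ^ k` then `[B, G, ..., G] ≤ C₀` (`k` copies of `G`).
-/

set_option autoImplicit false

namespace Cfsg.Agent.Helper63

variable {G : Type*} [Group G]

theorem iterComm_top_normal {M : Subgroup G} (hM : M.Normal) (k : ℕ) :
    (iterComm ⊤ M k).Normal := by
  induction k with
  | zero => exact hM
  | succ k ih =>
    show (⁅iterComm ⊤ M k, (⊤ : Subgroup G)⁆).Normal
    have := ih
    exact Subgroup.commutator_normal _ _

theorem iterComm_top_succ_le {M : Subgroup G} (hM : M.Normal) (k : ℕ) :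
    iterComm ⊤ M (k + 1) ≤ iterComm ⊤ M k := by
  show ⁅iterComm ⊤ M k, (⊤ : Subgroup G)⁆ ≤ iterComm ⊤ M k
  have := iterComm_top_normal hM k
  exact Subgroup.commutator_le_left _ _

theorem iterComm_top_le {M : Subgroup G} (hM : M.Normal) (k : ℕ) :
    iterComm ⊤ M k ≤ M := by
  induction k with
  | zero => exact le_rfl
  | succ k ih => exact (iterComm_top_succ_le hM k).trans ih

theorem iterComm_top_le_lowerCentralSeries (M : Subgroup G) (k : ℕ) :
    iterComm ⊤ M k ≤ (⊤ : Subgroup G).lowerCentralSeries k := by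
  induction k with
  | zero => exact le_top
  | succ k ih => exact Subgroup.commutator_mono ih le_rfl

/-- `X ≤ T` iff the image of `X` in `G ⧸ T` is trivial. -/
theorem map_mk'_eq_bot_iff (T : Subgroup G) [T.Normal] (X : Subgroup G) :
    X.map (QuotientGroup.mk' T) = ⊥ ↔ X ≤ T := by
  rw [Subgroup.map_eq_bot_iff, QuotientGroup.ker_mk']

/-- Three subgroups lemma modulo a normal subgroup. -/
theorem commutator_commutator_le_of_rotate {H₁ H₂ H₃ T : Subgroup G} [T.Normal]
    (h1 : ⁅⁅H₂, H₃⁆, H₁⁆ ≤ T) (h2 : ⁅⁅H₃, H₁⁆, H₂⁆ ≤ T) : ⁅⁅H₁, H₂⁆, H₃⁆ ≤ T := by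
  rw [← map_mk'_eq_bot_iff] at h1 h2 ⊢
  rw [Subgroup.map_commutator, Subgroup.map_commutator] at h1 h2 ⊢
  exact Subgroup.commutator_commutator_eq_bot_of_rotate h1 h2

/-- **P. Hall**: `[M, γ_{j+1}(G)] ≤ [M, G, ..., G]` with `j + 1` copies of `G`, for `M` normal. -/
theorem commutator_lcs_le_iterComm : ∀ (j : ℕ) (M : Subgroup G), M.Normal →
    ⁅M, (⊤ : Subgroup G).lowerCentralSeries j⁆ ≤ iterComm ⊤ M (j + 1) := by
  intro j
  induction j with
  | zero =>
    intro M _
    exact le_rfl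
  | succ j ih =>
    intro M hM
    have hTn : (iterComm ⊤ M (j + 1 + 1)).Normal := iterComm_top_normal hM _
    have hMn : (⁅M, (⊤ : Subgroup G)⁆).Normal := Subgroup.commutator_normal _ _
    have h1 : ⁅⁅(⊤ : Subgroup G), M⁆, (⊤ : Subgroup G).lowerCentralSeries j⁆ ≤
        iterComm ⊤ M (j + 1 + 1) := by
      have := ih ⁅M, (⊤ : Subgroup G)⁆ hMn
      rw [← iterComm_succ'] at this
      rwa [Subgroup.commutator_comm ⊤ M]
    have h2 : ⁅⁅M, (⊤ : Subgroup G).lowerCentralSeries j⁆, (⊤ : Subgroup G)⁆ ≤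
        iterComm ⊤ M (j + 1 + 1) := Subgroup.commutator_mono (ih M hM) le_rfl
    rw [Subgroup.lowerCentralSeries_succ, Subgroup.commutator_comm]
    exact commutator_commutator_le_of_rotate h1 h2

/-- In a nilpotent group, a normal subgroup `M` with `M ≤ [M, G]` is trivial. -/
theorem eq_bot_of_le_commutator_top [Group.IsNilpotent G] {M : Subgroup G}
    (h : M ≤ ⁅M, (⊤ : Subgroup G)⁆) : M = ⊥ := by
  have key : ∀ k, M ≤ iterComm ⊤ M k := by
    intro k
    induction k with
    | zero => exact le_rfl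
    | succ k ih => exact h.trans (Subgroup.commutator_mono ih le_rfl)
  rw [eq_bot_iff]
  refine (key (Group.nilpotencyClass G)).trans ?_
  refine (iterComm_top_le_lowerCentralSeries M _).trans ?_
  rw [Subgroup.lowerCentralSeries_nilpotencyClass]

/-- In a finite `p`-group, if `C₀ ≤ B` are normal and `|B : C₀| ≤ p ^ k` then
`[B, G, ..., G] ≤ C₀` with `k` copies of `G`. -/
theorem iterComm_top_le_of_relIndex_le [Finite G] {p : ℕ} [hp : Fact p.Prime] (hG : IsPGroup p G) :
    ∀ (k : ℕ) (B C₀ : Subgroup G), B.Normal → C₀.Normal → C₀ ≤ B → C₀.relIndex B ≤ p ^ k →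
      iterComm ⊤ B k ≤ C₀ := by
  intro k
  induction k with
  | zero =>
    intro B C₀ _ _ _ hidx
    have h1 : C₀.relIndex B = 1 := by
      have hpos : 0 < C₀.relIndex B :=
        Nat.pos_of_ne_zero (Subgroup.index_ne_zero_of_finite (H := C₀.subgroupOf B))
      rw [pow_zero] at hidx
      omega
    exact Subgroup.relIndex_eq_one.mp h1
  | succ k ih =>
    intro B C₀ hB hC₀ hle hidx
    by_cases hBC : B ≤ C₀
    · exact (iterComm_top_le hB _).trans hBC
    · have hB₁n : (⁅B, (⊤ : Subgroup G)⁆ ⊔ C₀).Normal := by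
        have : (⁅B, (⊤ : Subgroup G)⁆).Normal := Subgroup.commutator_normal _ _
        exact Subgroup.sup_normal _ _
      have hB₁le : ⁅B, (⊤ : Subgroup G)⁆ ⊔ C₀ ≤ B :=
        sup_le (Subgroup.commutator_le_left _ _) hle
      have hne : ⁅B, (⊤ : Subgroup G)⁆ ⊔ C₀ ≠ B := by
        intro heq
        apply hBC
        have hnil : Group.IsNilpotent (G ⧸ C₀) := (hG.to_quotient C₀).isNilpotent
        have h1 : B.map (QuotientGroup.mk' C₀) ≤
            ⁅B.map (QuotientGroup.mk' C₀), (⊤ : Subgroup (G ⧸ C₀))⁆ := by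
          rw [← Subgroup.map_top_of_surjective (QuotientGroup.mk' C₀)
            (QuotientGroup.mk'_surjective C₀), ← Subgroup.map_commutator]
          conv_lhs => rw [← heq]
          rw [Subgroup.map_sup]
          refine sup_le le_rfl ?_
          rw [(map_mk'_eq_bot_iff C₀ C₀).mpr le_rfl]
          exact bot_le
        have h2 := eq_bot_of_le_commutator_top h1
        exact (map_mk'_eq_bot_iff C₀ B).mp h2
      -- index bookkeeping
      have hlt : ⁅B, (⊤ : Subgroup G)⁆ ⊔ C₀ < B := lt_of_le_of_ne hB₁le hne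
      have hmul := Subgroup.relIndex_mul_relIndex C₀ (⁅B, (⊤ : Subgroup G)⁆ ⊔ C₀) B le_sup_right hB₁le
      have hpB : p ≤ (⁅B, (⊤ : Subgroup G)⁆ ⊔ C₀).relIndex B := by
        obtain ⟨j, hj⟩ := (hG.to_subgroup B).index ((⁅B, (⊤ : Subgroup G)⁆ ⊔ C₀).subgroupOf B)
        have hj' : (⁅B, (⊤ : Subgroup G)⁆ ⊔ C₀).relIndex B = p ^ j := hj
        rw [hj']
        rcases Nat.eq_zero_or_pos j with h0 | hpos
        · exfalso
          rw [h0, pow_zero] at hj'
          exact hlt.not_ge (Subgroup.relIndex_eq_one.mp hj')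
        · calc p = p ^ 1 := (pow_one p).symm
            _ ≤ p ^ j := Nat.pow_le_pow_right hp.out.pos hpos
      have hidx₁ : C₀.relIndex (⁅B, (⊤ : Subgroup G)⁆ ⊔ C₀) ≤ p ^ k := by
        have h3 : C₀.relIndex (⁅B, (⊤ : Subgroup G)⁆ ⊔ C₀) * p ≤ p ^ k * p := by
          calc C₀.relIndex (⁅B, (⊤ : Subgroup G)⁆ ⊔ C₀) * p
              ≤ C₀.relIndex (⁅B, (⊤ : Subgroup G)⁆ ⊔ C₀) *
                  (⁅B, (⊤ : Subgroup G)⁆ ⊔ C₀).relIndex B := Nat.mul_le_mul_left _ hpB
            _ = C₀.relIndex B := hmul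
            _ ≤ p ^ (k + 1) := hidx
            _ = p ^ k * p := pow_succ p k
        exact Nat.le_of_mul_le_mul_right h3 hp.out.pos
      have h4 := ih (⁅B, (⊤ : Subgroup G)⁆ ⊔ C₀) C₀ hB₁n hC₀ le_sup_right hidx₁
      rw [iterComm_succ']
      exact (iterComm_mono ⊤ le_sup_left k).trans h4

end Cfsg.Agent.Helper63
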