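import Mathlib
import Cfsg.Prelude.Def_CaseTheorems

/-!
# Tools for 2-groups of sectional rank at most 2

* `SR2.index_le_of_gens` : if `H ⧸ N` has 2-rank ≤ 2 and `H` is generated by a set whose elements square
  into `N` and commute modulo `N` then `|H : N| ≤ 4`.
* `SR2.card_closure_le` : the same for `H = closure Y ≤ S`, `N = ⟨z⟩` with `z` centralised by `Y`.
-/

set_option autoImplicit false

namespace Cfsg.Agent.Helper63.SR2

open Subgroup

/-- if `H ⧸ N` has 2-rank ≤ 2 and `H` is generated by a set whose elements square into `N` and commute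
modulo `N` then `|H : N| ≤ 4`. -/
theorem index_le_of_gens {H : Type*} [Group H] (N : Subgroup H) [N.Normal]
    (hr : Cfsg.PRankLE 2 2 (H ⧸ N)) (X : Set H) (hX : closure X = ⊤)
    (hsq : ∀ x ∈ X, x ^ 2 ∈ N) (hcomm : ∀ x ∈ X, ∀ y ∈ X, x * y * x⁻¹ * y⁻¹ ∈ N) :
    N.index ≤ 4 := by
  have hgen : closure ((QuotientGroup.mk' N) '' X) = ⊤ := by
    rw [← MonoidHom.map_closure, hX, ← MonoidHom.range_eq_map]
    exact MonoidHom.range_eq_top.2 (QuotientGroup.mk'_surjective N)
  -- images of generators are central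
  have hcen : ∀ q : H ⧸ N, q ∈ center (H ⧸ N) := by
    have h1 : (QuotientGroup.mk' N) '' X ⊆ (centralizer ((QuotientGroup.mk' N) '' X) : Set (H ⧸ N)) := by
      rintro _ ⟨x, hx, rfl⟩
      rw [SetLike.mem_coe, mem_centralizer_iff]
      rintro _ ⟨y, hy, rfl⟩
      have h := hcomm y hy x hx
      have h2 : (QuotientGroup.mk' N) (y * x * y⁻¹ * x⁻¹) = 1 := (QuotientGroup.eq_one_iff _).2 h
      rw [map_mul, map_mul, map_mul, map_inv, map_inv] at h2
      have h3 := mul_inv_eq_one.1 h2
      rw [mul_inv_eq_iff_eq_mul] at h3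
      exact h3
    have h2 : (⊤ : Subgroup (H ⧸ N)) ≤ centralizer ((QuotientGroup.mk' N) '' X) := by
      rw [← hgen, closure_le]; exact h1
    have h3 : (QuotientGroup.mk' N) '' X ⊆ (center (H ⧸ N) : Set (H ⧸ N)) := by
      rintro _ ⟨x, hx, rfl⟩
      rw [SetLike.mem_coe, mem_center_iff]
      intro g
      have hg := h2 (mem_top g)
      rw [mem_centralizer_iff] at hg
      exact (hg _ ⟨x, hx, rfl⟩).symm
    have h4 : (⊤ : Subgroup (H ⧸ N)) ≤ center (H ⧸ N) := by
      rw [← hgen, closure_le]; exact h3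
    exact fun q => h4 (mem_top q)
  have hc : ∀ a b : H ⧸ N, a * b = b * a := fun a b => (mem_center_iff.1 (hcen b)) a
  -- squares
  let K : Subgroup (H ⧸ N) :=
    { carrier := {q | q ^ 2 = 1}
      one_mem' := by simp
      mul_mem' := by
        intro a b ha hb
        simp only [Set.mem_ofPred_eq] at ha hb ⊢
        rw [pow_two, mul_assoc, ← mul_assoc b a b, hc b a, mul_assoc, ← mul_assoc, ← pow_two, ← pow_two,
          ha, hb, one_mul]
      inv_mem' := by
        intro a ha
        simp only [Set.mem_ofPred_eq] at ha ⊢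
        rw [inv_pow, ha, inv_one] }
  have hK : (⊤ : Subgroup (H ⧸ N)) ≤ K := by
    rw [← hgen, closure_le]
    rintro _ ⟨x, hx, rfl⟩
    show ((QuotientGroup.mk' N) x) ^ 2 = 1
    rw [← map_pow]
    exact (QuotientGroup.eq_one_iff _).2 (hsq x hx)
  have hcard := hr ⊤ ⟨⟨fun a b => Subtype.ext (hc a b)⟩⟩ (fun a _ => hK (mem_top a))
  rw [card_top] at hcard
  rw [index_eq_card]
  exact hcard

/-- subgroup version: `|closure Y| ≤ 4 * |⟨z⟩|` when `z ∈ closure Y` is centralised by `Y` and the
elements of `Y` square into `⟨z⟩` and commute modulo `⟨z⟩`. -/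
theorem card_closure_le {S : Type*} [Group S] [Finite S] (hr : Cfsg.SectionalPRankLE 2 2 S)
    (Y : Set S) (z : S) (hzY : z ∈ closure Y) (hzc : ∀ y ∈ Y, y * z = z * y)
    (hsq : ∀ y ∈ Y, y ^ 2 ∈ zpowers z) (hcomm : ∀ x ∈ Y, ∀ y ∈ Y, x * y * x⁻¹ * y⁻¹ ∈ zpowers z) :
    Nat.card (closure Y) ≤ 4 * orderOf z := by
  set H : Subgroup S := closure Y with hH
  have hle : zpowers z ≤ H := zpowers_le.2 hzY
  have hcz : ∀ h ∈ H, h * z = z * h := by
    have : H ≤ centralizer {z} := by
      rw [hH, closure_le]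
      intro y hy
      rw [SetLike.mem_coe, mem_centralizer_singleton_iff]
      exact hzc y hy
    intro h hh
    exact mem_centralizer_singleton_iff.1 (this hh)
  have hcn : ∀ h ∈ H, ∀ n ∈ zpowers z, h * n * h⁻¹ = n := by
    intro h hh n hn
    obtain ⟨k, rfl⟩ := mem_zpowers_iff.1 hn
    have hc : Commute h z := hcz h hh
    rw [mul_inv_eq_iff_eq_mul]
    exact (hc.zpow_right k).eq
  let N : Subgroup H := (zpowers z).subgroupOf H
  have hNn : N.Normal := by
    refine ⟨fun n hn g => ?_⟩
    rw [mem_subgroupOf] at hn ⊢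
    have := hcn g g.2 n hn
    rw [Subgroup.coe_mul, Subgroup.coe_mul, Subgroup.coe_inv, this]
    exact hn
  have hX : closure (((↑) : H → S) ⁻¹' Y) = ⊤ := by
    rw [hH]; exact closure_closure_coe_preimage
  have hidx : N.index ≤ 4 := by
    refine index_le_of_gens N (hr H N) _ hX ?_ ?_
    · intro x hx
      rw [mem_subgroupOf, Subgroup.coe_pow]
      exact hsq _ hx
    · intro x hx y hy
      rw [mem_subgroupOf]
      simp only [Subgroup.coe_mul, Subgroup.coe_inv]
      exact hcomm _ hx _ hy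
  have hcardN : Nat.card N = orderOf z := by
    rw [← Nat.card_zpowers]
    exact Nat.card_congr (subgroupOfEquivOfLe hle).toEquiv
  have := N.card_mul_index
  rw [hcardN] at this
  calc Nat.card H = orderOf z * N.index := this.symm
    _ ≤ orderOf z * 4 := Nat.mul_le_mul_left _ hidx
    _ = 4 * orderOf z := Nat.mul_comm _ _

/-- the case of a trivial normal subgroup: a set of commuting involutions generates a subgroup of order at
most 4. -/
theorem card_closure_le_four {S : Type*} [Group S] [Finite S] (hr : Cfsg.SectionalPRankLE 2 2 S)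
    (Y : Set S) (hsq : ∀ y ∈ Y, y ^ 2 = 1) (hcomm : ∀ x ∈ Y, ∀ y ∈ Y, x * y = y * x) :
    Nat.card (closure Y) ≤ 4 := by
  have := card_closure_le hr Y 1 (one_mem _) (fun y _ => by simp)
    (fun y hy => by rw [hsq y hy]; exact one_mem _)
    (fun x hx y hy => by
      have : x * y * x⁻¹ * y⁻¹ = 1 := by rw [hcomm x hx y hy]; group
      rw [this]; exact one_mem _)
  simpa using this

end Cfsg.Agent.Helper63.SR2
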