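import Mathlib
import Cfsg.Prelude.Def_CaseTheorems
import Cfsg.Prelude.Def_OddOrderLocal
import Cfsg.Agent.Helper63.Meta2A
import Cfsg.Agent.Helper63.SectRank2
import Cfsg.Agent.Helper73.PGroupCyclic
import Cfsg.Agent.Helper97.AbelianIndecomp

/-!
# Abelian 2-groups of sectional rank ≤ 2

* `M2.exists_two_gens` : such a group is the direct product of two cyclic subgroups.
* `M2.isCyclic_quotient_of_sup` : `N ⊔ ⟨v⟩ = ⊤` ⇒ `G ⧸ N` cyclic.
* `M2.metacyclic_of_comm`.
-/

set_option autoImplicit false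

namespace Cfsg.Agent.Helper63.M2

open Subgroup
open scoped Pointwise

/-- five distinct elements in a finite subgroup. -/
theorem five_le_card {G : Type*} [Group G] (K : Subgroup G) [Finite K] {a b c d e : G}
    (ha : a ∈ K) (hb : b ∈ K) (hc : c ∈ K) (hd : d ∈ K) (he : e ∈ K)
    (hab : a ≠ b) (hac : a ≠ c) (had : a ≠ d) (hae : a ≠ e) (hbc : b ≠ c) (hbd : b ≠ d) (hbe : b ≠ e)
    (hcd : c ≠ d) (hce : c ≠ e) (hde : d ≠ e) : 5 ≤ Nat.card K := by
  classical
  have hfin : (K : Set G).Finite := Set.toFinite _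
  have h5 : ({a, b, c, d, e} : Finset G).card = 5 := by
    rw [Finset.card_insert_of_notMem, Finset.card_insert_of_notMem, Finset.card_insert_of_notMem,
      Finset.card_insert_of_notMem, Finset.card_singleton]
    · simp only [Finset.mem_singleton]; exact hde
    · simp only [Finset.mem_insert, Finset.mem_singleton, not_or]
      exact ⟨hcd, hce⟩
    · simp only [Finset.mem_insert, Finset.mem_singleton, not_or]
      exact ⟨hbc, hbd, hbe⟩
    · simp only [Finset.mem_insert, Finset.mem_singleton, not_or]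
      exact ⟨hab, hac, had, hae⟩
  have hsub : (({a, b, c, d, e} : Finset G) : Set G) ⊆ (K : Set G) := by
    intro y hy
    simp only [Finset.coe_insert, Finset.coe_singleton, Set.mem_insert_iff, Set.mem_singleton_iff] at hy
    rcases hy with rfl | rfl | rfl | rfl | rfl <;> assumption
  have hle := Set.ncard_le_ncard hsub hfin
  rw [Set.ncard_coe_finset, h5] at hle
  have : (K : Set G).ncard = Nat.card K := (Nat.card_coe_set_eq _)
  omega

/-- `N ⊔ ⟨v⟩ = ⊤` ⇒ `G ⧸ N` cyclic. -/
theorem isCyclic_quotient_of_sup {G : Type*} [Group G] (N : Subgroup G) [N.Normal] (v : G)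
    (h : N ⊔ zpowers v = ⊤) : IsCyclic (G ⧸ N) := by
  refine ⟨⟨(v : G ⧸ N), fun q => ?_⟩⟩
  obtain ⟨s, rfl⟩ := QuotientGroup.mk_surjective q
  have hs : s ∈ N ⊔ zpowers v := by rw [h]; exact mem_top s
  have hset : s ∈ (N : Set G) * (zpowers v : Set G) := by
    rw [← normal_mul]; exact hs
  obtain ⟨a, ha, b, hb, rfl⟩ := Set.mem_mul.1 hset
  obtain ⟨k, rfl⟩ := mem_zpowers_iff.1 hb
  refine ⟨k, ?_⟩
  show (v : G ⧸ N) ^ k = ((a * v ^ k : G) : G ⧸ N)
  rw [QuotientGroup.mk_mul, (QuotientGroup.eq_one_iff a).2 ha, one_mul, QuotientGroup.mk_zpow]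

/-- a finite abelian 2-group of sectional rank ≤ 2 is the direct product of two cyclic subgroups. -/
theorem exists_two_gens_comm {A : Type*} [CommGroup A] [Finite A] (h2 : IsPGroup 2 A)
    (hr : Cfsg.SectionalPRankLE 2 2 A) :
    ∃ u v : A, zpowers u ⊓ zpowers v = ⊥ ∧ zpowers u ⊔ zpowers v = ⊤ := by
  have : Fact (Nat.Prime 2) := ⟨Nat.prime_two⟩
  obtain ⟨u, hu⟩ := Finite.exists_max (fun g : A => orderOf g)
  obtain ⟨m, hm⟩ := (IsPGroup.iff_orderOf.1 h2) u
  rcases Nat.eq_zero_or_pos m with rfl | hmpos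
  · refine ⟨1, 1, by simp, ?_⟩
    rw [eq_top_iff]
    intro g _
    have h1 := hu g
    rw [hm, pow_zero] at h1
    have hg : g = 1 := orderOf_eq_one_iff.1 (le_antisymm h1 (orderOf_pos g))
    rw [hg]; exact one_mem _
  · obtain ⟨n, rfl⟩ : ∃ n, m = n + 1 := ⟨m - 1, by omega⟩
    have hexp : ∀ a : A, a ^ 2 ^ (n + 1) = 1 := by
      intro a
      obtain ⟨j, hj⟩ := (IsPGroup.iff_orderOf.1 h2) a
      have hle := hu a
      rw [hj, hm] at hle
      have hjn : j ≤ n + 1 := (Nat.pow_le_pow_iff_right (by norm_num)).1 hle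
      rw [← orderOf_dvd_iff_pow_eq_one, hj]
      exact pow_dvd_pow 2 hjn
    have hP : ∀ x ∈ zpowers u, x ^ 2 ^ n = 1 → ∃ y ∈ zpowers u, y ^ 2 = x := by
      intro x hx hx1
      obtain ⟨k, rfl⟩ := mem_zpowers_iff.1 hx
      rw [← zpow_natCast, ← zpow_mul, ← orderOf_dvd_iff_zpow_eq_one, hm] at hx1
      have h2k : (2 : ℤ) ∣ k := by
        obtain ⟨t, ht⟩ := hx1
        have h2n : ((2 : ℤ) ^ n) ≠ 0 := by positivity
        refine ⟨t, mul_right_cancel₀ h2n ?_⟩
        push_cast at ht
        rw [ht]; ring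
      obtain ⟨j, rfl⟩ := h2k
      refine ⟨u ^ j, zpow_mem (mem_zpowers u) j, ?_⟩
      rw [← zpow_natCast, ← zpow_mul]
      congr 1
      push_cast; ring
    obtain ⟨C, hC1, hC2⟩ :=
      Cfsg.Agent.Helper97.exists_compl_of_pure_top (p := 2) n hexp (zpowers u) hP
    have hCcyc : IsCyclic C := by
      apply Cfsg.Agent.Helper73.isCyclic_of_comm_of_uniqueOrderP (h2.to_subgroup C)
        (fun a b => mul_comm a b)
      intro x y hx hy
      by_contra hyx
      have hw2 : (u ^ 2 ^ n) ^ 2 = 1 := by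
        rw [← pow_mul, ← pow_succ, ← hm, pow_orderOf_eq_one]
      have hw1 : u ^ 2 ^ n ≠ 1 := by
        intro h
        have h1 := orderOf_dvd_of_pow_eq_one h
        rw [hm] at h1
        have h2' := Nat.le_of_dvd (by positivity) h1
        have h3 : 2 ^ (n + 1) = 2 * 2 ^ n := pow_succ' 2 n
        have h4 : 0 < 2 ^ n := by positivity
        omega
      have hx' : orderOf (x : A) = 2 := by rw [Subgroup.orderOf_coe]; exact hx
      have hy' : orderOf (y : A) = 2 := by rw [Subgroup.orderOf_coe]; exact hy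
      have hx2 : (x : A) ^ 2 = 1 := by rw [← hx', pow_orderOf_eq_one]
      have hy2 : (y : A) ^ 2 = 1 := by rw [← hy', pow_orderOf_eq_one]
      have hx1 : (x : A) ≠ 1 := by
        intro h; rw [h, orderOf_one] at hx'; omega
      have hy1 : (y : A) ≠ 1 := by
        intro h; rw [h, orderOf_one] at hy'; omega
      have hyx' : (y : A) ∉ zpowers (x : A) := by
        intro h
        apply hyx
        obtain ⟨k, hk⟩ := mem_zpowers_iff.1 h
        refine mem_zpowers_iff.2 ⟨k, Subtype.ext ?_⟩
        rw [Subgroup.coe_zpow]; exact hk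
      have hwC : ∀ c ∈ C, c ∈ zpowers u → c = 1 := by
        intro c hc1 hc2
        have : c ∈ zpowers u ⊓ C := ⟨hc2, hc1⟩
        rw [hC1] at this
        exact mem_bot.1 this
      have hwmem : u ^ 2 ^ n ∈ zpowers u := pow_mem (mem_zpowers u) _
      have hcard := SR2.card_closure_le_four hr ({u ^ 2 ^ n, (x : A), (y : A)} : Set A) (by
        intro a ha
        simp only [Set.mem_insert_iff, Set.mem_singleton_iff] at ha
        rcases ha with rfl | rfl | rfl
        · exact hw2
        · exact hx2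
        · exact hy2) (fun a _ b _ => mul_comm a b)
      have hsub : ∀ a ∈ ({u ^ 2 ^ n, (x : A), (y : A)} : Set A),
          a ∈ closure ({u ^ 2 ^ n, (x : A), (y : A)} : Set A) := fun a ha => Subgroup.subset_closure ha
      have hwK := hsub (u ^ 2 ^ n) (by simp)
      have hxK := hsub (x : A) (by simp)
      have hyK := hsub (y : A) (by simp)
      have h5 := five_le_card (closure ({u ^ 2 ^ n, (x : A), (y : A)} : Set A))
        (a := 1) (b := u ^ 2 ^ n) (c := (x : A)) (d := (y : A)) (e := (x : A) * y)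
        (one_mem _) hwK hxK hyK (mul_mem hxK hyK)
        (Ne.symm hw1) (Ne.symm hx1) (Ne.symm hy1)
        (by
          intro h
          apply hyx'
          have : (y : A) = (x : A)⁻¹ := (eq_inv_of_mul_eq_one_right h.symm)
          rw [this]; exact inv_mem (mem_zpowers _))
        (by
          intro h
          exact hx1 (hwC _ x.2 (h ▸ hwmem)))
        (by
          intro h
          exact hy1 (hwC _ y.2 (h ▸ hwmem)))
        (by
          intro h
          exact hw1 (hwC _ (h ▸ C.mul_mem x.2 y.2) hwmem))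
        (by
          intro h
          apply hyx'
          rw [← h]; exact mem_zpowers _)
        (by
          intro h
          exact hy1 (mul_eq_left.1 h.symm))
        (by
          intro h
          exact hx1 (mul_eq_right.1 h.symm))
      omega
    obtain ⟨g, hg⟩ := hCcyc.exists_generator
    have hCv : zpowers (g : A) = C := by
      apply le_antisymm
      · exact zpowers_le.2 g.2
      · intro c hc
        obtain ⟨k, hk⟩ := mem_zpowers_iff.1 (hg ⟨c, hc⟩)
        refine mem_zpowers_iff.2 ⟨k, ?_⟩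
        have := congrArg Subtype.val hk
        simpa using this
    exact ⟨u, g, by rw [hCv]; exact hC1, by rw [hCv]; exact hC2⟩

/-- group version with a commutativity hypothesis. -/
theorem exists_two_gens {A : Type*} [Group A] [Finite A] (h2 : IsPGroup 2 A)
    (hc : ∀ a b : A, a * b = b * a) (hr : Cfsg.SectionalPRankLE 2 2 A) :
    ∃ u v : A, zpowers u ⊓ zpowers v = ⊥ ∧ zpowers u ⊔ zpowers v = ⊤ := by
  let _ : CommGroup A := { (inferInstance : Group A) with mul_comm := hc }
  exact exists_two_gens_comm h2 hr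

/-- a finite abelian 2-group of sectional rank ≤ 2 is metacyclic. -/
theorem metacyclic_of_comm {A : Type*} [Group A] [Finite A] (h2 : IsPGroup 2 A)
    (hc : ∀ a b : A, a * b = b * a) (hr : Cfsg.SectionalPRankLE 2 2 A) : Cfsg.IsMetacyclic A := by
  obtain ⟨u, v, -, h⟩ := exists_two_gens h2 hc hr
  have hn : (zpowers u).Normal := ⟨fun n hn g => by
    have : g * n * g⁻¹ = n := by rw [hc g n, mul_inv_cancel_right]
    rw [this]; exact hn⟩
  exact ⟨zpowers u, hn, inferInstance, isCyclic_quotient_of_sup (zpowers u) v h⟩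

end Cfsg.Agent.Helper63.M2
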