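import Mathlib
import Cfsg.Prelude.Def_PLocal
import Cfsg.Prelude.Def_Transfer
import Cfsg.Prelude.Def_CaseTheorems
import Cfsg.Agent.Helper73.NormalAbelianCyclic
import Cfsg.Agent.Helper52.ClassTwo
import Cfsg.Agent.Helper25.ProdSup
import Cfsg.Agent.Helper63.PGroup
import Cfsg.Agent.Helper63.ProdCard

/-!
# `p`-groups with a self-centralizing cyclic normal subgroup

Tools (namespace `Cfsg.Agent.Helper63.CSC`) around a cyclic normal self-centralizing subgroup `⟨u⟩` of order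
`p ^ n` in a `p`-group, `M = C_G(u ^ p)`.
-/

set_option autoImplicit false

namespace Cfsg.Agent.Helper63.CSC

open Subgroup Finset
open Cfsg.Agent.Helper73

section General

variable {G : Type*} [Group G]

/-- the closure of a conjugation-invariant set is normal. -/
theorem closure_normal_of_conj {S : Set G} (h : ∀ g x : G, x ∈ S → g * x * g⁻¹ ∈ S) :
    (closure S).Normal := by
  constructor
  intro n hn g
  induction hn using Subgroup.closure_induction with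
  | mem x hx => exact subset_closure (h g x hx)
  | one => simp
  | mul a b _ _ iha ihb =>
    have : g * (a * b) * g⁻¹ = (g * a * g⁻¹) * (g * b * g⁻¹) := by group
    rw [this]; exact mul_mem iha ihb
  | inv a _ iha =>
    have : g * a⁻¹ * g⁻¹ = (g * a * g⁻¹)⁻¹ := by group
    rw [this]; exact inv_mem iha

/-- a variant of the commutator-hom count: if `[b, x] ∈ Z ≤ Z(G)` for all `b ∈ B` then
`|B| ≤ |C_B(x)| * |Z|`. -/
theorem card_le_of_commutator_mem [Finite G] (B Z : Subgroup G) (hZ : Z ≤ center G) (x : G)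
    (hc : ∀ b ∈ B, b * x * b⁻¹ * x⁻¹ ∈ Z) :
    Nat.card B ≤ Nat.card ↥(B ⊓ centralizer {x}) * Nat.card Z := by
  let ψ : B →* Z :=
    { toFun := fun b => ⟨(b : G) * x * (b : G)⁻¹ * x⁻¹, hc b b.2⟩
      map_one' := by apply Subtype.ext; simp
      map_mul' := by
        intro g h
        apply Subtype.ext
        show (g : G) * h * x * ((g : G) * h)⁻¹ * x⁻¹
          = ((g : G) * x * (g : G)⁻¹ * x⁻¹) * ((h : G) * x * (h : G)⁻¹ * x⁻¹)
        have hcen := Subgroup.mem_center_iff.mp (hZ (hc h h.2))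
        calc (g : G) * h * x * ((g : G) * h)⁻¹ * x⁻¹
            = (g : G) * ((h : G) * x * (h : G)⁻¹ * x⁻¹) * (x * (g : G)⁻¹ * x⁻¹) := by group
          _ = ((h : G) * x * (h : G)⁻¹ * x⁻¹) * (g : G) * (x * (g : G)⁻¹ * x⁻¹) := by rw [hcen (g : G)]
          _ = ((h : G) * x * (h : G)⁻¹ * x⁻¹) * ((g : G) * x * (g : G)⁻¹ * x⁻¹) := by group
          _ = ((g : G) * x * (g : G)⁻¹ * x⁻¹) * ((h : G) * x * (h : G)⁻¹ * x⁻¹) := by
              rw [← hcen ((g : G) * x * (g : G)⁻¹ * x⁻¹)] }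
  have hker : ψ.ker = (Subgroup.centralizer ({x} : Set G)).subgroupOf B := by
    ext b
    rw [MonoidHom.mem_ker, Subgroup.mem_subgroupOf, Subgroup.mem_centralizer_iff]
    constructor
    · intro h y hy
      rw [Set.mem_singleton_iff] at hy
      subst hy
      have h1 : (b : G) * y * (b : G)⁻¹ * y⁻¹ = 1 := congrArg Subtype.val h
      calc y * (b : G) = ((b : G) * y * (b : G)⁻¹ * y⁻¹)⁻¹ * ((b : G) * y) := by group
        _ = (b : G) * y := by rw [h1, inv_one, one_mul]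
    · intro h
      apply Subtype.ext
      show (b : G) * x * (b : G)⁻¹ * x⁻¹ = 1
      have := h x rfl
      rw [← this]; group
  have h1 : ψ.ker.index = Nat.card ψ.range := Subgroup.index_ker ψ
  have h2 : Nat.card ψ.range ≤ Nat.card Z := Subgroup.card_le_card_group ψ.range
  have h3 := Subgroup.card_mul_index ψ.ker
  rw [h1] at h3
  have h4 : Nat.card ψ.ker = Nat.card ↥(B ⊓ Subgroup.centralizer {x}) := by
    rw [hker, inf_comm, ← Subgroup.card_map_of_injective (Subgroup.subtype_injective B),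
      Subgroup.subgroupOf_map_subtype]
  rw [← h3, h4]
  exact Nat.mul_le_mul_left _ h2

variable {p : ℕ} [hp : Fact p.Prime]

/-- elements of `⟨u⟩` killed by `p ^ j`. -/
theorem mem_zpowers_pow_of_pow_eq_one {u c : G} {n j : ℕ} (hu : orderOf u = p ^ n) (hj : j ≤ n)
    (hc : c ∈ zpowers u) (hcp : c ^ (p ^ j) = 1) : c ∈ zpowers (u ^ (p ^ (n - j))) := by
  have hupos : 0 < orderOf u := by rw [hu]; exact pow_pos hp.out.pos n
  obtain ⟨k, rfl⟩ := exists_pow_eq_of_mem_zpowers hupos hc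
  rw [← pow_mul] at hcp
  have h1 : p ^ n ∣ k * p ^ j := by rw [← hu]; exact orderOf_dvd_iff_pow_eq_one.2 hcp
  have h2 : p ^ (n - j) ∣ k := by
    have : p ^ n = p ^ (n - j) * p ^ j := by rw [← pow_add, Nat.sub_add_cancel hj]
    rw [this] at h1
    exact Nat.dvd_of_mul_dvd_mul_right (pow_pos hp.out.pos j) h1
  obtain ⟨k', rfl⟩ := h2
  rw [pow_mul]
  exact pow_mem (mem_zpowers _) k'

theorem conj_mem_zpowers {u : G} (hnorm : ∀ g : G, g * u * g⁻¹ ∈ zpowers u) {c : G}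
    (hc : c ∈ zpowers u) (g : G) : g * c * g⁻¹ ∈ zpowers u := by
  obtain ⟨k, rfl⟩ := mem_zpowers_iff.1 hc
  rw [← conj_zpow]
  exact zpow_mem (hnorm g) k

theorem commute_of_mem_zpowers {u a b : G} (ha : a ∈ zpowers u) (hb : b ∈ zpowers u) : Commute a b := by
  obtain ⟨i, rfl⟩ := mem_zpowers_iff.1 ha
  obtain ⟨j, rfl⟩ := mem_zpowers_iff.1 hb
  exact Commute.zpow_zpow_self u i j

omit hp in
/-- If `g` centralizes `u ^ p` then `g` centralizes `c ^ p` for `c ∈ ⟨u⟩`. -/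
theorem commute_pow_of_mem_zpowers {u g c : G} (hg : g * u ^ p = u ^ p * g) (hc : c ∈ zpowers u) :
    Commute g (c ^ p) := by
  obtain ⟨k, rfl⟩ := mem_zpowers_iff.1 hc
  have h1 : (u ^ k) ^ p = (u ^ p) ^ k := by
    rw [← zpow_natCast, ← zpow_mul, mul_comm, zpow_mul, zpow_natCast]
  rw [h1]
  exact Commute.zpow_right hg k

/-- commutators of `C_G(u^p)` with `⟨u⟩` land in the subgroup of order `p`. -/
theorem comm_mem_omega {u : G} {n : ℕ} (hu : orderOf u = p ^ n) (hn : 1 ≤ n)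
    (hnorm : ∀ g : G, g * u * g⁻¹ ∈ zpowers u) {g c : G} (hg : g * u ^ p = u ^ p * g)
    (hc : c ∈ zpowers u) : g * c * g⁻¹ * c⁻¹ ∈ zpowers (u ^ (p ^ (n - 1))) := by
  have hd : g * c * g⁻¹ * c⁻¹ ∈ zpowers u := mul_mem (conj_mem_zpowers hnorm hc g) (inv_mem hc)
  have hdc : Commute (g * c * g⁻¹ * c⁻¹) c := commute_of_mem_zpowers hd hc
  have h1 : (g * c * g⁻¹ * c⁻¹ * c) ^ p = (g * c * g⁻¹ * c⁻¹) ^ p * c ^ p := hdc.mul_pow p
  have h2 : g * c * g⁻¹ * c⁻¹ * c = g * c * g⁻¹ := by group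
  have h3 : (g * c * g⁻¹) ^ p = c ^ p := by
    rw [conj_pow]
    have := (commute_pow_of_mem_zpowers hg hc).eq
    rw [this]; group
  rw [h2, h3] at h1
  have h4 : (g * c * g⁻¹ * c⁻¹) ^ p = 1 := by
    have := h1.symm
    rwa [mul_eq_right] at this
  apply mem_zpowers_pow_of_pow_eq_one hu hn hd
  rw [pow_one]; exact h4

end General

section TwoGroup

/-- A finite 2-group with a self-centralizing cyclic normal subgroup `⟨a⟩` of order `2 ^ m`, proper, such that
(for `m ≥ 3`) no element outside `⟨a⟩` centralizes `a ^ 2`, is dihedral, generalized quaternion or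
quasi-dihedral of order `2 ^ (m + 1)`. -/
theorem dqsd_of_cyclic_selfcentralizing {P : Type*} [Group P] [Finite P] (hP : IsPGroup 2 P) {a : P}
    {m : ℕ} (ha : orderOf a = 2 ^ m) (hnorm : ∀ y : P, y * a * y⁻¹ ∈ zpowers a)
    (hcent : ∀ y : P, y * a = a * y → y ∈ zpowers a) (htop : zpowers a ≠ ⊤)
    (hno : 3 ≤ m → ∀ x : P, x * a ^ 2 = a ^ 2 * x → x ∈ zpowers a) :
    Nat.card P = 2 ^ (m + 1) ∧ ((∃ k : ℕ, Nonempty (P ≃* DihedralGroup k)) ∨
      (∃ k : ℕ, Nonempty (P ≃* QuaternionGroup k)) ∨ Cfsg.IsQuasiDihedral P) := by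
  have : Fact (Nat.Prime 2) := ⟨Nat.prime_two⟩
  have hapos : 0 < orderOf a := by rw [ha]; positivity
  -- Step A
  have stepA : ∀ x : P, x ∉ zpowers a → x ^ 2 ∈ zpowers a →
      2 ≤ m ∧ ∃ r : ℕ, x * a * x⁻¹ = a ^ r ∧
        (r + 1 ≡ 0 [MOD 2 ^ m] ∨ (3 ≤ m ∧ r + 1 ≡ 2 ^ (m - 1) [MOD 2 ^ m])) ∧
        ((x ^ 2 = a ^ 2 ^ (m - 1) ∧ r + 1 ≡ 0 [MOD 2 ^ m]) ∨ ∃ i : ℕ, (a ^ i * x) ^ 2 = 1) := by
    intro x hx hx2
    obtain ⟨r, s, hr, hs, H1, H2, H3⟩ := conj_data_two ha (hnorm x) hcent hx hx2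
    obtain ⟨hm2, hcases⟩ := sqrt_one_cases m r H1 H2
    have hsol := solution_two m r s (by omega) H1 H2 H3
    have hsol' : (x ^ 2 = a ^ 2 ^ (m - 1) ∧ r + 1 ≡ 0 [MOD 2 ^ m]) ∨ ∃ i : ℕ, (a ^ i * x) ^ 2 = 1 := by
      rcases hsol with ⟨i, hi⟩ | ⟨-, hr1, hs1⟩
      · right
        refine ⟨i, ?_⟩
        rw [mul_pow_of_conj hr, hs, ← pow_add]
        apply orderOf_dvd_iff_pow_eq_one.1
        rw [ha]
        have : ∑ j ∈ range 2, r ^ j = 1 + r := by simp [sum_range_succ]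
        rw [this]
        exact (Nat.modEq_zero_iff_dvd).1 hi
      · left
        refine ⟨?_, hr1⟩
        rw [hs, pow_eq_pow_iff_modEq, ha]; exact hs1
    refine ⟨hm2, r, hr, ?_, hsol'⟩
    rcases hcases with h | h | ⟨hm3, hmod⟩
    · exact Or.inl h
    · exact Or.inr h
    · exfalso
      apply hx
      apply hno hm3
      have hpow : 2 ^ m = 2 * 2 ^ (m - 1) := by rw [← pow_succ', Nat.sub_add_cancel (by omega)]
      have h1 : x * a ^ 2 * x⁻¹ = a ^ (r * 2) := conj_pow_of_conj hr 2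
      have h2 : r * 2 ≡ 2 [MOD 2 ^ m] := by
        have h3 := hmod.mul_right 2
        have h4 : (1 + 2 ^ (m - 1)) * 2 = 2 + 2 ^ m * 1 := by rw [hpow]; ring
        rw [h4] at h3
        refine h3.trans ?_
        show (2 + 2 ^ m * 1) % 2 ^ m = 2 % 2 ^ m
        rw [Nat.add_mul_mod_self_left]
      have h5 : a ^ (r * 2) = a ^ 2 := by
        rw [pow_eq_pow_iff_modEq, ha]; exact h2
      rw [h5] at h1
      calc x * a ^ 2 = x * a ^ 2 * x⁻¹ * x := by group
        _ = a ^ 2 * x := by rw [h1]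
  -- residues mod 4
  have hr4 : ∀ r : ℕ, 2 ≤ m → (r + 1 ≡ 0 [MOD 2 ^ m] ∨ (3 ≤ m ∧ r + 1 ≡ 2 ^ (m - 1) [MOD 2 ^ m])) →
      r % 4 = 3 := by
    intro r hm2 h
    have h4 : 4 ∣ 2 ^ m := by
      have : (4 : ℕ) = 2 ^ 2 := by norm_num
      rw [this]; exact pow_dvd_pow 2 hm2
    rcases h with h | ⟨hm3, h⟩
    · have := (Nat.modEq_zero_iff_dvd).1 (h.of_dvd h4)
      omega
    · have h4' : 4 ∣ 2 ^ (m - 1) := by
        have : (4 : ℕ) = 2 ^ 2 := by norm_num
        rw [this]; exact pow_dvd_pow 2 (by omega)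
      have h5 : r + 1 ≡ 0 [MOD 4] := (h.of_dvd h4).trans ((Nat.modEq_zero_iff_dvd).2 h4')
      have := (Nat.modEq_zero_iff_dvd).1 h5
      omega
  -- Step B: all squares lie in ⟨a⟩
  have stepB : ∀ y : P, y ^ 2 ∈ zpowers a := by
    intro y
    by_contra hy
    obtain ⟨l, hl1, hl2⟩ := exists_pow_mem hP (zpowers a) hy
    obtain ⟨hm2, r, hr, hcases, -⟩ := stepA _ hl1 hl2
    have h3 := hr4 r hm2 hcases
    obtain ⟨t, ht⟩ := exists_pow_eq_of_mem_zpowers hapos (hnorm (y ^ 2 ^ l))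
    have h1 := pow_conj_of_conj ht 2 1
    rw [mul_one, pow_one] at h1
    have h2 : (y ^ 2 ^ l) ^ 2 = (y ^ 2) ^ 2 ^ l := by
      rw [← pow_mul, ← pow_mul, mul_comm]
    rw [h2, hr, pow_eq_pow_iff_modEq, ha] at h1
    have h4 : 4 ∣ 2 ^ m := by
      have : (4 : ℕ) = 2 ^ 2 := by norm_num
      rw [this]; exact pow_dvd_pow 2 hm2
    have h5 : r % 4 = t ^ 2 % 4 := h1.of_dvd h4
    have h7 : t % 4 = 0 ∨ t % 4 = 1 ∨ t % 4 = 2 ∨ t % 4 = 3 := by omega
    rw [h3] at h5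
    rcases h7 with h | h | h | h <;>
      · rw [Nat.pow_mod, h] at h5
        norm_num at h5
  -- an element outside ⟨a⟩
  obtain ⟨x0, hx0⟩ : ∃ x0 : P, x0 ∉ zpowers a := by
    by_contra h
    push Not at h
    exact htop (eq_top_iff.2 fun y _ => h y)
  -- Step C: index 2
  have hidx : (zpowers a).index = 2 := by
    rw [index_eq_two_iff]
    refine ⟨x0, fun b => ?_⟩
    by_cases hb : b ∈ zpowers a
    · refine Or.inr ⟨hb, fun h => hx0 ?_⟩
      have : x0 = b⁻¹ * (b * x0) := by group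
      rw [this]; exact mul_mem (inv_mem hb) h
    · refine Or.inl ⟨?_, hb⟩
      by_contra hbx
      obtain ⟨hm2, r1, hr1, hc1, -⟩ := stepA b hb (stepB b)
      obtain ⟨-, r2, hr2, hc2, -⟩ := stepA x0 hx0 (stepB x0)
      obtain ⟨-, r3, hr3, hc3, -⟩ := stepA (b * x0) hbx (stepB _)
      have h1 : (b * x0) * a * (b * x0)⁻¹ = a ^ (r1 * r2) := by
        have : (b * x0) * a * (b * x0)⁻¹ = b * (x0 * a * x0⁻¹) * b⁻¹ := by group
        rw [this, hr2, conj_pow_of_conj hr1]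
      rw [hr3, pow_eq_pow_iff_modEq, ha] at h1
      have h4 : 4 ∣ 2 ^ m := by
        have : (4 : ℕ) = 2 ^ 2 := by norm_num
        rw [this]; exact pow_dvd_pow 2 hm2
      have h5 : r3 % 4 = (r1 * r2) % 4 := h1.of_dvd h4
      rw [hr4 r3 hm2 hc3, Nat.mul_mod, hr4 r1 hm2 hc1, hr4 r2 hm2 hc2] at h5
      norm_num at h5
  have hcard : Nat.card P = 2 ^ (m + 1) := by
    rw [← (zpowers a).card_mul_index, hidx, Nat.card_zpowers, ha, pow_succ]
  refine ⟨hcard, ?_⟩
  -- Step D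
  obtain ⟨hm2, r, hr, hcases, hfin⟩ := stepA x0 hx0 (stepB x0)
  have hpow : 2 ^ m = 2 * 2 ^ (m - 1) := by rw [← pow_succ', Nat.sub_add_cancel (by omega)]
  have hinv_of : ∀ w : P, w * a * w⁻¹ = a ^ r → r + 1 ≡ 0 [MOD 2 ^ m] → w * a * w⁻¹ = a⁻¹ := by
    intro w hw h
    rw [hw]
    apply eq_inv_of_mul_eq_one_left
    rw [← pow_succ]
    apply orderOf_dvd_iff_pow_eq_one.1
    rw [ha]
    exact (Nat.modEq_zero_iff_dvd).1 h
  rcases hfin with ⟨hx2, hr1⟩ | ⟨i, hi⟩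
  · -- quaternion
    right; left
    refine ⟨2 ^ (m - 1), ?_⟩
    have ha' : orderOf a = 2 * 2 ^ (m - 1) := by rw [ha, hpow]
    exact nonempty_mulEquiv_quaternionGroup ha' hx0 (hinv_of x0 hr hr1) hx2 hidx
  · set y := a ^ i * x0 with hy
    have hyA : y ∉ zpowers a := by
      intro h
      apply hx0
      have : x0 = (a ^ i)⁻¹ * y := by rw [hy]; group
      rw [this]
      exact mul_mem (inv_mem (pow_mem (mem_zpowers a) _)) h
    have hy1 : y ≠ 1 := fun h => hyA (h ▸ one_mem _)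
    have hyo : orderOf y = 2 := orderOf_eq_prime hi hy1
    have hyr : y * a * y⁻¹ = a ^ r := by
      have : y * a * y⁻¹ = a ^ i * (x0 * a * x0⁻¹) * (a ^ i)⁻¹ := by rw [hy]; group
      rw [this, hr, ← pow_add, ← pow_sub_mul_pow a (Nat.le_add_right i r), Nat.add_sub_cancel_left,
        mul_inv_cancel_right]
    rcases hcases with hr1 | ⟨hm3, hr1⟩
    · -- dihedral
      left
      have hyinv := hinv_of y hyr hr1
      refine ⟨2 ^ m, ?_⟩
      apply Cfsg.Agent.Helper45.nonempty_mulEquiv_dihedral (2 ^ m) a y ha (by rw [← sq]; exact hi)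
        hyinv hyA
      intro g
      by_cases hg : g ∈ zpowers a
      · exact Or.inl hg
      · right
        rw [mul_mem_iff_of_index_two hidx]
        exact ⟨fun h => (hyA h).elim, fun h => (hg h).elim⟩
    · -- quasi-dihedral
      right; right
      refine ⟨m, hm3, hcard, a, y, ha, hyo, ?_⟩
      rw [hyr, pow_eq_pow_iff_modEq, ha]
      apply Nat.ModEq.add_right_cancel' 1
      rw [Nat.sub_add_cancel (Nat.one_le_two_pow)]
      exact hr1

end TwoGroup

section Complement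

variable {P : Type*} [Group P] {p : ℕ} [hp : Fact p.Prime]

/-- the congruence data of an element `x ∉ ⟨a⟩` with `x ^ p ∈ ⟨a⟩` normalizing the self-centralizing `⟨a⟩`. -/
theorem conj_data_prime {a x : P} {m : ℕ} (ha : orderOf a = p ^ m) (hn : x * a * x⁻¹ ∈ zpowers a)
    (hxp : x ^ p ∈ zpowers a) :
    ∃ r s : ℕ, x * a * x⁻¹ = a ^ r ∧ x ^ p = a ^ s ∧ r ^ p ≡ 1 [MOD p ^ m] ∧
      (r ≡ 1 [MOD p ^ m] → x * a = a * x) ∧ r * s ≡ s [MOD p ^ m] := by
  have hapos : 0 < orderOf a := by rw [ha]; exact pow_pos hp.out.pos m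
  obtain ⟨r, hr⟩ := exists_pow_eq_of_mem_zpowers hapos hn
  obtain ⟨s, hs⟩ := exists_pow_eq_of_mem_zpowers hapos hxp
  refine ⟨r, s, hr, hs, ?_, ?_, ?_⟩
  · rw [← ha, ← pow_eq_pow_iff_modEq]
    have h1 := pow_conj_of_conj hr p 1
    rw [mul_one, pow_one, hs] at h1
    rw [← h1, pow_one]
    have : Commute (a ^ s) a := (Commute.refl a).pow_left s
    rw [this.eq]; group
  · intro h
    rw [← ha, ← pow_eq_pow_iff_modEq, pow_one] at h
    rw [h] at hr
    calc x * a = x * a * x⁻¹ * x := by group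
      _ = a * x := by rw [hr]
  · rw [← ha, ← pow_eq_pow_iff_modEq]
    rw [← conj_pow_of_conj hr s, ← hs]
    group

/-- either some `a ^ i * x` has `p`-th power `1`, or we are in the quaternion situation. -/
theorem exists_pow_eq_one_or_quat {a x : P} {m : ℕ}
    (ha : orderOf a = p ^ m) (hn : x * a * x⁻¹ ∈ zpowers a)
    (hcent : ∀ y : P, y * a = a * y → y ∈ zpowers a)
    (hx : x ∉ zpowers a) (hxp : x ^ p ∈ zpowers a) :
    (∃ i : ℕ, (a ^ i * x) ^ p = 1) ∨
      (p = 2 ∧ 2 ≤ m ∧ x * a * x⁻¹ = a⁻¹ ∧ x ^ 2 = a ^ (2 ^ (m - 1))) := by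
  -- m ≥ 1
  have hm : 1 ≤ m := by
    by_contra hm
    have hm0 : m = 0 := by omega
    rw [hm0, pow_zero, orderOf_eq_one_iff] at ha
    apply hx
    apply hcent
    rw [ha, mul_one, one_mul]
  obtain ⟨r, s, hr, hs, H1, H2', H3⟩ := conj_data_prime ha hn hxp
  have H2 : ¬ r ≡ 1 [MOD p ^ m] := fun h => hx (hcent x (H2' h))
  have hyes : ∀ i : ℕ, (i * (∑ j ∈ range p, r ^ j) + s ≡ 0 [MOD p ^ m]) → (a ^ i * x) ^ p = 1 := by
    intro i hi
    rw [mul_pow_of_conj hr, hs, ← pow_add]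
    apply orderOf_dvd_iff_pow_eq_one.1
    rw [ha]
    exact (Nat.modEq_zero_iff_dvd).1 hi
  by_cases hp2 : p = 2
  · subst hp2
    rcases solution_two m r s hm H1 H2 H3 with ⟨i, hi⟩ | ⟨hm2, hr1, hs1⟩
    · left
      refine ⟨i, hyes i ?_⟩
      have : ∑ j ∈ range 2, r ^ j = 1 + r := by
        simp [sum_range_succ]
      rw [this]; exact hi
    · right
      refine ⟨rfl, hm2, ?_, ?_⟩
      · rw [hr]
        apply eq_inv_of_mul_eq_one_left
        rw [← pow_succ]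
        apply orderOf_dvd_iff_pow_eq_one.1
        rw [ha]
        exact (Nat.modEq_zero_iff_dvd).1 hr1
      · rw [hs, pow_eq_pow_iff_modEq, ha]
        exact hs1
  · left
    obtain ⟨i, hi⟩ := solution_odd p m r s hp.out hp2 hm H1 H2 H3
    exact ⟨i, hyes i hi⟩

/-- for odd `p`, an element `x` with `x ^ p ∈ ⟨a⟩` normalizing `⟨a⟩` centralizes `a ^ p`. -/
theorem commute_pow_prime_of_odd (hp2 : p ≠ 2) {a x : P} {m : ℕ}
    (ha : orderOf a = p ^ m) (hn : x * a * x⁻¹ ∈ zpowers a) (hxp : x ^ p ∈ zpowers a) :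
    x * a ^ p = a ^ p * x := by
  by_cases hm : m = 0
  · rw [hm, pow_zero, orderOf_eq_one_iff] at ha
    rw [ha, one_pow, mul_one, one_mul]
  obtain ⟨r, s, hr, hs, H1, -, -⟩ := conj_data_prime ha hn hxp
  obtain ⟨-, h2⟩ := Cfsg.Agent.Helper52.modEq_one_of_pow_prime_modEq_one hp2 (by omega : 1 ≤ m) H1
  have h3 : r * p ≡ 1 * p [MOD p ^ (m - 1) * p] := Nat.ModEq.mul_right' p h2
  rw [← pow_succ, Nat.sub_add_cancel (by omega : 1 ≤ m), one_mul] at h3
  have h1 : x * a ^ p * x⁻¹ = a ^ (r * p) := conj_pow_of_conj hr p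
  have h5 : a ^ (r * p) = a ^ p := by
    rw [pow_eq_pow_iff_modEq, ha]; exact h3
  rw [h5] at h1
  calc x * a ^ p = x * a ^ p * x⁻¹ * x := by group
    _ = a ^ p * x := by rw [h1]

end Complement

section CaseB

variable {G : Type*} [Group G] {p : ℕ} [hp : Fact p.Prime]

theorem relIndex_mul_card_le {B A : Subgroup G} (h : B ≤ A) :
    B.relIndex A * Nat.card B = Nat.card A := by
  have h1 := Subgroup.card_mul_index (B.subgroupOf A)
  have h2 : Nat.card (B.subgroupOf A) = Nat.card B :=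
    Nat.card_congr (Subgroup.subgroupOfEquivOfLe h).toEquiv
  rw [h2] at h1
  rw [Subgroup.relIndex, mul_comm]; exact h1

theorem pow_prime_eq_one_of_mem_omega {u x : G} {n : ℕ} (hu : orderOf u = p ^ n) (hn : 1 ≤ n)
    (hx : x ∈ zpowers (u ^ (p ^ (n - 1)))) : x ^ p = 1 := by
  have hzo : orderOf (u ^ (p ^ (n - 1))) = p := orderOf_pow_pred hu hn
  have hzp : (u ^ (p ^ (n - 1))) ^ p = 1 := by
    have := pow_orderOf_eq_one (u ^ (p ^ (n - 1)))
    rwa [hzo] at this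
  obtain ⟨k, rfl⟩ := mem_zpowers_iff.1 hx
  rw [← zpow_natCast, ← zpow_mul, mul_comm, zpow_mul, zpow_natCast, hzp, one_zpow]

omit hp in
theorem omega_le_zpowers {u : G} {n : ℕ} : zpowers (u ^ (p ^ (n - 1))) ≤ zpowers u :=
  zpowers_le.2 (pow_mem (mem_zpowers u) _)

/-- the subgroup of order `p` of the normal cyclic `⟨u⟩` is central. -/
theorem omega_le_center [Finite G] (hG : IsPGroup p G) {u : G} {n : ℕ} (hu : orderOf u = p ^ n)
    (hn : 1 ≤ n) (hnorm : ∀ g : G, g * u * g⁻¹ ∈ zpowers u) :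
    zpowers (u ^ (p ^ (n - 1))) ≤ center G := by
  have hzo : orderOf (u ^ (p ^ (n - 1))) = p := orderOf_pow_pred hu hn
  have hnormal : (zpowers (u ^ (p ^ (n - 1)))).Normal := by
    constructor
    intro x hx g
    have hxu : x ∈ zpowers u := omega_le_zpowers hx
    have hxp : x ^ p = 1 := pow_prime_eq_one_of_mem_omega hu hn hx
    have h1 : g * x * g⁻¹ ∈ zpowers u := conj_mem_zpowers hnorm hxu g
    have h2 : (g * x * g⁻¹) ^ (p ^ 1) = 1 := by rw [pow_one, conj_pow, hxp]; group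
    exact mem_zpowers_pow_of_pow_eq_one hu hn h1 h2
  exact le_center_of_normal_of_card_eq_prime hG _ (by rw [Nat.card_zpowers, hzo])

theorem conj_pow_of_central_comm {g u d : G} (hd : g * u * g⁻¹ = d * u) (hdc : ∀ x : G, x * d = d * x)
    (k : ℕ) : g ^ k * u * (g ^ k)⁻¹ = d ^ k * u := by
  induction k with
  | zero => simp
  | succ k ih =>
    have h1 : g ^ (k + 1) * u * (g ^ (k + 1))⁻¹ = g * (g ^ k * u * (g ^ k)⁻¹) * g⁻¹ := by
      rw [pow_succ']; group
    have hc : Commute g (d ^ k) := (show Commute g d from hdc g).pow_right k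
    rw [h1, ih]
    calc g * (d ^ k * u) * g⁻¹ = (g * d ^ k) * u * g⁻¹ := by group
      _ = (d ^ k * g) * u * g⁻¹ := by rw [hc.eq]
      _ = d ^ k * (g * u * g⁻¹) := by group
      _ = d ^ k * (d * u) := by rw [hd]
      _ = d ^ (k + 1) * u := by rw [pow_succ]; group

/-- `p`-th powers of `C_G(u^p)` lie in `⟨u⟩`. -/
theorem pow_prime_mem_of_commute [Finite G] (hG : IsPGroup p G) {u : G} {n : ℕ}
    (hu : orderOf u = p ^ n) (hn : 1 ≤ n) (hnorm : ∀ g : G, g * u * g⁻¹ ∈ zpowers u)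
    (hcent : ∀ y : G, y * u = u * y → y ∈ zpowers u) {g : G} (hg : g * u ^ p = u ^ p * g) :
    g ^ p ∈ zpowers u := by
  have hd := comm_mem_omega hu hn hnorm hg (mem_zpowers u)
  have hdc : ∀ x : G, x * (g * u * g⁻¹ * u⁻¹) = (g * u * g⁻¹ * u⁻¹) * x := fun x =>
    (Subgroup.mem_center_iff.mp (omega_le_center hG hu hn hnorm hd) x)
  have hdp := pow_prime_eq_one_of_mem_omega hu hn hd
  have h1 := conj_pow_of_central_comm (g := g) (u := u) (d := g * u * g⁻¹ * u⁻¹) (by group) hdc p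
  rw [hdp, one_mul] at h1
  apply hcent
  calc g ^ p * u = g ^ p * u * (g ^ p)⁻¹ * g ^ p := by group
    _ = u * g ^ p := by rw [h1]

/-- an element of `C_G(u^p) \ ⟨u⟩` with `p`-th power `1`. -/
theorem exists_compl_pow_eq_one [Finite G] (hG : IsPGroup p G) {u : G} {n : ℕ}
    (hu : orderOf u = p ^ n) (hn : 1 ≤ n) (hpn : p = 2 → 3 ≤ n)
    (hnorm : ∀ g : G, g * u * g⁻¹ ∈ zpowers u)
    (hcent : ∀ y : G, y * u = u * y → y ∈ zpowers u) {y0 : G} (hy0M : y0 * u ^ p = u ^ p * y0)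
    (hy0 : y0 ∉ zpowers u) : ∃ y : G, y * u ^ p = u ^ p * y ∧ y ∉ zpowers u ∧ y ^ p = 1 := by
  rcases exists_pow_eq_one_or_quat hu (hnorm y0) hcent hy0
      (pow_prime_mem_of_commute hG hu hn hnorm hcent hy0M) with ⟨i, hi⟩ | ⟨hp2, -, hinv, -⟩
  · refine ⟨u ^ i * y0, ?_, ?_, hi⟩
    · have h1 : Commute (u ^ i) (u ^ p) := Commute.pow_pow_self u i p
      have h2 : Commute y0 (u ^ p) := hy0M
      exact (h1.mul_left h2).eq
    · intro h
      apply hy0
      have : y0 = (u ^ i)⁻¹ * (u ^ i * y0) := by group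
      rw [this]
      exact mul_mem (inv_mem (pow_mem (mem_zpowers u) _)) h
  · exfalso
    have hn3 := hpn hp2
    subst hp2
    have h1 : y0 * u ^ 2 * y0⁻¹ = (u⁻¹) ^ 2 := by rw [← hinv, conj_pow]
    have h2 : y0 * u ^ 2 * y0⁻¹ = u ^ 2 := by rw [hy0M]; group
    rw [h2] at h1
    have h3 : u ^ 4 = 1 := by
      have : u ^ 4 = u ^ 2 * u ^ 2 := by rw [← pow_add]
      rw [this]
      nth_rewrite 1 [h1]
      rw [inv_pow, inv_mul_cancel]
    have h4 : 2 ^ n ∣ 4 := by rw [← hu]; exact orderOf_dvd_iff_pow_eq_one.2 h3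
    have h5 : 2 ^ 3 ∣ 4 := dvd_trans (pow_dvd_pow 2 hn3) h4
    omega

omit hp in
/-- `C_G(u) ∩ C_G(u^p) = ⟨u⟩`. -/
theorem inf_centralizer_eq {u : G} (hcent : ∀ y : G, y * u = u * y → y ∈ zpowers u) :
    centralizer ({u ^ p} : Set G) ⊓ centralizer ({u} : Set G) = zpowers u := by
  apply le_antisymm
  · rintro g ⟨-, hg⟩
    exact hcent g (mem_centralizer_singleton_iff.1 hg)
  · rw [zpowers_le]
    exact ⟨mem_centralizer_singleton_iff.2 (Commute.self_pow u p).eq,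
      mem_centralizer_singleton_iff.2 rfl⟩

omit hp in
theorem zpowers_le_centralizer_pow {u : G} : zpowers u ≤ centralizer ({u ^ p} : Set G) := by
  rw [zpowers_le]
  exact mem_centralizer_singleton_iff.2 (Commute.self_pow u p).eq

/-- `|C_G(u^p) : ⟨u⟩| = p` as soon as `C_G(u^p) ≠ ⟨u⟩`. -/
theorem relIndex_centralizer_pow [Finite G] (hG : IsPGroup p G) {u : G} {n : ℕ}
    (hu : orderOf u = p ^ n) (hn : 1 ≤ n) (hnorm : ∀ g : G, g * u * g⁻¹ ∈ zpowers u)
    (hcent : ∀ y : G, y * u = u * y → y ∈ zpowers u) {y0 : G} (hy0M : y0 * u ^ p = u ^ p * y0)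
    (hy0 : y0 ∉ zpowers u) : (zpowers u).relIndex (centralizer ({u ^ p} : Set G)) = p := by
  have hzo : orderOf (u ^ (p ^ (n - 1))) = p := orderOf_pow_pred hu hn
  have h1 := card_le_of_commutator_mem (centralizer ({u ^ p} : Set G)) (zpowers (u ^ (p ^ (n - 1))))
    (omega_le_center hG hu hn hnorm) u
    (fun b hb => comm_mem_omega hu hn hnorm (mem_centralizer_singleton_iff.1 hb) (mem_zpowers u))
  rw [inf_centralizer_eq hcent, Nat.card_zpowers, Nat.card_zpowers, hzo] at h1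
  have h2 := relIndex_mul_card_le (zpowers_le_centralizer_pow (p := p) (u := u))
  rw [Nat.card_zpowers] at h2
  set k := (zpowers u).relIndex (centralizer ({u ^ p} : Set G)) with hk
  have hupos : 0 < orderOf u := by rw [hu]; exact pow_pos hp.out.pos n
  have hkp : k ≤ p := by
    rw [← h2] at h1
    rw [mul_comm] at h1
    exact Nat.le_of_mul_le_mul_left h1 hupos
  have hk1 : k ≠ 1 := by
    intro h
    rw [hk, relIndex_eq_one] at h
    exact hy0 (h (mem_centralizer_singleton_iff.2 hy0M))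
  have hkdvd : k ∣ Nat.card G := by
    have h3 : k ∣ Nat.card (centralizer ({u ^ p} : Set G)) := ⟨orderOf u, h2.symm⟩
    exact dvd_trans h3 (Subgroup.card_subgroup_dvd_card _)
  obtain ⟨a, ha⟩ := IsPGroup.iff_card.mp hG
  rw [ha] at hkdvd
  obtain ⟨b, -, hb⟩ := (Nat.dvd_prime_pow hp.out).1 hkdvd
  rcases b with _ | _ | b
  · exact absurd (by simpa using hb) hk1
  · simpa using hb
  · exfalso
    rw [hb] at hkp
    have : p ^ 2 ≤ p ^ (b + 1 + 1) := Nat.pow_le_pow_right hp.out.pos (by omega)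
    have h4 : p < p ^ 2 := by
      have := hp.out.one_lt
      nlinarith
    omega

/-- decomposition of `C_G(u^p)` along `⟨u⟩` and an outer element. -/
theorem exists_mul_of_commute [Finite G] (hG : IsPGroup p G) {u : G} {n : ℕ}
    (hu : orderOf u = p ^ n) (hn : 1 ≤ n) (hnorm : ∀ g : G, g * u * g⁻¹ ∈ zpowers u)
    (hcent : ∀ y : G, y * u = u * y → y ∈ zpowers u) {y : G} (hyM : y * u ^ p = u ^ p * y)
    (hy : y ∉ zpowers u) {g : G} (hg : g * u ^ p = u ^ p * g) :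
    ∃ c ∈ zpowers u, ∃ w ∈ zpowers y, g = c * w := by
  have hidx := relIndex_centralizer_pow hG hu hn hnorm hcent hyM hy
  have hnormal : (zpowers u).Normal := ⟨fun x hx g => conj_mem_zpowers hnorm hx g⟩
  have hle1 : zpowers u ≤ zpowers u ⊔ zpowers y := le_sup_left
  have hle2 : zpowers u ⊔ zpowers y ≤ centralizer ({u ^ p} : Set G) :=
    sup_le zpowers_le_centralizer_pow (zpowers_le.2 (mem_centralizer_singleton_iff.2 hyM))
  have h1 := relIndex_mul_relIndex (zpowers u) (zpowers u ⊔ zpowers y) (centralizer ({u ^ p} : Set G))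
    hle1 hle2
  rw [hidx] at h1
  have h2 : (zpowers u).relIndex (zpowers u ⊔ zpowers y) ≠ 1 := by
    intro h
    rw [relIndex_eq_one] at h
    exact hy (h (mem_sup_right (mem_zpowers y)))
  have h3 : (zpowers u ⊔ zpowers y).relIndex (centralizer ({u ^ p} : Set G)) = 1 := by
    have hdvd : (zpowers u).relIndex (zpowers u ⊔ zpowers y) ∣ p := ⟨_, h1.symm⟩
    rcases (Nat.dvd_prime hp.out).1 hdvd with h | h
    · exact absurd h h2
    · rw [h] at h1
      have hppos := hp.out.pos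
      have : p * (zpowers u ⊔ zpowers y).relIndex (centralizer ({u ^ p} : Set G)) = p * 1 := by
        rw [h1, mul_one]
      exact Nat.eq_of_mul_eq_mul_left hppos this
  rw [relIndex_eq_one] at h3
  have hgs : g ∈ ((zpowers u ⊔ zpowers y : Subgroup G) : Set G) :=
    h3 (mem_centralizer_singleton_iff.2 hg)
  rw [Subgroup.normal_mul] at hgs
  obtain ⟨c, hc, w, hw, rfl⟩ := hgs
  exact ⟨c, hc, w, hw, rfl⟩

/-- elements of `C_G(u^p)` of order dividing `p` lie in `Ω₁(⟨u⟩) ⟨y⟩`. -/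
theorem mem_sup_of_pow_prime_eq_one [Finite G] (hG : IsPGroup p G) {u : G} {n : ℕ}
    (hu : orderOf u = p ^ n) (hn : 1 ≤ n) (hpn : p = 2 → 3 ≤ n)
    (hnorm : ∀ g : G, g * u * g⁻¹ ∈ zpowers u)
    (hcent : ∀ y : G, y * u = u * y → y ∈ zpowers u) {y : G} (hyM : y * u ^ p = u ^ p * y)
    (hy : y ∉ zpowers u) (hyp : y ^ p = 1) {g : G} (hg : g * u ^ p = u ^ p * g) (hgp : g ^ p = 1) :
    g ∈ zpowers (u ^ (p ^ (n - 1))) ⊔ zpowers y := by
  obtain ⟨c, hc, w, hw, rfl⟩ := exists_mul_of_commute hG hu hn hnorm hcent hyM hy hg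
  have hwM : w * u ^ p = u ^ p * w :=
    mem_centralizer_singleton_iff.1 ((zpowers_le.2 (mem_centralizer_singleton_iff.2 hyM)) hw)
  have hwp : w ^ p = 1 := by
    obtain ⟨k, rfl⟩ := mem_zpowers_iff.1 hw
    rw [← zpow_natCast, ← zpow_mul, mul_comm, zpow_mul, zpow_natCast, hyp, one_zpow]
  have he := comm_mem_omega hu hn hnorm hwM hc
  have hecen : ∀ x : G, x * (w * c * w⁻¹ * c⁻¹) = (w * c * w⁻¹ * c⁻¹) * x := fun x =>
    Subgroup.mem_center_iff.mp (omega_le_center hG hu hn hnorm he) x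
  have hep : (w * c * w⁻¹ * c⁻¹) ^ p = 1 := pow_prime_eq_one_of_mem_omega hu hn he
  have hformula := Cfsg.Agent.Helper52.mul_pow_of_commutator_central c w (hecen c).symm
    (hecen w).symm p
  rw [hgp, hwp, mul_one] at hformula
  suffices hcz : c ∈ zpowers (u ^ (p ^ (n - 1))) from
    mul_mem (mem_sup_left hcz) (mem_sup_right hw)
  by_cases hp2 : p = 2
  · have hn3 := hpn hp2
    subst hp2
    have h1 : c ^ 2 * (w * c * w⁻¹ * c⁻¹) = 1 := by
      have := hformula.symm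
      simpa using this
    have h2 : c ^ 2 = (w * c * w⁻¹ * c⁻¹)⁻¹ := eq_inv_of_mul_eq_one_left h1
    have h3 : c ^ (2 ^ 2) = 1 := by
      have : c ^ (2 ^ 2) = (c ^ 2) ^ 2 := by rw [← pow_mul]; norm_num
      rw [this, h2, inv_pow, hep, inv_one]
    have h4 := mem_zpowers_pow_of_pow_eq_one hu (by omega : 2 ≤ n) hc h3
    have h5 : u ^ (2 ^ (n - 2)) = (u ^ 2) ^ (2 ^ (n - 3)) := by
      rw [← pow_mul, ← pow_succ', show n - 3 + 1 = n - 2 by omega]
    have h6 : Commute w c := by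
      obtain ⟨k, rfl⟩ := mem_zpowers_iff.1 h4
      rw [h5]
      exact ((show Commute w (u ^ 2) from hwM).pow_right _).zpow_right k
    have h7 : w * c * w⁻¹ * c⁻¹ = 1 := by rw [h6.eq]; group
    rw [h7, mul_one] at h1
    apply mem_zpowers_pow_of_pow_eq_one hu hn hc
    rw [pow_one]; exact h1
  · have hodd : Odd p := hp.out.odd_of_ne_two hp2
    obtain ⟨t, ht⟩ := hodd
    have h1 : p * (p - 1) / 2 = p * t := by
      have h1 : p - 1 = 2 * t := by omega
      rw [h1, ← mul_assoc, mul_comm p 2, mul_assoc, Nat.mul_div_cancel_left _ (by norm_num : 0 < 2)]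
    rw [h1, pow_mul, hep, one_pow, mul_one] at hformula
    apply mem_zpowers_pow_of_pow_eq_one hu hn hc
    rw [pow_one]; exact hformula.symm

theorem omega_inf_zpowers_eq_bot [Finite G] {u y : G} {n : ℕ} (hy : y ∉ zpowers u) (hyp : y ^ p = 1) :
    zpowers (u ^ (p ^ (n - 1))) ⊓ zpowers y = ⊥ := by
  have hy1 : y ≠ 1 := fun h => hy (h ▸ one_mem _)
  have hyo : orderOf y = p := orderOf_eq_prime hyp hy1
  have hdvd : Nat.card ↥(zpowers (u ^ (p ^ (n - 1))) ⊓ zpowers y) ∣ p := by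
    have := Subgroup.card_dvd_of_le
      (inf_le_right : zpowers (u ^ (p ^ (n - 1))) ⊓ zpowers y ≤ zpowers y)
    rwa [Nat.card_zpowers, hyo] at this
  rcases (Nat.dvd_prime hp.out).1 hdvd with h | h
  · exact Subgroup.eq_bot_of_card_eq _ h
  · exfalso
    have h1 : zpowers (u ^ (p ^ (n - 1))) ⊓ zpowers y = zpowers y := by
      apply Subgroup.eq_of_le_of_card_ge inf_le_right
      rw [h, Nat.card_zpowers, hyo]
    have h2 : y ∈ zpowers (u ^ (p ^ (n - 1))) ⊓ zpowers y := by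
      rw [h1]; exact mem_zpowers y
    exact hy (omega_le_zpowers h2.1)

theorem card_omega_sup [Finite G] (hG : IsPGroup p G) {u : G} {n : ℕ}
    (hu : orderOf u = p ^ n) (hn : 1 ≤ n) (hnorm : ∀ g : G, g * u * g⁻¹ ∈ zpowers u) {y : G}
    (hy : y ∉ zpowers u) (hyp : y ^ p = 1) :
    Nat.card ↥(zpowers (u ^ (p ^ (n - 1))) ⊔ zpowers y) = p ^ 2 := by
  have hy1 : y ≠ 1 := fun h => hy (h ▸ one_mem _)
  have hcomm : ∀ a ∈ zpowers (u ^ (p ^ (n - 1))), ∀ b ∈ zpowers y, a * b = b * a := fun a ha b _ =>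
    (Subgroup.mem_center_iff.mp (omega_le_center hG hu hn hnorm ha) b).symm
  rw [Cfsg.Agent.Helper25.card_sup_eq_mul (omega_inf_zpowers_eq_bot hy hyp) hcomm, Nat.card_zpowers,
    Nat.card_zpowers, orderOf_pow_pred hu hn, orderOf_eq_prime hyp hy1, sq]

theorem isElementaryAbelian_omega_sup [Finite G] (hG : IsPGroup p G) {u : G} {n : ℕ}
    (hu : orderOf u = p ^ n) (hn : 1 ≤ n) (hnorm : ∀ g : G, g * u * g⁻¹ ∈ zpowers u) {y : G}
    (hy : y ∉ zpowers u) (hyp : y ^ p = 1) :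
    Cfsg.IsElementaryAbelian p (zpowers (u ^ (p ^ (n - 1))) ⊔ zpowers y) := by
  have hcen : ∀ a ∈ zpowers (u ^ (p ^ (n - 1))), ∀ b : G, a * b = b * a := fun a ha b =>
    (Subgroup.mem_center_iff.mp (omega_le_center hG hu hn hnorm ha) b).symm
  have hcomm : ∀ a ∈ zpowers (u ^ (p ^ (n - 1))), ∀ b ∈ zpowers y, a * b = b * a := fun a ha b _ =>
    hcen a ha b
  have hdisj := omega_inf_zpowers_eq_bot (p := p) (u := u) (n := n) hy hyp
  have hpw : ∀ b ∈ zpowers y, b ^ p = 1 := by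
    intro b hb
    obtain ⟨k, rfl⟩ := mem_zpowers_iff.1 hb
    rw [← zpow_natCast, ← zpow_mul, mul_comm, zpow_mul, zpow_natCast, hyp, one_zpow]
  constructor
  · refine ⟨⟨fun x x' => ?_⟩⟩
    obtain ⟨a, b, hab⟩ := Cfsg.Agent.Helper25.exists_mul_of_mem_sup hdisj hcomm x
    obtain ⟨a', b', hab'⟩ := Cfsg.Agent.Helper25.exists_mul_of_mem_sup hdisj hcomm x'
    apply Subtype.ext
    show (x : G) * (x' : G) = (x' : G) * (x : G)
    rw [hab, hab']
    have hbb : (b : G) * (b' : G) = (b' : G) * (b : G) :=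
      (commute_of_mem_zpowers b.2 b'.2).eq
    have h1 := hcen a a.2
    have h2 := hcen a' a'.2
    calc (a : G) * b * ((a' : G) * b') = (a : G) * ((b : G) * a') * b' := by group
      _ = (a : G) * ((a' : G) * b) * b' := by rw [h2 b]
      _ = ((a : G) * a') * ((b : G) * b') := by group
      _ = ((a' : G) * a) * ((b' : G) * b) := by rw [h1 a', hbb]
      _ = (a' : G) * ((a : G) * b') * b := by group
      _ = (a' : G) * ((b' : G) * a) * b := by rw [h1 b']
      _ = (a' : G) * b' * ((a : G) * b) := by group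
  · intro x hx
    obtain ⟨a, b, hab⟩ := Cfsg.Agent.Helper25.exists_mul_of_mem_sup hdisj hcomm ⟨x, hx⟩
    have hab' : x = (a : G) * (b : G) := hab
    rw [hab', (show Commute (a : G) (b : G) from hcen a a.2 b).mul_pow,
      pow_prime_eq_one_of_mem_omega hu hn a.2, hpw b b.2, one_mul]

/-- `Ω₁(C_G(u^p)) = Ω₁(⟨u⟩) ⟨y⟩`. -/
theorem omegaOne_centralizer_eq [Finite G] (hG : IsPGroup p G) {u : G} {n : ℕ}
    (hu : orderOf u = p ^ n) (hn : 1 ≤ n) (hpn : p = 2 → 3 ≤ n)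
    (hnorm : ∀ g : G, g * u * g⁻¹ ∈ zpowers u)
    (hcent : ∀ y : G, y * u = u * y → y ∈ zpowers u) {y : G} (hyM : y * u ^ p = u ^ p * y)
    (hy : y ∉ zpowers u) (hyp : y ^ p = 1) :
    Cfsg.omegaOne p (centralizer ({u ^ p} : Set G)) =
      zpowers (u ^ (p ^ (n - 1))) ⊔ zpowers y := by
  apply le_antisymm
  · unfold Cfsg.omegaOne
    rw [closure_le]
    rintro g ⟨hgM, hgp⟩
    exact mem_sup_of_pow_prime_eq_one hG hu hn hpn hnorm hcent hyM hy hyp
      (mem_centralizer_singleton_iff.1 hgM) hgp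
  · unfold Cfsg.omegaOne
    apply sup_le
    · rw [zpowers_le]
      apply Subgroup.subset_closure
      exact ⟨zpowers_le_centralizer_pow (omega_le_zpowers (mem_zpowers _)),
        pow_prime_eq_one_of_mem_omega hu hn (mem_zpowers _)⟩
    · rw [zpowers_le]
      exact subset_closure ⟨mem_centralizer_singleton_iff.2 hyM, hyp⟩

omit hp in
theorem conj_commute_pow {u : G} (hnorm : ∀ g : G, g * u * g⁻¹ ∈ zpowers u) {g : G}
    (hg : g * u ^ p = u ^ p * g) (x : G) :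
    (x * g * x⁻¹) * u ^ p = u ^ p * (x * g * x⁻¹) := by
  have hc : x⁻¹ * u * x⁻¹⁻¹ ∈ zpowers u := hnorm x⁻¹
  have h1 := (commute_pow_of_mem_zpowers hg hc).eq
  rw [conj_pow] at h1
  calc x * g * x⁻¹ * u ^ p = x * (g * (x⁻¹ * u ^ p * x⁻¹⁻¹)) * x⁻¹ := by group
    _ = x * (x⁻¹ * u ^ p * x⁻¹⁻¹ * g) * x⁻¹ := by rw [h1]
    _ = u ^ p * (x * g * x⁻¹) := by group

omit hp in
theorem omegaOne_centralizer_normal {u : G} (hnorm : ∀ g : G, g * u * g⁻¹ ∈ zpowers u) :
    (Cfsg.omegaOne p (centralizer ({u ^ p} : Set G))).Normal := by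
  unfold Cfsg.omegaOne
  apply closure_normal_of_conj
  rintro g x ⟨hxM, hxp⟩
  refine ⟨mem_centralizer_singleton_iff.2
    (conj_commute_pow hnorm (mem_centralizer_singleton_iff.1 hxM) g), ?_⟩
  rw [conj_pow, hxp]; group

omit hp in
/-- every normal subgroup of exponent `p` lies in `Ω₁(C_G(u^p))`. -/
theorem le_omegaOne_of_normal {u : G} (hnorm : ∀ g : G, g * u * g⁻¹ ∈ zpowers u) (N : Subgroup G)
    [hN' : N.Normal] (hN : ∀ x ∈ N, x ^ p = 1) :
    N ≤ Cfsg.omegaOne p (centralizer ({u ^ p} : Set G)) := by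
  intro x hx
  unfold Cfsg.omegaOne
  apply Subgroup.subset_closure
  refine ⟨mem_centralizer_singleton_iff.2 ?_, hN x hx⟩
  have hdN : x * u * x⁻¹ * u⁻¹ ∈ N := by
    have : x * u * x⁻¹ * u⁻¹ = x * (u * x⁻¹ * u⁻¹) := by group
    rw [this]
    exact mul_mem hx (hN'.conj_mem _ (inv_mem hx) u)
  have hdU : x * u * x⁻¹ * u⁻¹ ∈ zpowers u := mul_mem (hnorm x) (inv_mem (mem_zpowers u))
  have hdp := hN _ hdN
  have hdc : Commute (x * u * x⁻¹ * u⁻¹) u := commute_of_mem_zpowers hdU (mem_zpowers u)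
  have h1 : (x * u * x⁻¹ * u⁻¹ * u) ^ p = (x * u * x⁻¹ * u⁻¹) ^ p * u ^ p := hdc.mul_pow p
  have h2 : x * u * x⁻¹ * u⁻¹ * u = x * u * x⁻¹ := by group
  rw [h2, hdp, one_mul, conj_pow] at h1
  calc x * u ^ p = x * u ^ p * x⁻¹ * x := by group
    _ = u ^ p * x := by rw [h1]

omit hp in
theorem omegaOne_centralizer_characteristic {u : G} (hnorm : ∀ g : G, g * u * g⁻¹ ∈ zpowers u)
    (hexp : ∀ x ∈ Cfsg.omegaOne p (centralizer ({u ^ p} : Set G)), x ^ p = 1) :
    (Cfsg.omegaOne p (centralizer ({u ^ p} : Set G))).Characteristic := by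
  rw [characteristic_iff_map_le]
  intro φ
  have hE := omegaOne_centralizer_normal (p := p) hnorm
  have hn : ((Cfsg.omegaOne p (centralizer ({u ^ p} : Set G))).map φ.toMonoidHom).Normal :=
    hE.map _ φ.surjective
  apply le_omegaOne_of_normal hnorm
  rintro _ ⟨e, he, rfl⟩
  show (φ e) ^ p = 1
  rw [← map_pow, hexp e he, map_one]

/-- the second alternative. -/
theorem caseB [Finite G] (hG : IsPGroup p G) {u : G} {n : ℕ}
    (hu : orderOf u = p ^ n) (hn : 1 ≤ n) (hpn : p = 2 → 3 ≤ n)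
    (hnorm : ∀ g : G, g * u * g⁻¹ ∈ zpowers u)
    (hcent : ∀ y : G, y * u = u * y → y ∈ zpowers u) {y0 : G} (hy0M : y0 * u ^ p = u ^ p * y0)
    (hy0 : y0 ∉ zpowers u) :
    (zpowers u).relIndex (centralizer ({u ^ p} : Set G)) = p ∧
    Cfsg.IsElementaryAbelian p (Cfsg.omegaOne p (centralizer ({u ^ p} : Set G))) ∧
    Nat.card ↥(Cfsg.omegaOne p (centralizer ({u ^ p} : Set G))) = p ^ 2 ∧
    (Cfsg.omegaOne p (centralizer ({u ^ p} : Set G))).Characteristic := by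
  obtain ⟨y, hyM, hy, hyp⟩ := exists_compl_pow_eq_one hG hu hn hpn hnorm hcent hy0M hy0
  have hE := omegaOne_centralizer_eq hG hu hn hpn hnorm hcent hyM hy hyp
  have hea := isElementaryAbelian_omega_sup hG hu hn hnorm hy hyp
  refine ⟨relIndex_centralizer_pow hG hu hn hnorm hcent hy0M hy0, ?_, ?_, ?_⟩
  · rw [hE]; exact hea
  · rw [hE]; exact card_omega_sup hG hu hn hnorm hy hyp
  · apply omegaOne_centralizer_characteristic hnorm
    intro x hx
    rw [hE] at hx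
    exact hea.2 x hx

end CaseB

end Cfsg.Agent.Helper63.CSC
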