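import Mathlib
import Cfsg.Prelude.Def_CaseTheorems
import Cfsg.Agent.Helper63.SectRank2
import Cfsg.Agent.Helper63.PGroup
import Cfsg.Agent.Helper63.CycSelfCent

/-!
# 2-groups of sectional rank at most 2 containing `D₈` or `Q₈`, with a normal four-group

`SR2.exists_involution_centralizer_four` : such a group has an involution whose centralizer has order 4.
-/

set_option autoImplicit false

namespace Cfsg.Agent.Helper63.SR2

open Subgroup

/-- the properties common to `D₈` and `Q₈` that we use, for a subgroup `T` with central involution `z`. -/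
structure D8Like {S : Type*} [Group S] (T : Subgroup S) (z : S) : Prop where
  z_ne : z ≠ 1
  z_sq : z ^ 2 = 1
  z_mem : z ∈ T
  z_comm : ∀ t ∈ T, t * z = z * t
  sq : ∀ t ∈ T, t ^ 2 = 1 ∨ t ^ 2 = z
  comm : ∀ t ∈ T, ∀ t' ∈ T, t * t' * t⁻¹ * t'⁻¹ = 1 ∨ t * t' * t⁻¹ * t'⁻¹ = z
  cen : ∀ t ∈ T, (∀ t' ∈ T, t * t' = t' * t) → t = 1 ∨ t = z
  card : Nat.card T = 8

theorem d8Like_of_equiv {S : Type*} [Group S] {Q : Type*} [Group Q] (T : Subgroup S) (e : T ≃* Q) (c : Q)
    (h1 : c ≠ 1) (h2 : c ^ 2 = 1) (h3 : ∀ t : Q, t * c = c * t) (h4 : ∀ t : Q, t ^ 2 = 1 ∨ t ^ 2 = c)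
    (h5 : ∀ t t' : Q, t * t' * t⁻¹ * t'⁻¹ = 1 ∨ t * t' * t⁻¹ * t'⁻¹ = c)
    (h6 : ∀ t : Q, (∀ t' : Q, t * t' = t' * t) → t = 1 ∨ t = c) (h7 : Nat.card Q = 8) :
    D8Like T ((e.symm c : T) : S) := by
  have key : ∀ (a : T) (q : Q), e a = q → (a : S) = ((e.symm q : T) : S) := by
    intro a q h
    rw [← h, e.symm_apply_apply]
  have key1 : ∀ (a : T), e a = 1 → (a : S) = 1 := by
    intro a h
    have := key a 1 h
    rw [map_one] at this
    simpa using this
  refine ⟨?_, ?_, (e.symm c).2, ?_, ?_, ?_, ?_, ?_⟩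
  · intro h
    have : e.symm c = 1 := Subtype.ext h
    rw [← map_one e.symm] at this
    exact h1 (e.symm.injective this)
  · have := key1 ((e.symm c) ^ 2) (by rw [map_pow, e.apply_symm_apply, h2])
    simpa using this
  · intro t ht
    have := congrArg (fun a : T => (a : S)) (congrArg e.symm (h3 (e ⟨t, ht⟩)))
    simpa using this
  · intro t ht
    rcases h4 (e ⟨t, ht⟩) with h | h
    · left
      have := key1 (⟨t, ht⟩ ^ 2) (by rw [map_pow, h])
      simpa using this
    · right
      have := key (⟨t, ht⟩ ^ 2) c (by rw [map_pow, h])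
      simpa using this
  · intro t ht t' ht'
    rcases h5 (e ⟨t, ht⟩) (e ⟨t', ht'⟩) with h | h
    · left
      have := key1 (⟨t, ht⟩ * ⟨t', ht'⟩ * ⟨t, ht⟩⁻¹ * ⟨t', ht'⟩⁻¹)
        (by rw [map_mul, map_mul, map_mul, map_inv, map_inv]; exact h)
      simpa using this
    · right
      have := key (⟨t, ht⟩ * ⟨t', ht'⟩ * ⟨t, ht⟩⁻¹ * ⟨t', ht'⟩⁻¹) c
        (by rw [map_mul, map_mul, map_mul, map_inv, map_inv]; exact h)
      simpa using this
  · intro t ht hcomm
    have hq : ∀ q : Q, e ⟨t, ht⟩ * q = q * e ⟨t, ht⟩ := by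
      intro q
      have h := hcomm (e.symm q : T) (e.symm q).2
      have h' : (⟨t, ht⟩ : T) * e.symm q = e.symm q * ⟨t, ht⟩ := Subtype.ext h
      have := congrArg e h'
      simpa using this
    rcases h6 _ hq with h | h
    · left
      exact key1 ⟨t, ht⟩ h
    · right
      exact key ⟨t, ht⟩ c h
  · rw [Nat.card_congr e.toEquiv, h7]

theorem exists_d8Like {S : Type*} [Group S] (T : Subgroup S)
    (h : Nonempty (T ≃* DihedralGroup 4) ∨ Nonempty (T ≃* QuaternionGroup 2)) : ∃ z : S, D8Like T z := by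
  rcases h with ⟨⟨e⟩⟩ | ⟨⟨e⟩⟩
  · exact ⟨_, d8Like_of_equiv T e (DihedralGroup.r 2) (by decide) (by decide) (by decide) (by decide)
      (by decide) (by decide) (by rw [DihedralGroup.nat_card])⟩
  · refine ⟨_, d8Like_of_equiv T e (QuaternionGroup.a 2) (by decide) (by decide) (by decide) (by decide)
      (by decide) (by decide) ?_⟩
    rw [Nat.card_eq_fintype_card, QuaternionGroup.card]

/-- enumeration of a subgroup of order 4 containing an involution `a` and another nontrivial `b`. -/
theorem four_enum {S : Type*} [Group S] (V : Subgroup S) (hV : Nat.card V = 4) {a b : S}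
    (ha : a ∈ V) (hb : b ∈ V) (ha1 : a ≠ 1) (hb1 : b ≠ 1) (hab : a ≠ b) (ha2 : a ^ 2 = 1) :
    ∀ w ∈ V, w = 1 ∨ w = a ∨ w = b ∨ w = a * b := by
  classical
  intro w hw
  by_contra hcon
  push Not at hcon
  obtain ⟨hw1, hwa, hwb, hwab⟩ := hcon
  have hfinV : Finite V := Nat.finite_of_card_ne_zero (by rw [hV]; norm_num)
  have hfin : (V : Set S).Finite := Set.toFinite _
  have hab1 : a * b ≠ 1 := by
    intro h
    apply hab
    have h1 : b = a⁻¹ := (eq_inv_of_mul_eq_one_right h)
    have h2 : a⁻¹ = a := by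
      rw [inv_eq_iff_mul_eq_one, ← pow_two]; exact ha2
    rw [h1, h2]
  have haba : a * b ≠ a := by
    intro h; exact hb1 (mul_eq_left.1 h)
  have habb : a * b ≠ b := by
    intro h; exact ha1 (mul_eq_right.1 h)
  have h5 : ({1, a, b, a * b, w} : Finset S).card = 5 := by
    rw [Finset.card_insert_of_notMem, Finset.card_insert_of_notMem, Finset.card_insert_of_notMem,
      Finset.card_insert_of_notMem, Finset.card_singleton]
    · simp only [Finset.mem_singleton]; exact fun h => hwab h.symm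
    · simp only [Finset.mem_insert, Finset.mem_singleton, not_or]
      exact ⟨fun h => habb h.symm, fun h => hwb h.symm⟩
    · simp only [Finset.mem_insert, Finset.mem_singleton, not_or]
      exact ⟨hab, fun h => haba h.symm, fun h => hwa h.symm⟩
    · simp only [Finset.mem_insert, Finset.mem_singleton, not_or]
      exact ⟨fun h => ha1 h.symm, fun h => hb1 h.symm, fun h => hab1 h.symm, fun h => hw1 h.symm⟩
  have hsub : (({1, a, b, a * b, w} : Finset S) : Set S) ⊆ (V : Set S) := by
    intro y hy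
    simp only [Finset.coe_insert, Finset.coe_singleton, Set.mem_insert_iff, Set.mem_singleton_iff] at hy
    rcases hy with rfl | rfl | rfl | rfl | rfl
    · exact V.one_mem
    · exact ha
    · exact hb
    · exact V.mul_mem ha hb
    · exact hw
  have hle := Set.ncard_le_ncard hsub hfin
  rw [Set.ncard_coe_finset, h5] at hle
  have : (V : Set S).ncard = 4 := by
    rw [← hV]; exact (Nat.card_coe_set_eq _).symm
  omega

/-- elements of the group generated by an involution. -/
theorem mem_zpowers_of_sq {S : Type*} [Group S] {z : S} (hz : z ^ 2 = 1) :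
    ∀ y ∈ zpowers z, y = 1 ∨ y = z := by
  intro y hy
  obtain ⟨k, rfl⟩ := mem_zpowers_iff.1 hy
  have h2 : z ^ (2 : ℤ) = 1 := by
    have : z ^ (2 : ℤ) = z ^ (2 : ℕ) := by norm_cast
    rw [this, hz]
  rcases Int.even_or_odd' k with ⟨m, rfl | rfl⟩
  · left; rw [zpow_mul, h2, one_zpow]
  · right; rw [zpow_add, zpow_mul, h2, one_zpow, one_mul, zpow_one]

end Cfsg.Agent.Helper63.SR2
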