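import Mathlib
import Cfsg.Prelude.Def_CaseTheorems
import Cfsg.Prelude.Def_OddOrderLocal
import Cfsg.Agent.Helper63.Meta2B
import Cfsg.Agent.Helper63.SectRank2B

/-!
# 2-groups of sectional rank ≤ 2 with derived subgroup of order 2 are metacyclic
-/

set_option autoImplicit false

namespace Cfsg.Agent.Helper63.M2

open Subgroup
open scoped Pointwise

/-- a subgroup containing all commutators is normal. -/
theorem normal_of_comm_mem {G : Type*} [Group G] (X : Subgroup G)
    (h : ∀ a b : G, a * b * a⁻¹ * b⁻¹ ∈ X) : X.Normal := by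
  refine ⟨fun x hx g => ?_⟩
  have : g * x * g⁻¹ = (g * x * g⁻¹ * x⁻¹) * x := by group
  rw [this]
  exact X.mul_mem (h g x) hx

theorem metacyclic_of_derived_two {S : Type*} [Group S] [Finite S] (h2 : IsPGroup 2 S)
    (hr : Cfsg.SectionalPRankLE 2 2 S) (n : S) (hn1 : n ≠ 1) (hn2 : n ^ 2 = 1)
    (hnc : ∀ g : S, g * n = n * g) (hcomm : ∀ a b : S, a * b * a⁻¹ * b⁻¹ ∈ zpowers n)
    (hnab : ¬ ∀ a b : S, a * b = b * a) : Cfsg.IsMetacyclic S := by
  have : Fact (Nat.Prime 2) := ⟨Nat.prime_two⟩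
  have hNp := SR2.mem_zpowers_of_sq hn2
  have hNn : (zpowers n).Normal := normal_of_comm_mem _ hcomm
  -- the quotient
  have hQc : ∀ q r : S ⧸ zpowers n, q * r = r * q := by
    intro q r
    obtain ⟨a, rfl⟩ := QuotientGroup.mk_surjective q
    obtain ⟨b, rfl⟩ := QuotientGroup.mk_surjective r
    rw [← QuotientGroup.mk_mul, ← QuotientGroup.mk_mul, QuotientGroup.eq]
    have := hcomm b⁻¹ a⁻¹
    have e : (a * b)⁻¹ * (b * a) = b⁻¹ * a⁻¹ * b⁻¹⁻¹ * a⁻¹⁻¹ := by group
    rw [e]; exact this
  have hQ2 : IsPGroup 2 (S ⧸ zpowers n) := h2.to_quotient _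
  have hQr : Cfsg.SectionalPRankLE 2 2 (S ⧸ zpowers n) :=
    sectionalPRankLE_of_surjective (QuotientGroup.mk' (zpowers n)) (QuotientGroup.mk'_surjective _) hr
  obtain ⟨ub, vb, hinf, hsup⟩ := exists_two_gens hQ2 hQc hQr
  obtain ⟨u, rfl⟩ := QuotientGroup.mk_surjective ub
  obtain ⟨v, rfl⟩ := QuotientGroup.mk_surjective vb
  -- generation
  have hgen : closure ({u, v, n} : Set S) = ⊤ := by
    rw [eq_top_iff]
    intro s _
    have hs : (s : S ⧸ zpowers n) ∈ zpowers (u : S ⧸ zpowers n) ⊔ zpowers (v : S ⧸ zpowers n) := by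
      rw [hsup]; exact mem_top _
    have hun : (zpowers (u : S ⧸ zpowers n)).Normal := ⟨fun x hx g => by
      have : g * x * g⁻¹ = x := by rw [hQc g x, mul_inv_cancel_right]
      rw [this]; exact hx⟩
    have hset : (s : S ⧸ zpowers n) ∈
        ((zpowers (u : S ⧸ zpowers n) : Set (S ⧸ zpowers n)) * (zpowers (v : S ⧸ zpowers n) : Set (S ⧸ zpowers n))) := by
      rw [← normal_mul]; exact hs
    obtain ⟨a, ha, b, hb, hab⟩ := Set.mem_mul.1 hset
    obtain ⟨i, rfl⟩ := mem_zpowers_iff.1 ha
    obtain ⟨j, rfl⟩ := mem_zpowers_iff.1 hb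
    have h1 : ((u ^ i * v ^ j : S) : S ⧸ zpowers n) = (s : S ⧸ zpowers n) := by
      rw [QuotientGroup.mk_mul, QuotientGroup.mk_zpow, QuotientGroup.mk_zpow]; exact hab
    rw [QuotientGroup.eq] at h1
    have hu : u ∈ closure ({u, v, n} : Set S) := Subgroup.subset_closure (by simp)
    have hv : v ∈ closure ({u, v, n} : Set S) := Subgroup.subset_closure (by simp)
    have hn : n ∈ closure ({u, v, n} : Set S) := Subgroup.subset_closure (by simp)
    have h2' : (u ^ i * v ^ j)⁻¹ * s ∈ closure ({u, v, n} : Set S) := (zpowers_le.2 hn) h1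
    have h3 : s = (u ^ i * v ^ j) * ((u ^ i * v ^ j)⁻¹ * s) := by group
    rw [h3]
    exact mul_mem (mul_mem (zpow_mem hu i) (zpow_mem hv j)) h2'
  -- `u` and `v` do not commute
  have huv : u * v ≠ v * u := by
    intro h
    apply hnab
    have hbot : (⊥ : Subgroup S).Normal := inferInstance
    have := comm_mem_of_gens (⊥ : Subgroup S) ({u, v, n} : Set S) hgen (by
      intro x hx y hy
      rw [mem_bot]
      have key : x * y = y * x := by
        simp only [Set.mem_insert_iff, Set.mem_singleton_iff] at hx hy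
        rcases hx with rfl | rfl | rfl <;> rcases hy with rfl | rfl | rfl
        · rfl
        · exact h
        · exact hnc _
        · exact h.symm
        · rfl
        · exact hnc _
        · exact (hnc _).symm
        · exact (hnc _).symm
        · rfl
      rw [key]; group)
    intro a b
    have h1 := mem_bot.1 (this a b)
    have h3 := mul_inv_eq_one.1 h1
    rw [mul_inv_eq_iff_eq_mul] at h3
    exact h3
  have hc : u * v * u⁻¹ * v⁻¹ = n := by
    rcases hNp _ (hcomm u v) with h | h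
    · exfalso
      apply huv
      have h3 := mul_inv_eq_one.1 h
      rw [mul_inv_eq_iff_eq_mul] at h3
      exact h3
    · exact h
  have huv' : u * v = n * (v * u) := by
    rw [← hc]; group
  -- independence
  have hind : ∀ a ∈ zpowers u, ∀ b ∈ zpowers v, a * b ∈ zpowers n → a ∈ zpowers n := by
    intro a ha b hb hab
    obtain ⟨i, rfl⟩ := mem_zpowers_iff.1 ha
    obtain ⟨j, rfl⟩ := mem_zpowers_iff.1 hb
    have h1 : ((u ^ i : S) : S ⧸ zpowers n) ∈ zpowers (u : S ⧸ zpowers n) ⊓ zpowers (v : S ⧸ zpowers n) := by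
      refine ⟨?_, ?_⟩
      · rw [QuotientGroup.mk_zpow]; exact zpow_mem (mem_zpowers _) i
      · have h3 : ((u ^ i : S) : S ⧸ zpowers n) = ((v ^ j : S) : S ⧸ zpowers n)⁻¹ := by
          rw [eq_inv_iff_mul_eq_one, ← QuotientGroup.mk_mul]
          exact (QuotientGroup.eq_one_iff _).2 hab
        rw [h3, QuotientGroup.mk_zpow]
        exact (zpowers (v : S ⧸ zpowers n)).inv_mem (zpow_mem (mem_zpowers _) j)
    rw [hinf, mem_bot] at h1
    exact (QuotientGroup.eq_one_iff _).1 h1
  -- a cyclic subgroup containing `n` is normal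
  have hnormal : ∀ w : S, n ∈ zpowers w → (zpowers w).Normal := fun w hw =>
    normal_of_comm_mem _ (fun a b => (zpowers_le.2 hw) (hcomm a b))
  have hmeta : ∀ w t : S, n ∈ zpowers w → u ∈ zpowers w ⊔ zpowers t → v ∈ zpowers w ⊔ zpowers t →
      Cfsg.IsMetacyclic S := by
    intro w t hw hu hv
    have hN := hnormal w hw
    have hsup' : zpowers w ⊔ zpowers t = ⊤ := by
      rw [eq_top_iff, ← hgen, closure_le]
      intro x hx
      simp only [Set.mem_insert_iff, Set.mem_singleton_iff] at hx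
      rcases hx with rfl | rfl | rfl
      · exact hu
      · exact hv
      · exact (le_sup_left : zpowers w ≤ zpowers w ⊔ zpowers t) hw
    exact ⟨zpowers w, hN, inferInstance, isCyclic_quotient_of_sup (zpowers w) t hsup'⟩
  by_cases h1 : n ∈ zpowers u
  · exact hmeta u v h1 ((le_sup_left : zpowers u ≤ _) (mem_zpowers u))
      ((le_sup_right : zpowers v ≤ zpowers u ⊔ zpowers v) (mem_zpowers v))
  by_cases h2' : n ∈ zpowers v
  · exact hmeta v u h2' ((le_sup_right : zpowers u ≤ zpowers v ⊔ zpowers u) (mem_zpowers u))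
      ((le_sup_left : zpowers v ≤ _) (mem_zpowers v))
  -- squares are central
  have hsqc : ∀ s t : S, s ^ 2 * t = t * s ^ 2 := by
    intro s t
    have hc1 := hcomm s t
    have hst : s * t = (s * t * s⁻¹ * t⁻¹) * (t * s) := by group
    have hcc : (s * t * s⁻¹ * t⁻¹) * (s * t * s⁻¹ * t⁻¹) = 1 := by
      rcases hNp _ hc1 with h | h
      · rw [h]; simp
      · rw [h, ← pow_two, hn2]
    have hccen : ∀ g : S, g * (s * t * s⁻¹ * t⁻¹) = (s * t * s⁻¹ * t⁻¹) * g := by
      rcases hNp _ hc1 with h | h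
      · rw [h]; simp
      · rw [h]; exact hnc
    generalize s * t * s⁻¹ * t⁻¹ = c at hst hcc hccen
    calc s ^ 2 * t = s * (s * t) := by rw [pow_two, mul_assoc]
      _ = s * (c * (t * s)) := by rw [hst]
      _ = c * (s * t) * s := by rw [← mul_assoc s c, hccen s]; group
      _ = c * (c * (t * s)) * s := by rw [hst]
      _ = (c * c) * t * s * s := by group
      _ = t * s ^ 2 := by rw [hcc, one_mul, pow_two, mul_assoc]
  obtain ⟨α, hα⟩ := (IsPGroup.iff_orderOf.1 h2) u
  obtain ⟨β, hβ⟩ := (IsPGroup.iff_orderOf.1 h2) v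
  have hu1 : u ≠ 1 := by
    rintro rfl; exact huv (by simp)
  have hv1 : v ≠ 1 := by
    rintro rfl; exact huv (by simp)
  have hα1 : 1 ≤ α := by
    by_contra h
    have : α = 0 := by omega
    rw [this, pow_zero, orderOf_eq_one_iff] at hα
    exact hu1 hα
  have hβ1 : 1 ≤ β := by
    by_contra h
    have : β = 0 := by omega
    rw [this, pow_zero, orderOf_eq_one_iff] at hβ
    exact hv1 hβ
  have hxo := Cfsg.Agent.Helper73.orderOf_pow_pred hα hα1
  have hyo := Cfsg.Agent.Helper73.orderOf_pow_pred hβ hβ1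
  have hx2 : (u ^ 2 ^ (α - 1)) ^ 2 = 1 := by
    have := pow_orderOf_eq_one (u ^ 2 ^ (α - 1))
    rwa [hxo] at this
  have hy2 : (v ^ 2 ^ (β - 1)) ^ 2 = 1 := by
    have := pow_orderOf_eq_one (v ^ 2 ^ (β - 1))
    rwa [hyo] at this
  have hx1 : u ^ 2 ^ (α - 1) ≠ 1 := by
    intro h; rw [h, orderOf_one] at hxo; omega
  have hy1 : v ^ 2 ^ (β - 1) ≠ 1 := by
    intro h; rw [h, orderOf_one] at hyo; omega
  have hxm : u ^ 2 ^ (α - 1) ∈ zpowers u := pow_mem (mem_zpowers u) _
  have hym : v ^ 2 ^ (β - 1) ∈ zpowers v := pow_mem (mem_zpowers v) _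
  have hxN : u ^ 2 ^ (α - 1) ∉ zpowers n := by
    intro h
    rcases hNp _ h with h' | h'
    · exact hx1 h'
    · exact h1 (h' ▸ hxm)
  have hyN : v ^ 2 ^ (β - 1) ∉ zpowers n := by
    intro h
    rcases hNp _ h with h' | h'
    · exact hy1 h'
    · exact h2' (h' ▸ hym)
  by_cases hαβ : α = 1 ∧ β = 1
  · obtain ⟨rfl, rfl⟩ := hαβ
    have hu2 : u ^ 2 = 1 := by simpa using hx2
    have hv2 : v ^ 2 = 1 := by simpa using hy2
    have hw2 : (u * v) ^ 2 = n := by
      calc (u * v) ^ 2 = (u * v) * (u * v) := pow_two _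
        _ = n * (v * u) * (u * v) := by rw [huv']
        _ = n * (v * u ^ 2 * v) := by rw [pow_two]; group
        _ = n * v ^ 2 := by rw [hu2, mul_one, pow_two]
        _ = n := by rw [hv2, mul_one]
    have hw : n ∈ zpowers (u * v) := by
      rw [← hw2]; exact pow_mem (mem_zpowers _) 2
    refine hmeta (u * v) v hw ?_ ((le_sup_right : zpowers v ≤ zpowers (u * v) ⊔ zpowers v) (mem_zpowers v))
    have hu' : (u * v) * v⁻¹ ∈ zpowers (u * v) ⊔ zpowers v :=
      mul_mem ((le_sup_left : zpowers (u * v) ≤ zpowers (u * v) ⊔ zpowers v) (mem_zpowers _))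
        (inv_mem ((le_sup_right : zpowers v ≤ zpowers (u * v) ⊔ zpowers v) (mem_zpowers v)))
    rwa [mul_inv_cancel_right] at hu'
  · exfalso
    have hxy : u ^ 2 ^ (α - 1) * v ^ 2 ^ (β - 1) = v ^ 2 ^ (β - 1) * u ^ 2 ^ (α - 1) := by
      by_cases hα2 : 2 ≤ α
      · have e : u ^ 2 ^ (α - 1) = (u ^ 2 ^ (α - 2)) ^ 2 := by
          rw [← pow_mul, ← pow_succ]
          congr 2; omega
        rw [e]; exact hsqc _ _
      · have hβ2 : 2 ≤ β := by
          by_contra h
          exact hαβ ⟨by omega, by omega⟩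
        have e : v ^ 2 ^ (β - 1) = (v ^ 2 ^ (β - 2)) ^ 2 := by
          rw [← pow_mul, ← pow_succ]
          congr 2; omega
        rw [e]; exact (hsqc _ _).symm
    have hcard := SR2.card_closure_le_four hr
      ({u ^ 2 ^ (α - 1), v ^ 2 ^ (β - 1), n} : Set S) (by
        intro a ha
        simp only [Set.mem_insert_iff, Set.mem_singleton_iff] at ha
        rcases ha with rfl | rfl | rfl
        · exact hx2
        · exact hy2
        · exact hn2) (by
        intro a ha b hb
        simp only [Set.mem_insert_iff, Set.mem_singleton_iff] at ha hb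
        rcases ha with rfl | rfl | rfl <;> rcases hb with rfl | rfl | rfl
        · rfl
        · exact hxy
        · exact hnc _
        · exact hxy.symm
        · rfl
        · exact hnc _
        · exact (hnc _).symm
        · exact (hnc _).symm
        · rfl)
    have hsub : ∀ a ∈ ({u ^ 2 ^ (α - 1), v ^ 2 ^ (β - 1), n} : Set S),
        a ∈ closure ({u ^ 2 ^ (α - 1), v ^ 2 ^ (β - 1), n} : Set S) :=
      fun a ha => Subgroup.subset_closure ha
    have hxK := hsub (u ^ 2 ^ (α - 1)) (by simp)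
    have hyK := hsub (v ^ 2 ^ (β - 1)) (by simp)
    have hnK := hsub n (by simp)
    have h5 := five_le_card (closure ({u ^ 2 ^ (α - 1), v ^ 2 ^ (β - 1), n} : Set S))
      (a := 1) (b := n) (c := u ^ 2 ^ (α - 1)) (d := v ^ 2 ^ (β - 1))
      (e := u ^ 2 ^ (α - 1) * v ^ 2 ^ (β - 1))
      (one_mem _) hnK hxK hyK (mul_mem hxK hyK)
      (Ne.symm hn1) (Ne.symm hx1) (Ne.symm hy1)
      (by
        intro h
        exact hxN (hind _ hxm _ hym (h ▸ one_mem _)))
      (by
        intro h
        exact hxN (h ▸ mem_zpowers n))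
      (by
        intro h
        exact hyN (h ▸ mem_zpowers n))
      (by
        intro h
        exact hxN (hind _ hxm _ hym (h ▸ mem_zpowers n)))
      (by
        intro h
        apply hxN
        apply hind _ hxm (v ^ 2 ^ (β - 1))⁻¹ (inv_mem hym)
        rw [h, mul_inv_cancel]; exact one_mem _)
      (by
        intro h
        exact hy1 (mul_eq_left.1 h.symm))
      (by
        intro h
        exact hx1 (mul_eq_right.1 h.symm))
    omega

end Cfsg.Agent.Helper63.M2
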