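import Mathlib
import Cfsg.Prelude.Def_CaseTheorems
import Cfsg.Prelude.Def_OddOrderLocal
import Cfsg.Agent.Helper63.Meta2C

/-!
# Blackburn's reduction step for the metacyclic theorem
-/

set_option autoImplicit false

namespace Cfsg.Agent.Helper63.M2

open Subgroup
open scoped commutatorElement

/-- pulling a metacyclic structure of `S ⧸ N` back to `S`. -/
theorem pullback_metacyclic {S : Type*} [Group S] (N : Subgroup S) [N.Normal]
    (hm : Cfsg.IsMetacyclic (S ⧸ N)) :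
    ∃ (L : Subgroup S) (_ : L.Normal) (l : S), N ≤ L ∧ l ∈ L ∧ IsCyclic (S ⧸ L) ∧
      ∀ x ∈ L, ∃ k : ℤ, (l ^ k)⁻¹ * x ∈ N := by
  obtain ⟨Lb, hLbn, hLbc, hLbq⟩ := hm
  let ψ : S →* (S ⧸ N) ⧸ Lb := (QuotientGroup.mk' Lb).comp (QuotientGroup.mk' N)
  have hψ : Function.Surjective ψ :=
    (QuotientGroup.mk'_surjective Lb).comp (QuotientGroup.mk'_surjective N)
  have hmem : ∀ x : S, x ∈ ψ.ker ↔ (x : S ⧸ N) ∈ Lb := by
    intro x
    rw [MonoidHom.mem_ker]
    show ((x : S ⧸ N) : (S ⧸ N) ⧸ Lb) = 1 ↔ _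
    exact QuotientGroup.eq_one_iff _
  have e := QuotientGroup.quotientKerEquivOfSurjective ψ hψ
  have hcyc : IsCyclic (S ⧸ ψ.ker) := isCyclic_of_surjective e.symm e.symm.surjective
  obtain ⟨lb, hlb⟩ := hLbc.exists_generator
  obtain ⟨l, hl⟩ := QuotientGroup.mk_surjective (lb : S ⧸ N)
  refine ⟨ψ.ker, inferInstance, l, ?_, ?_, hcyc, ?_⟩
  · intro x hx
    rw [hmem, (QuotientGroup.eq_one_iff x).2 hx]
    exact one_mem _
  · rw [hmem, hl]; exact lb.2
  · intro x hx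
    rw [hmem] at hx
    obtain ⟨k, hk⟩ := mem_zpowers_iff.1 (hlb ⟨(x : S ⧸ N), hx⟩)
    refine ⟨k, ?_⟩
    have h1 := congrArg Subtype.val hk
    rw [Subgroup.coe_zpow, ← hl, ← QuotientGroup.mk_zpow] at h1
    exact QuotientGroup.eq.1 h1

/-- Blackburn's step: if `S ⧸ ⟨n⟩` is metacyclic via `L = ⟨l⟩⟨n⟩` with `n ∉ ⟨l⟩` a central involution of `S'`,
then `S' = ⟨n⟩`. -/
theorem blackburn_step {S : Type*} [Group S] [Finite S] (hS2 : IsPGroup 2 S) (n : S)
    (hn2 : n ^ 2 = 1) (hnc : ∀ g : S, g * n = n * g) (hnS : n ∈ commutator S)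
    (L : Subgroup S) [hLn : L.Normal] (l : S) (hlL : l ∈ L)
    (hL : ∀ x ∈ L, ∃ k : ℤ, (l ^ k)⁻¹ * x ∈ zpowers n) (hcyc : IsCyclic (S ⧸ L))
    (hnl : n ∉ zpowers l) : ∀ a b : S, a * b * a⁻¹ * b⁻¹ ∈ zpowers n := by
  have hNp := SR2.mem_zpowers_of_sq hn2
  have hNc : ∀ ν ∈ zpowers n, ∀ g : S, Commute ν g := by
    intro ν hν g
    rcases hNp ν hν with rfl | rfl
    · exact Commute.one_left g
    · exact (hnc g).symm
  have hNsq : ∀ ν ∈ zpowers n, ν ^ 2 = 1 := by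
    intro ν hν
    rcases hNp ν hν with rfl | rfl
    · exact one_pow 2
    · exact hn2
  have hrep : ∀ x ∈ L, ∃ k : ℤ, ∃ ν ∈ zpowers n, x = l ^ k * ν := by
    intro x hx
    obtain ⟨k, hk⟩ := hL x hx
    exact ⟨k, _, hk, by group⟩
  have hLab : ∀ x ∈ L, ∀ y ∈ L, Commute x y := by
    intro x hx y hy
    obtain ⟨k, ν, hν, rfl⟩ := hrep x hx
    obtain ⟨m, μ, hμ, rfl⟩ := hrep y hy
    have hkm : Commute (l ^ k) (l ^ m) := (Commute.refl l).zpow_zpow k m
    exact ((hkm.mul_right (hNc μ hμ _).symm)).mul_left ((hNc ν hν _).mul_right (hNc ν hν _))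
  obtain ⟨gb, hgb⟩ := hcyc.exists_generator
  obtain ⟨g, rfl⟩ := QuotientGroup.mk_surjective gb
  have hlK : l ∈ closure ({l, n, g} : Set S) := Subgroup.subset_closure (by simp)
  have hnK : n ∈ closure ({l, n, g} : Set S) := Subgroup.subset_closure (by simp)
  have hgK : g ∈ closure ({l, n, g} : Set S) := Subgroup.subset_closure (by simp)
  have hgen : closure ({l, n, g} : Set S) = ⊤ := by
    rw [eq_top_iff]
    intro s _
    obtain ⟨j, hj⟩ := mem_zpowers_iff.1 (hgb (s : S ⧸ L))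
    rw [← QuotientGroup.mk_zpow, QuotientGroup.eq] at hj
    obtain ⟨k, ν, hν, hx⟩ := hrep _ hj
    have : s = g ^ j * (l ^ k * ν) := by rw [← hx]; group
    rw [this]
    exact mul_mem (zpow_mem hgK j) (mul_mem (zpow_mem hlK k) ((zpowers_le.2 hnK) hν))
  -- the conjugate of `l`
  have haL : g * l * g⁻¹ ∈ L := hLn.conj_mem l hlL g
  obtain ⟨i, ν, hν, ha⟩ := hrep _ haL
  obtain ⟨a, ha_def⟩ : ∃ a : S, a = g * l * g⁻¹ := ⟨_, rfl⟩
  rw [← ha_def] at ha haL
  obtain ⟨c, hc_def⟩ : ∃ c : S, c = a * l⁻¹ := ⟨_, rfl⟩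
  have hal : Commute a l := hLab a haL l hlL
  have hcL : c ∈ L := by rw [hc_def]; exact L.mul_mem haL (L.inv_mem hlL)
  have hcl : l * c * l⁻¹ = c := by
    have := (hLab l hlL c hcL).eq
    rw [this, mul_inv_cancel_right]
  have hcn : n * c * n⁻¹ = c := by
    rw [← hnc c, mul_inv_cancel_right]
  have hgc : g * c * g⁻¹ = c ^ i := by
    have h1 : g * c * g⁻¹ = (g * a * g⁻¹) * a⁻¹ := by rw [hc_def, ha_def]; group
    have h2 : g * a * g⁻¹ = a ^ i * ν := by
      have e1 : g * (l ^ i * ν) * g⁻¹ = (g * l ^ i * g⁻¹) * (g * ν * g⁻¹) := by group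
      have e2 : g * ν * g⁻¹ = ν := by
        rw [← (hNc ν hν g).eq, mul_inv_cancel_right]
      rw [ha, e1, e2, ← conj_zpow, ← ha_def, ← ha]
    have h3 : c ^ i = a ^ i * (l ^ i)⁻¹ := by
      rw [hc_def, (hal.inv_right).mul_zpow, inv_zpow]
    have h4 : (l ^ i)⁻¹ = ν * a⁻¹ := by rw [ha]; group
    rw [h1, h2, h3, h4, mul_assoc]
  have hcN : (zpowers c).Normal := zpowers_normal_of_gens c {l, n, g} hgen (by
    intro x hx
    simp only [Set.mem_insert_iff, Set.mem_singleton_iff] at hx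
    rcases hx with rfl | rfl | rfl
    · rw [hcl]; exact mem_zpowers c
    · rw [hcn]; exact mem_zpowers c
    · rw [hgc]; exact zpow_mem (mem_zpowers c) i)
  have hgl : g * l * g⁻¹ * l⁻¹ = c := by rw [hc_def, ha_def]
  have hlg : l * g * l⁻¹ * g⁻¹ = c⁻¹ := by rw [← hgl]; group
  have hpairs : ∀ K : Subgroup S, c ∈ K → ∀ x ∈ ({l, n, g} : Set S), ∀ y ∈ ({l, n, g} : Set S),
      x * y * x⁻¹ * y⁻¹ ∈ K := by
    intro K hcK x hx y hy
    simp only [Set.mem_insert_iff, Set.mem_singleton_iff] at hx hy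
    have h1 : ∀ w : S, w * n * w⁻¹ * n⁻¹ = 1 := fun w => by rw [hnc w, mul_inv_cancel_right, mul_inv_cancel]
    have h1' : ∀ w : S, n * w * n⁻¹ * w⁻¹ = 1 := fun w => by rw [← hnc w, mul_inv_cancel_right, mul_inv_cancel]
    have h0 : ∀ w : S, w * w * w⁻¹ * w⁻¹ = 1 := fun w => by group
    rcases hx with rfl | rfl | rfl <;> rcases hy with rfl | rfl | rfl
    · rw [h0]; exact one_mem _
    · rw [h1]; exact one_mem _
    · rw [hlg]; exact K.inv_mem hcK
    · rw [h1']; exact one_mem _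
    · rw [h0]; exact one_mem _
    · rw [h1']; exact one_mem _
    · rw [hgl]; exact hcK
    · rw [h1]; exact one_mem _
    · rw [h0]; exact one_mem _
  have hcomm_c := comm_mem_of_gens (zpowers c) {l, n, g} hgen (hpairs _ (mem_zpowers c))
  have hnc' : n ∈ zpowers c := by
    have hle : commutator S ≤ zpowers c := by
      rw [commutator_def, Subgroup.commutator_le]
      intro x _ y _
      rw [commutatorElement_def]
      exact hcomm_c x y
    exact hle hnS
  have hc2 : c ^ 2 ∈ zpowers l := by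
    have e1 : c = (l ^ i * l⁻¹) * ν := by
      rw [hc_def, ha, mul_assoc, (hNc ν hν l⁻¹).eq, ← mul_assoc]
    have e2 : c ^ 2 = (l ^ i * l⁻¹) ^ 2 * ν ^ 2 := by
      rw [e1, (hNc ν hν _).symm.mul_pow]
    rw [e2, hNsq ν hν, mul_one]
    exact pow_mem (mul_mem (zpow_mem (mem_zpowers l) i) (inv_mem (mem_zpowers l))) 2
  have hz2 : ∀ w : S, w ^ (2 : ℤ) = w ^ (2 : ℕ) := fun w => by norm_cast
  have hcn' : c = n := by
    obtain ⟨k, hk⟩ := mem_zpowers_iff.1 hnc'
    rcases Int.even_or_odd' k with ⟨m, rfl | rfl⟩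
    · exfalso
      apply hnl
      rw [← hk, zpow_mul, hz2]
      exact zpow_mem hc2 m
    · have h1 : c ^ (2 * (2 * m + 1)) = 1 := by
        rw [zpow_mul', hk, hz2, hn2]
      have h2 : (orderOf c : ℤ) ∣ 2 * (2 * m + 1) := orderOf_dvd_iff_zpow_eq_one.2 h1
      obtain ⟨t, ht⟩ := (IsPGroup.iff_orderOf.1 hS2) c
      have ht1 : t ≤ 1 := by
        by_contra hlt
        have h4 : (4 : ℤ) ∣ 2 * (2 * m + 1) := by
          refine dvd_trans ?_ h2
          rw [ht]
          push_cast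
          have : (4 : ℤ) = 2 ^ 2 := by norm_num
          rw [this]
          exact pow_dvd_pow 2 (by omega)
        omega
      have hcsq : c ^ 2 = 1 := by
        rw [← orderOf_dvd_iff_pow_eq_one, ht]
        have := pow_dvd_pow 2 ht1
        simpa using this
      rw [← hk, zpow_add, zpow_mul, hz2, hcsq, one_zpow, one_mul, zpow_one]
  have hNn : (zpowers n).Normal := ⟨fun y hy w => by
    have : w * y * w⁻¹ = y := by rw [← (hNc y hy w).eq, mul_inv_cancel_right]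
    rw [this]; exact hy⟩
  exact comm_mem_of_gens (zpowers n) {l, n, g} hgen (hpairs _ (hcn' ▸ mem_zpowers n))

end Cfsg.Agent.Helper63.M2
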