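import Mathlib
import Cfsg.Prelude.Def_OddOrderLocal
import Cfsg.Agent.Helper73.PGroupCyclic

/-!
# Minimal non-metacyclic `p`-groups, part 1: abelian groups and groups of exponent `p`
-/

set_option autoImplicit false

namespace Cfsg.Agent.Helper63.MNM

open Subgroup

/-- a metacyclic group of exponent `p` has order at most `p ^ 2`. -/
theorem card_le_sq_of_exponent {G : Type*} [Group G] [Finite G] {p : ℕ} [hp : Fact p.Prime]
    (hmc : Cfsg.IsMetacyclic G) (hexp : ∀ x : G, x ^ p = 1) : Nat.card G ≤ p ^ 2 := by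
  obtain ⟨N, hN, hcN, hcQ⟩ := hmc
  have h1 : Nat.card N ≤ p := by
    obtain ⟨g, hg⟩ := hcN.exists_generator
    have hcard : Nat.card N = orderOf g := by
      rw [← Nat.card_zpowers]
      have : zpowers g = ⊤ := eq_top_iff.2 fun x _ => hg x
      rw [this, card_top]
    rw [hcard]
    apply Nat.le_of_dvd hp.out.pos
    rw [orderOf_dvd_iff_pow_eq_one]
    exact Subtype.ext (by simpa using hexp (g : G))
  have h2 : Nat.card (G ⧸ N) ≤ p := by
    obtain ⟨g, hg⟩ := hcQ.exists_generator
    have hcard : Nat.card (G ⧸ N) = orderOf g := by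
      rw [← Nat.card_zpowers]
      have : zpowers g = ⊤ := eq_top_iff.2 fun x _ => hg x
      rw [this, card_top]
    rw [hcard]
    apply Nat.le_of_dvd hp.out.pos
    rw [orderOf_dvd_iff_pow_eq_one]
    obtain ⟨x, rfl⟩ := QuotientGroup.mk_surjective g
    rw [← QuotientGroup.mk_pow, hexp, QuotientGroup.mk_one]
  rw [Subgroup.card_eq_card_quotient_mul_card_subgroup N, sq]
  exact Nat.mul_le_mul h2 h1

/-- a finite abelian `p`-group with at most `p ^ 2` solutions of `x ^ p = 1` is metacyclic. -/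
theorem isMetacyclic_of_comm {G : Type*} [Group G] [Finite G] {p : ℕ} [hp : Fact p.Prime]
    (hG : IsPGroup p G) (hc : ∀ a b : G, a * b = b * a) (Ω : Subgroup G)
    (hΩ : ∀ x : G, x ^ p = 1 → x ∈ Ω) (hcard : Nat.card Ω ≤ p ^ 2) : Cfsg.IsMetacyclic G := by
  obtain ⟨a, hamax⟩ := Finite.exists_max (fun g : G => orderOf g)
  obtain ⟨m, hm⟩ := (IsPGroup.iff_orderOf.1 hG) a
  have hexp : ∀ x : G, x ^ (p ^ m) = 1 := by
    intro x
    obtain ⟨k, hk⟩ := (IsPGroup.iff_orderOf.1 hG) x
    have hle : p ^ k ≤ p ^ m := by rw [← hk, ← hm]; exact hamax x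
    have hkm : k ≤ m := (Nat.pow_le_pow_iff_right hp.out.one_lt).1 hle
    rw [← orderOf_dvd_iff_pow_eq_one, hk]
    exact pow_dvd_pow p hkm
  have hNn : (zpowers a).Normal :=
    ⟨fun n hn g => by rw [hc g n, mul_inv_cancel_right]; exact hn⟩
  refine ⟨zpowers a, hNn, inferInstance, ?_⟩
  by_cases hm0 : m = 0
  · have : Subsingleton G := by
      refine ⟨fun x y => ?_⟩
      have hx := hexp x
      have hy := hexp y
      rw [hm0, pow_zero, pow_one] at hx hy
      rw [hx, hy]
    infer_instance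
  have hm1 : 1 ≤ m := Nat.one_le_iff_ne_zero.2 hm0
  have hQ : IsPGroup p (G ⧸ zpowers a) := hG.to_quotient _
  apply Cfsg.Agent.Helper73.isCyclic_of_comm_of_uniqueOrderP hQ
  · intro x y
    obtain ⟨x, rfl⟩ := QuotientGroup.mk_surjective x
    obtain ⟨y, rfl⟩ := QuotientGroup.mk_surjective y
    rw [← QuotientGroup.mk_mul, ← QuotientGroup.mk_mul, hc]
  · intro X Y hX hY
    have lift : ∀ Z : G ⧸ zpowers a, orderOf Z = p →
        ∃ u : G, u ^ p = 1 ∧ u ∉ zpowers a ∧ (u : G ⧸ zpowers a) = Z := by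
      intro Z hZ
      obtain ⟨x, rfl⟩ := QuotientGroup.mk_surjective Z
      have h1 : ((x : G ⧸ zpowers a)) ^ p = 1 := by rw [← hZ]; exact pow_orderOf_eq_one _
      rw [← QuotientGroup.mk_pow, QuotientGroup.eq_one_iff] at h1
      obtain ⟨k, hk⟩ := mem_zpowers_iff.1 h1
      have h2 : a ^ (k * (p ^ (m - 1) : ℕ)) = 1 := by
        rw [zpow_mul, hk, zpow_natCast, ← pow_mul, ← pow_succ', Nat.sub_add_cancel hm1]
        exact hexp x
      have h3 : ((orderOf a : ℕ) : ℤ) ∣ k * (p ^ (m - 1) : ℕ) := orderOf_dvd_iff_zpow_eq_one.2 h2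
      have h4 : (p : ℤ) ∣ k := by
        rw [hm] at h3
        have e : ((p ^ m : ℕ) : ℤ) = (p : ℤ) * ((p ^ (m - 1) : ℕ) : ℤ) := by
          rw [← Nat.cast_mul, ← pow_succ', Nat.sub_add_cancel hm1]
        rw [e] at h3
        have hne : ((p ^ (m - 1) : ℕ) : ℤ) ≠ 0 := by
          exact_mod_cast (pow_pos hp.out.pos _).ne'
        exact Int.dvd_of_mul_dvd_mul_right hne h3
      obtain ⟨k', rfl⟩ := h4
      refine ⟨x * (a ^ k')⁻¹, ?_, ?_, ?_⟩
      · have hcomm : Commute x (a ^ k')⁻¹ := hc _ _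
        rw [hcomm.mul_pow, ← hk, inv_pow, ← zpow_natCast (a ^ k') p, ← zpow_mul, mul_comm k' (p : ℤ),
          mul_inv_cancel]
      · intro hmem
        have hx : x ∈ zpowers a := by
          have := (zpowers a).mul_mem hmem (zpow_mem (mem_zpowers a) k')
          simpa using this
        have : ((x : G ⧸ zpowers a)) = 1 := (QuotientGroup.eq_one_iff x).2 hx
        rw [this, orderOf_one] at hZ
        exact hp.out.one_lt.ne hZ
      · rw [QuotientGroup.eq]
        have : (x * (a ^ k')⁻¹)⁻¹ * x = a ^ k' := by group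
        rw [this]
        exact zpow_mem (mem_zpowers a) k'
    obtain ⟨u, hup, huN, rfl⟩ := lift X hX
    obtain ⟨v, hvp, hvN, rfl⟩ := lift Y hY
    have hz : orderOf (a ^ (p ^ (m - 1))) = p := Cfsg.Agent.Helper73.orderOf_pow_pred hm hm1
    have hzp : (a ^ (p ^ (m - 1))) ^ p = 1 := by
      have := pow_orderOf_eq_one (a ^ (p ^ (m - 1)))
      rwa [hz] at this
    have hza : a ^ (p ^ (m - 1)) ∈ zpowers a := pow_mem (mem_zpowers a) _
    have hHΩ : closure ({a ^ (p ^ (m - 1)), u} : Set G) ≤ Ω := by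
      rw [closure_le]
      intro w hw
      simp only [Set.mem_insert_iff, Set.mem_singleton_iff] at hw
      rcases hw with rfl | rfl
      · exact hΩ _ hzp
      · exact hΩ _ hup
    have hzH : zpowers (a ^ (p ^ (m - 1))) ≤ closure ({a ^ (p ^ (m - 1)), u} : Set G) := by
      rw [zpowers_le]; exact Subgroup.subset_closure (by simp)
    have huH : u ∈ closure ({a ^ (p ^ (m - 1)), u} : Set G) := Subgroup.subset_closure (by simp)
    have hlt : zpowers (a ^ (p ^ (m - 1))) < closure ({a ^ (p ^ (m - 1)), u} : Set G) := by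
      refine lt_of_le_of_ne hzH fun h => huN ?_
      have : u ∈ zpowers (a ^ (p ^ (m - 1))) := by rw [h]; exact huH
      exact (zpowers_le.2 hza) this
    have hcardlt : p < Nat.card (closure ({a ^ (p ^ (m - 1)), u} : Set G)) := by
      have h1 := Subgroup.card_le_of_le hlt.le
      rw [Nat.card_zpowers, hz] at h1
      refine lt_of_le_of_ne h1 fun h => ?_
      have := Subgroup.eq_of_le_of_card_ge hlt.le (by rw [Nat.card_zpowers, hz, ← h])
      exact hlt.ne this
    obtain ⟨j, hj⟩ := (IsPGroup.iff_card).1 (hG.to_subgroup (closure ({a ^ (p ^ (m - 1)), u} : Set G)))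
    have hj2 : 2 ≤ j := by
      by_contra hlt2
      have hj1 : j ≤ 1 := by omega
      have : p ^ j ≤ p ^ 1 := Nat.pow_le_pow_right hp.out.pos hj1
      rw [pow_one] at this
      rw [hj] at hcardlt
      omega
    have hge : Nat.card Ω ≤ Nat.card (closure ({a ^ (p ^ (m - 1)), u} : Set G)) := by
      rw [hj]
      exact hcard.trans (Nat.pow_le_pow_right hp.out.pos hj2)
    have hHeq := Subgroup.eq_of_le_of_card_ge hHΩ hge
    have hvH : v ∈ closure ({a ^ (p ^ (m - 1)), u} : Set G) := by rw [hHeq]; exact hΩ v hvp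
    have key : ∀ w ∈ closure ({a ^ (p ^ (m - 1)), u} : Set G),
        (w : G ⧸ zpowers a) ∈ zpowers (u : G ⧸ zpowers a) := by
      intro w hw
      induction hw using Subgroup.closure_induction with
      | mem w hw =>
        simp only [Set.mem_insert_iff, Set.mem_singleton_iff] at hw
        rcases hw with rfl | rfl
        · rw [(QuotientGroup.eq_one_iff _).2 hza]; exact one_mem _
        · exact mem_zpowers _
      | one => rw [QuotientGroup.mk_one]; exact one_mem _
      | mul x y _ _ hx hy => rw [QuotientGroup.mk_mul]; exact mul_mem hx hy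
      | inv x _ hx => rw [QuotientGroup.mk_inv]; exact inv_mem hx
    exact key v hvH

end Cfsg.Agent.Helper63.MNM
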