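import Mathlib
import Cfsg.Prelude.Def_OddOrderLocal
import Cfsg.Agent.Helper63.Meta2D
import Cfsg.Agent.Helper63.Mnm1
import Cfsg.Agent.Helper86.MetaCoprime

/-!
# Minimal non-metacyclic `p`-groups, part 2: Blackburn's reduction step for an arbitrary prime
-/

set_option autoImplicit false

namespace Cfsg.Agent.Helper63.MNM

open Subgroup
open scoped commutatorElement

/-- Blackburn's step: if `S ⧸ ⟨n⟩` is metacyclic via `L = ⟨l⟩⟨n⟩` with `n ∉ ⟨l⟩` a central element of order `p`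
of `S'`, then `S' = ⟨n⟩`. -/
theorem blackburn_step_p {S : Type*} [Group S] [Finite S] {p : ℕ} [hp : Fact p.Prime]
    (hS : IsPGroup p S) (n : S)
    (hnp : n ^ p = 1) (hnc : ∀ g : S, g * n = n * g) (hnS : n ∈ commutator S)
    (L : Subgroup S) [hLn : L.Normal] (l : S) (hlL : l ∈ L)
    (hL : ∀ x ∈ L, ∃ k : ℤ, (l ^ k)⁻¹ * x ∈ zpowers n) (hcyc : IsCyclic (S ⧸ L))
    (hnl : n ∉ zpowers l) : ∀ a b : S, a * b * a⁻¹ * b⁻¹ ∈ zpowers n := by
  have hNc : ∀ ν ∈ zpowers n, ∀ g : S, Commute ν g := by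
    intro ν hν g
    obtain ⟨j, rfl⟩ := mem_zpowers_iff.1 hν
    exact Commute.zpow_left (hnc g).symm j
  have hNp : ∀ ν ∈ zpowers n, ν ^ p = 1 := by
    intro ν hν
    obtain ⟨j, rfl⟩ := mem_zpowers_iff.1 hν
    rw [← zpow_natCast, ← zpow_mul, mul_comm, zpow_mul, zpow_natCast, hnp, one_zpow]
  have hn1 : n ≠ 1 := fun h => hnl (h ▸ one_mem _)
  have hrep : ∀ x ∈ L, ∃ k : ℤ, ∃ ν ∈ zpowers n, x = l ^ k * ν := by
    intro x hx
    obtain ⟨k, hk⟩ := hL x hx
    exact ⟨k, _, hk, by group⟩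
  have hLab : ∀ x ∈ L, ∀ y ∈ L, Commute x y := by
    intro x hx y hy
    obtain ⟨k, ν, hν, rfl⟩ := hrep x hx
    obtain ⟨m, μ, hμ, rfl⟩ := hrep y hy
    have hkm : Commute (l ^ k) (l ^ m) := (Commute.refl l).zpow_zpow k m
    exact ((hkm.mul_right (hNc μ hμ _).symm)).mul_left ((hNc ν hν _).mul_right (hNc ν hν _))
  obtain ⟨gb, hgb⟩ := hcyc.exists_generator
  obtain ⟨g, rfl⟩ := QuotientGroup.mk_surjective gb
  have hlK : l ∈ closure ({l, n, g} : Set S) := Subgroup.subset_closure (by simp)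
  have hnK : n ∈ closure ({l, n, g} : Set S) := Subgroup.subset_closure (by simp)
  have hgK : g ∈ closure ({l, n, g} : Set S) := Subgroup.subset_closure (by simp)
  have hgen : closure ({l, n, g} : Set S) = ⊤ := by
    rw [eq_top_iff]
    intro s _
    obtain ⟨j, hj⟩ := mem_zpowers_iff.1 (hgb (s : S ⧸ L))
    rw [← QuotientGroup.mk_zpow, QuotientGroup.eq] at hj
    obtain ⟨k, ν, hν, hx⟩ := hrep _ hj
    have : s = g ^ j * (l ^ k * ν) := by rw [← hx]; group
    rw [this]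
    exact mul_mem (zpow_mem hgK j) (mul_mem (zpow_mem hlK k) ((zpowers_le.2 hnK) hν))
  -- the conjugate of `l`
  have haL : g * l * g⁻¹ ∈ L := hLn.conj_mem l hlL g
  obtain ⟨i, ν, hν, ha⟩ := hrep _ haL
  obtain ⟨a, ha_def⟩ : ∃ a : S, a = g * l * g⁻¹ := ⟨_, rfl⟩
  rw [← ha_def] at ha haL
  obtain ⟨c, hc_def⟩ : ∃ c : S, c = a * l⁻¹ := ⟨_, rfl⟩
  have hal : Commute a l := hLab a haL l hlL
  have hcL : c ∈ L := by rw [hc_def]; exact L.mul_mem haL (L.inv_mem hlL)
  have hcl : l * c * l⁻¹ = c := by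
    have := (hLab l hlL c hcL).eq
    rw [this, mul_inv_cancel_right]
  have hcn : n * c * n⁻¹ = c := by
    rw [← hnc c, mul_inv_cancel_right]
  have hgc : g * c * g⁻¹ = c ^ i := by
    have h1 : g * c * g⁻¹ = (g * a * g⁻¹) * a⁻¹ := by rw [hc_def, ha_def]; group
    have h2 : g * a * g⁻¹ = a ^ i * ν := by
      have e1 : g * (l ^ i * ν) * g⁻¹ = (g * l ^ i * g⁻¹) * (g * ν * g⁻¹) := by group
      have e2 : g * ν * g⁻¹ = ν := by
        rw [← (hNc ν hν g).eq, mul_inv_cancel_right]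
      rw [ha, e1, e2, ← conj_zpow, ← ha_def, ← ha]
    have h3 : c ^ i = a ^ i * (l ^ i)⁻¹ := by
      rw [hc_def, (hal.inv_right).mul_zpow, inv_zpow]
    have h4 : (l ^ i)⁻¹ = ν * a⁻¹ := by rw [ha]; group
    rw [h1, h2, h3, h4, mul_assoc]
  have hcN : (zpowers c).Normal := M2.zpowers_normal_of_gens c {l, n, g} hgen (by
    intro x hx
    simp only [Set.mem_insert_iff, Set.mem_singleton_iff] at hx
    rcases hx with rfl | rfl | rfl
    · rw [hcl]; exact mem_zpowers c
    · rw [hcn]; exact mem_zpowers c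
    · rw [hgc]; exact zpow_mem (mem_zpowers c) i)
  have hgl : g * l * g⁻¹ * l⁻¹ = c := by rw [hc_def, ha_def]
  have hlg : l * g * l⁻¹ * g⁻¹ = c⁻¹ := by rw [← hgl]; group
  have hpairs : ∀ K : Subgroup S, c ∈ K → ∀ x ∈ ({l, n, g} : Set S), ∀ y ∈ ({l, n, g} : Set S),
      x * y * x⁻¹ * y⁻¹ ∈ K := by
    intro K hcK x hx y hy
    simp only [Set.mem_insert_iff, Set.mem_singleton_iff] at hx hy
    have h1 : ∀ w : S, w * n * w⁻¹ * n⁻¹ = 1 := fun w => by rw [hnc w, mul_inv_cancel_right, mul_inv_cancel]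
    have h1' : ∀ w : S, n * w * n⁻¹ * w⁻¹ = 1 := fun w => by rw [← hnc w, mul_inv_cancel_right, mul_inv_cancel]
    have h0 : ∀ w : S, w * w * w⁻¹ * w⁻¹ = 1 := fun w => by group
    rcases hx with rfl | rfl | rfl <;> rcases hy with rfl | rfl | rfl
    · rw [h0]; exact one_mem _
    · rw [h1]; exact one_mem _
    · rw [hlg]; exact K.inv_mem hcK
    · rw [h1']; exact one_mem _
    · rw [h0]; exact one_mem _
    · rw [h1']; exact one_mem _
    · rw [hgl]; exact hcK
    · rw [h1]; exact one_mem _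
    · rw [h0]; exact one_mem _
  have hcomm_c := M2.comm_mem_of_gens (zpowers c) {l, n, g} hgen (hpairs _ (mem_zpowers c))
  have hnc' : n ∈ zpowers c := by
    have hle : commutator S ≤ zpowers c := by
      rw [commutator_def, Subgroup.commutator_le]
      intro x _ y _
      rw [commutatorElement_def]
      exact hcomm_c x y
    exact hle hnS
  have hcp : c ^ p ∈ zpowers l := by
    have e1 : c = (l ^ i * l⁻¹) * ν := by
      rw [hc_def, ha, mul_assoc, (hNc ν hν l⁻¹).eq, ← mul_assoc]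
    have e2 : c ^ p = (l ^ i * l⁻¹) ^ p * ν ^ p := by
      rw [e1, (hNc ν hν _).symm.mul_pow]
    rw [e2, hNp ν hν, mul_one]
    exact pow_mem (mul_mem (zpow_mem (mem_zpowers l) i) (inv_mem (mem_zpowers l))) p
  have hcn' : c ∈ zpowers n := by
    obtain ⟨k, hk⟩ := mem_zpowers_iff.1 hnc'
    have hpk : ¬ (p : ℤ) ∣ k := by
      rintro ⟨k', rfl⟩
      apply hnl
      rw [← hk, zpow_mul, zpow_natCast]
      exact zpow_mem hcp k'
    have h1 : c ^ (k * (p : ℤ)) = 1 := by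
      rw [zpow_mul, hk, zpow_natCast, hnp]
    have h2 : (orderOf c : ℤ) ∣ k * (p : ℤ) := orderOf_dvd_iff_zpow_eq_one.2 h1
    obtain ⟨t, ht⟩ := (IsPGroup.iff_orderOf.1 hS) c
    have ht1 : t ≤ 1 := by
      by_contra hlt
      apply hpk
      have h4 : ((p : ℤ) * (p : ℤ)) ∣ k * (p : ℤ) := by
        refine dvd_trans ?_ h2
        rw [ht]
        push_cast
        have : (p : ℤ) * (p : ℤ) = (p : ℤ) ^ 2 := by ring
        rw [this]
        exact pow_dvd_pow _ (by omega)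
      have hne : (p : ℤ) ≠ 0 := by exact_mod_cast hp.out.ne_zero
      exact Int.dvd_of_mul_dvd_mul_right hne h4
    have hcpow : c ^ p = 1 := by
      rw [← orderOf_dvd_iff_pow_eq_one, ht]
      have := pow_dvd_pow p ht1
      simpa using this
    have hc1 : c ≠ 1 := by
      intro h
      rw [h, one_zpow] at hk
      exact hn1 hk.symm
    have hoc : orderOf c = p := orderOf_eq_prime hcpow hc1
    have hon : orderOf n = p := orderOf_eq_prime hnp hn1
    have hle : zpowers n ≤ zpowers c := zpowers_le.2 hnc'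
    have := Subgroup.eq_of_le_of_card_ge hle (by rw [Nat.card_zpowers, Nat.card_zpowers, hoc, hon])
    rw [this]; exact mem_zpowers c
  have hNn : (zpowers n).Normal := ⟨fun y hy w => by
    have : w * y * w⁻¹ = y := by rw [← (hNc y hy w).eq, mul_inv_cancel_right]
    rw [this]; exact hy⟩
  exact M2.comm_mem_of_gens (zpowers n) {l, n, g} hgen (hpairs _ hcn')

/-- every proper subgroup of a quotient of a group with metacyclic proper subgroups is metacyclic. -/
theorem proper_quotient {G : Type*} [Group G] (N : Subgroup G) [N.Normal]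
    (hprop : ∀ H : Subgroup G, H ≠ ⊤ → Cfsg.IsMetacyclic H) :
    ∀ H : Subgroup (G ⧸ N), H ≠ ⊤ → Cfsg.IsMetacyclic H := by
  intro H hH
  have hne : H.comap (QuotientGroup.mk' N) ≠ ⊤ := by
    intro h
    apply hH
    rw [eq_top_iff]
    intro x _
    obtain ⟨y, rfl⟩ := QuotientGroup.mk'_surjective N x
    have : y ∈ H.comap (QuotientGroup.mk' N) := by rw [h]; exact mem_top y
    exact this
  exact Cfsg.Agent.Helper86.isMetacyclic_of_surjective ((QuotientGroup.mk' N).subgroupComap H)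
    ((QuotientGroup.mk' N).subgroupComap_surjective_of_surjective H (QuotientGroup.mk'_surjective N))
    (hprop _ hne)

/-- if `G ⧸ ⟨n⟩` is metacyclic, `n` central of order `p` in `G'`, then `G` is metacyclic or `G' ≤ ⟨n⟩`. -/
theorem metacyclic_or_comm {G : Type*} [Group G] [Finite G] {p : ℕ} [hp : Fact p.Prime]
    (hG : IsPGroup p G) (n : G) (hnp : n ^ p = 1) (hnc : ∀ g : G, g * n = n * g)
    (hnS : n ∈ commutator G) (hN : (zpowers n).Normal)
    (hm : Cfsg.IsMetacyclic (G ⧸ zpowers n)) :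
    Cfsg.IsMetacyclic G ∨ ∀ a b : G, a * b * a⁻¹ * b⁻¹ ∈ zpowers n := by
  obtain ⟨L, hLn, l, hNL, hlL, hcyc, hL⟩ := M2.pullback_metacyclic (zpowers n) hm
  by_cases hnl : n ∈ zpowers l
  · left
    refine ⟨L, hLn, ?_, hcyc⟩
    have hLeq : ∀ x : L, x ∈ zpowers (⟨l, hlL⟩ : L) := by
      intro x
      obtain ⟨k, hk⟩ := hL x x.2
      have hx : (x : G) ∈ zpowers l := by
        have h1 : (x : G) = l ^ k * ((l ^ k)⁻¹ * x) := by group
        rw [h1]
        exact mul_mem (zpow_mem (mem_zpowers l) k) ((zpowers_le.2 hnl) hk)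
      obtain ⟨j, hj⟩ := mem_zpowers_iff.1 hx
      rw [mem_zpowers_iff]
      exact ⟨j, Subtype.ext (by simpa using hj)⟩
    exact ⟨⟨⟨l, hlL⟩, hLeq⟩⟩
  · right
    exact blackburn_step_p hG n hnp hnc hnS L l hlL hL hcyc hnl

end Cfsg.Agent.Helper63.MNM
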