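import Mathlib
import Cfsg.Prelude.Def_OddOrderLocal
import Cfsg.Agent.Helper63.Mnm2
import Cfsg.Agent.Helper63.Frattini

/-!
# Minimal non-metacyclic `p`-groups, part 3: class at most two with `|G'| ≤ p` (`p` odd)
-/

set_option autoImplicit false

namespace Cfsg.Agent.Helper63.MNM

open Subgroup
open scoped commutatorElement

/-- a `p`-group of order at most `p ^ 2` is abelian. -/
theorem comm_of_card_le_sq {Q : Type*} [Group Q] [Finite Q] {p : ℕ} [hp : Fact p.Prime]
    (hQ : IsPGroup p Q) (hcard : Nat.card Q ≤ p ^ 2) : ∀ a b : Q, a * b = b * a := by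
  obtain ⟨j, hj⟩ := (IsPGroup.iff_card).1 hQ
  have hj2 : j ≤ 2 := by
    rw [hj] at hcard
    exact (Nat.pow_le_pow_iff_right hp.out.one_lt).1 hcard
  interval_cases j
  · intro a b
    rw [pow_zero] at hj
    have := (Nat.card_eq_one_iff_unique.1 hj).1
    rw [Subsingleton.elim a b]
  · rw [pow_one] at hj
    have hcyc := isCyclic_of_prime_card hj
    exact fun a b => hcyc.isMulCommutative.is_comm.comm a b
  · exact (IsPGroup.isMulCommutative_of_card_eq_prime_sq hj).is_comm.comm

/-- a strict inclusion of subgroups of a finite `p`-group multiplies the order by at least `p`. -/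
theorem card_mul_le_of_lt {G : Type*} [Group G] [Finite G] {p : ℕ} [hp : Fact p.Prime]
    (hG : IsPGroup p G) {H K : Subgroup G} (h : H < K) : Nat.card H * p ≤ Nat.card K := by
  obtain ⟨i, hi⟩ := (IsPGroup.iff_card).1 (hG.to_subgroup H)
  obtain ⟨j, hj⟩ := (IsPGroup.iff_card).1 (hG.to_subgroup K)
  have hle := Subgroup.card_le_of_le h.le
  have hne : Nat.card H ≠ Nat.card K := fun he =>
    h.ne (Subgroup.eq_of_le_of_card_ge h.le he.ge)
  rw [hi, hj] at hle hne ⊢
  have hij : i ≤ j := (Nat.pow_le_pow_iff_right hp.out.one_lt).1 hle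
  have hij' : i < j := lt_of_le_of_ne hij fun he => hne (by rw [he])
  rw [← pow_succ]
  exact Nat.pow_le_pow_right hp.out.pos hij'

theorem class_two_case {G : Type*} [Group G] [Finite G] {p : ℕ} [hp : Fact p.Prime] (hp2 : p ≠ 2)
    (hG : IsPGroup p G) (n : G) (hnp : n ^ p = 1) (hnc : ∀ g : G, g * n = n * g)
    (hcomm : ∀ a b : G, a * b * a⁻¹ * b⁻¹ ∈ zpowers n)
    (hprop : ∀ H : Subgroup G, H ≠ ⊤ → Cfsg.IsMetacyclic H) (hnm : ¬ Cfsg.IsMetacyclic G) :
    Nat.card G = p ^ 3 ∧ ∀ x : G, x ^ p = 1 := by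
  have hNc : ∀ ν ∈ zpowers n, ∀ g : G, ν * g = g * ν := by
    intro ν hν g
    obtain ⟨j, rfl⟩ := mem_zpowers_iff.1 hν
    exact (Commute.zpow_left (hnc g).symm j).eq
  have hNp : ∀ ν ∈ zpowers n, ν ^ p = 1 := by
    intro ν hν
    obtain ⟨j, rfl⟩ := mem_zpowers_iff.1 hν
    rw [← zpow_natCast, ← zpow_mul, mul_comm, zpow_mul, zpow_natCast, hnp, one_zpow]
  have hcen : ∀ x y : G, ⁅x, y⁆ ∈ Subgroup.center G := by
    intro x y
    rw [Subgroup.mem_center_iff, commutatorElement_def]
    intro g
    exact (hNc _ (hcomm x y) g).symm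
  have hexp : ∀ x y : G, ⁅x, y⁆ ^ p = 1 := by
    intro x y
    rw [commutatorElement_def]
    exact hNp _ (hcomm x y)
  let φ : G →* G := MonoidHom.mk' (fun x => x ^ p)
    (Cfsg.Agent.Helper86.mul_pow_prime_of_class_two hp.out hp2 hcen hexp)
  have hφ : ∀ x, φ x = x ^ p := fun _ => rfl
  have hker : ∀ x, x ∈ φ.ker ↔ x ^ p = 1 := fun x => by rw [MonoidHom.mem_ker, hφ]
  obtain ⟨e, he⟩ := (IsPGroup.iff_card).1 hG
  have hsub : ∀ H : Subgroup G, H ≠ ⊤ → (∀ x ∈ H, x ^ p = 1) → Nat.card H ≤ p ^ 2 := by
    intro H hH hexpH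
    exact card_le_sq_of_exponent (hprop H hH) (fun x => Subtype.ext (by simpa using hexpH x x.2))
  by_cases hΩ : φ.ker = ⊤
  · have hexpG : ∀ x : G, x ^ p = 1 := fun x => (hker x).1 (by rw [hΩ]; exact mem_top x)
    refine ⟨?_, hexpG⟩
    have he3 : e ≤ 3 := by
      by_contra hlt
      have hdvd : p ^ 3 ∣ Nat.card G := by rw [he]; exact pow_dvd_pow p (by omega)
      obtain ⟨K, hK⟩ := Sylow.exists_subgroup_card_pow_prime p hdvd
      have hKne : K ≠ ⊤ := by
        intro h
        rw [h, card_top, he] at hK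
        have := Nat.pow_right_injective hp.out.two_le hK
        omega
      have := hsub K hKne (fun x _ => hexpG x)
      rw [hK] at this
      have := (Nat.pow_le_pow_iff_right hp.out.one_lt).1 this
      omega
    have he3' : 3 ≤ e := by
      by_contra hlt
      apply hnm
      have hcard : Nat.card G ≤ p ^ 2 := by
        rw [he]; exact Nat.pow_le_pow_right hp.out.pos (by omega)
      refine isMetacyclic_of_comm hG (comm_of_card_le_sq hG hcard) ⊤ (fun x _ => mem_top x) ?_
      rw [card_top]; exact hcard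
    have : e = 3 := le_antisymm he3 he3'
    rw [he, this]
  · exfalso
    apply hnm
    have hΩcard : Nat.card φ.ker ≤ p ^ 2 := hsub _ hΩ (fun x hx => (hker x).1 hx)
    by_cases hab : ∀ a b : G, a * b = b * a
    · exact isMetacyclic_of_comm hG hab φ.ker (fun x hx => (hker x).2 hx) hΩcard
    push Not at hab
    obtain ⟨a, b, hab⟩ := hab
    obtain ⟨c, hc_def⟩ : ∃ c : G, c = a * b * a⁻¹ * b⁻¹ := ⟨_, rfl⟩
    have hc1 : c ≠ 1 := by
      intro h
      apply hab
      rw [hc_def] at h
      have h3 := mul_inv_eq_one.1 h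
      rw [mul_inv_eq_iff_eq_mul] at h3
      exact h3
    have hcn : c ∈ zpowers n := hc_def ▸ hcomm a b
    have hcp : c ^ p = 1 := hNp c hcn
    have hn1 : n ≠ 1 := by
      intro h
      rw [h, zpowers_one_eq_bot, mem_bot] at hcn
      exact hc1 hcn
    have hzeq : zpowers c = zpowers n := by
      refine Subgroup.eq_of_le_of_card_ge (zpowers_le.2 hcn) ?_
      rw [Nat.card_zpowers, Nat.card_zpowers, orderOf_eq_prime hcp hc1, orderOf_eq_prime hnp hn1]
    -- the image of the power map
    have hIn : φ.range.Normal := by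
      refine ⟨fun x hx g => ?_⟩
      obtain ⟨y, rfl⟩ := hx
      refine ⟨g * y * g⁻¹, ?_⟩
      rw [hφ, hφ, conj_pow]
    have hcardG : Nat.card φ.ker * Nat.card φ.range = Nat.card G := by
      rw [Subgroup.card_eq_card_quotient_mul_card_subgroup φ.ker,
        Nat.card_congr (QuotientGroup.quotientKerEquivRange φ).toEquiv, mul_comm]
    have hIidx : Nat.card (G ⧸ φ.range) ≤ p ^ 2 := by
      have h1 := Subgroup.card_eq_card_quotient_mul_card_subgroup φ.range
      rw [← hcardG] at h1
      have hpos : 0 < Nat.card φ.range := Nat.card_pos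
      have : Nat.card (G ⧸ φ.range) = Nat.card φ.ker := by
        exact (Nat.eq_of_mul_eq_mul_right hpos h1).symm
      rw [this]; exact hΩcard
    have hcI : c ∈ φ.range := by
      have hQc := comm_of_card_le_sq (hG.to_quotient φ.range) hIidx
      rw [← QuotientGroup.eq_one_iff, hc_def, QuotientGroup.mk_mul, QuotientGroup.mk_mul,
        QuotientGroup.mk_mul, hQc (a : G ⧸ φ.range) (b : G ⧸ φ.range), QuotientGroup.mk_inv,
        QuotientGroup.mk_inv]
      group
    -- maximal `k`
    classical
    let P : ℕ → Prop := fun k => ∃ g : G, g ^ (p ^ k) = c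
    have hP0 : P 0 := ⟨c, by simp⟩
    have hPlt : ∀ k, P k → k < e := by
      rintro k ⟨g, hg⟩
      by_contra hle
      apply hc1
      have hke : e ≤ k := by omega
      obtain ⟨d, rfl⟩ := Nat.exists_eq_add_of_le hke
      rw [← hg, pow_add, pow_mul, ← he, pow_card_eq_one', one_pow]
    have hPk := Nat.findGreatest_spec (P := P) (Nat.zero_le e) hP0
    have hPk' : ¬ P (Nat.findGreatest P e + 1) := by
      intro h
      have hlt := hPlt _ h
      exact Nat.findGreatest_is_greatest (P := P) (Nat.lt_succ_self _) (by omega) h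
    obtain ⟨g, hg⟩ := hPk
    have hgI : g ∉ φ.range := by
      rintro ⟨h, hh⟩
      apply hPk'
      refine ⟨h, ?_⟩
      rw [pow_succ', pow_mul, ← hφ, hh, hg]
    have hcA : c ∈ zpowers g := hg ▸ pow_mem (mem_zpowers g) _
    have hAn : (zpowers g).Normal := M2.normal_of_comm_mem _ (fun x y =>
      (zpowers_le.2 hcA) (hzeq ▸ hcomm x y))
    -- choice of `h`
    have hIfr : φ.range ≤ frattini G := by
      rintro _ ⟨y, rfl⟩
      rw [hφ]
      exact pow_prime_mem_frattini hG y
    obtain ⟨h, hh⟩ : ∃ h : G, closure ({g, h} : Set G) = ⊤ := by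
      by_cases hB : zpowers g ⊔ φ.range = ⊤
      · refine ⟨1, frattini_nongenerating ?_⟩
        rw [eq_top_iff, ← hB]
        refine sup_le_sup ?_ hIfr
        rw [zpowers_le]; exact Subgroup.subset_closure (by simp)
      · obtain ⟨h, hh⟩ : ∃ h : G, h ∉ zpowers g ⊔ φ.range := by
          by_contra hall
          push Not at hall
          exact hB (eq_top_iff.2 fun x _ => hall x)
        refine ⟨h, frattini_nongenerating ?_⟩
        have hgD : zpowers g ≤ closure ({g, h} : Set G) := by
          rw [zpowers_le]; exact Subgroup.subset_closure (by simp)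
        have hhD : h ∈ closure ({g, h} : Set G) := Subgroup.subset_closure (by simp)
        have hlt1 : φ.range < zpowers g ⊔ φ.range :=
          lt_of_le_of_ne le_sup_right fun heq => hgI (heq ▸ (le_sup_left : zpowers g ≤ _) (mem_zpowers g))
        have hlt2 : zpowers g ⊔ φ.range < closure ({g, h} : Set G) ⊔ φ.range :=
          lt_of_le_of_ne (sup_le_sup_right hgD _) fun heq =>
            hh (heq ▸ (le_sup_left : closure ({g, h} : Set G) ≤ _) hhD)
        have h1 := card_mul_le_of_lt hG hlt1
        have h2 := card_mul_le_of_lt hG hlt2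
        have h3 : Nat.card G ≤ Nat.card ↥(closure ({g, h} : Set G) ⊔ φ.range) := by
          calc Nat.card G = Nat.card φ.ker * Nat.card φ.range := hcardG.symm
            _ ≤ p ^ 2 * Nat.card φ.range := Nat.mul_le_mul_right _ hΩcard
            _ = Nat.card φ.range * p * p := by ring
            _ ≤ Nat.card ↥(zpowers g ⊔ φ.range) * p := Nat.mul_le_mul_right _ h1
            _ ≤ _ := h2
        have h4 : closure ({g, h} : Set G) ⊔ φ.range = ⊤ :=
          Subgroup.eq_top_of_le_card _ h3
        rw [eq_top_iff, ← h4]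
        exact sup_le_sup_left hIfr _
    have key : ∀ w ∈ closure ({g, h} : Set G), (w : G ⧸ zpowers g) ∈ zpowers (h : G ⧸ zpowers g) := by
      intro w hw
      induction hw using Subgroup.closure_induction with
      | mem w hw =>
        simp only [Set.mem_insert_iff, Set.mem_singleton_iff] at hw
        rcases hw with rfl | rfl
        · rw [(QuotientGroup.eq_one_iff _).2 (mem_zpowers w)]; exact one_mem _
        · exact mem_zpowers _
      | one => rw [QuotientGroup.mk_one]; exact one_mem _
      | mul x y _ _ hx hy => rw [QuotientGroup.mk_mul]; exact mul_mem hx hy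
      | inv x _ hx => rw [QuotientGroup.mk_inv]; exact inv_mem hx
    refine ⟨zpowers g, hAn, inferInstance, ?_⟩
    rw [isCyclic_iff_exists_zpowers_eq_top]
    refine ⟨(h : G ⧸ zpowers g), eq_top_iff.2 fun X _ => ?_⟩
    obtain ⟨x, rfl⟩ := QuotientGroup.mk_surjective X
    exact key x (by rw [hh]; exact mem_top x)

end Cfsg.Agent.Helper63.MNM
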