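import Mathlib
import Cfsg.Prelude.Def_OddOrderLocal
import Cfsg.Agent.Helper63.Mnm3
import Cfsg.Agent.Helper30.Collect

/-!
# Minimal non-metacyclic `p`-groups, part 4: the case of order `p ^ 4`, `p > 3`
-/

set_option autoImplicit false

namespace Cfsg.Agent.Helper63.MNM

open Subgroup
open scoped commutatorElement

/-- in a group of order `p ^ 3` commutators are central. -/
theorem comm_mem_center_of_card_cube {Q : Type*} [Group Q] [Finite Q] {p : ℕ} [hp : Fact p.Prime]
    (hQ : IsPGroup p Q) (hcard : Nat.card Q = p ^ 3) (a b : Q) : ⁅a, b⁆ ∈ center Q := by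
  have : Nontrivial Q := by
    rw [← Finite.one_lt_card_iff_nontrivial, hcard]
    exact Nat.one_lt_pow (by norm_num) hp.out.one_lt
  have hZ : center Q ≠ ⊥ := (IsPGroup.bot_lt_center hQ).ne'
  have hZcard : p ≤ Nat.card (center Q) := by
    obtain ⟨j, hj⟩ := (IsPGroup.iff_card).1 (hQ.to_subgroup (center Q))
    rw [hj]
    have hj0 : j ≠ 0 := by
      intro h0
      rw [h0, pow_zero] at hj
      exact hZ ((center Q).card_eq_one.1 hj)
    calc p = p ^ 1 := (pow_one p).symm
      _ ≤ p ^ j := Nat.pow_le_pow_right hp.out.pos (Nat.one_le_iff_ne_zero.2 hj0)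
  have hidx : Nat.card (Q ⧸ center Q) ≤ p ^ 2 := by
    have h1 := Subgroup.card_eq_card_quotient_mul_card_subgroup (center Q)
    rw [hcard] at h1
    by_contra hlt
    push Not at hlt
    have : p ^ 2 * p < Nat.card (Q ⧸ center Q) * Nat.card (center Q) :=
      Nat.mul_lt_mul_of_lt_of_le hlt hZcard Nat.card_pos
    rw [← h1] at this
    have e : p ^ 2 * p = p ^ 3 := by ring
    omega
  have hc := comm_of_card_le_sq (hQ.to_quotient (center Q)) hidx
  rw [← QuotientGroup.eq_one_iff, commutatorElement_def, QuotientGroup.mk_mul, QuotientGroup.mk_mul,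
    QuotientGroup.mk_mul, hc (a : Q ⧸ center Q) (b : Q ⧸ center Q), QuotientGroup.mk_inv,
    QuotientGroup.mk_inv]
  group

theorem order_four_case {G : Type*} [Group G] [Finite G] {p : ℕ} [hp : Fact p.Prime] (hp3 : 3 < p)
    (hG : IsPGroup p G) (n : G) (hnp : n ^ p = 1) (hn1 : n ≠ 1) (hnc : ∀ g : G, g * n = n * g)
    (hN : (zpowers n).Normal)
    (hQcard : Nat.card (G ⧸ zpowers n) = p ^ 3) (hQexp : ∀ x : G ⧸ zpowers n, x ^ p = 1)
    (hprop : ∀ H : Subgroup G, H ≠ ⊤ → Cfsg.IsMetacyclic H) : False := by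
  have hNc : ∀ ν ∈ zpowers n, ∀ g : G, Commute ν g := by
    intro ν hν g
    obtain ⟨j, rfl⟩ := mem_zpowers_iff.1 hν
    exact Commute.zpow_left (hnc g).symm j
  have hNp : ∀ ν ∈ zpowers n, ν ^ p = 1 := by
    intro ν hν
    obtain ⟨j, rfl⟩ := mem_zpowers_iff.1 hν
    rw [← zpow_natCast, ← zpow_mul, mul_comm, zpow_mul, zpow_natCast, hnp, one_zpow]
  have hcardG : Nat.card G = p ^ 4 := by
    rw [Subgroup.card_eq_card_quotient_mul_card_subgroup (zpowers n), hQcard, Nat.card_zpowers,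
      orderOf_eq_prime hnp hn1]
    ring
  have hQ : IsPGroup p (G ⧸ zpowers n) := hG.to_quotient _
  -- class at most three
  have hG'Z : ∀ x ∈ commutator G, ((x : G) : G ⧸ zpowers n) ∈ center (G ⧸ zpowers n) := by
    have : commutator G ≤ (center (G ⧸ zpowers n)).comap (QuotientGroup.mk' (zpowers n)) := by
      rw [commutator_def, Subgroup.commutator_le]
      intro a _ b _
      rw [mem_comap, map_commutatorElement]
      exact comm_mem_center_of_card_cube hQ hQcard _ _
    exact fun x hx => this hx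
  have hγ3 : ⁅commutator G, (⊤ : Subgroup G)⁆ ≤ zpowers n := by
    rw [Subgroup.commutator_le]
    intro x hx y _
    rw [← QuotientGroup.eq_one_iff]
    have h1 : ((⁅x, y⁆ : G) : G ⧸ zpowers n) = ⁅(x : G ⧸ zpowers n), (y : G ⧸ zpowers n)⁆ :=
      map_commutatorElement (QuotientGroup.mk' (zpowers n)) x y
    rw [h1, commutatorElement_eq_one_iff_commute]
    exact ((mem_center_iff.1 (hG'Z x hx)) (y : G ⧸ zpowers n)).symm
  have hcl3 : ⁅⁅commutator G, (⊤ : Subgroup G)⁆, (⊤ : Subgroup G)⁆ = ⊥ := by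
    rw [eq_bot_iff, Subgroup.commutator_le]
    intro z hz w _
    rw [mem_bot, commutatorElement_eq_one_iff_commute]
    exact hNc z (hγ3 hz) w
  have hpowN : ∀ x : G, x ^ p ∈ zpowers n := by
    intro x
    rw [← QuotientGroup.eq_one_iff, QuotientGroup.mk_pow]
    exact hQexp _
  -- commutators have order dividing `p`
  have hcomm_p : ∀ x y : G, ⁅y⁻¹, x⁻¹⁆ ^ p = 1 := by
    intro x y
    have hC := Cfsg.Agent.Helper30.coll_of_class_three hcl3 x y
    have hC' := Cfsg.Agent.Helper30.coll_of_class_three hcl3 y x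
    have hcm : ∀ u v : G, ⁅u, v⁆⁻¹ ∈ commutator G := by
      intro u v
      rw [commutator_def]
      exact inv_mem (Subgroup.commutator_mem_commutator (mem_top _) (mem_top _))
    have hvan : ∀ u v w : G, ∀ k : ℕ, p ∣ k → ⁅⁅u, v⁆⁻¹, w⁆ ^ k = 1 := by
      intro u v w k hk
      obtain ⟨t, rfl⟩ := hk
      rw [pow_mul, hNp _ (hγ3 (Subgroup.commutator_mem_commutator (hcm u v) (mem_top w))), one_pow]
    have h3 : p ∣ p.choose 3 := hp.out.dvd_choose_self (by norm_num) hp3
    have hs : p ∣ Cfsg.Agent.Helper30.sqSum p := Cfsg.Agent.Helper30.prime_dvd_sqSum hp.out hp3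
    have e1 := hC.mul_pow_eq p
    have e2 := hC'.mul_pow_eq p
    rw [hvan _ _ _ _ h3, hvan _ _ _ _ hs, mul_one, mul_one] at e1 e2
    have hinv : ⁅x⁻¹, y⁻¹⁆ = ⁅y⁻¹, x⁻¹⁆⁻¹ := by rw [commutatorElement_inv]
    have hconj : (y * x) ^ p = (x * y) ^ p := by
      have h1 : y * x = x⁻¹ * (x * y) * x⁻¹⁻¹ := by group
      rw [h1, conj_pow]
      have := (hNc _ (hpowN (x * y)) x⁻¹).eq
      rw [← this, mul_inv_cancel_right]
    have hxy : x ^ p * y ^ p = y ^ p * x ^ p := (hNc _ (hpowN x) _).eq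
    rw [hconj, e1, hinv, hxy] at e2
    have e3 := mul_left_cancel e2
    -- `c ^ k = (c⁻¹) ^ k`
    have e4 : ⁅y⁻¹, x⁻¹⁆ ^ (2 * p.choose 2) = 1 := by
      rw [two_mul, pow_add]
      nth_rw 2 [e3]
      rw [inv_pow, mul_inv_cancel]
    have e5 : ⁅y⁻¹, x⁻¹⁆ ^ (p * p) = 1 := by
      rw [pow_mul]
      exact hNp _ (hpowN _)
    have h2c : 2 * p.choose 2 = p * (p - 1) := by
      rw [Nat.choose_two_right, mul_comm 2]
      exact Nat.div_mul_cancel (Nat.even_mul_pred_self p).two_dvd
    rw [h2c] at e4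
    have hd1 := orderOf_dvd_of_pow_eq_one e4
    have hd2 := orderOf_dvd_of_pow_eq_one e5
    have hd := Nat.dvd_gcd hd1 hd2
    rw [Nat.gcd_mul_left] at hd
    have hcop : Nat.gcd (p - 1) p = 1 := by
      have : Nat.Coprime p (p - 1) := by
        rw [Nat.Prime.coprime_iff_not_dvd hp.out]
        intro hdvd
        have := Nat.le_of_dvd (by have := hp.out.two_le; omega) hdvd
        have := hp.out.two_le
        omega
      exact this.symm
    rw [hcop, mul_one] at hd
    exact orderOf_dvd_iff_pow_eq_one.1 hd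
  have hder : commutator G ≤ closure {x : G | x ^ p = 1} := by
    rw [commutator_def, Subgroup.commutator_le]
    intro a _ b _
    apply Subgroup.subset_closure
    have := hcomm_p b⁻¹ a⁻¹
    rwa [inv_inv, inv_inv] at this
  let φ : G →* G := MonoidHom.mk' (fun x => x ^ p)
    (Cfsg.Agent.Helper30.mul_pow_prime_of_class hp.out (Or.inr ⟨hp3, hcl3⟩) hder)
  have hφ : ∀ x, φ x = x ^ p := fun _ => rfl
  have hker : ∀ x, x ∈ φ.ker ↔ x ^ p = 1 := fun x => by rw [MonoidHom.mem_ker, hφ]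
  have hrange : φ.range ≤ zpowers n := by
    rintro _ ⟨y, rfl⟩
    rw [hφ]; exact hpowN y
  have hrcard : Nat.card φ.range ≤ p := by
    have := Subgroup.card_le_of_le hrange
    rwa [Nat.card_zpowers, orderOf_eq_prime hnp hn1] at this
  have hcardK : Nat.card φ.ker * Nat.card φ.range = p ^ 4 := by
    rw [← hcardG, Subgroup.card_eq_card_quotient_mul_card_subgroup φ.ker,
      Nat.card_congr (QuotientGroup.quotientKerEquivRange φ).toEquiv, mul_comm]
  obtain ⟨j, hj⟩ := (IsPGroup.iff_card).1 (hG.to_subgroup φ.ker)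
  have hj3 : 3 ≤ j := by
    by_contra hlt
    have hj2 : j ≤ 2 := by omega
    have h1 : Nat.card φ.ker ≤ p ^ 2 := by rw [hj]; exact Nat.pow_le_pow_right hp.out.pos hj2
    have h2 : Nat.card φ.ker * Nat.card φ.range ≤ p ^ 2 * p := Nat.mul_le_mul h1 hrcard
    rw [hcardK] at h2
    have e : p ^ 2 * p = p ^ 3 := by ring
    rw [e] at h2
    have := (Nat.pow_le_pow_iff_right hp.out.one_lt).1 h2
    omega
  have hdvd : p ^ 3 ∣ Nat.card φ.ker := by rw [hj]; exact pow_dvd_pow p hj3
  obtain ⟨K, hK⟩ := Sylow.exists_subgroup_card_pow_prime p hdvd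
  have hK' : Nat.card (K.map φ.ker.subtype) = p ^ 3 := by
    rw [Subgroup.card_map_of_injective φ.ker.subtype_injective, hK]
  have hKne : K.map φ.ker.subtype ≠ ⊤ := by
    intro h
    rw [h, card_top, hcardG] at hK'
    have := Nat.pow_right_injective hp.out.two_le hK'
    omega
  have hKexp : ∀ x : K.map φ.ker.subtype, x ^ p = 1 := by
    rintro ⟨x, hx⟩
    obtain ⟨y, -, rfl⟩ := hx
    apply Subtype.ext
    have := (hker (y : G)).1 y.2
    simpa using this
  have := card_le_sq_of_exponent (hprop _ hKne) hKexp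
  rw [hK'] at this
  have := (Nat.pow_le_pow_iff_right hp.out.one_lt).1 this
  omega

end Cfsg.Agent.Helper63.MNM
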