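import Mathlib
import Cfsg.Prelude.Def_OddOrderLocal
import Cfsg.Prelude.Def_PLocal
import Cfsg.Agent.Helper63.Mnm4
import Cfsg.Agent.Helper63.PGroup

/-!
# Minimal non-metacyclic `p`-groups for `p > 3` have order `p ^ 3` and exponent `p`;
`p`-groups with `|Ω₁| ≤ p ^ 2` are metacyclic (`p > 3`)
-/

set_option autoImplicit false

universe u

namespace Cfsg.Agent.Helper63.MNM

open Subgroup
open scoped commutatorElement

/-- **Blackburn**: a minimal non-metacyclic `p`-group, `p > 3`, has order `p ^ 3` and exponent `p`. -/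
theorem mnm {p : ℕ} [hp : Fact p.Prime] (hp3 : 3 < p) :
    ∀ (N : ℕ) (G : Type u) [Group G] [Finite G], Nat.card G = N → IsPGroup p G →
      (∀ H : Subgroup G, H ≠ ⊤ → Cfsg.IsMetacyclic H) → ¬ Cfsg.IsMetacyclic G →
      Nat.card G = p ^ 3 ∧ ∀ x : G, x ^ p = 1 := by
  intro N
  induction N using Nat.strong_induction_on with
  | _ N ih =>
    intro G _ _ hN hG hprop hnm
    have hp2 : p ≠ 2 := by omega
    by_cases hab : ∀ a b : G, a * b = b * a
    · refine class_two_case hp2 hG 1 (one_pow p) (fun g => by simp) (fun a b => ?_) hprop hnm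
      rw [hab a b, mul_inv_cancel_right, mul_inv_cancel]
      exact one_mem _
    have hG'ne : commutator G ≠ ⊥ := by
      intro h
      apply hab
      intro a b
      have h1 : ⁅a, b⁆ ∈ commutator G := by
        rw [commutator_def]
        exact Subgroup.commutator_mem_commutator (mem_top _) (mem_top _)
      rw [h, mem_bot, commutatorElement_eq_one_iff_commute] at h1
      exact h1.eq
    have h0 := normal_inf_center_ne_bot hG (commutator G) hG'ne
    rw [Ne, eq_bot_iff_forall] at h0
    push Not at h0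
    obtain ⟨x, hxmem, hx1⟩ := h0
    obtain ⟨t, ht⟩ := (IsPGroup.iff_orderOf.1 hG) x
    have ht1 : 1 ≤ t := by
      by_contra hlt
      have : t = 0 := by omega
      rw [this, pow_zero, orderOf_eq_one_iff] at ht
      exact hx1 ht
    obtain ⟨n, hn_def⟩ : ∃ n : G, n = x ^ (p ^ (t - 1)) := ⟨_, rfl⟩
    have hon : orderOf n = p := hn_def ▸ Cfsg.Agent.Helper73.orderOf_pow_pred ht ht1
    have hnmem : n ∈ commutator G ⊓ center G := hn_def ▸ pow_mem hxmem _
    have hnp : n ^ p = 1 := by
      have := pow_orderOf_eq_one n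
      rwa [hon] at this
    have hn1 : n ≠ 1 := by
      intro h
      rw [h, orderOf_one] at hon
      exact hp.out.one_lt.ne hon
    have hnc : ∀ g : G, g * n = n * g := fun g => mem_center_iff.1 hnmem.2 g
    have hNn : (zpowers n).Normal := by
      refine ⟨fun y hy w => ?_⟩
      obtain ⟨j, rfl⟩ := mem_zpowers_iff.1 hy
      have hc : Commute (n ^ j) w := Commute.zpow_left (hnc w).symm j
      have : w * n ^ j * w⁻¹ = n ^ j := by rw [← hc.eq, mul_inv_cancel_right]
      rw [this]; exact zpow_mem (mem_zpowers n) j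
    by_cases hm : Cfsg.IsMetacyclic (G ⧸ zpowers n)
    · rcases metacyclic_or_comm hG n hnp hnc hnmem.1 hNn hm with h | h
      · exact absurd h hnm
      · exact class_two_case hp2 hG n hnp hnc h hprop hnm
    · have hlt : Nat.card (G ⧸ zpowers n) < N := by
        rw [← hN, Subgroup.card_eq_card_quotient_mul_card_subgroup (zpowers n), Nat.card_zpowers, hon]
        have hpos : 0 < Nat.card (G ⧸ zpowers n) := Nat.card_pos
        have := hp.out.two_le
        nlinarith
      obtain ⟨hQcard, hQexp⟩ := ih _ hlt (G ⧸ zpowers n) rfl (hG.to_quotient _)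
        (proper_quotient _ hprop) hm
      exact (order_four_case hp3 hG n hnp hn1 hnc hNn hQcard hQexp hprop).elim

/-- `Ω₁` of a subgroup embeds in `Ω₁` of the group. -/
theorem card_omegaOne_subgroup_le {R : Type*} [Group R] [Finite R] (p : ℕ) (H : Subgroup R) :
    Nat.card (Cfsg.omegaOne p (⊤ : Subgroup H)) ≤ Nat.card (Cfsg.omegaOne p (⊤ : Subgroup R)) := by
  rw [← Subgroup.card_map_of_injective H.subtype_injective]
  apply Subgroup.card_le_of_le
  unfold Cfsg.omegaOne
  rw [MonoidHom.map_closure, closure_le]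
  rintro _ ⟨x, ⟨-, hx⟩, rfl⟩
  apply Subgroup.subset_closure
  refine ⟨mem_top _, ?_⟩
  have := congrArg Subtype.val hx
  simpa using this

/-- for `p > 3`, a finite `p`-group with `|Ω₁| ≤ p ^ 2` is metacyclic. -/
theorem metacyclic_of_omega {p : ℕ} [hp : Fact p.Prime] (hp3 : 3 < p) :
    ∀ (N : ℕ) (R : Type u) [Group R] [Finite R], Nat.card R = N → IsPGroup p R →
      Nat.card (Cfsg.omegaOne p (⊤ : Subgroup R)) ≤ p ^ 2 → Cfsg.IsMetacyclic R := by
  intro N
  induction N using Nat.strong_induction_on with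
  | _ N ih =>
    intro R _ _ hN hR hO
    by_contra hnm
    have hprop : ∀ H : Subgroup R, H ≠ ⊤ → Cfsg.IsMetacyclic H := by
      intro H hH
      have hlt : Nat.card H < N := by
        rw [← hN]
        exact lt_of_le_of_ne (Subgroup.card_le_card_group H)
          (fun h => hH (Subgroup.eq_top_of_card_eq H h))
      exact ih _ hlt H rfl (hR.to_subgroup H) ((card_omegaOne_subgroup_le p H).trans hO)
    obtain ⟨hcard, hexp⟩ := mnm hp3 N R hN hR hprop hnm
    have htop : Cfsg.omegaOne p (⊤ : Subgroup R) = ⊤ := by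
      rw [eq_top_iff]
      intro x _
      exact Subgroup.subset_closure ⟨mem_top x, hexp x⟩
    rw [htop, card_top, hcard] at hO
    have := (Nat.pow_le_pow_iff_right hp.out.one_lt).1 hO
    omega

end Cfsg.Agent.Helper63.MNM
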