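import Mathlib

set_option autoImplicit false

namespace Cfsg.Agent.Helper63

open Subgroup

theorem centralizer_sup_eq' {X : Type*} [Group X] (A B : Subgroup X) :
    Subgroup.centralizer ((A ⊔ B : Subgroup X) : Set X)
      = Subgroup.centralizer (A : Set X) ⊓ Subgroup.centralizer (B : Set X) := by
  apply le_antisymm
  · apply le_inf
    · exact Subgroup.centralizer_le (show (A : Set X) ⊆ ((A ⊔ B : Subgroup X) : Set X) from
        fun x hx => Subgroup.mem_sup_left hx)
    · exact Subgroup.centralizer_le (show (B : Set X) ⊆ ((A ⊔ B : Subgroup X) : Set X) from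
        fun x hx => Subgroup.mem_sup_right hx)
  · rw [Subgroup.le_centralizer_iff]
    apply sup_le
    · rw [← Subgroup.le_centralizer_iff]; exact inf_le_left
    · rw [← Subgroup.le_centralizer_iff]; exact inf_le_right

theorem isMulCommutative_of_le_centralizer {G : Type*} [Group G] (A : Subgroup G)
    (h : A ≤ Subgroup.centralizer (A : Set G)) : IsMulCommutative A := by
  refine ⟨⟨fun a b => ?_⟩⟩
  apply Subtype.ext
  have := Subgroup.mem_centralizer_iff.mp (h a.2) b b.2
  exact this.symm

theorem le_centralizer_of_isMulCommutative {G : Type*} [Group G] (A : Subgroup G)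
    [hA : IsMulCommutative A] : A ≤ Subgroup.centralizer (A : Set G) := by
  intro a ha
  rw [Subgroup.mem_centralizer_iff]
  intro b hb
  have := hA.is_comm.comm (⟨b, hb⟩ : A) ⟨a, ha⟩
  exact congrArg Subtype.val this

theorem sup_le_centralizer_sup {G : Type*} [Group G] (A B : Subgroup G)
    (hA : A ≤ Subgroup.centralizer (A : Set G)) (hB : B ≤ Subgroup.centralizer (B : Set G))
    (hAB : A ≤ Subgroup.centralizer (B : Set G)) :
    A ⊔ B ≤ Subgroup.centralizer ((A ⊔ B : Subgroup G) : Set G) := by
  rw [centralizer_sup_eq']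
  apply sup_le
  · exact le_inf hA hAB
  · exact le_inf (Subgroup.le_centralizer_iff.mp hAB) hB

/-- if `a < b` are both powers of `p` and `p ^ 2 ≤ a` then `p ^ 3 ≤ b` -/
theorem pow_three_le_of_lt {p a b i j : ℕ} (hp : p.Prime) (ha : a = p ^ i) (hb : b = p ^ j)
    (h2 : p ^ 2 ≤ a) (hab : a < b) : p ^ 3 ≤ b := by
  subst ha hb
  have hi : 2 ≤ i := (Nat.pow_le_pow_iff_right hp.one_lt).mp h2
  have hij : i < j := (Nat.pow_lt_pow_iff_right hp.one_lt).mp hab
  exact Nat.pow_le_pow_right hp.pos (by omega)

/-- Ambient form: if `Z₁ ≤ C` is central in `C`, `|Z₁| ≥ p²` and `|C| ≥ p³` (in a finite `p`-group) then there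
is an abelian subgroup of order at least `p³`. -/
theorem exists_abelian_of_central {G : Type*} [Group G] [Finite G] {p : ℕ} [Fact p.Prime]
    (hG : IsPGroup p G) (C Z₁ : Subgroup G) (hZC : Z₁ ≤ C)
    (hcent : Z₁ ≤ Subgroup.centralizer (C : Set G)) (hZ : p ^ 2 ≤ Nat.card Z₁) (hC : p ^ 3 ≤ Nat.card C) :
    ∃ A : Subgroup G, IsMulCommutative A ∧ p ^ 3 ≤ Nat.card A := by
  have hp : p.Prime := Fact.out
  have hZ₁comm : Z₁ ≤ Subgroup.centralizer (Z₁ : Set G) :=
    le_trans hcent (Subgroup.centralizer_le hZC)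
  by_cases h3 : p ^ 3 ≤ Nat.card Z₁
  · exact ⟨Z₁, isMulCommutative_of_le_centralizer Z₁ hZ₁comm, h3⟩
  · rw [not_le] at h3
    have hne : ¬ C ≤ Z₁ := by
      intro hle
      have := Subgroup.card_le_of_le hle
      omega
    obtain ⟨x, hxC, hxZ⟩ := SetLike.not_le_iff_exists.mp hne
    set A : Subgroup G := Z₁ ⊔ Subgroup.zpowers x with hA
    have hZx : Z₁ ≤ Subgroup.centralizer ((Subgroup.zpowers x : Subgroup G) : Set G) := by
      apply le_trans hcent
      apply Subgroup.centralizer_le
      intro y hy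
      exact (Subgroup.zpowers_le.mpr hxC) hy
    have hAcomm : A ≤ Subgroup.centralizer (A : Set G) :=
      sup_le_centralizer_sup _ _ hZ₁comm
        (le_centralizer_of_isMulCommutative (Subgroup.zpowers x)) hZx
    refine ⟨A, isMulCommutative_of_le_centralizer A hAcomm, ?_⟩
    have hlt : Z₁ < A := by
      apply lt_of_le_of_ne le_sup_left
      intro h
      apply hxZ
      rw [h]
      exact Subgroup.mem_sup_right (Subgroup.mem_zpowers x)
    have hcardlt : Nat.card Z₁ < Nat.card A := by
      have hle := Subgroup.card_le_of_le hlt.le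
      rcases hle.lt_or_eq with h | h
      · exact h
      · exact absurd (Subgroup.eq_of_le_of_card_ge hlt.le h.ge) hlt.ne
    obtain ⟨i, hi⟩ := IsPGroup.iff_card.mp (hG.to_subgroup Z₁)
    obtain ⟨j, hj⟩ := IsPGroup.iff_card.mp (hG.to_subgroup A)
    exact pow_three_le_of_lt hp hi hj hZ hcardlt

/-- A finite `p`-group of order at least `p⁴` has an abelian subgroup of order at least `p³`. -/
theorem exists_abelian_card_ge {G : Type*} [Group G] [Finite G] {p : ℕ} [Fact p.Prime]
    (hG : IsPGroup p G) (hcard : p ^ 4 ≤ Nat.card G) :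
    ∃ A : Subgroup G, IsMulCommutative A ∧ p ^ 3 ≤ Nat.card A := by
  have hp : p.Prime := Fact.out
  have hp1 : 1 < p := hp.one_lt
  have : Nontrivial G := by
    rw [← Finite.one_lt_card_iff_nontrivial]
    calc 1 < p ^ 4 := Nat.one_lt_pow (by norm_num) hp1
      _ ≤ Nat.card G := hcard
  -- an element of order p in the centre
  have hZnt : Nontrivial (Subgroup.center G) := hG.center_nontrivial
  have hZp : IsPGroup p (Subgroup.center G) := hG.to_subgroup _
  have hdvd : p ∣ Nat.card (Subgroup.center G) := by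
    rcases hZp.card_eq_or_dvd with h | h
    · exfalso
      have := (Finite.one_lt_card_iff_nontrivial (α := Subgroup.center G)).mpr hZnt
      omega
    · exact h
  obtain ⟨z', hz'⟩ := exists_prime_orderOf_dvd_card' p hdvd
  set z : G := (z' : G) with hz
  have hzord : orderOf z = p := by rw [hz, Subgroup.orderOf_coe, hz']
  have hzc : z ∈ Subgroup.center G := z'.2
  set Z₀ : Subgroup G := Subgroup.zpowers z with hZ₀
  have hZ₀card : Nat.card Z₀ = p := by rw [hZ₀, Nat.card_zpowers, hzord]
  have hZ₀le : Z₀ ≤ Subgroup.center G := Subgroup.zpowers_le.mpr hzc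
  -- a general tool: a subgroup strictly containing Z₀ has order ≥ p²
  have hbig : ∀ Z₁ : Subgroup G, Z₀ < Z₁ → p ^ 2 ≤ Nat.card Z₁ := by
    intro Z₁ hlt
    have hcardlt : Nat.card Z₀ < Nat.card Z₁ := by
      have hle := Subgroup.card_le_of_le hlt.le
      rcases hle.lt_or_eq with h | h
      · exact h
      · exact absurd (Subgroup.eq_of_le_of_card_ge hlt.le h.ge) hlt.ne
    obtain ⟨j, hj⟩ := IsPGroup.iff_card.mp (hG.to_subgroup Z₁)
    rw [hZ₀card, hj] at hcardlt
    rw [hj]
    have : 1 < j := by
      have h1 : p ^ 1 < p ^ j := by simpa using hcardlt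
      exact (Nat.pow_lt_pow_iff_right hp1).mp h1
    exact Nat.pow_le_pow_right hp.pos this
  by_cases hcase : Subgroup.center G ≤ Z₀
  · -- centre of order p
    have hcenter : Subgroup.center G = Z₀ := le_antisymm hcase hZ₀le
    have hcardc : Nat.card (Subgroup.center G) = p := by rw [hcenter, hZ₀card]
    -- nontrivial quotient
    have hctop : Subgroup.center G ≠ ⊤ := by
      intro h
      have : Nat.card (Subgroup.center G) = Nat.card G := by rw [h, Subgroup.card_top]
      rw [hcardc] at this
      have h4 : p ^ 1 < p ^ 4 := Nat.pow_lt_pow_right hp1 (by norm_num)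
      rw [pow_one] at h4
      omega
    have : Nontrivial (G ⧸ Subgroup.center G) := by
      rw [← Finite.one_lt_card_iff_nontrivial, ← Subgroup.index_eq_card]
      exact Subgroup.one_lt_index_of_ne_top hctop
    have hQ : IsPGroup p (G ⧸ Subgroup.center G) := hG.to_quotient _
    have hQnt : Nontrivial (Subgroup.center (G ⧸ Subgroup.center G)) := hQ.center_nontrivial
    obtain ⟨⟨ybar, hybar⟩, hyne⟩ := exists_ne (1 : Subgroup.center (G ⧸ Subgroup.center G))
    obtain ⟨y, rfl⟩ := QuotientGroup.mk_surjective ybar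
    have hyc : y ∉ Subgroup.center G := by
      intro h
      apply hyne
      apply Subtype.ext
      exact (QuotientGroup.eq_one_iff y).mpr h
    have hcomm : ∀ g : G, g * y * g⁻¹ * y⁻¹ ∈ Subgroup.center G := by
      intro g
      rw [← QuotientGroup.eq_one_iff]
      have h1 := Subgroup.mem_center_iff.mp hybar (g : G ⧸ Subgroup.center G)
      have : ((g * y * g⁻¹ * y⁻¹ : G) : G ⧸ Subgroup.center G)
          = (g : G ⧸ Subgroup.center G) * (y : G ⧸ Subgroup.center G) * (g : G ⧸ Subgroup.center G)⁻¹
            * (y : G ⧸ Subgroup.center G)⁻¹ := by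
        simp
      rw [this, h1]
      group
    -- the commutator homomorphism
    let φ : G →* Subgroup.center G :=
      { toFun := fun g => ⟨g * y * g⁻¹ * y⁻¹, hcomm g⟩
        map_one' := by apply Subtype.ext; simp
        map_mul' := by
          intro g h
          apply Subtype.ext
          show g * h * y * (g * h)⁻¹ * y⁻¹ = (g * y * g⁻¹ * y⁻¹) * (h * y * h⁻¹ * y⁻¹)
          have hc := Subgroup.mem_center_iff.mp (hcomm h)
          calc g * h * y * (g * h)⁻¹ * y⁻¹ = g * (h * y * h⁻¹ * y⁻¹) * (y * g⁻¹ * y⁻¹) := by group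
            _ = (h * y * h⁻¹ * y⁻¹) * g * (y * g⁻¹ * y⁻¹) := by rw [hc g]
            _ = (h * y * h⁻¹ * y⁻¹) * (g * y * g⁻¹ * y⁻¹) := by group
            _ = (g * y * g⁻¹ * y⁻¹) * (h * y * h⁻¹ * y⁻¹) := by
                rw [← hc (g * y * g⁻¹ * y⁻¹)] }
    set C : Subgroup G := φ.ker with hCdef
    have hmemC : ∀ g : G, g ∈ C ↔ g * y = y * g := by
      intro g
      rw [hCdef, MonoidHom.mem_ker]
      constructor
      · intro h
        have h1 : g * y * g⁻¹ * y⁻¹ = 1 := congrArg Subtype.val h
        calc g * y = (g * y * g⁻¹ * y⁻¹) * (y * g) := by group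
          _ = y * g := by rw [h1, one_mul]
      · intro h
        apply Subtype.ext
        show g * y * g⁻¹ * y⁻¹ = 1
        rw [h]; group
    have hCcard : p ^ 3 ≤ Nat.card C := by
      have h1 : C.index = Nat.card φ.range := Subgroup.index_ker φ
      have h2 : Nat.card φ.range ≤ p := by
        rw [← hcardc]
        exact Subgroup.card_le_card_group φ.range
      have h3 := Subgroup.card_mul_index C
      rw [h1] at h3
      have h4 : p ^ 4 ≤ Nat.card C * p := by
        calc p ^ 4 ≤ Nat.card G := hcard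
          _ = Nat.card C * Nat.card φ.range := h3.symm
          _ ≤ Nat.card C * p := Nat.mul_le_mul_left _ h2
      have h5 : p ^ 4 = p ^ 3 * p := by ring
      rw [h5] at h4
      exact Nat.le_of_mul_le_mul_right h4 hp.pos
    set Z₁ : Subgroup G := Z₀ ⊔ Subgroup.zpowers y with hZ₁
    have hyC : y ∈ C := (hmemC y).mpr rfl
    have hZ₀C : Z₀ ≤ C := by
      intro w hw
      rw [hmemC]
      exact (Subgroup.mem_center_iff.mp (hZ₀le hw) y).symm
    have hZ₁C : Z₁ ≤ C := sup_le hZ₀C (Subgroup.zpowers_le.mpr hyC)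
    have hZ₁cent : Z₁ ≤ Subgroup.centralizer (C : Set G) := by
      apply sup_le
      · exact le_trans hZ₀le (Subgroup.center_le_centralizer _)
      · rw [Subgroup.zpowers_le, Subgroup.mem_centralizer_iff]
        intro g hg
        exact (hmemC g).mp hg
    have hlt : Z₀ < Z₁ := by
      apply lt_of_le_of_ne le_sup_left
      intro h
      apply hyc
      rw [hcenter, h]
      exact Subgroup.mem_sup_right (Subgroup.mem_zpowers y)
    exact exists_abelian_of_central hG C Z₁ hZ₁C hZ₁cent (hbig Z₁ hlt) hCcard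
  · -- centre of order ≥ p²
    have hlt : Z₀ < Subgroup.center G := lt_of_le_of_ne hZ₀le (fun h => hcase h.ge)
    have h3 : p ^ 3 ≤ Nat.card (⊤ : Subgroup G) := by
      rw [Subgroup.card_top]
      calc p ^ 3 ≤ p ^ 4 := Nat.pow_le_pow_right hp.pos (by norm_num)
        _ ≤ Nat.card G := hcard
    refine exists_abelian_of_central hG ⊤ (Subgroup.center G) le_top ?_ (hbig _ hlt) h3
    exact Subgroup.center_le_centralizer _

end Cfsg.Agent.Helper63
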