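import Mathlib
import Cfsg.Agent.Helper63.Mnm4
import Cfsg.Agent.S4143
import Cfsg.Agent.Helper29.Extraspecial

/-!
# Nonabelian groups of order `p ^ 3` and exponent `p` (for B-G 12.14)

Type-level facts about a nonabelian group `Q` of order `p ^ 3`: the centre has order `p`,
commutators are central, and every coset `u Z(Q)` with `u ∉ Z(Q)` is a single conjugacy class.
-/

set_option autoImplicit false

namespace Cfsg.Agent.Helper63.BG12

open Subgroup
open scoped IsMulCommutative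

section TypeLevel

variable {Q : Type*} [Group Q] [Finite Q] {p : ℕ} [hp : Fact p.Prime]

omit [Finite Q] hp in
theorem isPGroup_of_card_cube (hcard : Nat.card Q = p ^ 3) : IsPGroup p Q :=
  IsPGroup.of_card hcard

/-- the centre of a nonabelian group of order `p ^ 3` has order `p` -/
theorem card_center_of_card_cube (hcard : Nat.card Q = p ^ 3) (hna : ¬ IsMulCommutative Q) :
    Nat.card (center Q) = p := by
  have hQ : IsPGroup p Q := isPGroup_of_card_cube hcard
  have hle := Cfsg.Agent.S4143.card_center_le hcard hna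
  have : Nontrivial Q := by
    rw [← Finite.one_lt_card_iff_nontrivial, hcard]
    exact Nat.one_lt_pow (by norm_num) hp.out.one_lt
  have hZ : center Q ≠ ⊥ := (IsPGroup.bot_lt_center hQ).ne'
  obtain ⟨j, hj⟩ := (IsPGroup.iff_card).1 (hQ.to_subgroup (center Q))
  have hj0 : j ≠ 0 := by
    intro h0
    rw [h0, pow_zero] at hj
    exact hZ ((center Q).card_eq_one.1 hj)
  have hge : p ≤ Nat.card (center Q) := by
    rw [hj]
    calc p = p ^ 1 := (pow_one p).symm
      _ ≤ p ^ j := Nat.pow_le_pow_right hp.out.pos (Nat.one_le_iff_ne_zero.2 hj0)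
  exact le_antisymm hle hge

theorem commutator_le_center_of_card_cube (hcard : Nat.card Q = p ^ 3) :
    commutator Q ≤ center Q := by
  have hQ : IsPGroup p Q := isPGroup_of_card_cube hcard
  rw [commutator_def, Subgroup.commutator_le]
  intro a _ b _
  exact Cfsg.Agent.Helper63.MNM.comm_mem_center_of_card_cube hQ hcard a b

/-- in a nonabelian group of order `p ^ 3`, a noncentral element `u` is conjugate to `u * z` for every
central `z`. -/
theorem exists_conj_eq_mul_of_card_cube (hcard : Nat.card Q = p ^ 3) (hna : ¬ IsMulCommutative Q)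
    {u : Q} (hu : u ∉ center Q) {z : Q} (hz : z ∈ center Q) :
    ∃ s : Q, s * u * s⁻¹ = u * z := by
  have hc := commutator_le_center_of_card_cube (p := p) hcard
  have hZ := card_center_of_card_cube hcard hna
  -- the homomorphism `s ↦ [s, u]`
  let f : Q →* center Q :=
    { toFun := fun s => Cfsg.Agent.Helper29.commHom hc s u
      map_one' := by
        have := (Cfsg.Agent.Helper29.commHom₂ hc).map_one
        exact DFunLike.congr_fun this u
      map_mul' := fun a b => by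
        have := (Cfsg.Agent.Helper29.commHom₂ hc).map_mul a b
        exact DFunLike.congr_fun this u }
  have hf : ∀ s : Q, ((f s : center Q) : Q) = s * u * s⁻¹ * u⁻¹ := fun s => rfl
  -- its range is everything
  have hrange : f.range = ⊤ := by
    have hdvd : Nat.card f.range ∣ p := hZ ▸ Subgroup.card_subgroup_dvd_card f.range
    rcases (Nat.dvd_prime hp.out).1 hdvd with h1 | h1
    · exfalso
      apply hu
      rw [Subgroup.mem_center_iff]
      intro s
      have hbot : f.range = ⊥ := Subgroup.card_eq_one.1 h1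
      have hs : f s = 1 := by
        have : f s ∈ f.range := ⟨s, rfl⟩
        rw [hbot] at this
        exact this
      have hs' : s * u * s⁻¹ * u⁻¹ = 1 := by
        rw [← hf s, hs]; rfl
      calc s * u = (s * u * s⁻¹ * u⁻¹) * u * s := by group
        _ = u * s := by rw [hs', one_mul]
    · exact (Subgroup.card_eq_iff_eq_top _).1 (h1.trans hZ.symm)
  have hmem : (⟨z, hz⟩ : center Q) ∈ f.range := by rw [hrange]; trivial
  obtain ⟨s, hs⟩ := hmem
  refine ⟨s, ?_⟩
  have h1 : s * u * s⁻¹ * u⁻¹ = z := by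
    rw [← hf s, hs]
  have hzc := Subgroup.mem_center_iff.1 hz u
  calc s * u * s⁻¹ = (s * u * s⁻¹ * u⁻¹) * u := by group
    _ = z * u := by rw [h1]
    _ = u * z := hzc.symm

end TypeLevel

section SubgroupLevel

set_option linter.unusedSectionVars false

variable {G : Type*} [Group G] [Finite G] {p : ℕ} [hp : Fact p.Prime]

/-- `P₁` is a nonabelian subgroup of `G` of order `p ^ 3` and exponent `p`. -/
structure IsCube (p : ℕ) (P₁ : Subgroup G) : Prop where
  card : Nat.card P₁ = p ^ 3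
  nonab : ¬ IsMulCommutative P₁
  exp : ∀ t ∈ P₁, t ^ p = 1

/-- the centre of the subgroup `P₁`, as a subgroup of `G` -/
def cz (P₁ : Subgroup G) : Subgroup G := P₁ ⊓ centralizer (P₁ : Set G)

omit [Finite G] in
theorem cz_le (P₁ : Subgroup G) : cz P₁ ≤ P₁ := inf_le_left

omit [Finite G] in
theorem mem_cz_iff {P₁ : Subgroup G} {x : G} :
    x ∈ cz P₁ ↔ x ∈ P₁ ∧ ∀ y ∈ P₁, y * x = x * y := by
  unfold cz
  rw [Subgroup.mem_inf, Subgroup.mem_centralizer_iff]
  rfl

omit [Finite G] in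
theorem cz_eq_map_center (P₁ : Subgroup G) : cz P₁ = (center ↥P₁).map P₁.subtype := by
  ext x
  rw [mem_cz_iff, Subgroup.mem_map]
  constructor
  · rintro ⟨hx, hc⟩
    refine ⟨⟨x, hx⟩, ?_, rfl⟩
    rw [Subgroup.mem_center_iff]
    intro y
    exact Subtype.ext (hc y y.2)
  · rintro ⟨y, hy, rfl⟩
    refine ⟨y.2, fun w hw => ?_⟩
    have := Subgroup.mem_center_iff.1 hy ⟨w, hw⟩
    exact congrArg Subtype.val this

theorem IsCube.card_cz {P₁ : Subgroup G} (h : IsCube p P₁) : Nat.card (cz P₁) = p := by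
  rw [cz_eq_map_center, Subgroup.card_map_of_injective P₁.subtype_injective]
  exact card_center_of_card_cube h.card h.nonab

theorem IsCube.comm_mem_cz {P₁ : Subgroup G} (h : IsCube p P₁) {x y : G} (hx : x ∈ P₁)
    (hy : y ∈ P₁) : x * y * x⁻¹ * y⁻¹ ∈ cz P₁ := by
  rw [cz_eq_map_center]
  have hc := commutator_le_center_of_card_cube (p := p) h.card
  refine ⟨⟨x, hx⟩ * ⟨y, hy⟩ * ⟨x, hx⟩⁻¹ * ⟨y, hy⟩⁻¹, ?_, rfl⟩
  exact Cfsg.Agent.Helper29.comm_mem_center hc _ _

theorem IsCube.exists_conj {P₁ : Subgroup G} (h : IsCube p P₁) {u : G} (hu : u ∈ P₁)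
    (hu' : u ∉ cz P₁) {z : G} (hz : z ∈ cz P₁) : ∃ s ∈ P₁, s * u * s⁻¹ = u * z := by
  have hu2 : (⟨u, hu⟩ : P₁) ∉ center ↥P₁ := by
    intro hcon
    apply hu'
    rw [cz_eq_map_center]
    exact ⟨⟨u, hu⟩, hcon, rfl⟩
  have hz2 : (⟨z, cz_le P₁ hz⟩ : P₁) ∈ center ↥P₁ := by
    rw [Subgroup.mem_center_iff]
    intro y
    exact Subtype.ext ((mem_cz_iff.1 hz).2 y y.2)
  obtain ⟨s, hs⟩ := exists_conj_eq_mul_of_card_cube h.card h.nonab hu2 hz2
  exact ⟨s, s.2, congrArg Subtype.val hs⟩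

omit [Finite G] in
/-- elements of `cz P₁` commute with elements of `P₁` -/
theorem cz_comm {P₁ : Subgroup G} {z t : G} (hz : z ∈ cz P₁) (ht : t ∈ P₁) : t * z = z * t :=
  (mem_cz_iff.1 hz).2 t ht

/-- the subgroup `⟨t⟩ Z(P₁)` for `t ∈ P₁` -/
def tsub {P₁ : Subgroup G} (h : IsCube p P₁) {t : G} (ht : t ∈ P₁) : Subgroup G where
  carrier := {x | ∃ i : ℕ, ∃ z ∈ cz P₁, x = t ^ i * z}
  one_mem' := ⟨0, 1, Subgroup.one_mem _, by simp⟩
  mul_mem' := by
    rintro _ _ ⟨i, z, hz, rfl⟩ ⟨j, w, hw, rfl⟩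
    refine ⟨i + j, z * w, Subgroup.mul_mem _ hz hw, ?_⟩
    have hc : t ^ j * z = z * t ^ j := cz_comm hz (Subgroup.pow_mem _ ht j)
    calc t ^ i * z * (t ^ j * w) = t ^ i * (z * t ^ j) * w := by group
      _ = t ^ i * (t ^ j * z) * w := by rw [hc]
      _ = t ^ (i + j) * (z * w) := by rw [pow_add]; group
  inv_mem' := by
    rintro _ ⟨i, z, hz, rfl⟩
    refine ⟨(p - 1) * i, z⁻¹, Subgroup.inv_mem _ hz, ?_⟩
    have hp1 : 1 ≤ p := hp.out.one_le
    have h1 : t ^ i * t ^ ((p - 1) * i) = 1 := by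
      rw [← pow_add]
      have : i + (p - 1) * i = p * i := by
        have hp' : p = (p - 1) + 1 := by omega
        conv_rhs => rw [hp']
        ring
      rw [this, pow_mul, h.exp t ht, one_pow]
    have h2 : (t ^ i)⁻¹ = t ^ ((p - 1) * i) := inv_eq_of_mul_eq_one_right h1
    have hc : t ^ ((p - 1) * i) * z⁻¹ = z⁻¹ * t ^ ((p - 1) * i) :=
      cz_comm (Subgroup.inv_mem _ hz) (Subgroup.pow_mem _ ht _)
    rw [mul_inv_rev, h2, hc]

theorem mem_tsub {P₁ : Subgroup G} (h : IsCube p P₁) {t : G} (ht : t ∈ P₁) {x : G} :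
    x ∈ tsub h ht ↔ ∃ i : ℕ, ∃ z ∈ cz P₁, x = t ^ i * z := Iff.rfl

theorem tsub_le {P₁ : Subgroup G} (h : IsCube p P₁) {t : G} (ht : t ∈ P₁) : tsub h ht ≤ P₁ := by
  rintro _ ⟨i, z, hz, rfl⟩
  exact Subgroup.mul_mem _ (Subgroup.pow_mem _ ht i) (cz_le P₁ hz)

theorem cz_le_tsub {P₁ : Subgroup G} (h : IsCube p P₁) {t : G} (ht : t ∈ P₁) :
    cz P₁ ≤ tsub h ht := fun z hz => ⟨0, z, hz, by simp⟩

theorem self_mem_tsub {P₁ : Subgroup G} (h : IsCube p P₁) {t : G} (ht : t ∈ P₁) :
    t ∈ tsub h ht := ⟨1, 1, Subgroup.one_mem _, by simp⟩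

theorem tsub_comm {P₁ : Subgroup G} (h : IsCube p P₁) {t : G} (ht : t ∈ P₁) {x y : G}
    (hx : x ∈ tsub h ht) (hy : y ∈ tsub h ht) : x * y = y * x := by
  obtain ⟨i, z, hz, rfl⟩ := hx
  obtain ⟨j, w, hw, rfl⟩ := hy
  have h1 : t ^ j * z = z * t ^ j := cz_comm hz (Subgroup.pow_mem _ ht j)
  have h2 : t ^ i * w = w * t ^ i := cz_comm hw (Subgroup.pow_mem _ ht i)
  have h3 : z * w = w * z := (cz_comm hw (cz_le P₁ hz))
  have h4 : t ^ i * t ^ j = t ^ j * t ^ i := by rw [← pow_add, ← pow_add, add_comm]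
  calc t ^ i * z * (t ^ j * w) = t ^ i * (z * t ^ j) * w := by group
    _ = t ^ i * (t ^ j * z) * w := by rw [h1]
    _ = (t ^ i * t ^ j) * (z * w) := by group
    _ = (t ^ j * t ^ i) * (w * z) := by rw [h4, h3]
    _ = t ^ j * (t ^ i * w) * z := by group
    _ = t ^ j * (w * t ^ i) * z := by rw [h2]
    _ = t ^ j * w * (t ^ i * z) := by group

theorem tsub_isElementaryAbelian {P₁ : Subgroup G} (h : IsCube p P₁) {t : G} (ht : t ∈ P₁) :
    Cfsg.IsElementaryAbelian p (tsub h ht) :=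
  ⟨⟨⟨fun a b => Subtype.ext (tsub_comm h ht a.2 b.2)⟩⟩, fun a ha => h.exp a (tsub_le h ht ha)⟩

theorem card_tsub {P₁ : Subgroup G} (h : IsCube p P₁) {t : G} (ht : t ∈ P₁) (ht' : t ∉ cz P₁) :
    Nat.card (tsub h ht) = p ^ 2 := by
  have hpp := hp.out
  have hle := tsub_le h ht
  obtain ⟨k, hk3, hk⟩ := (Nat.dvd_prime_pow hpp).1 (h.card ▸ Subgroup.card_dvd_of_le hle)
  have hne : tsub h ht ≠ P₁ := by
    intro heq
    apply h.nonab
    refine ⟨⟨fun a b => Subtype.ext ?_⟩⟩
    have ha : (a : G) ∈ tsub h ht := by rw [heq]; exact a.2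
    have hb : (b : G) ∈ tsub h ht := by rw [heq]; exact b.2
    exact tsub_comm h ht ha hb
  have hk3' : k ≠ 3 := by
    intro h3
    apply hne
    exact Subgroup.eq_of_le_of_card_ge hle (by rw [hk, h3, h.card])
  have hlt : p < p ^ k := by
    rw [← hk]
    have hcz := h.card_cz
    have hZT := cz_le_tsub h ht
    rcases Nat.lt_or_ge (Nat.card (cz P₁)) (Nat.card (tsub h ht)) with h1 | h1
    · rw [hcz] at h1; exact h1
    · exfalso
      have := Subgroup.eq_of_le_of_card_ge hZT h1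
      apply ht'
      rw [this]
      exact self_mem_tsub h ht
  have hk2 : 2 ≤ k := by
    by_contra hcon
    have hk1 : k ≤ 1 := by omega
    have : p ^ k ≤ p ^ 1 := Nat.pow_le_pow_right hpp.pos hk1
    rw [pow_one] at this
    omega
  have : k = 2 := by omega
  rw [hk, this]

omit [Finite G] in
/-- a non-`p`-multiple power of a noncentral element of order `p` is noncentral -/
theorem pow_not_mem_of_not_dvd {Z : Subgroup G} {t : G} (htp : t ^ p = 1) (ht : t ∉ Z) {n : ℕ}
    (hn : ¬ p ∣ n) : t ^ n ∉ Z := by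
  intro hcon
  have hpp := hp.out
  have hcop : Nat.Coprime n p := (Nat.Coprime.symm ((Nat.Prime.coprime_iff_not_dvd hpp).2 hn))
  obtain ⟨m, -, hm⟩ := Nat.exists_mul_mod_eq_one_of_coprime hcop hpp.one_lt
  have h1 : t ^ (n * m) = t := by
    conv_lhs => rw [← Nat.div_add_mod (n * m) p, hm, pow_add, pow_mul, htp, one_pow, one_mul, pow_one]
  apply ht
  rw [← h1, pow_mul]
  exact Subgroup.pow_mem _ hcon m

end SubgroupLevel

end Cfsg.Agent.Helper63.BG12
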