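import Mathlib
import Cfsg.Agent.Helper63.BG12Cube
import Cfsg.Agent.Helper29.BG10A

/-!
# Conjugacy of the noncentral points of `⟨t⟩ Z(P₁)` (for B-G 12.14)
-/

set_option autoImplicit false
set_option linter.unusedSectionVars false

namespace Cfsg.Agent.Helper63.BG12

open Subgroup Cfsg.Agent.Helper29.BG10

variable {G : Type*} [Group G] [Finite G] {p : ℕ} [hp : Fact p.Prime]

/-- two subgroups of prime order sharing a non-identity element are equal -/
theorem eq_of_card_prime_of_mem {A B : Subgroup G} (hA : Nat.card A = p) (hB : Nat.card B = p)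
    {a : G} (ha : a ∈ A) (hb : a ∈ B) (ha1 : a ≠ 1) : A = B := by
  have hpp := hp.out
  have hz : Nat.card (zpowers a) = p := by
    have hdvd : Nat.card (zpowers a) ∣ p := by
      rw [← hA]; exact Subgroup.card_dvd_of_le (by rw [zpowers_le]; exact ha)
    rcases (Nat.dvd_prime hpp).1 hdvd with h1 | h1
    · exfalso
      apply ha1
      have := Subgroup.card_eq_one.1 h1
      rw [Subgroup.zpowers_eq_bot] at this
      exact this
    · exact h1
  have h1 : zpowers a = A :=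
    Subgroup.eq_of_le_of_card_ge (by rw [zpowers_le]; exact ha) (by rw [hz, hA])
  have h2 : zpowers a = B :=
    Subgroup.eq_of_le_of_card_ge (by rw [zpowers_le]; exact hb) (by rw [hz, hB])
  rw [← h1, h2]

theorem exists_mem_ne_one_of_card_prime {A : Subgroup G} (hA : Nat.card A = p) :
    ∃ a ∈ A, a ≠ 1 := by
  have hne : A ≠ ⊥ := by
    intro h
    rw [h, Subgroup.card_bot] at hA
    exact hp.out.one_lt.ne hA
  exact (Subgroup.ne_bot_iff_exists_ne_one).1 hne |>.elim fun a ha => ⟨a, a.2, fun h => ha (Subtype.ext h)⟩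

/-- the noncentral points of `⟨t⟩ Z(P₁)` are conjugate under `P₁` -/
theorem IsCube.exists_cj_eq {P₁ : Subgroup G} (h : IsCube p P₁) {t : G} (ht : t ∈ P₁)
    (ht' : t ∉ cz P₁) {A₀ A₁ : Subgroup G} (h0 : A₀ ≤ tsub h ht) (h1 : A₁ ≤ tsub h ht)
    (c0 : Nat.card A₀ = p) (c1 : Nat.card A₁ = p) (n0 : A₀ ≠ cz P₁) (n1 : A₁ ≠ cz P₁) :
    ∃ s ∈ P₁, cj s A₀ = A₁ := by
  have hpp := hp.out
  have htp : t ^ p = 1 := h.exp t ht
  obtain ⟨a, haA, ha1⟩ := exists_mem_ne_one_of_card_prime c0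
  obtain ⟨b, hbA, hb1⟩ := exists_mem_ne_one_of_card_prime c1
  have haZ : a ∉ cz P₁ := fun hcon => n0 (eq_of_card_prime_of_mem c0 h.card_cz haA hcon ha1)
  have hbZ : b ∉ cz P₁ := fun hcon => n1 (eq_of_card_prime_of_mem c1 h.card_cz hbA hcon hb1)
  obtain ⟨i, z, hz, hai⟩ := (mem_tsub h ht).1 (h0 haA)
  obtain ⟨j, w, hw, hbj⟩ := (mem_tsub h ht).1 (h1 hbA)
  have hi : ¬ p ∣ i := by
    rintro ⟨m, rfl⟩
    apply haZ
    rw [hai, pow_mul, htp, one_pow, one_mul]
    exact hz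
  have hj : ¬ p ∣ j := by
    rintro ⟨m, rfl⟩
    apply hbZ
    rw [hbj, pow_mul, htp, one_pow, one_mul]
    exact hw
  -- powers
  have hcz : Commute (t ^ i) z := (cz_comm hz (Subgroup.pow_mem _ ht i))
  have hcw : Commute (t ^ j) w := (cz_comm hw (Subgroup.pow_mem _ ht j))
  have hu : a ^ j = t ^ (i * j) * z ^ j := by
    rw [hai, hcz.mul_pow, ← pow_mul]
  have hv : b ^ i = t ^ (i * j) * w ^ i := by
    rw [hbj, hcw.mul_pow, ← pow_mul, mul_comm j i]
  have hij : ¬ p ∣ i * j := fun hd => (hpp.dvd_mul.1 hd).elim hi hj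
  have htij : t ^ (i * j) ∉ cz P₁ := pow_not_mem_of_not_dvd htp ht' hij
  have huP : a ^ j ∈ P₁ := Subgroup.pow_mem _ (tsub_le h ht (h0 haA)) j
  have huZ : a ^ j ∉ cz P₁ := by
    intro hcon
    apply htij
    have : t ^ (i * j) = a ^ j * (z ^ j)⁻¹ := by rw [hu]; group
    rw [this]
    exact Subgroup.mul_mem _ hcon (Subgroup.inv_mem _ (Subgroup.pow_mem _ hz j))
  have hz'' : (z ^ j)⁻¹ * w ^ i ∈ cz P₁ :=
    Subgroup.mul_mem _ (Subgroup.inv_mem _ (Subgroup.pow_mem _ hz j)) (Subgroup.pow_mem _ hw i)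
  obtain ⟨s, hsP, hs⟩ := h.exists_conj huP huZ hz''
  refine ⟨s, hsP, ?_⟩
  have hsb : s * a ^ j * s⁻¹ = b ^ i := by
    rw [hs, hu, hv]; group
  have hb_ne : b ^ i ≠ 1 := by
    have hbp : b ^ p = 1 := h.exp b (tsub_le h ht (h1 hbA))
    have hbbot : b ∉ (⊥ : Subgroup G) := fun hcon => hb1 (Subgroup.mem_bot.1 hcon)
    have := pow_not_mem_of_not_dvd (Z := (⊥ : Subgroup G)) hbp hbbot hi
    intro hcon
    exact this (Subgroup.mem_bot.2 hcon)
  apply eq_of_card_prime_of_mem (a := b ^ i) (by rw [card_cj, c0]) c1 ?_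
    (Subgroup.pow_mem _ hbA i) hb_ne
  rw [← hsb]
  exact conj_mem_cj (Subgroup.pow_mem _ haA j)

end Cfsg.Agent.Helper63.BG12
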