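import Mathlib
import Cfsg.Agent.Helper50.QA1
import Cfsg.Agent.Lib.Cores

/-!
# Coprime generation for a class-two `p`-group acting through an abelian quotient (for B-G 12.14)
-/

set_option autoImplicit false
set_option linter.unusedSectionVars false

namespace Cfsg.Agent.Helper63.BG12

open Subgroup

variable {Γ : Type*} [Group Γ] [Finite Γ] {p : ℕ} [hp : Fact p.Prime]

/-- `Q` acts on the normal `p'`-subgroup `D`; `Z₀` acts trivially, commutators of `Q` lie in `Z₀`,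
`Q` has exponent `p` and `|Q| ≥ p² |Z₀|`.  Then `D` is generated by the `C_D(a)`, `a ∈ Q ∖ Z₀`. -/
theorem le_of_forall_centralizer_le (D Q Z₀ T : Subgroup Γ) [hDn : D.Normal]
    (hpD : ¬ p ∣ Nat.card D)
    (hcomm : ∀ a ∈ Q, ∀ b ∈ Q, a * b * a⁻¹ * b⁻¹ ∈ Z₀)
    (hZ₀ : ∀ z ∈ Z₀, ∀ d ∈ D, z * d = d * z)
    (hexp : ∀ a ∈ Q, a ^ p = 1)
    (hcard : Nat.card Z₀ * p ^ 2 ≤ Nat.card Q)
    (hT : ∀ a ∈ Q, a ∉ Z₀ → D ⊓ centralizer {a} ≤ T) : D ≤ T := by
  classical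
  by_cases hA : ∃ a ∈ Q, a ∉ Z₀ ∧ ∀ d ∈ D, a * d = d * a
  · obtain ⟨a, haQ, haZ, hac⟩ := hA
    refine le_trans ?_ (hT a haQ haZ)
    intro d hd
    refine Subgroup.mem_inf.2 ⟨hd, ?_⟩
    rw [Subgroup.mem_centralizer_singleton_iff]
    exact (hac d hd).symm
  push Not at hA
  have hB : ∀ a ∈ Q, (∀ d ∈ D, a * d = d * a) → a ∈ Z₀ := by
    intro a ha hc
    by_contra hcon
    obtain ⟨d, hd, hne⟩ := hA a ha hcon
    exact hne (hc d hd)
  let φ : Γ →* MulAut ↥D := MulAut.conjNormal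
  let ψ : ↥Q →* MulAut ↥D := φ.comp Q.subtype
  have hφ : ∀ (g : Γ) (d : ↥D), ((φ g d : ↥D) : Γ) = g * d * g⁻¹ := fun g d =>
    MulAut.conjNormal_apply g d
  have hφ1 : ∀ g : Γ, (∀ d ∈ D, g * d = d * g) → φ g = 1 := by
    intro g hg
    ext d
    rw [hφ]
    show g * (d : Γ) * g⁻¹ = (d : Γ)
    rw [hg d d.2]; group
  have hφ1' : ∀ g : Γ, φ g = 1 → ∀ d ∈ D, g * d = d * g := by
    intro g hg d hd
    have := hφ g ⟨d, hd⟩
    rw [hg] at this
    have h2 : d = g * d * g⁻¹ := this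
    calc g * d = (g * d * g⁻¹) * g := by group
      _ = d * g := by rw [← h2]
  -- the kernel of ψ is small
  have hker : Nat.card ψ.ker ≤ Nat.card Z₀ := by
    have hmem : ∀ a : ψ.ker, ((a : ↥Q) : Γ) ∈ Z₀ := by
      intro a
      apply hB _ (a : ↥Q).2
      apply hφ1'
      exact a.2
    apply Nat.card_le_card_of_injective (fun a : ψ.ker => (⟨((a : ↥Q) : Γ), hmem a⟩ : ↥Z₀))
    intro a b hab
    have : ((a : ↥Q) : Γ) = ((b : ↥Q) : Γ) := by
      have := congrArg Subtype.val hab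
      exact this
    exact Subtype.ext (Subtype.ext this)
  have hrange : p ^ 2 ≤ Nat.card ψ.range := by
    rw [← Subgroup.index_ker]
    have h1 := Subgroup.index_mul_card ψ.ker
    have hZpos : 0 < Nat.card Z₀ := Nat.card_pos
    have h2 : Nat.card Z₀ * p ^ 2 ≤ ψ.ker.index * Nat.card Z₀ := by
      calc Nat.card Z₀ * p ^ 2 ≤ Nat.card Q := hcard
        _ = ψ.ker.index * Nat.card ψ.ker := h1.symm
        _ ≤ ψ.ker.index * Nat.card Z₀ := Nat.mul_le_mul_left _ hker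
    rw [mul_comm] at h2
    exact Nat.le_of_mul_le_mul_right h2 hZpos
  have hgen := Cfsg.Agent.Helper50.le_iSup_fixSub (p := p) ψ.range
    (by
      rintro _ ⟨a, rfl⟩ _ ⟨b, rfl⟩
      have hc := hcomm a a.2 b b.2
      have h1 : φ ((a : Γ) * (b : Γ) * (a : Γ)⁻¹ * (b : Γ)⁻¹) = 1 := hφ1 _ (hZ₀ _ hc)
      show φ a * φ b = φ b * φ a
      have h2 : φ ((a : Γ) * (b : Γ) * (a : Γ)⁻¹ * (b : Γ)⁻¹) =
          φ a * φ b * (φ a)⁻¹ * (φ b)⁻¹ := by
        rw [map_mul, map_mul, map_mul, map_inv, map_inv]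
      rw [h2] at h1
      calc φ a * φ b = (φ a * φ b * (φ a)⁻¹ * (φ b)⁻¹) * (φ b * φ a) := by group
        _ = φ b * φ a := by rw [h1, one_mul])
    (by
      rintro _ ⟨a, rfl⟩
      show (φ a) ^ p = 1
      rw [← map_pow, hexp a a.2, map_one])
    hrange ⊤
    (by rw [Subgroup.card_top]; exact hpD)
    (fun _ _ _ _ => Subgroup.mem_top _)
  intro d hd
  have hmem : (⟨d, hd⟩ : ↥D) ∈ (T.comap D.subtype) := by
    refine (le_trans hgen ?_) (Subgroup.mem_top _)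
    apply iSup_le
    rintro ⟨e, ⟨a, rfl⟩, hne⟩
    intro y hy
    have hy2 : y ∈ Cfsg.Agent.Helper50.fixSub (ψ a) := (Subgroup.mem_inf.1 hy).2
    have haZ : (a : Γ) ∉ Z₀ := by
      intro hcon
      apply hne
      exact hφ1 _ (hZ₀ _ hcon)
    have hfix : (a : Γ) * (y : Γ) * (a : Γ)⁻¹ = (y : Γ) := by
      have := Cfsg.Agent.Helper50.mem_fixSub.1 hy2
      have h2 := hφ (a : Γ) y
      have h3 : (ψ a) y = φ (a : Γ) y := rfl
      rw [h3] at this
      rw [this] at h2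
      exact h2.symm
    rw [Subgroup.mem_comap]
    apply hT a a.2 haZ
    refine Subgroup.mem_inf.2 ⟨y.2, ?_⟩
    rw [Subgroup.mem_centralizer_singleton_iff]
    show (y : Γ) * (a : Γ) = (a : Γ) * (y : Γ)
    calc (y : Γ) * (a : Γ) = ((a : Γ) * (y : Γ) * (a : Γ)⁻¹) * (a : Γ) := by rw [hfix]
      _ = (a : Γ) * (y : Γ) := by group
  exact hmem

end Cfsg.Agent.Helper63.BG12
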