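import Mathlib
import Cfsg.Agent.Helper63.BG12Conj
import Cfsg.Agent.Helper63.BG12Gen
import Cfsg.Agent.Helper54.PLength

/-!
# `C_G(Z) ≤ M` for `Z = Z(P₁)`, `P₁` extraspecial of order `p ^ 3` in a rank-two Sylow subgroup
(for B-G 12.14)
-/

set_option autoImplicit false
set_option linter.unusedSectionVars false

namespace Cfsg.Agent.Helper63.BG12

open Subgroup Cfsg Cfsg.Agent.Helper29.BG10

variable {G : Type*} [Group G] [Finite G] {p : ℕ} [hp : Fact p.Prime]

/-- an element commuting with `t` and with `Z(P₁)` centralizes `⟨t⟩ Z(P₁)` -/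
theorem mem_centralizer_tsub {P₁ : Subgroup G} (h : IsCube p P₁) {t : G} (ht : t ∈ P₁) {y : G}
    (hyt : y * t = t * y) (hyZ : ∀ z ∈ cz P₁, z * y = y * z) :
    y ∈ centralizer (tsub h ht : Set G) := by
  rw [Subgroup.mem_centralizer_iff]
  rintro _ ⟨i, z, hz, rfl⟩
  have h1 : Commute y (t ^ i) := (show Commute y t from hyt).pow_right i
  have h2 : z * y = y * z := hyZ z hz
  calc t ^ i * z * y = t ^ i * (z * y) := by group
    _ = t ^ i * (y * z) := by rw [h2]
    _ = (t ^ i * y) * z := by group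
    _ = (y * t ^ i) * z := by rw [h1.eq]
    _ = y * (t ^ i * z) := by group

/-- **Key step of B-G 12.14.** -/
theorem centralizer_cz_le {S P₁ : Subgroup G} (hS : IsSylowIn p S ⊤) (hP₁S : P₁ ≤ S)
    (h : IsCube p P₁) (hZS : S ≤ centralizer (cz P₁ : Set G))
    (hpl : Cfsg.PLengthLE p 1 ↥(centralizer (cz P₁ : Set G)))
    {M : Subgroup G} (hNM : normalizer (S : Set G) ≤ M)
    (hT : ∀ (t : G) (ht : t ∈ P₁), t ∉ cz P₁ → centralizer (tsub h ht : Set G) ≤ M) :
    centralizer (cz P₁ : Set G) ≤ M := by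
  classical
  set H : Subgroup G := centralizer (cz P₁ : Set G) with hH
  have hmemH : ∀ y : G, y ∈ H → ∀ z ∈ cz P₁, z * y = y * z := fun y hy =>
    Subgroup.mem_centralizer_iff.1 hy
  -- the Sylow subgroup of H
  have hSp : IsPGroup p (S.subgroupOf H) := hS.2.1.comap_subtype
  have hidx : ¬ p ∣ (S.subgroupOf H).index := by
    intro hd
    apply hS.2.2
    rw [Subgroup.relIndex_top_right]
    have h1 := Subgroup.relIndex_mul_index hZS
    rw [← h1]
    exact Dvd.dvd.mul_right hd _
  let Q : Sylow p ↥H := hSp.toSylow hidx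
  have hQ : (Q : Subgroup ↥H) = S.subgroupOf H := IsPGroup.toSylow_coe hSp hidx
  -- the p'-core lies in M
  have hD : Cfsg.pPrimeCore p ↥H ≤ M.subgroupOf H := by
    apply le_of_forall_centralizer_le (p := p) (Cfsg.pPrimeCore p ↥H) (P₁.subgroupOf H)
      ((cz P₁).subgroupOf H) (M.subgroupOf H)
    · have := Cfsg.Agent.Lib.card_pPrimeCore_coprime (G := ↥H) p
      exact fun hd => (Nat.Prime.coprime_iff_not_dvd hp.out).1 this.symm hd
    · intro a ha b hb
      rw [Subgroup.mem_subgroupOf] at ha hb ⊢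
      exact h.comm_mem_cz ha hb
    · intro z hz d _
      rw [Subgroup.mem_subgroupOf] at hz
      exact Subtype.ext (hmemH _ d.2 _ hz)
    · intro a ha
      rw [Subgroup.mem_subgroupOf] at ha
      exact Subtype.ext (h.exp _ ha)
    · have h1 : Nat.card ((cz P₁).subgroupOf H) = p := by
        rw [Nat.card_congr (Subgroup.subgroupOfEquivOfLe
          ((cz_le P₁).trans (hP₁S.trans hZS))).toEquiv]
        exact h.card_cz
      have h2 : Nat.card (P₁.subgroupOf H) = p ^ 3 := by
        rw [Nat.card_congr (Subgroup.subgroupOfEquivOfLe (hP₁S.trans hZS)).toEquiv]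
        exact h.card
      rw [h1, h2]
      exact le_of_eq (by ring)
    · intro a ha haZ y hy
      rw [Subgroup.mem_subgroupOf] at ha haZ ⊢
      apply hT (a : G) ha haZ
      obtain ⟨-, hy2⟩ := Subgroup.mem_inf.1 hy
      rw [Subgroup.mem_centralizer_singleton_iff] at hy2
      apply mem_centralizer_tsub h ha
      · have := congrArg Subtype.val hy2
        exact this
      · intro z hz
        exact hmemH _ y.2 z hz
  intro x hx
  obtain ⟨n, hn, k, hk, hnk⟩ :=
    Cfsg.Agent.Helper54.exists_mul_of_pLengthLE_one' hpl Q (⟨x, hx⟩ : ↥H)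
  have hkM : (k : G) ∈ M := hD hk
  have hnM : (n : G) ∈ M := by
    apply hNM
    rw [hQ] at hn
    rw [Subgroup.mem_normalizer_iff] at hn ⊢
    intro y
    by_cases hyH : y ∈ H
    · have := hn ⟨y, hyH⟩
      rw [Subgroup.mem_subgroupOf, Subgroup.mem_subgroupOf] at this
      exact this
    · constructor
      · intro hy; exact absurd (hZS hy) hyH
      · intro hy
        exfalso
        apply hyH
        have h1 : (n : G) * y * (n : G)⁻¹ ∈ H := hZS hy
        have h2 : y = (n : G)⁻¹ * ((n : G) * y * (n : G)⁻¹) * (n : G) := by group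
        rw [h2]
        exact H.mul_mem (H.mul_mem (H.inv_mem n.2) h1) n.2
  have : x = (n : G) * (k : G) := by
    have := congrArg Subtype.val hnk
    exact this.symm
  rw [this]
  exact M.mul_mem hnM hkM

end Cfsg.Agent.Helper63.BG12
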