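import Mathlib
import Cfsg.Agent.Helper63.BG12Cent
import Cfsg.Agent.Helper1.BG1217
import Cfsg.Agent.Helper29.BG10G
import Cfsg.Agent.Helper68.BG12A

/-!
# B-G Corollary 12.14: nonabelian `p`-subgroups lie in a unique maximal subgroup (statement S1422)

Proved modulo the statement shapes of S1403 (Uniqueness Theorem), S1410 (`p`-length one), S1412 (rank-two
Sylow subgroups), S1416 (B-G 12.4) and S1417(b) (B-G 12.5(b)).
-/

set_option autoImplicit false
set_option linter.unusedSectionVars false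
set_option linter.unusedVariables false

namespace Cfsg.Agent.Helper63.BG12

open Subgroup Cfsg Cfsg.Agent.Helper29.BG10 Cfsg.Agent.Helper1.BG12

variable {G : Type*} [Group G] [Finite G]

/-- the statement shape of S1410 -/
def HPLen (G : Type*) [Group G] : Prop :=
  ∀ (p : ℕ) [Fact p.Prime] (H : Subgroup G), H ≠ ⊤ → Cfsg.PLengthLE p 1 ↥H

/-- the statement shape of S1412 -/
def HRank2 (G : Type*) [Group G] : Prop :=
  ∀ (p : ℕ) [Fact p.Prime] (P : Sylow p G), Cfsg.PRankLE p 2 ↥(P : Subgroup G) →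
    IsMulCommutative ↥(P : Subgroup G) ∨ ∃ P₁ P₂ : Subgroup G, P₁ ⊔ P₂ = (P : Subgroup G) ∧
      (∀ a ∈ P₁, ∀ b ∈ P₂, a * b = b * a) ∧
      ¬ IsMulCommutative ↥P₁ ∧ Nat.card ↥P₁ = p ^ 3 ∧ Monoid.exponent ↥P₁ = p ∧ IsCyclic ↥P₂ ∧
      Subgroup.closure {x : G | x ∈ P₂ ∧ x ^ p = 1} = P₁ ⊓ Subgroup.centralizer (P₁ : Set G)

/-- the statement shape of S1416 -/
def H124 (G : Type*) [Group G] : Prop :=
  ∀ (M : Subgroup G), IsCoatom M → ∀ (p : ℕ) [Fact p.Prime] (A : Subgroup G),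
    (A ≤ M ∧ Cfsg.IsElementaryAbelian p A ∧ Nat.card ↥A = p ^ 2) →
    Subgroup.centralizer (A : Set G) ≤ M ∧
      ((∀ A₀ : Subgroup G, A₀ ≤ A → Nat.card ↥A₀ = p →
          ¬ (Subgroup.normalizer (A₀ : Set G) ≤ M ∧ ∀ L : Subgroup G, IsCoatom L →
            Subgroup.normalizer (A₀ : Set G) ≤ L → L = M)) →
        p ∈ Cfsg.sigma M ∧ Cfsg.alphaCore M = ⊥ ∧ Group.IsNilpotent ↥(Cfsg.sigmaCore M))

/-- the part of the statement shape of S1417 that we need: Sylow `p`-subgroups of `M` are abelian for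
`p ∈ τ₂(M)` -/
def H125 (G : Type*) [Group G] : Prop :=
  ∀ (M : Subgroup G), IsCoatom M → ∀ (p : ℕ) [Fact p.Prime], p ∈ Cfsg.tau2 M → ∀ (A : Subgroup G),
    (A ≤ M ∧ Cfsg.IsElementaryAbelian p A ∧ Nat.card ↥A = p ^ 2) →
    ∀ P : Sylow p ↥M, IsMulCommutative ↥(P : Subgroup ↥M)

theorem centSq_of_h124 (h124 : H124 G) {M : Subgroup G} (hM : IsCoatom M) (p : ℕ) [Fact p.Prime] :
    CentSq p M := fun A hAM hAe hAc => (h124 M hM p A ⟨hAM, hAe, hAc⟩).1

theorem odd_prime_of_dvd (hG : Cfsg.IsMinSimpleOddOrder G) {p : ℕ} (hd : p ∣ Nat.card G) : p ≠ 2 := by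
  intro h2
  rw [h2] at hd
  exact (Nat.not_even_iff_odd.2 hG.1) (even_iff_two_dvd.2 hd)

theorem not_isCyclic_of_not_comm {P : Subgroup G} (hPna : ¬ IsMulCommutative ↥P) : ¬ IsCyclic ↥P := by
  intro hc
  apply hPna
  exact ⟨⟨fun a b => (IsCyclic.commGroup (α := ↥P)).mul_comm a b⟩⟩

theorem not_comm_of_le {P S : Subgroup G} (hPS : P ≤ S) (hPna : ¬ IsMulCommutative ↥P) :
    ¬ IsMulCommutative ↥S := by
  intro hc
  apply hPna
  refine ⟨⟨fun a b => Subtype.ext ?_⟩⟩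
  have := hc.is_comm.comm (⟨a, hPS a.2⟩ : ↥S) ⟨b, hPS b.2⟩
  have h2 := congrArg Subtype.val this
  exact h2

theorem ne_two_of_nonabelian (hG : Cfsg.IsMinSimpleOddOrder G) {p : ℕ} [hp : Fact p.Prime]
    {P : Subgroup G} (hP : IsPGroup p P) (hPna : ¬ IsMulCommutative ↥P) : p ≠ 2 := by
  apply odd_prime_of_dvd hG
  have hne : P ≠ ⊥ := by
    intro h
    apply hPna
    refine ⟨⟨fun a b => ?_⟩⟩
    have hle : P ≤ ⊥ := le_of_eq h
    have ha : a = 1 := Subtype.ext (Subgroup.mem_bot.1 (hle a.2))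
    have hb : b = 1 := Subtype.ext (Subgroup.mem_bot.1 (hle b.2))
    rw [ha, hb]
  obtain ⟨n, hn⟩ := IsPGroup.iff_card.1 hP
  have hn0 : n ≠ 0 := by
    intro h0
    rw [h0, pow_zero] at hn
    exact hne (Subgroup.card_eq_one.1 hn)
  have : p ∣ Nat.card P := by
    rw [hn]; exact dvd_pow_self p hn0
  exact this.trans (Subgroup.card_subgroup_dvd_card P)

/-- **B-G 12.12(a)** for `p`-groups: a nonabelian `p`-subgroup of `M` has `p ∈ σ(M)`. -/
theorem mem_sigma_of_nonabelian (hG : Cfsg.IsMinSimpleOddOrder G) (hU : UniquenessThm G)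
    (h125 : H125 G) {M : Subgroup G} (hM : IsCoatom M) {p : ℕ} [hp : Fact p.Prime]
    {P : Subgroup G} (hP : IsPGroup p P) (hPM : P ≤ M) (hPna : ¬ IsMulCommutative ↥P) :
    p ∈ Cfsg.sigma M := by
  by_contra hσ
  have hpp := hp.out
  have hp2 := ne_two_of_nonabelian hG hP hPna
  have hr2 : Cfsg.PRankLE p 2 ↥M := by
    by_contra hcon
    exact hσ (alpha_subset_sigma hG hU hM ⟨hpp, hcon⟩)
  obtain ⟨V, hVP, -, hVc, hVe, hVcard, -⟩ :=
    Cfsg.Agent.Helper54.BGU.exists_normal_sq hp2 hP (not_isCyclic_of_not_comm hPna)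
  have hVea : Cfsg.IsElementaryAbelian p V :=
    ⟨⟨⟨fun a b => Subtype.ext (hVc a a.2 b b.2)⟩⟩, hVe⟩
  have hr1 : ¬ Cfsg.PRankLE p 1 ↥M := by
    rw [Cfsg.Agent.Helper23.not_pRankLE_subgroup_iff]
    refine ⟨V, hVP.trans hPM, hVea, ?_⟩
    rw [hVcard]
    exact Nat.pow_lt_pow_right hpp.one_lt (by norm_num)
  have hτ : p ∈ Cfsg.tau2 M := ⟨hpp, hσ, hr2, hr1⟩
  have hab := h125 M hM p hτ V ⟨hVP.trans hPM, hVea, hVcard⟩
  have hP' : IsPGroup p (P.subgroupOf M) := hP.comap_subtype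
  obtain ⟨Q, hQ⟩ := hP'.exists_le_sylow
  apply hPna
  refine ⟨⟨fun a b => Subtype.ext ?_⟩⟩
  have ha : (⟨a, hPM a.2⟩ : ↥M) ∈ (Q : Subgroup ↥M) := hQ (Subgroup.mem_subgroupOf.2 a.2)
  have hb : (⟨b, hPM b.2⟩ : ↥M) ∈ (Q : Subgroup ↥M) := hQ (Subgroup.mem_subgroupOf.2 b.2)
  have := (hab Q).is_comm.comm (⟨_, ha⟩ : ↥(Q : Subgroup ↥M)) ⟨_, hb⟩
  have h2 := congrArg (fun x : ↥(Q : Subgroup ↥M) => ((x : ↥M) : G)) this
  exact h2

/-- if `M_σ` is nilpotent and `p ∈ σ(M)`, a Sylow `p`-subgroup of `M` is normal in `M` -/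
theorem le_normalizer_of_sigmaCore_nilpotent (hG : Cfsg.IsMinSimpleOddOrder G)
    (hU : UniquenessThm G) {M : Subgroup G} (hM : IsCoatom M) {p : ℕ} [hp : Fact p.Prime]
    (hσ : p ∈ Cfsg.sigma M) (hnil : Group.IsNilpotent ↥(Cfsg.sigmaCore M)) {S : Subgroup G}
    (hS : IsSylowIn p S M) : M ≤ Subgroup.normalizer (S : Set G) := by
  classical
  have hpp := hp.out
  obtain ⟨⟨hKM, hKpi, hKidx⟩, -, -⟩ := thm_10_2_sigma hG hU M hM
  set K : Subgroup G := Cfsg.sigmaCore M with hK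
  -- S ≤ K
  have hSK : S ≤ K := by
    have hcop : ((Cfsg.piCore (Cfsg.sigma M) ↥M).index).Coprime p := by
      rw [Nat.coprime_comm, Nat.Prime.coprime_iff_not_dvd hpp]
      have := hKidx p hpp hσ
      rw [hK] at this
      unfold Cfsg.sigmaCore at this
      rwa [relIndex_map_subtype] at this
    have h1 := le_of_index_coprime (Cfsg.piCore (Cfsg.sigma M) ↥M) hcop (S.subgroupOf M)
      hS.2.1.comap_subtype
    intro x hx
    exact ⟨⟨x, hS.1 hx⟩, h1 (Subgroup.mem_subgroupOf.2 hx), rfl⟩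
  -- S is Sylow in K
  have hSK' : IsSylowIn p S K := by
    refine ⟨hSK, hS.2.1, ?_⟩
    intro hd
    apply hS.2.2
    rw [← Subgroup.relIndex_mul_relIndex S K M hSK hKM]
    exact Dvd.dvd.mul_right hd _
  -- S is normal in K
  have hKS : K ≤ Subgroup.normalizer (S : Set G) := by
    rw [← Subgroup.normal_subgroupOf_iff_le_normalizer hSK]
    have hSp : IsPGroup p (S.subgroupOf K) := hS.2.1.comap_subtype
    let Q : Sylow p ↥K := hSp.toSylow hSK'.2.2
    have hQ : (Q : Subgroup ↥K) = S.subgroupOf K := IsPGroup.toSylow_coe hSp hSK'.2.2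
    have := hnil
    have hn : (Q : Subgroup ↥K).Normal := inferInstance
    rwa [hQ] at hn
  -- M normalizes K
  have hMK : ∀ m ∈ M, cj m K = K := by
    intro m hm
    apply le_antisymm
    · intro x hx
      rw [mem_cj] at hx
      have h3 := Cfsg.Agent.Helper68.BG12.conj_mem_sigmaCore hm hx
      have e3 : m * (m⁻¹ * x * m) * m⁻¹ = x := by group
      rwa [e3] at h3
    · intro x hx
      rw [mem_cj]
      have := Cfsg.Agent.Helper68.BG12.conj_mem_sigmaCore (M.inv_mem hm) hx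
      rwa [inv_inv] at this
  intro m hm
  apply mem_normalizer_of_cj_eq
  have h1 : cj m S ≤ K := by
    have := cj_mono (g := m) hSK
    rwa [hMK m hm] at this
  obtain ⟨R, hR1, hR⟩ := exists_isSylowIn_ge h1 (isPGroup_cj hS.2.1)
  have hSR : S ≤ R := hR.normal_le hS.2.1 hKS hSK
  have hRS : R = S := eq_of_isSylowIn_le hSK' hSR hR.1 hR.2.1
  apply Subgroup.eq_of_le_of_card_ge (hRS ▸ hR1)
  rw [card_cj]

/-- the data of a rank-two nonabelian Sylow subgroup `S = P₁ ∘ P₂` used below -/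
structure CubeIn (p : ℕ) (S P₁ : Subgroup G) : Prop where
  cube : IsCube p P₁
  le : P₁ ≤ S
  cent : S ≤ centralizer (cz P₁ : Set G)

/-- from the statement shape of S1412: a nonabelian Sylow subgroup of rank at most two contains a
central-product factor `P₁`, nonabelian of order `p ^ 3` and exponent `p`, with `Z(P₁) ≤ Z(S)` -/
theorem exists_cubeIn (h12 : HRank2 G) {p : ℕ} [hp : Fact p.Prime] {S : Subgroup G}
    (hS : IsSylowIn p S ⊤) (hr : Cfsg.PRankLE p 2 ↥S) (hSna : ¬ IsMulCommutative ↥S) :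
    ∃ P₁ : Subgroup G, CubeIn p S P₁ := by
  have hidx : ¬ p ∣ S.index := by
    have := hS.2.2
    rwa [Subgroup.relIndex_top_right] at this
  let Q : Sylow p G := hS.2.1.toSylow hidx
  have hQ : (Q : Subgroup G) = S := IsPGroup.toSylow_coe hS.2.1 hidx
  have hrQ : Cfsg.PRankLE p 2 ↥(Q : Subgroup G) := by rw [hQ]; exact hr
  rcases h12 p Q hrQ with hab | ⟨P₁, P₂, hsup, hcomm, hna, hcard, hexp, -, -⟩
  · exfalso
    apply hSna
    rw [hQ] at hab
    exact hab
  rw [hQ] at hsup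
  refine ⟨P₁, ⟨hcard, hna, ?_⟩, ?_, ?_⟩
  · intro t ht
    have := Monoid.pow_exponent_eq_one (⟨t, ht⟩ : ↥P₁)
    rw [hexp] at this
    exact congrArg Subtype.val this
  · rw [← hsup]; exact le_sup_left
  · rw [← hsup]
    refine sup_le ?_ ?_
    · intro t ht
      rw [Subgroup.mem_centralizer_iff]
      intro z hz
      exact (cz_comm hz ht).symm
    · intro b hb
      rw [Subgroup.mem_centralizer_iff]
      intro z hz
      exact hcomm z (cz_le P₁ hz) b hb

/-- `N_G(Z(P₁)) ≤ M` for every maximal subgroup `M` containing `S` with `N_G(S) ≤ M`, `p ∈ σ(M)` -/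
theorem normalizer_cz_le (hG : Cfsg.IsMinSimpleOddOrder G) (hU : UniquenessThm G) (h10 : HPLen G)
    (h124 : H124 G) {p : ℕ} [hp : Fact p.Prime] {S P₁ : Subgroup G} (hS : IsSylowIn p S ⊤)
    (hc : CubeIn p S P₁) {M : Subgroup G} (hM : IsCoatom M) (hσ : p ∈ Cfsg.sigma M) (hSM : S ≤ M)
    (hNM : normalizer (S : Set G) ≤ M) : normalizer (cz P₁ : Set G) ≤ M := by
  have hpp := hp.out
  have hZ1 : cz P₁ ≠ ⊥ := by
    intro h
    have := hc.cube.card_cz
    rw [h, Subgroup.card_bot] at this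
    exact hpp.one_lt.ne this
  have hZM : cz P₁ ≤ M := (cz_le P₁).trans (hc.le.trans hSM)
  have hZp : IsPGroup p (cz P₁) := IsPGroup.of_card (n := 1) (by rw [hc.cube.card_cz, pow_one])
  have hC : centralizer (cz P₁ : Set G) ≤ M := by
    apply centralizer_cz_le hS hc.le hc.cube hc.cent
      (h10 p _ (centralizer_ne_top hG hZ1)) hNM
    intro t ht htZ
    exact centSq_of_h124 h124 hM p _ ((tsub_le hc.cube ht).trans (hc.le.trans hSM))
      (tsub_isElementaryAbelian hc.cube ht) (card_tsub hc.cube ht htZ)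
  rw [(thm_10_1 hG hU M hM hσ (cz P₁) hZp hZ1 hZM).2]
  exact sup_le inf_le_left hC

/-- **B-G Corollary 12.14, main step**: two maximal subgroups containing a nonabelian `p`-subgroup
coincide. -/
theorem eq_of_nonabelian_le (hG : Cfsg.IsMinSimpleOddOrder G) (hU : UniquenessThm G)
    (h10 : HPLen G) (h12 : HRank2 G) (h124 : H124 G) (h125 : H125 G) {p : ℕ} [hp : Fact p.Prime]
    {P : Subgroup G} (hP : IsPGroup p P) (hPna : ¬ IsMulCommutative ↥P) {M L : Subgroup G}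
    (hM : IsCoatom M) (hL : IsCoatom L) (hPM : P ≤ M) (hPL : P ≤ L) : M = L := by
  classical
  have hpp := hp.out
  have hσM := mem_sigma_of_nonabelian hG hU h125 hM hP hPM hPna
  have hσL := mem_sigma_of_nonabelian hG hU h125 hL hP hPL hPna
  obtain ⟨S, hPS, hS⟩ := exists_isSylowIn_ge (le_inf hPM hPL) hP
  have hSM : S ≤ M := hS.1.trans inf_le_left
  have hSL : S ≤ L := hS.1.trans inf_le_right
  have hSna : ¬ IsMulCommutative ↥S := not_comm_of_le hPS hPna
  have hSnc : ¬ IsCyclic ↥S := not_isCyclic_of_not_comm hSna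
  have hNM : normalizer (S : Set G) ≤ M :=
    normalizer_le_of_not_isCyclic hG hU hM hσM (centSq_of_h124 h124 hM p) hS.2.1 hSM hSnc
  have hNL : normalizer (S : Set G) ≤ L :=
    normalizer_le_of_not_isCyclic hG hU hL hσL (centSq_of_h124 h124 hL p) hS.2.1 hSL hSnc
  -- S is Sylow in M and in L
  have hsyl : ∀ X : Subgroup G, S ≤ X → IsSylowIn p S X := by
    intro X hSX
    obtain ⟨Q, hSQ, hQ⟩ := exists_isSylowIn_ge hSX hS.2.1
    rcases eq_or_lt_of_le hSQ with he | hlt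
    · rw [he]; exact hQ
    · exfalso
      have hlt2 := Cfsg.Agent.Helper31.bgt_lt_inf_normalizer_of_lt hQ.2.1 hlt
      have hYle : Q ⊓ normalizer (S : Set G) ≤ M ⊓ L :=
        le_inf (inf_le_right.trans hNM) (inf_le_right.trans hNL)
      have := eq_of_isSylowIn_le hS hlt2.le hYle (hQ.2.1.to_le inf_le_left)
      exact hlt2.ne this.symm
  have hSM' : IsSylowIn p S M := hsyl M hSM
  have hSL' : IsSylowIn p S L := hsyl L hSL
  have hStop : IsSylowIn p S ⊤ := isSylowIn_top_of_normalizer_le hSM' hNM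
  by_cases hr : Cfsg.PRankLE p 2 ↥S
  swap
  · have huniq := uniq_of_uniquenessThm hG hU S hS.2.1 hr
    exact huniq.unique ⟨hM, hSM⟩ ⟨hL, hSL⟩
  obtain ⟨P₁, hc⟩ := exists_cubeIn h12 hStop hr hSna
  have hNZM := normalizer_cz_le hG hU h10 h124 hStop hc hM hσM hSM hNM
  have hNZL := normalizer_cz_le hG hU h10 h124 hStop hc hL hσL hSL hNL
  -- a noncentral element of P₁
  obtain ⟨t, ht, htZ⟩ : ∃ t ∈ P₁, t ∉ cz P₁ := by
    by_contra hcon
    push Not at hcon
    have hle : P₁ ≤ cz P₁ := hcon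
    have h1 := Subgroup.card_le_of_le hle
    rw [hc.cube.card, hc.cube.card_cz] at h1
    have : p ^ 1 < p ^ 3 := Nat.pow_lt_pow_right hpp.one_lt (by norm_num)
    rw [pow_one] at this
    omega
  set T := tsub hc.cube ht with hT
  have hTP : T ≤ P₁ := tsub_le hc.cube ht
  have hTe := tsub_isElementaryAbelian hc.cube ht
  have hTc := card_tsub hc.cube ht htZ
  -- the dichotomy of 12.4 for M and for L
  have hdich : ∀ X : Subgroup G, IsCoatom X → p ∈ Cfsg.sigma X → S ≤ X → IsSylowIn p S X →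
      (X ≤ normalizer (S : Set G)) ∨ ∃ A₀ : Subgroup G, A₀ ≤ T ∧ Nat.card A₀ = p ∧
        normalizer (A₀ : Set G) ≤ X ∧ ∀ Y : Subgroup G, IsCoatom Y →
          normalizer (A₀ : Set G) ≤ Y → Y = X := by
    intro X hX hσX hSX hSX'
    have h2 := (h124 X hX p T ⟨hTP.trans (hc.le.trans hSX), hTe, hTc⟩).2
    by_cases hnil : Group.IsNilpotent ↥(Cfsg.sigmaCore X)
    · left
      exact le_normalizer_of_sigmaCore_nilpotent hG hU hX hσX hnil hSX'
    · right
      by_contra hcon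
      push Not at hcon
      apply hnil
      refine (h2 ?_).2.2
      intro A₀ hA₀T hA₀c hh
      obtain ⟨Y, hY, hYN, hYne⟩ := hcon A₀ hA₀T hA₀c hh.1
      exact hYne (hh.2 Y hY hYN)
  rcases hdich M hM hσM hSM hSM' with hMn | ⟨A₀, hA₀T, hA₀c, hA₀M, hA₀u⟩
  · exact hM.le_iff_eq hL.1 |>.1 (hMn.trans hNL) |>.symm ▸ rfl
  rcases hdich L hL hσL hSL hSL' with hLn | ⟨A₁, hA₁T, hA₁c, hA₁L, hA₁u⟩
  · exact (hL.le_iff_eq hM.1 |>.1 (hLn.trans hNM))
  by_cases h0 : A₀ = cz P₁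
  · rw [h0] at hA₀u
    exact (hA₀u L hL hNZL).symm
  by_cases h1 : A₁ = cz P₁
  · rw [h1] at hA₁u
    exact hA₁u M hM hNZM
  obtain ⟨s, hs, hsA⟩ := hc.cube.exists_cj_eq ht htZ hA₀T hA₁T hA₀c hA₁c h0 h1
  have hsM : s ∈ M := hSM (hc.le hs)
  have : normalizer (A₁ : Set G) ≤ M := by
    rw [← hsA, normalizer_cj]
    have := cj_mono (g := s) hA₀M
    rwa [cj_eq_self_of_mem hsM] at this
  exact hA₁u M hM this

/-- **B-G Corollary 12.14** (statement S1422), modulo the statement shapes of S1403, S1410, S1412,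
S1416, S1417. -/
theorem nonabelian_inUniqueMaximal (hG : Cfsg.IsMinSimpleOddOrder G) (hU : UniquenessThm G)
    (h10 : HPLen G) (h12 : HRank2 G) (h124 : H124 G) (h125 : H125 G) {p : ℕ} [hp : Fact p.Prime]
    {P : Subgroup G} (hP : IsPGroup p P) (hPna : ¬ IsMulCommutative ↥P) :
    Cfsg.InUniqueMaximal P := by
  obtain ⟨M, hM, hPM⟩ := (eq_top_or_exists_le_coatom P).resolve_left (isPGroup_ne_top hG hP)
  refine ⟨M, ⟨hM, hPM⟩, ?_⟩
  rintro L ⟨hL, hPL⟩
  exact (eq_of_nonabelian_le hG hU h10 h12 h124 h125 hP hPna hM hL hPM hPL).symm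

end Cfsg.Agent.Helper63.BG12
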