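import Mathlib
import Cfsg.Prelude.Def_Transfer
import Cfsg.Agent.Helper29.BG10A

/-!
# Normal `p`-complements and commutators (for B-G 12.15)

If `Γ` has a normal `p`-complement and `S` is a Sylow `p`-subgroup, then `Γ' ∩ S = S'`.
-/

set_option autoImplicit false
set_option linter.unusedSectionVars false

namespace Cfsg.Agent.Helper63.BG12

open Subgroup Cfsg.Agent.Helper29.BG10

section TypeLevel

variable {Γ : Type*} [Group Γ] [Finite Γ] {p : ℕ} [hp : Fact p.Prime]

/-- with a normal `p`-complement, `Γ' ∩ S ≤ S'` for every Sylow `p`-subgroup `S` -/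
theorem mem_commutator_sylow_of_npc (h : Cfsg.HasNormalPComplement p Γ) (S : Sylow p Γ) {x : Γ}
    (hxS : x ∈ (S : Subgroup Γ)) (hx : x ∈ commutator Γ) :
    x ∈ ⁅(S : Subgroup Γ), (S : Subgroup Γ)⁆ := by
  obtain ⟨P₀, N, hN, hc⟩ := h
  have hcard : Nat.card (S : Subgroup Γ) = Nat.card (P₀ : Subgroup Γ) := by
    rw [Sylow.card_eq_multiplicity, Sylow.card_eq_multiplicity]
  have h1 := hc.card_mul_card
  have hcop : (Nat.card (S : Subgroup Γ)).Coprime (Nat.card N) := by
    obtain ⟨n, hn⟩ := IsPGroup.iff_card.1 S.isPGroup'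
    rw [hn]
    apply Nat.Coprime.pow_left
    rw [Nat.Prime.coprime_iff_not_dvd hp.out]
    intro hd
    have hidx : (P₀ : Subgroup Γ).index = Nat.card N := by
      have h2 := Subgroup.index_mul_card (P₀ : Subgroup Γ)
      rw [← h1] at h2
      exact Nat.eq_of_mul_eq_mul_right Nat.card_pos h2
    exact P₀.not_dvd_index (hidx ▸ hd)
  have hcS : (S : Subgroup Γ).IsComplement' N := by
    apply Subgroup.isComplement'_of_coprime _ hcop
    rw [hcard, mul_comm]; exact h1
  let ρ : Γ →* ↥(S : Subgroup Γ) :=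
    (hcS.QuotientMulEquiv).toMonoidHom.comp (QuotientGroup.mk' N)
  have hρ : ∀ s : ↥(S : Subgroup Γ), ρ (s : Γ) = s := by
    intro s
    show hcS.QuotientMulEquiv (QuotientGroup.mk (s : Γ)) = s
    rw [← MulEquiv.eq_symm_apply]
    rfl
  have h2 : ρ x ∈ commutator ↥(S : Subgroup Γ) := by
    have h3 : ρ x ∈ (commutator Γ).map ρ := Subgroup.mem_map_of_mem ρ hx
    rw [commutator_def, Subgroup.map_commutator] at h3
    rw [commutator_def]
    exact Subgroup.commutator_mono le_top le_top h3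
  rw [hρ ⟨x, hxS⟩] at h2
  have h4 : (⟨x, hxS⟩ : ↥(S : Subgroup Γ)).1 ∈
      (commutator ↥(S : Subgroup Γ)).map (S : Subgroup Γ).subtype :=
    Subgroup.mem_map_of_mem _ h2
  rw [commutator_def, Subgroup.map_commutator] at h4
  have e : (⊤ : Subgroup ↥(S : Subgroup Γ)).map (S : Subgroup Γ).subtype = (S : Subgroup Γ) := by
    rw [← MonoidHom.range_eq_map, Subgroup.range_subtype]
  rw [e] at h4
  exact h4

end TypeLevel

section SubgroupLevel

variable {G : Type*} [Group G] [Finite G] {p : ℕ} [hp : Fact p.Prime]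

/-- subgroup version: `K` has a normal `p`-complement, `X ≤ K'` a `p`-group.  Then `X ≤ S'` for some
Sylow `p`-subgroup `S` of `K`. -/
theorem exists_sylow_commutator_ge {K X : Subgroup G} (h : Cfsg.HasNormalPComplement p ↥K)
    (hX : IsPGroup p X) (hXK : X ≤ ⁅K, K⁆) :
    ∃ S : Subgroup G, IsSylowIn p S K ∧ X ≤ S ∧ X ≤ ⁅S, S⁆ := by
  have hKK : ⁅K, K⁆ ≤ K := Subgroup.commutator_le_self K
  have hX' : IsPGroup p (X.subgroupOf K) := hX.comap_subtype
  obtain ⟨Q, hQ⟩ := hX'.exists_le_sylow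
  refine ⟨(Q : Subgroup ↥K).map K.subtype, ?_, ?_, ?_⟩
  · refine ⟨Subgroup.map_subtype_le _, Q.isPGroup'.map _, ?_⟩
    rw [Subgroup.relIndex, Subgroup.subgroupOf,
      Subgroup.comap_map_eq_self_of_injective K.subtype_injective]
    exact Q.not_dvd_index
  · intro x hx
    exact ⟨⟨x, hKK (hXK hx)⟩, hQ (Subgroup.mem_subgroupOf.2 hx), rfl⟩
  · intro x hx
    have hxK : x ∈ K := hKK (hXK hx)
    have hxQ : (⟨x, hxK⟩ : ↥K) ∈ (Q : Subgroup ↥K) := hQ (Subgroup.mem_subgroupOf.2 hx)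
    have hxc : (⟨x, hxK⟩ : ↥K) ∈ commutator ↥K := by
      have h1 : x ∈ (commutator ↥K).map K.subtype := by
        rw [commutator_def, Subgroup.map_commutator]
        have e : (⊤ : Subgroup ↥K).map K.subtype = K := by
          rw [← MonoidHom.range_eq_map, Subgroup.range_subtype]
        rw [e]
        exact hXK hx
      obtain ⟨y, hy, hyx⟩ := h1
      have : y = ⟨x, hxK⟩ := Subtype.ext hyx
      rwa [← this]
    have h2 := mem_commutator_sylow_of_npc h Q hxQ hxc
    have h3 : x ∈ (⁅(Q : Subgroup ↥K), (Q : Subgroup ↥K)⁆).map K.subtype :=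
      ⟨⟨x, hxK⟩, h2, rfl⟩
    rwa [Subgroup.map_commutator] at h3

end SubgroupLevel

end Cfsg.Agent.Helper63.BG12
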