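import Mathlib
import Cfsg.Agent.S1452
import Cfsg.Agent.S0100
import Cfsg.Agent.Helper23.RankTwo
import Cfsg.Agent.Helper31.CoprimeHyp

/-!
# Centralizers of elements of the derived group in `p`-groups of rank at least three (for B-G 12.15)
-/

set_option autoImplicit false
set_option linter.unusedSectionVars false

namespace Cfsg.Agent.Helper63.BG12

open Subgroup

section TypeLevel

variable {R : Type*} [Group R] [Finite R] {p : ℕ} [hp : Fact p.Prime]

/-- a normal subgroup of index at most `p` of a `p`-group contains the derived subgroup -/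
theorem commutator_le_of_index_le (hR : IsPGroup p R) (C : Subgroup R) [hC : C.Normal]
    (h : C.index ≤ p) : commutator R ≤ C := by
  have hpp := hp.out
  obtain ⟨n, hn⟩ := hR.index C
  have hn1 : n ≤ 1 := by
    by_contra hcon
    have h2 : 2 ≤ n := by omega
    have : p ^ 2 ≤ p ^ n := Nat.pow_le_pow_right hpp.pos h2
    have h3 : p < p ^ 2 := by
      calc p = p ^ 1 := (pow_one p).symm
        _ < p ^ 2 := Nat.pow_lt_pow_right hpp.one_lt (by norm_num)
    omega
  interval_cases n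
  · rw [pow_zero, Subgroup.index_eq_one] at hn
    rw [hn]; exact le_top
  · rw [pow_one] at hn
    have hcard : Nat.card (R ⧸ C) = p := by rw [← Subgroup.index_eq_card]; exact hn
    have hcyc : IsCyclic (R ⧸ C) := isCyclic_of_prime_card hcard
    let _ : CommGroup (R ⧸ C) := IsCyclic.commGroup
    have := Abelianization.commutator_subset_ker (QuotientGroup.mk' C)
    rwa [QuotientGroup.ker_mk'] at this

/-- in a `p`-group of rank at least three (`p` odd), an element of order dividing `p` of the derived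
subgroup centralizes an elementary abelian subgroup of order at least `p ^ 3` -/
theorem exists_cube_commute (hp2 : p ≠ 2) (hR : IsPGroup p R) (hr : ¬ Cfsg.PRankLE p 2 R) {x : R}
    (hx : x ∈ commutator R) (hxp : x ^ p = 1) :
    ∃ B : Subgroup R, Cfsg.IsElementaryAbelian p B ∧ p ^ 2 < Nat.card B ∧ ∀ b ∈ B, b * x = x * b := by
  have hpp := hp.out
  obtain ⟨F, hFn, hFc, hFe, hF3⟩ := Cfsg.Agent.S1452.exists_normal_elementaryAbelian_cube hp2 hR hr
  obtain ⟨B₂, hB₂n, hB₂F, hB₂c⟩ := Cfsg.Agent.S0100.exists_normal_le_card_eq hR 1 F hFn 2 hF3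
  have hFcomm : ∀ a ∈ F, ∀ b ∈ F, a * b = b * a := fun a ha b hb =>
    congrArg Subtype.val (hFc.is_comm.comm (⟨a, ha⟩ : ↥F) ⟨b, hb⟩)
  have hB₂comm : IsMulCommutative ↥B₂ :=
    ⟨⟨fun a b => Subtype.ext (hFcomm a (hB₂F a.2) b (hB₂F b.2))⟩⟩
  have hB₂e : Cfsg.IsElementaryAbelian p B₂ := ⟨hB₂comm, fun a ha => hFe a (hB₂F ha)⟩
  have hidx := Cfsg.Agent.Helper52.index_centralizer_le (p := p) 2 hR B₂ hB₂n hB₂comm hB₂c
  have e1 : 2 * (2 - 1) / 2 = 1 := by norm_num
  rw [e1, pow_one] at hidx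
  have : (centralizer (B₂ : Set R)).Normal := Subgroup.normal_centralizer
  have hxC : x ∈ centralizer (B₂ : Set R) := commutator_le_of_index_le hR _ hidx hx
  have hxB₂ : ∀ b ∈ B₂, b * x = x * b := fun b hb => Subgroup.mem_centralizer_iff.1 hxC b hb
  by_cases hxF : x ∈ F
  · refine ⟨F, ⟨hFc, hFe⟩, ?_, fun b hb => hFcomm b hb x hxF⟩
    rw [hF3]
    exact Nat.pow_lt_pow_right hpp.one_lt (by norm_num)
  · have hxB : x ∉ B₂ := fun h => hxF (hB₂F h)
    have hze : Cfsg.IsElementaryAbelian p (zpowers x) := by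
      refine ⟨⟨⟨fun a b => ?_⟩⟩, ?_⟩
      · obtain ⟨i, hi⟩ := Subgroup.mem_zpowers_iff.1 a.2
        obtain ⟨j, hj⟩ := Subgroup.mem_zpowers_iff.1 b.2
        apply Subtype.ext
        show (a : R) * (b : R) = (b : R) * (a : R)
        rw [← hi, ← hj, ← zpow_add, ← zpow_add, add_comm]
      · intro a ha
        obtain ⟨i, rfl⟩ := Subgroup.mem_zpowers_iff.1 ha
        rw [← zpow_natCast, ← zpow_mul, mul_comm, zpow_mul, zpow_natCast, hxp, one_zpow]
    have hcomm : ∀ a ∈ B₂, ∀ b ∈ zpowers x, a * b = b * a := by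
      intro a ha b hb
      obtain ⟨i, rfl⟩ := Subgroup.mem_zpowers_iff.1 hb
      exact ((show Commute a x from hxB₂ a ha).zpow_right i).eq
    have hsup := Cfsg.Agent.Helper23.isElementaryAbelian_sup_of_commute hB₂e hze hcomm
    have hcard := Cfsg.Agent.Helper31.card_sup_zpowers (p := p) B₂ x hxp hxB
      (fun h hh => (hxB₂ h hh).symm)
    refine ⟨B₂ ⊔ zpowers x, hsup, ?_, ?_⟩
    · rw [hcard, hB₂c]
      calc p ^ 2 < p ^ 2 * p := by
            have := hpp.one_lt
            have h2 : 0 < p ^ 2 := pow_pos hpp.pos 2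
            nlinarith
        _ = p ^ 2 * p := rfl
    · intro b hb
      have hxm : x ∈ B₂ ⊔ zpowers x := (le_sup_right : zpowers x ≤ _) (Subgroup.mem_zpowers x)
      exact congrArg Subtype.val (hsup.1.is_comm.comm (⟨b, hb⟩ : ↥(B₂ ⊔ zpowers x)) ⟨x, hxm⟩)

end TypeLevel

section SubgroupLevel

variable {G : Type*} [Group G] [Finite G] {p : ℕ} [hp : Fact p.Prime]

/-- subgroup version -/
theorem exists_cube_le_centralizer (hp2 : p ≠ 2) {S X : Subgroup G} (hS : IsPGroup p S)
    (hr : ¬ Cfsg.PRankLE p 2 ↥S) (hXS : X ≤ ⁅S, S⁆) (hXe : ∀ x ∈ X, x ^ p = 1) :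
    ∀ x ∈ X, ∃ B : Subgroup G, B ≤ S ∧ Cfsg.IsElementaryAbelian p B ∧ p ^ 2 < Nat.card B ∧
      ∀ b ∈ B, b * x = x * b := by
  intro x hx
  have hSS : ⁅S, S⁆ ≤ S := Subgroup.commutator_le_self S
  have hxS : x ∈ S := hSS (hXS hx)
  have hxc : (⟨x, hxS⟩ : ↥S) ∈ commutator ↥S := by
    have h1 : x ∈ (commutator ↥S).map S.subtype := by
      rw [commutator_def, Subgroup.map_commutator]
      have e : (⊤ : Subgroup ↥S).map S.subtype = S := by
        rw [← MonoidHom.range_eq_map, Subgroup.range_subtype]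
      rw [e]
      exact hXS hx
    obtain ⟨y, hy, hyx⟩ := h1
    have : y = ⟨x, hxS⟩ := Subtype.ext hyx
    rwa [← this]
  have hxp : (⟨x, hxS⟩ : ↥S) ^ p = 1 := Subtype.ext (hXe x hx)
  obtain ⟨B, hBe, hBc, hBx⟩ := exists_cube_commute hp2 hS hr hxc hxp
  refine ⟨B.map S.subtype, Subgroup.map_subtype_le _, ⟨?_, ?_⟩, ?_, ?_⟩
  · refine ⟨⟨fun a b => ?_⟩⟩
    obtain ⟨a', ha', haa⟩ := a.2
    obtain ⟨b', hb', hbb⟩ := b.2
    have := hBe.1.is_comm.comm (⟨a', ha'⟩ : ↥B) ⟨b', hb'⟩
    have h2 := congrArg (fun z : ↥B => ((z : ↥S) : G)) this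
    apply Subtype.ext
    show (a : G) * (b : G) = (b : G) * (a : G)
    rw [← haa, ← hbb]
    exact h2
  · rintro _ ⟨a', ha', rfl⟩
    have := hBe.2 a' ha'
    exact congrArg Subtype.val this
  · rw [Subgroup.card_map_of_injective S.subtype_injective]
    exact hBc
  · rintro _ ⟨b', hb', rfl⟩
    exact congrArg Subtype.val (hBx b' hb')

end SubgroupLevel

end Cfsg.Agent.Helper63.BG12
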