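import Mathlib
import Cfsg.Agent.Helper63.BG1214
import Cfsg.Agent.Helper63.BG1215a
import Cfsg.Agent.Helper63.BG1215b

/-!
# B-G Corollary 12.15 (statement S1423)

`p ∈ σ(M)`, `X ≤ M` of order `p`, `P` a Sylow `p`-subgroup of `M_σ`.  If `p ∈ β(M)` or `X ≤ (M_σ)'`
then `𝓜(C_G(X)) = {M}` and `P ∈ 𝒰`.

Proved modulo the statement shapes of S1403, S1410, S1412, S1414, S1416, S1417.
-/

set_option autoImplicit false
set_option linter.unusedSectionVars false
set_option linter.unusedVariables false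

namespace Cfsg.Agent.Helper63.BG12

open Subgroup Cfsg Cfsg.Agent.Helper29.BG10 Cfsg.Agent.Helper1.BG12
open scoped commutatorElement

variable {G : Type*} [Group G] [Finite G]

/-- the part of the statement shape of S1414 that we need -/
def H108 (G : Type*) [Group G] : Prop :=
  ∀ (M : Subgroup G), IsCoatom M → ∀ p : ℕ, p.Prime → p ∣ Nat.card ↥M → p ∉ Cfsg.beta M →
    Cfsg.HasNormalPComplement p ↥(Cfsg.sigmaCore M)

/-- if `C_G(X)` contains a uniqueness subgroup `B ≤ M` then `𝓜(C_G(X)) = {M}` -/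
theorem cent_uniq_of_le (hG : Cfsg.IsMinSimpleOddOrder G) {X B M : Subgroup G} (hX1 : X ≠ ⊥)
    (hM : IsCoatom M) (hB : Cfsg.InUniqueMaximal B) (hBM : B ≤ M)
    (hBC : B ≤ centralizer (X : Set G)) :
    centralizer (X : Set G) ≤ M ∧ ∀ L : Subgroup G, IsCoatom L → centralizer (X : Set G) ≤ L →
      L = M := by
  have huniq : ∀ L : Subgroup G, IsCoatom L → centralizer (X : Set G) ≤ L → L = M :=
    fun L hL hCL => hB.unique ⟨hL, hBC.trans hCL⟩ ⟨hM, hBM⟩
  refine ⟨?_, huniq⟩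
  obtain ⟨L, hL, hCL⟩ := (eq_top_or_exists_le_coatom _).resolve_left (centralizer_ne_top hG hX1)
  rw [← huniq L hL hCL]
  exact hCL

theorem ne_bot_of_card_prime {p : ℕ} [hp : Fact p.Prime] {X : Subgroup G} (hX : Nat.card X = p) :
    X ≠ ⊥ := by
  intro h
  rw [h, Subgroup.card_bot] at hX
  exact hp.out.one_lt.ne hX

theorem isPGroup_of_card_prime {p : ℕ} [hp : Fact p.Prime] {X : Subgroup G} (hX : Nat.card X = p) :
    IsPGroup p X := IsPGroup.of_card (n := 1) (by rw [hX, pow_one])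

theorem pow_eq_one_of_card_prime {p : ℕ} [hp : Fact p.Prime] {X : Subgroup G}
    (hX : Nat.card X = p) {x : G} (hx : x ∈ X) : x ^ p = 1 := by
  have := pow_card_eq_one' (G := ↥X) (x := ⟨x, hx⟩)
  rw [hX] at this
  exact congrArg Subtype.val this

/-- a subgroup of prime order is generated by any of its non-identity elements -/
theorem eq_zpowers_of_card_prime {p : ℕ} [hp : Fact p.Prime] {X : Subgroup G}
    (hX : Nat.card X = p) {x : G} (hx : x ∈ X) (hx1 : x ≠ 1) : X = zpowers x := by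
  have hxp := pow_eq_one_of_card_prime hX hx
  have hc : Nat.card (zpowers x) = p := by
    rw [Nat.card_zpowers]
    rcases (Nat.dvd_prime hp.out).1 (orderOf_dvd_of_pow_eq_one hxp) with h | h
    · exact absurd (orderOf_eq_one_iff.1 h) hx1
    · exact h
  exact (Subgroup.eq_of_le_of_card_ge (by rw [zpowers_le]; exact hx) (by rw [hc, hX])).symm

theorem isElementaryAbelian_zpowers {p : ℕ} {x : G} (hxp : x ^ p = 1) :
    Cfsg.IsElementaryAbelian p (zpowers x) := by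
  refine ⟨⟨⟨fun a b => ?_⟩⟩, ?_⟩
  · obtain ⟨i, hi⟩ := Subgroup.mem_zpowers_iff.1 a.2
    obtain ⟨j, hj⟩ := Subgroup.mem_zpowers_iff.1 b.2
    apply Subtype.ext
    show (a : G) * (b : G) = (b : G) * (a : G)
    rw [← hi, ← hj, ← zpow_add, ← zpow_add, add_comm]
  · intro a ha
    obtain ⟨i, rfl⟩ := Subgroup.mem_zpowers_iff.1 ha
    rw [← zpow_natCast, ← zpow_mul, mul_comm, zpow_mul, zpow_natCast, hxp, one_zpow]

/-- a nontrivial `p`-subgroup has a central element of order `p` -/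
theorem exists_central_order_p {p : ℕ} [hp : Fact p.Prime] {S : Subgroup G} (hS : IsPGroup p S)
    (hS1 : S ≠ ⊥) : ∃ z ∈ S, z ≠ 1 ∧ z ^ p = 1 ∧ ∀ y ∈ S, z * y = y * z := by
  have hnt : Nontrivial ↥S := (Subgroup.nontrivial_iff_ne_bot S).2 hS1
  have hcen : Nontrivial ↥(Subgroup.center ↥S) := hS.center_nontrivial
  have hcp : p ∣ Nat.card ↥(Subgroup.center ↥S) := by
    have hpz : IsPGroup p ↥(Subgroup.center ↥S) := hS.to_subgroup _
    obtain ⟨k, hk⟩ := IsPGroup.iff_card.1 hpz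
    have hk0 : k ≠ 0 := by
      intro h0
      rw [h0, pow_zero] at hk
      have := Finite.one_lt_card_iff_nontrivial.2 hcen
      omega
    rw [hk]; exact dvd_pow_self p hk0
  obtain ⟨z, hz⟩ := exists_prime_orderOf_dvd_card' (G := ↥(Subgroup.center ↥S)) p hcp
  refine ⟨((z : ↥S) : G), (z : ↥S).2, ?_, ?_, ?_⟩
  · intro h1
    have : z = 1 := Subtype.ext (Subtype.ext h1)
    rw [this, orderOf_one] at hz
    exact hp.out.one_lt.ne hz
  · have := pow_orderOf_eq_one z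
    rw [hz] at this
    have h2 := congrArg (fun w : ↥(Subgroup.center ↥S) => ((w : ↥S) : G)) this
    exact h2
  · intro y hy
    have := (Subgroup.mem_center_iff.1 z.2) ⟨y, hy⟩
    have h2 := congrArg Subtype.val this
    exact h2.symm

/-- for `p ∈ σ(M)` a Sylow `p`-subgroup of `M` is a Sylow `p`-subgroup of `G` -/
theorem isSylowIn_top_of_sigma (hG : Cfsg.IsMinSimpleOddOrder G) (hU : UniquenessThm G)
    {M : Subgroup G} (hM : IsCoatom M) {p : ℕ} [hp : Fact p.Prime] (hσ : p ∈ Cfsg.sigma M)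
    {S : Subgroup G} (hS : IsSylowIn p S M) : IsSylowIn p S ⊤ :=
  isSylowIn_top_of_normalizer_le hS ((sigmaCtx_of hG hU hM hσ).sylNorm S hS)

/-- a Sylow `p`-subgroup of `M_σ` is a Sylow `p`-subgroup of `M`, for `p ∈ σ(M)` -/
theorem isSylowIn_of_sigmaCore (hG : Cfsg.IsMinSimpleOddOrder G) (hU : UniquenessThm G)
    {M : Subgroup G} (hM : IsCoatom M) {p : ℕ} [hp : Fact p.Prime] (hσ : p ∈ Cfsg.sigma M)
    {S : Subgroup G} (hS : IsSylowIn p S (Cfsg.sigmaCore M)) : IsSylowIn p S M := by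
  obtain ⟨⟨hKM, -, hKidx⟩, -, -⟩ := thm_10_2_sigma hG hU M hM
  refine ⟨hS.1.trans hKM, hS.2.1, ?_⟩
  rw [← Subgroup.relIndex_mul_relIndex S _ M hS.1 hKM]
  intro hd
  rcases (Nat.Prime.dvd_mul hp.out).1 hd with h | h
  · exact hS.2.2 h
  · exact hKidx p hp.out hσ h

/-- **B-G 12.15, the case `p ∈ β(M)`.** -/
theorem cent_uniq_of_beta (hG : Cfsg.IsMinSimpleOddOrder G) (hU : UniquenessThm G)
    {M : Subgroup G} (hM : IsCoatom M) {p : ℕ} [hp : Fact p.Prime] (hσ : p ∈ Cfsg.sigma M)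
    (hβ : p ∈ Cfsg.beta M) {X : Subgroup G} (hXM : X ≤ M) (hX : Nat.card X = p) :
    centralizer (X : Set G) ≤ M ∧ ∀ L : Subgroup G, IsCoatom L → centralizer (X : Set G) ≤ L →
      L = M := by
  classical
  have hpp := hp.out
  obtain ⟨⟨-, hrM⟩, hideal⟩ := hβ
  have hX1 := ne_bot_of_card_prime hX
  have hXp := isPGroup_of_card_prime hX
  obtain ⟨S, hXS, hS⟩ := exists_isSylowIn_ge hXM hXp
  have hStop := isSylowIn_top_of_sigma hG hU hM hσ hS
  have hrS : ¬ Cfsg.PRankLE p 2 ↥S := fun h => hrM (pRankLE_of_isSylowIn hS h)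
  have hS1 : S ≠ ⊥ := fun h => hX1 (le_bot_iff.1 (h ▸ hXS))
  obtain ⟨z, hzS, hz1, hzp, hzc⟩ := exists_central_order_p hS.2.1 hS1
  by_cases hzX : z ∈ X
  · -- X is central in S
    have hXz := eq_zpowers_of_card_prime hX hzX hz1
    apply cent_uniq_of_le hG hX1 hM (uniq_of_uniquenessThm hG hU S hS.2.1 hrS) hS.1
    intro s hs
    rw [Subgroup.mem_centralizer_iff]
    intro y hy
    rw [hXz] at hy
    obtain ⟨i, rfl⟩ := Subgroup.mem_zpowers_iff.1 hy
    exact ((show Commute z s from hzc s hs).zpow_left i).eq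
  · -- A = X × ⟨z⟩ lies in an elementary abelian subgroup B of order ≥ p³
    have hXe : Cfsg.IsElementaryAbelian p X := by
      obtain ⟨x, hx, hx1⟩ := exists_mem_ne_one_of_card_prime hX
      rw [eq_zpowers_of_card_prime hX hx hx1]
      exact isElementaryAbelian_zpowers (pow_eq_one_of_card_prime hX hx)
    have hze := isElementaryAbelian_zpowers (p := p) hzp
    have hcomm : ∀ a ∈ X, ∀ b ∈ zpowers z, a * b = b * a := by
      intro a ha b hb
      obtain ⟨i, rfl⟩ := Subgroup.mem_zpowers_iff.1 hb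
      exact (((show Commute z a from hzc a (hXS ha)).zpow_left i).eq).symm
    have hAe := Cfsg.Agent.Helper23.isElementaryAbelian_sup_of_commute hXe hze hcomm
    have hAc : Nat.card ↥(X ⊔ zpowers z) = p ^ 2 := by
      rw [Cfsg.Agent.Helper31.card_sup_zpowers (p := p) X z hzp hzX
        (fun h hh => hzc h (hXS hh)), hX]
      ring
    have hAS : X ⊔ zpowers z ≤ S := sup_le hXS (by rw [zpowers_le]; exact hzS)
    have hidx : ¬ p ∣ S.index := by
      have := hStop.2.2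
      rwa [Subgroup.relIndex_top_right] at this
    let Q : Sylow p G := hS.2.1.toSylow hidx
    have hQ : (Q : Subgroup G) = S := IsPGroup.toSylow_coe hS.2.1 hidx
    obtain ⟨B, hBQ, hBe, hAB⟩ := hideal.2.2 Q (X ⊔ zpowers z) (by rw [hQ]; exact hAS) hAe hAc
    rw [hQ] at hBQ
    have hBc : p ^ 2 < Nat.card B := by
      rw [← hAc]
      rcases Nat.lt_or_ge (Nat.card ↥(X ⊔ zpowers z)) (Nat.card B) with h | h
      · exact h
      · exact absurd (Subgroup.eq_of_le_of_card_ge hAB.le h) hAB.ne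
    have hBp : IsPGroup p B := isPGroup_of_isElementaryAbelian hBe
    have hBr : ¬ Cfsg.PRankLE p 2 ↥B :=
      (Cfsg.Agent.Helper23.not_pRankLE_subgroup_iff p 2 B).2 ⟨B, le_rfl, hBe, hBc⟩
    apply cent_uniq_of_le hG hX1 hM (uniq_of_uniquenessThm hG hU B hBp hBr) (hBQ.trans hS.1)
    intro b hb
    rw [Subgroup.mem_centralizer_iff]
    intro y hy
    have hyB : y ∈ B := hAB.le ((le_sup_left : X ≤ X ⊔ zpowers z) hy)
    exact congrArg Subtype.val (hBe.1.is_comm.comm (⟨y, hyB⟩ : ↥B) ⟨b, hb⟩)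

/-- in a Sylow subgroup of rank at most two, the derived subgroup is central (from the statement shape
of S1412) -/
theorem le_centralizer_commutator_of_rank_two (h12 : HRank2 G) {p : ℕ} [hp : Fact p.Prime]
    {S : Subgroup G} (hS : IsSylowIn p S ⊤) (hr : Cfsg.PRankLE p 2 ↥S) :
    S ≤ centralizer ((⁅S, S⁆ : Subgroup G) : Set G) := by
  have hidx : ¬ p ∣ S.index := by
    have := hS.2.2
    rwa [Subgroup.relIndex_top_right] at this
  let Q : Sylow p G := hS.2.1.toSylow hidx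
  have hQ : (Q : Subgroup G) = S := IsPGroup.toSylow_coe hS.2.1 hidx
  have hrQ : Cfsg.PRankLE p 2 ↥(Q : Subgroup G) := by rw [hQ]; exact hr
  rcases h12 p Q hrQ with hab | ⟨P₁, P₂, hsup, hcomm, hna, hcard, hexp, hcyc, -⟩
  · rw [hQ] at hab
    have hbot : ⁅S, S⁆ = ⊥ := by
      rw [Subgroup.commutator_eq_bot_iff_le_centralizer]
      intro a ha
      rw [Subgroup.mem_centralizer_iff]
      intro b hb
      exact congrArg Subtype.val (hab.is_comm.comm (⟨b, hb⟩ : ↥S) ⟨a, ha⟩)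
    rw [hbot]
    intro a _
    rw [Subgroup.mem_centralizer_iff]
    intro b hb
    have : b = 1 := hb
    rw [this, one_mul, mul_one]
  rw [hQ] at hsup
  have hcube : IsCube p P₁ := by
    refine ⟨hcard, hna, ?_⟩
    intro t ht
    have := Monoid.pow_exponent_eq_one (⟨t, ht⟩ : ↥P₁)
    rw [hexp] at this
    exact congrArg Subtype.val this
  have hcent : S ≤ centralizer (cz P₁ : Set G) := by
    rw [← hsup]
    refine sup_le ?_ ?_
    · intro t ht
      rw [Subgroup.mem_centralizer_iff]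
      intro z hz
      exact (cz_comm hz ht).symm
    · intro b hb
      rw [Subgroup.mem_centralizer_iff]
      intro z hz
      exact hcomm z (cz_le P₁ hz) b hb
  have hcz : ⁅S, S⁆ ≤ cz P₁ := by
    rw [Subgroup.commutator_le]
    intro g₁ hg₁ g₂ hg₂
    rw [← hsup] at hg₁ hg₂
    obtain ⟨a₁, ha₁, a₂, ha₂, rfl⟩ := (Cfsg.Agent.Helper23.mem_sup_iff_of_commute hcomm).mp hg₁
    obtain ⟨b₁, hb₁, b₂, hb₂, rfl⟩ := (Cfsg.Agent.Helper23.mem_sup_iff_of_commute hcomm).mp hg₂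
    have h1 : a₂ * (b₁ * b₂) = (b₁ * b₂) * a₂ := by
      have c1 : b₁ * a₂ = a₂ * b₁ := hcomm b₁ hb₁ a₂ ha₂
      have hS2 : a₂ * b₂ = b₂ * a₂ := by
        let _ := IsCyclic.commGroup (α := ↥P₂)
        exact congrArg Subtype.val (mul_comm (⟨a₂, ha₂⟩ : ↥P₂) ⟨b₂, hb₂⟩)
      calc a₂ * (b₁ * b₂) = (a₂ * b₁) * b₂ := by group
        _ = (b₁ * a₂) * b₂ := by rw [c1]
        _ = b₁ * (a₂ * b₂) := by group
        _ = b₁ * (b₂ * a₂) := by rw [hS2]
        _ = (b₁ * b₂) * a₂ := by group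
    have h2 : b₂ * a₁⁻¹ = a₁⁻¹ * b₂ := by
      have c3 : a₁ * b₂ = b₂ * a₁ := hcomm a₁ ha₁ b₂ hb₂
      calc b₂ * a₁⁻¹ = a₁⁻¹ * (a₁ * b₂) * a₁⁻¹ := by group
        _ = a₁⁻¹ * (b₂ * a₁) * a₁⁻¹ := by rw [c3]
        _ = a₁⁻¹ * b₂ := by group
    have e : ⁅a₁ * a₂, b₁ * b₂⁆ = a₁ * b₁ * a₁⁻¹ * b₁⁻¹ := by
      rw [commutatorElement_def]
      calc (a₁ * a₂) * (b₁ * b₂) * (a₁ * a₂)⁻¹ * (b₁ * b₂)⁻¹
          = a₁ * (a₂ * (b₁ * b₂)) * a₂⁻¹ * a₁⁻¹ * b₂⁻¹ * b₁⁻¹ := by group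
        _ = a₁ * ((b₁ * b₂) * a₂) * a₂⁻¹ * a₁⁻¹ * b₂⁻¹ * b₁⁻¹ := by rw [h1]
        _ = a₁ * b₁ * (b₂ * a₁⁻¹) * b₂⁻¹ * b₁⁻¹ := by group
        _ = a₁ * b₁ * (a₁⁻¹ * b₂) * b₂⁻¹ * b₁⁻¹ := by rw [h2]
        _ = a₁ * b₁ * a₁⁻¹ * b₁⁻¹ := by group
    rw [e]
    exact hcube.comm_mem_cz ha₁ hb₁
  exact hcent.trans (Subgroup.centralizer_le (by exact_mod_cast hcz))

theorem not_comm_of_le_commutator {S X : Subgroup G} (hX1 : X ≠ ⊥) (hXS : X ≤ ⁅S, S⁆) :
    ¬ IsMulCommutative ↥S := by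
  intro hab
  apply hX1
  have hbot : ⁅S, S⁆ = ⊥ := by
    rw [Subgroup.commutator_eq_bot_iff_le_centralizer]
    intro a ha
    rw [Subgroup.mem_centralizer_iff]
    intro b hb
    exact congrArg Subtype.val (hab.is_comm.comm (⟨b, hb⟩ : ↥S) ⟨a, ha⟩)
  rw [hbot] at hXS
  exact le_bot_iff.1 hXS

/-- **B-G 12.15, the case `X ≤ (M_σ)'`**, given a Sylow subgroup `S` of `M` with `X ≤ S'`. -/
theorem cent_uniq_of_le_commutator (hG : Cfsg.IsMinSimpleOddOrder G) (hU : UniquenessThm G)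
    (h10 : HPLen G) (h12 : HRank2 G) (h124 : H124 G) (h125 : H125 G)
    {M : Subgroup G} (hM : IsCoatom M) {p : ℕ} [hp : Fact p.Prime] (hσ : p ∈ Cfsg.sigma M)
    {X : Subgroup G} (hX : Nat.card X = p) {S : Subgroup G} (hS : IsSylowIn p S M)
    (hXS : X ≤ ⁅S, S⁆) :
    centralizer (X : Set G) ≤ M ∧ ∀ L : Subgroup G, IsCoatom L → centralizer (X : Set G) ≤ L →
      L = M := by
  have hpp := hp.out
  have hX1 := ne_bot_of_card_prime hX
  have hSna := not_comm_of_le_commutator hX1 hXS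
  have hp2 := ne_two_of_nonabelian hG hS.2.1 hSna
  have hStop := isSylowIn_top_of_sigma hG hU hM hσ hS
  by_cases hr : Cfsg.PRankLE p 2 ↥S
  · have h1 := le_centralizer_commutator_of_rank_two h12 hStop hr
    have h2 : S ≤ centralizer (X : Set G) :=
      h1.trans (Subgroup.centralizer_le (by exact_mod_cast hXS))
    exact cent_uniq_of_le hG hX1 hM
      (nonabelian_inUniqueMaximal hG hU h10 h12 h124 h125 hS.2.1 hSna) hS.1 h2
  · obtain ⟨x, hx, hx1⟩ := exists_mem_ne_one_of_card_prime hX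
    obtain ⟨B, hBS, hBe, hBc, hBx⟩ := exists_cube_le_centralizer hp2 hS.2.1 hr hXS
      (fun y hy => pow_eq_one_of_card_prime hX hy) x hx
    have hBp : IsPGroup p B := isPGroup_of_isElementaryAbelian hBe
    have hBr : ¬ Cfsg.PRankLE p 2 ↥B :=
      (Cfsg.Agent.Helper23.not_pRankLE_subgroup_iff p 2 B).2 ⟨B, le_rfl, hBe, hBc⟩
    apply cent_uniq_of_le hG hX1 hM (uniq_of_uniquenessThm hG hU B hBp hBr) (hBS.trans hS.1)
    intro b hb
    rw [Subgroup.mem_centralizer_iff]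
    intro y hy
    rw [eq_zpowers_of_card_prime hX hx hx1] at hy
    obtain ⟨i, rfl⟩ := Subgroup.mem_zpowers_iff.1 hy
    exact (((show Commute b x from hBx b hb).zpow_right i).eq).symm

/-- conjugates of a nonabelian subgroup are nonabelian -/
theorem not_comm_cj {S : Subgroup G} (hS : ¬ IsMulCommutative ↥S) (n : G) :
    ¬ IsMulCommutative ↥(cj n S) := by
  intro hab
  apply hS
  refine ⟨⟨fun a b => Subtype.ext ?_⟩⟩
  have ha : n * (a : G) * n⁻¹ ∈ cj n S := conj_mem_cj a.2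
  have hb : n * (b : G) * n⁻¹ ∈ cj n S := conj_mem_cj b.2
  have := congrArg Subtype.val (hab.is_comm.comm (⟨_, ha⟩ : ↥(cj n S)) ⟨_, hb⟩)
  have h2 : n * (a : G) * n⁻¹ * (n * (b : G) * n⁻¹) = n * (b : G) * n⁻¹ * (n * (a : G) * n⁻¹) := this
  have h3 : n * ((a : G) * (b : G)) * n⁻¹ = n * ((b : G) * (a : G)) * n⁻¹ := by
    calc n * ((a : G) * (b : G)) * n⁻¹ = n * (a : G) * n⁻¹ * (n * (b : G) * n⁻¹) := by group
      _ = n * (b : G) * n⁻¹ * (n * (a : G) * n⁻¹) := h2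
      _ = n * ((b : G) * (a : G)) * n⁻¹ := by group
  exact mul_left_cancel (mul_right_cancel h3)

/-- **B-G Corollary 12.15**, for a Sylow `p`-subgroup `P'` of `M_σ` given as a subgroup of `G`. -/
theorem thm_12_15_aux (hG : Cfsg.IsMinSimpleOddOrder G) (hU : UniquenessThm G)
    (h10 : HPLen G) (h12 : HRank2 G) (h124 : H124 G) (h125 : H125 G) (h108 : H108 G)
    (M : Subgroup G) (hM : IsCoatom M) (p : ℕ) [hp : Fact p.Prime] (hσ : p ∈ Cfsg.sigma M)
    (X : Subgroup G) (hXM : X ≤ M) (hX : Nat.card X = p)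
    (P' : Subgroup G) (hP'K : IsSylowIn p P' (Cfsg.sigmaCore M))
    (h : p ∈ Cfsg.beta M ∨ X ≤ ⁅Cfsg.sigmaCore M, Cfsg.sigmaCore M⁆) :
    (centralizer (X : Set G) ≤ M ∧ ∀ L : Subgroup G, IsCoatom L → centralizer (X : Set G) ≤ L →
        L = M) ∧ Cfsg.InUniqueMaximal P' ∧ P' ≤ M := by
  classical
  have hpp := hp.out
  have hP'M : IsSylowIn p P' M := isSylowIn_of_sigmaCore hG hU hM hσ hP'K
  have hX1 := ne_bot_of_card_prime hX
  have hXp := isPGroup_of_card_prime hX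
  by_cases hβ : p ∈ Cfsg.beta M
  · refine ⟨cent_uniq_of_beta hG hU hM hσ hβ hXM hX, ?_, hP'M.1⟩
    have hrM := hβ.1.2
    have hrP : ¬ Cfsg.PRankLE p 2 ↥P' := fun h => hrM (pRankLE_of_isSylowIn hP'M h)
    exact uniq_of_uniquenessThm hG hU P' hP'M.2.1 hrP
  · have hXK : X ≤ ⁅Cfsg.sigmaCore M, Cfsg.sigmaCore M⁆ := h.resolve_left hβ
    have hnpc := h108 M hM p hpp hσ.2.1 hβ
    obtain ⟨S, hSK, hXS, hXS'⟩ := exists_sylow_commutator_ge hnpc hXp hXK
    have hSM : IsSylowIn p S M := isSylowIn_of_sigmaCore hG hU hM hσ hSK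
    refine ⟨cent_uniq_of_le_commutator hG hU h10 h12 h124 h125 hM hσ hX hSM hXS', ?_, hP'M.1⟩
    have hSna := not_comm_of_le_commutator hX1 hXS'
    obtain ⟨n, -, hn⟩ := hP'K.exists_cj_eq hSK
    have hP'na : ¬ IsMulCommutative ↥P' := by
      rw [← hn]
      exact not_comm_cj hSna n
    exact nonabelian_inUniqueMaximal hG hU h10 h12 h124 h125 hP'M.2.1 hP'na

/-- **B-G Corollary 12.15** (statement S1423), modulo the statement shapes of S1403, S1410, S1412,
S1414, S1416, S1417. -/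
theorem thm_12_15 (hG : Cfsg.IsMinSimpleOddOrder G) (hU : UniquenessThm G)
    (h10 : HPLen G) (h12 : HRank2 G) (h124 : H124 G) (h125 : H125 G) (h108 : H108 G)
    (M : Subgroup G) (hM : IsCoatom M) (p : ℕ) [hp : Fact p.Prime] (hσ : p ∈ Cfsg.sigma M)
    (X : Subgroup G) (hXM : X ≤ M) (hX : Nat.card X = p)
    (P : Sylow p ↥(Cfsg.sigmaCore M))
    (h : p ∈ Cfsg.beta M ∨ X ≤ ⁅Cfsg.sigmaCore M, Cfsg.sigmaCore M⁆) :
    (centralizer (X : Set G) ≤ M ∧ ∀ L : Subgroup G, IsCoatom L → centralizer (X : Set G) ≤ L →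
        L = M) ∧
      Cfsg.InUniqueMaximal ((P : Subgroup ↥(Cfsg.sigmaCore M)).map (Cfsg.sigmaCore M).subtype) ∧
      (P : Subgroup ↥(Cfsg.sigmaCore M)).map (Cfsg.sigmaCore M).subtype ≤ M :=
  thm_12_15_aux hG hU h10 h12 h124 h125 h108 M hM p hσ X hXM hX _ (isSylowIn_map_sylow P) h

end Cfsg.Agent.Helper63.BG12
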