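import Mathlib
import Cfsg.Prelude.Def_Solvable
import Cfsg.Agent.Helper63.ProdCard

set_option autoImplicit false

namespace Cfsg.Agent.Helper63

open scoped Pointwise

variable {G : Type*} [Group G]

theorem mem_conj_smul (R : Subgroup G) (g x : G) :
    x ∈ MulAut.conj g • R ↔ g⁻¹ * x * g ∈ R := by
  rw [Subgroup.mem_pointwise_smul_iff_inv_smul_mem, MulAut.smul_def, ← map_inv, MulAut.conj_apply,
    inv_inv]

theorem conj_mem_conj_smul (R : Subgroup G) (g x : G) (hx : x ∈ R) :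
    g * x * g⁻¹ ∈ MulAut.conj g • R := by
  rw [mem_conj_smul]
  have : g⁻¹ * (g * x * g⁻¹) * g = x := by group
  rw [this]; exact hx

/-- a nonidentity element of `R ∩ R^g` forces `g ∈ R` -/
theorem frob_mem_of_conj {R : Subgroup G} (hR : Cfsg.IsFrobeniusComplement R) {g x : G} (hx1 : x ≠ 1)
    (hxR : x ∈ R) (hxg : g⁻¹ * x * g ∈ R) : g ∈ R := by
  by_contra hg
  have h := hR.2.2 g hg
  have hmem : x ∈ R ⊓ MulAut.conj g • R :=
    Subgroup.mem_inf.mpr ⟨hxR, (mem_conj_smul R g x).mpr hxg⟩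
  rw [h, Subgroup.mem_bot] at hmem
  exact hx1 hmem

/-- two conjugates of `R` sharing a nonidentity element are the same coset-wise -/
theorem frob_conj_eq {R : Subgroup G} (hR : Cfsg.IsFrobeniusComplement R) {g h y : G} (hy1 : y ≠ 1)
    (hyg : g⁻¹ * y * g ∈ R) (hyh : h⁻¹ * y * h ∈ R) : g⁻¹ * h ∈ R := by
  -- x = g⁻¹ y g ∈ R, and (g⁻¹h)⁻¹ x (g⁻¹ h) = h⁻¹ y h ∈ R
  have hx1 : g⁻¹ * y * g ≠ 1 := by
    intro hh
    apply hy1
    have : y = g * (g⁻¹ * y * g) * g⁻¹ := by group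
    rw [this, hh]; group
  apply frob_mem_of_conj hR hx1 hyg
  have : (g⁻¹ * h)⁻¹ * (g⁻¹ * y * g) * (g⁻¹ * h) = h⁻¹ * y * h := by group
  rw [this]; exact hyh

theorem mem_frobeniusKernel_iff (R : Subgroup G) (x : G) :
    x ∈ Cfsg.frobeniusKernel R ↔ x = 1 ∨ ∀ g : G, g⁻¹ * x * g ∉ R := by
  unfold Cfsg.frobeniusKernel
  simp only [Set.mem_ofPred_eq, mem_conj_smul]

theorem not_mem_frobeniusKernel_iff (R : Subgroup G) (x : G) :
    x ∉ Cfsg.frobeniusKernel R ↔ x ≠ 1 ∧ ∃ g : G, g⁻¹ * x * g ∈ R := by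
  rw [mem_frobeniusKernel_iff]
  push Not
  rfl

theorem card_subgroup_ne_one [Finite G] (H : Subgroup G) :
    Nat.card {x : G // x ∈ H ∧ x ≠ 1} = Nat.card H - 1 := by
  have h1 : {x : G | x ∈ H ∧ x ≠ 1} = (H : Set G) \ {1} := by
    ext x; simp
  have : Nat.card {x : G // x ∈ H ∧ x ≠ 1} = ({x : G | x ∈ H ∧ x ≠ 1}).ncard :=
    Nat.card_coe_set_eq _
  rw [this, h1, Set.ncard_sdiff_singleton_of_mem (show (1 : G) ∈ (H : Set G) from H.one_mem)]
  rw [← Nat.card_coe_set_eq]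
  rfl

/-- Counting the elements of a normal subgroup `N` lying outside the Frobenius kernel. -/
theorem frob_card_not_kernel [Finite G] {R : Subgroup G} (hR : Cfsg.IsFrobeniusComplement R)
    (N : Subgroup G) [N.Normal] :
    Nat.card {y : G // y ∈ N ∧ y ∉ Cfsg.frobeniusKernel R}
      = R.index * (Nat.card ↥(N ⊓ R) - 1) := by
  rw [← card_subgroup_ne_one, Subgroup.index_eq_card, ← Nat.card_prod]
  symm
  let φ : (G ⧸ R) × {x : G // x ∈ N ⊓ R ∧ x ≠ 1} → {y : G // y ∈ N ∧ y ∉ Cfsg.frobeniusKernel R} :=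
    fun qx => ⟨qx.1.out * qx.2.1 * qx.1.out⁻¹, by
      obtain ⟨hxNR, hx1⟩ := qx.2.2
      obtain ⟨hxN, hxR⟩ := Subgroup.mem_inf.mp hxNR
      refine ⟨Subgroup.Normal.conj_mem inferInstance _ hxN _, ?_⟩
      rw [not_mem_frobeniusKernel_iff]
      refine ⟨?_, qx.1.out, ?_⟩
      · intro h
        apply hx1
        have : qx.2.1 = qx.1.out⁻¹ * (qx.1.out * qx.2.1 * qx.1.out⁻¹) * qx.1.out := by group
        rw [this, h]; group
      · have : qx.1.out⁻¹ * (qx.1.out * qx.2.1 * qx.1.out⁻¹) * qx.1.out = qx.2.1 := by group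
        rw [this]; exact hxR⟩
  apply Nat.card_eq_of_bijective φ
  constructor
  · rintro ⟨q, ⟨x, hxNR, hx1⟩⟩ ⟨q', ⟨x', hx'NR, hx'1⟩⟩ h
    have h' : q.out * x * q.out⁻¹ = q'.out * x' * q'.out⁻¹ := congrArg Subtype.val h
    have hxR := (Subgroup.mem_inf.mp hxNR).2
    have hx'R := (Subgroup.mem_inf.mp hx'NR).2
    set y := q.out * x * q.out⁻¹ with hy
    have hy1 : y ≠ 1 := by
      intro hh
      apply hx1
      have : x = q.out⁻¹ * y * q.out := by rw [hy]; group
      rw [this, hh]; group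
    have h1 : q.out⁻¹ * y * q.out ∈ R := by
      have : q.out⁻¹ * y * q.out = x := by rw [hy]; group
      rw [this]; exact hxR
    have h2 : q'.out⁻¹ * y * q'.out ∈ R := by
      have : q'.out⁻¹ * y * q'.out = x' := by rw [h']; group
      rw [this]; exact hx'R
    have h3 := frob_conj_eq hR hy1 h1 h2
    have hq : q = q' := by
      rw [← QuotientGroup.out_eq' q, ← QuotientGroup.out_eq' q']
      exact QuotientGroup.eq.mpr h3
    subst hq
    have hxx : x = x' := by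
      have e1 : x = q.out⁻¹ * y * q.out := by rw [hy]; group
      have e2 : x' = q.out⁻¹ * y * q.out := by rw [h']; group
      rw [e1, e2]
    subst hxx
    rfl
  · rintro ⟨y, hyN, hyK⟩
    rw [not_mem_frobeniusKernel_iff] at hyK
    obtain ⟨hy1, g, hg⟩ := hyK
    obtain ⟨r, hr⟩ := QuotientGroup.mk_out_eq_mul R g
    set q : G ⧸ R := (g : G ⧸ R) with hq
    have hqout : q.out = g * r := hr
    set x := (r : G)⁻¹ * (g⁻¹ * y * g) * r with hx
    have hxR : x ∈ R := R.mul_mem (R.mul_mem (R.inv_mem r.2) hg) r.2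
    have hxeq : x = q.out⁻¹ * y * q.out := by rw [hqout, hx]; group
    have hxN : x ∈ N := by
      rw [hxeq]
      have := Subgroup.Normal.conj_mem (inferInstance : N.Normal) y hyN q.out⁻¹
      simpa using this
    have hx1 : x ≠ 1 := by
      intro hh
      apply hy1
      have : y = q.out * x * q.out⁻¹ := by rw [hxeq]; group
      rw [this, hh]; group
    refine ⟨(q, ⟨x, Subgroup.mem_inf.mpr ⟨hxN, hxR⟩, hx1⟩), ?_⟩
    apply Subtype.ext
    show q.out * x * q.out⁻¹ = y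
    rw [hxeq]; group

/-- The Frobenius kernel has exactly `[G : R]` elements. -/
theorem frob_card_kernel [Finite G] {R : Subgroup G} (hR : Cfsg.IsFrobeniusComplement R) :
    (Cfsg.frobeniusKernel R).ncard = R.index := by
  have h1 := frob_card_not_kernel hR (⊤ : Subgroup G)
  rw [top_inf_eq] at h1
  have h2 : Nat.card {y : G // y ∈ (⊤ : Subgroup G) ∧ y ∉ Cfsg.frobeniusKernel R}
      = (Cfsg.frobeniusKernel R)ᶜ.ncard := by
    rw [← Nat.card_coe_set_eq]
    apply Nat.card_congr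
    exact Equiv.subtypeEquivRight (fun y => by simp)
  have h3 := Set.ncard_add_ncard_compl (Cfsg.frobeniusKernel R)
  have h4 := Subgroup.card_mul_index R
  have hpos : 0 < Nat.card R := Nat.card_pos
  rw [h2] at h1
  rw [h1, ← h4] at h3
  have h5 : R.index * (Nat.card R - 1) = R.index * Nat.card R - R.index := by
    rw [Nat.mul_sub, mul_one]
  have h6 : R.index ≤ R.index * Nat.card R := Nat.le_mul_of_pos_right _ hpos
  rw [h5, mul_comm (Nat.card R)] at h3
  omega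

/-- A normal subgroup meeting `R` nontrivially contains the Frobenius kernel. -/
theorem frob_kernel_subset_of_inf_ne_bot [Finite G] {R : Subgroup G}
    (hR : Cfsg.IsFrobeniusComplement R) (N : Subgroup G) [N.Normal] (hNR : N ⊓ R ≠ ⊥) :
    Cfsg.frobeniusKernel R ⊆ N := by
  classical
  set k := R.index with hk
  set r := Nat.card R with hr
  set r₀ := Nat.card ↥(N ⊓ R) with hr₀
  have hr₀2 : 2 ≤ r₀ := by
    have hpos : 0 < r₀ := Nat.card_pos
    rcases Nat.lt_or_ge r₀ 2 with h | h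
    · exfalso
      have : r₀ = 1 := by omega
      exact hNR (Subgroup.card_eq_one.mp this)
    · exact h
  -- |N \ K| = k (r₀ - 1)
  have hb := frob_card_not_kernel hR N
  -- N = (N ∩ K) ⊔ (N \ K)
  set A : Set G := {y | y ∈ N ∧ y ∈ Cfsg.frobeniusKernel R} with hA
  set B : Set G := {y | y ∈ N ∧ y ∉ Cfsg.frobeniusKernel R} with hB
  have hAB : A.ncard + B.ncard = Nat.card N := by
    have hdisj : Disjoint A B := by
      rw [Set.disjoint_left]
      intro y hyA hyB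
      exact hyB.2 hyA.2
    have hunion : A ∪ B = (N : Set G) := by
      ext y
      simp only [hA, hB, Set.mem_union, Set.mem_ofPred_eq, SetLike.mem_coe]
      tauto
    rw [← Set.ncard_union_eq hdisj (Set.toFinite _) (Set.toFinite _), hunion, ← Nat.card_coe_set_eq]
    rfl
  have hBcard : B.ncard = k * (r₀ - 1) := by
    rw [← hb, ← Nat.card_coe_set_eq]
    rfl
  have hA1 : 1 ≤ A.ncard := by
    have : (1 : G) ∈ A := ⟨N.one_mem, Or.inl rfl⟩
    exact Nat.one_le_iff_ne_zero.mpr (Set.ncard_ne_zero_of_mem this (Set.toFinite _))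
  -- |N| = r₀ d with d ∣ k
  obtain ⟨d, hd⟩ : r₀ ∣ Nat.card N := Subgroup.card_dvd_of_le inf_le_left
  have hdk : d ∣ k := by
    have h1 := card_mul_card_inf N R
    rw [← Subgroup.normal_mul] at h1
    have h1' : Nat.card ↥(N ⊔ R) * r₀ = Nat.card N * r := h1
    rw [hd] at h1'
    have h2 : Nat.card ↥(N ⊔ R) = d * r := by
      have hpos : 0 < r₀ := by omega
      have : Nat.card ↥(N ⊔ R) * r₀ = (d * r) * r₀ := by rw [h1']; ring
      exact Nat.eq_of_mul_eq_mul_right hpos this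
    have h3 : Nat.card ↥(N ⊔ R) ∣ Nat.card G := Subgroup.card_subgroup_dvd_card _
    rw [h2, ← Subgroup.card_mul_index R, ← hk, ← hr, mul_comm r k] at h3
    have hrpos : 0 < r := Nat.card_pos
    exact Nat.dvd_of_mul_dvd_mul_right hrpos h3
  have hkpos : 0 < k := Nat.pos_of_ne_zero (Subgroup.index_ne_zero_of_finite)
  -- d = k
  have hdk_eq : d = k := by
    obtain ⟨e, he⟩ := hdk
    have he1 : e ≠ 0 := by
      rintro rfl
      rw [mul_zero] at he
      omega
    by_contra hne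
    have he2 : 2 ≤ e := by
      rcases Nat.lt_or_ge e 2 with h | h
      · exfalso
        have : e = 1 := by omega
        rw [this, mul_one] at he
        exact hne he.symm
      · exact h
    -- r₀ d = A + k (r₀ - 1) with k ≥ 2 d
    have h1 : A.ncard + k * (r₀ - 1) = r₀ * d := by rw [← hBcard, hAB, hd]
    have h2 : 2 * d ≤ k := by rw [he]; nlinarith
    have h3 : 2 * d * (r₀ - 1) ≤ k * (r₀ - 1) := Nat.mul_le_mul_right _ h2
    obtain ⟨s, hs⟩ : ∃ s, r₀ = s + 2 := ⟨r₀ - 2, by omega⟩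
    rw [hs] at h1 h3
    have h4 : s + 2 - 1 = s + 1 := by omega
    rw [h4] at h1 h3
    nlinarith
  -- so |N ∩ K| = k = |K|
  have hAk : A.ncard = k := by
    have h1 : A.ncard + k * (r₀ - 1) = r₀ * k := by rw [← hBcard, hAB, hd, hdk_eq]
    obtain ⟨s, hs⟩ : ∃ s, r₀ = s + 1 := ⟨r₀ - 1, by omega⟩
    rw [hs] at h1
    have h4 : s + 1 - 1 = s := by omega
    rw [h4] at h1
    nlinarith
  have hK := frob_card_kernel hR
  have hAsub : A ⊆ Cfsg.frobeniusKernel R := fun y hy => hy.2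
  have hAeq : A = Cfsg.frobeniusKernel R := by
    apply Set.eq_of_subset_of_ncard_le hAsub _ (Set.toFinite _)
    rw [hK, hAk]
  intro y hy
  rw [← hAeq] at hy
  exact hy.1

/-- A normal subgroup meeting `R` trivially lies in the Frobenius kernel. -/
theorem frob_subset_kernel_of_inf_eq_bot {R : Subgroup G} (N : Subgroup G) [N.Normal]
    (hNR : N ⊓ R = ⊥) : (N : Set G) ⊆ Cfsg.frobeniusKernel R := by
  intro y hy
  rw [mem_frobeniusKernel_iff]
  by_cases hy1 : y = 1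
  · exact Or.inl hy1
  · right
    intro g hg
    have h1 : g⁻¹ * y * g ∈ N := by
      have := Subgroup.Normal.conj_mem (inferInstance : N.Normal) y hy g⁻¹
      simpa using this
    have h2 : g⁻¹ * y * g ∈ N ⊓ R := Subgroup.mem_inf.mpr ⟨h1, hg⟩
    rw [hNR, Subgroup.mem_bot] at h2
    apply hy1
    have : y = g * (g⁻¹ * y * g) * g⁻¹ := by group
    rw [this, h2]; group

/-- If `N ∩ R = 1` then every element of `NR` outside `N` is an `N`-conjugate of an element of `R`. -/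
theorem frob_exists_conj [Finite G] {R : Subgroup G} (hR : Cfsg.IsFrobeniusComplement R)
    (N : Subgroup G) [N.Normal] (hNR : N ⊓ R = ⊥) {y : G} (hy : y ∈ N ⊔ R) (hyN : y ∉ N) :
    ∃ n ∈ N, ∃ x ∈ R, y = n * x * n⁻¹ := by
  have hy' : y ∈ ((N ⊔ R : Subgroup G) : Set G) := hy
  rw [Subgroup.normal_mul] at hy'
  obtain ⟨n₀, hn₀, x₀, hx₀, rfl⟩ := hy'
  have hx₀1 : x₀ ≠ 1 := by
    intro h
    apply hyN
    show n₀ * x₀ ∈ N
    rw [h, mul_one]; exact hn₀
  -- the map n ↦ n x₀ n⁻¹ x₀⁻¹ on N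
  let ψ : N → N := fun n => ⟨n * x₀ * (n : G)⁻¹ * x₀⁻¹, by
    have h1 : x₀ * (n : G)⁻¹ * x₀⁻¹ ∈ N :=
      Subgroup.Normal.conj_mem inferInstance _ (N.inv_mem n.2) x₀
    have : (n : G) * x₀ * (n : G)⁻¹ * x₀⁻¹ = n * (x₀ * (n : G)⁻¹ * x₀⁻¹) := by group
    rw [this]
    exact N.mul_mem n.2 h1⟩
  have hinj : Function.Injective ψ := by
    intro n m h
    have h' : (n : G) * x₀ * (n : G)⁻¹ * x₀⁻¹ = m * x₀ * (m : G)⁻¹ * x₀⁻¹ := congrArg Subtype.val h
    have h1 : (n : G) * x₀ * (n : G)⁻¹ = m * x₀ * (m : G)⁻¹ := mul_right_cancel h'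
    -- c = m⁻¹ n centralizes x₀
    have h2 : ((m : G)⁻¹ * n)⁻¹ * x₀ * ((m : G)⁻¹ * n) = x₀ := by
      have : ((m : G)⁻¹ * n)⁻¹ * x₀ * ((m : G)⁻¹ * n)
          = (n : G)⁻¹ * ((m : G) * x₀ * (m : G)⁻¹) * n := by group
      rw [this, ← h1]; group
    have h3 : (m : G)⁻¹ * n ∈ R := frob_mem_of_conj hR hx₀1 hx₀ (by rw [h2]; exact hx₀)
    have h4 : (m : G)⁻¹ * n ∈ N ⊓ R := Subgroup.mem_inf.mpr ⟨N.mul_mem (N.inv_mem m.2) n.2, h3⟩
    rw [hNR, Subgroup.mem_bot] at h4
    apply Subtype.ext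
    have : (n : G) = m * ((m : G)⁻¹ * n) := by group
    rw [this, h4, mul_one]
  obtain ⟨n, hn⟩ := Finite.surjective_of_injective hinj ⟨n₀, hn₀⟩
  have hn' : (n : G) * x₀ * (n : G)⁻¹ * x₀⁻¹ = n₀ := congrArg Subtype.val hn
  refine ⟨n, n.2, x₀, hx₀, ?_⟩
  rw [← hn']; group

end Cfsg.Agent.Helper63
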