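import Cfsg.Agent.Helper63.MCCore

/-!
# `p`-groups of maximal class of order `p^5`, `p ≥ 5`: the derived subgroup has exponent `p`
(helper63)
-/

set_option autoImplicit false

namespace Cfsg.Agent.Helper63.MC

open Subgroup
open scoped commutatorElement

variable {T : Type*} [Group T] [Finite T] {p : ℕ} [hp : Fact p.Prime]

omit [Finite T] in
/-- in a `p`-group with `p` odd, a subgroup containing `s ^ 2` contains `s`. -/
theorem mem_of_sq_mem (hT : IsPGroup p T) (hp2 : p ≠ 2) (H : Subgroup T) {s : T}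
    (h : s ^ 2 ∈ H) : s ∈ H := by
  obtain ⟨e, he⟩ := hT s
  have hodd : Odd (p ^ e) := (hp.out.odd_of_ne_two hp2).pow
  obtain ⟨t, ht⟩ := hodd
  have h1 : s = (s ^ 2) ^ (t + 1) := by
    rw [← pow_mul]
    have : 2 * (t + 1) = p ^ e + 1 := by omega
    rw [this, pow_succ, he, one_mul]
  rw [h1]
  exact pow_mem h _

omit [Finite T] hp in
theorem mem_of_succ (H : Subgroup T) {s x : T} (c : ℕ) (h1 : s ^ (c + 1) * x ∈ H)
    (h2 : s ^ c * x ∈ H) : s ∈ H := by
  have : s = (s ^ (c + 1) * x) * (s ^ c * x)⁻¹ := by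
    rw [pow_succ']; group
  rw [this]
  exact mul_mem h1 (inv_mem h2)

omit [Finite T] hp in
theorem sq_mem_of_succ_succ (H : Subgroup T) {s x : T} (c : ℕ) (h1 : s ^ (c + 2) * x ∈ H)
    (h2 : s ^ c * x ∈ H) : s ^ 2 ∈ H := by
  have : s ^ 2 = (s ^ (c + 2) * x) * (s ^ c * x)⁻¹ := by
    rw [pow_add]; group
  rw [this]
  exact mul_mem h1 (inv_mem h2)

/-- pigeonhole: one of `s x, s² x, s³ x` avoids two subgroups not containing `s`. -/
theorem exists_pow_mul_not_mem (hT : IsPGroup p T) (hp2 : p ≠ 2) (H₁ H₂ : Subgroup T) {s : T}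
    (h1 : s ∉ H₁) (h2 : s ∉ H₂) (x : T) :
    ∃ c : ℕ, s ^ c * x ∉ H₁ ∧ s ^ c * x ∉ H₂ := by
  by_contra hnot
  push Not at hnot
  have key : ∀ c, s ^ c * x ∈ H₁ ∨ s ^ c * x ∈ H₂ := by
    intro c
    by_cases h : s ^ c * x ∈ H₁
    · exact Or.inl h
    · exact Or.inr (hnot c h)
  rcases key 1 with a1 | a1 <;> rcases key 2 with a2 | a2 <;> rcases key 3 with a3 | a3
  · exact h1 (mem_of_succ H₁ 1 a2 a1)
  · exact h1 (mem_of_succ H₁ 1 a2 a1)
  · exact h1 (mem_of_sq_mem hT hp2 H₁ (sq_mem_of_succ_succ H₁ 1 a3 a1))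
  · exact h2 (mem_of_succ H₂ 2 a3 a2)
  · exact h1 (mem_of_succ H₁ 2 a3 a2)
  · exact h2 (mem_of_sq_mem hT hp2 H₂ (sq_mem_of_succ_succ H₂ 1 a3 a1))
  · exact h2 (mem_of_succ H₂ 1 a2 a1)
  · exact h2 (mem_of_succ H₂ 1 a2 a1)

/-- the case `k = 2`. -/
theorem pow_eq_one_of_five (hp5 : 5 ≤ p)
    (hcard : Nat.card T = p ^ 5) (hcl : Group.nilpotencyClass T = 4) :
    ∀ a ∈ L T 1, a ^ p = 1 := by
  have hm : 3 ≤ 5 := by omega
  have hcl' : Group.nilpotencyClass T = 5 - 1 := hcl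
  have hpG : IsPGroup p T := IsPGroup.of_card hcard
  have _ : Group.IsNilpotent T := hpG.isNilpotent
  have hp2 : p ≠ 2 := by omega
  obtain ⟨s, hs⟩ := exists_uniform hcard hcl' hm 2 (by omega) (by omega)
  have hpow := pow_p_mem_L hcard hcl' hm 2 (by omega) (by omega) hs 1 le_rfl
  -- T is regular
  have hbotT : L T (p - 1) = ⊥ := by
    rw [eq_bot_iff, ← L_last hcl']
    exact L_anti (by omega)
  have hreg : Cfsg.IsRegularPGroup p T := Cfsg.Agent.S4209.result hpG hbotT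
  have hs1 : s ∉ twoStep T 1 := hs 1 le_rfl (by omega)
  have hs2 : s ∉ twoStep T 2 := hs 2 (by omega) le_rfl
  have hsp : s ^ p ∈ L T 3 := by
    have := pow_p_uniform_mem hcard hcl' hm 2 (by omega) hs (one_mem (L T 1))
    rwa [mul_one] at this
  -- all p-th powers lie in L 3
  have hall : ∀ x : T, x ^ p ∈ L T 3 := by
    intro x
    obtain ⟨c, hc1, hc2⟩ := exists_pow_mul_not_mem hpG hp2 _ _ hs1 hs2 x
    have hu : ∀ j, 1 ≤ j → j ≤ 2 → s ^ c * x ∉ twoStep T j := by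
      intro j h1 h2
      have : j = 1 ∨ j = 2 := by omega
      rcases this with rfl | rfl
      · exact hc1
      · exact hc2
    have hup : (s ^ c * x) ^ p ∈ L T 3 := by
      have := pow_p_uniform_mem hcard hcl' hm 2 (by omega) hu (one_mem (L T 1))
      rwa [mul_one] at this
    obtain ⟨c', hc', heq⟩ := hreg.2 (s ^ c)⁻¹ (s ^ c * x) 1
    rw [pow_one, inv_mul_cancel_left] at heq
    rw [heq]
    have hc'' : c' ∈ L T 3 := by
      have hle : Cfsg.powerClosure p 1 ⁅closure ({(s ^ c)⁻¹, s ^ c * x} : Set T),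
          closure ({(s ^ c)⁻¹, s ^ c * x} : Set T)⁆ ≤ L T 3 := by
        unfold Cfsg.powerClosure
        rw [Subgroup.closure_le]
        rintro y ⟨z, hz, rfl⟩
        rw [pow_one]
        apply hpow
        exact Subgroup.commutator_mono le_top le_top hz
      exact hle hc'
    have hinv : ((s ^ c)⁻¹) ^ p ∈ L T 3 := by
      rw [inv_pow, ← pow_mul, mul_comm, pow_mul]
      exact inv_mem (pow_mem hsp c)
    exact mul_mem (mul_mem hinv hup) hc''
  -- count
  have hregT : Cfsg.IsRegularPGroup p ↥(⊤ : Subgroup T) :=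
    Cfsg.Agent.Helper70.isRegularPGroup_subgroup hreg ⊤
  obtain ⟨Ω, hΩ⟩ := exists_omegaOne (⊤ : Subgroup T) hregT
  have _ : Ω.Normal := omegaOne_normal (⊤ : Subgroup T) Ω hΩ
  have hcount := card_le_card_omegaOne_mul (⊤ : Subgroup T) hregT Ω hΩ (L T 3)
    (fun x _ => hall x)
  rw [Subgroup.card_top, hcard, card_L hcard hcl' hm (by omega) (by omega)] at hcount
  have he : p ^ 3 ≤ Nat.card Ω := by
    have h1 : p ^ 5 = p ^ 4 * p ^ (5 - 1 - 3) := by rw [← pow_add]
    rw [h1] at hcount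
    have h2 := Nat.le_of_mul_le_mul_right hcount (pow_pos hp.out.pos _)
    exact le_trans (Nat.pow_le_pow_right hp.out.pos (by omega)) h2
  have hle := L_le_of_normal_of_card hcard hcl' hm Ω 3 he (by omega)
  intro a ha
  have : a ∈ Ω := hle ha
  exact ((hΩ a).mp this).2

end Cfsg.Agent.Helper63.MC
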