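import Mathlib
import Cfsg.Agent.S0022
import Cfsg.Agent.S0026
import Cfsg.Agent.S0027
import Cfsg.Agent.S0055
import Cfsg.Agent.Helper71.ShultNil
import Cfsg.Agent.Helper71.QuotImage
import Cfsg.Agent.Helper71.ShultBasic
import Cfsg.Agent.Helper52.NormalRankTwo
import Cfsg.Agent.Helper51.Extra3
import Cfsg.Agent.Helper63.PGroup

/-!
# B-G Theorem 13.4: the pure `p`-group lemma ("Lemma F")

Setting: `S` a `p`-subgroup of a finite group `X`, `R` of prime order `r` and `Q` an `r'`-group,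
both normalizing `S`, `R` normalizing `Q`, `[Q, R] = Q`, `Q R` solvable of odd order prime to `p`.

* `lemmaF_a`: `C_S(R) = 1 → [S, Q] = 1` (Shult's theorem, `Helper71.ShultNil`).
* `commutator_le_of_fix_le`: `N₀ ⊴ T`, `Q R`-invariant, `C_T(R) ≤ N₀ → [T, Q] ≤ N₀`.
* `lemmaF_b`: `C_S(R) = C_S(Q) → S = C_S(Q) = C_S(R)`.
* `lemmaF_c`: `C_S(R)`, `C_S(Q)` cyclic, `P₀ ≤ S` of order `p` centralized by `Q R`, `p` odd
  `→ S` cyclic.
-/

set_option autoImplicit false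

namespace Cfsg.Agent.Helper63.BG13F

open Subgroup
open scoped commutatorElement
open Cfsg.Agent.Helper71 Cfsg.Agent.Helper71.Shult Cfsg.Agent.Helper71.QI

variable {X : Type*} [Group X] [Finite X]

/-- **Lemma F(a)** (Shult). -/
theorem lemmaF_a {p r : ℕ} (hp : p.Prime) (hr : r.Prime) (S Q R : Subgroup X)
    (hS : IsPGroup p S) (hRcard : Nat.card R = r) (hRS : R ≤ normalizer (S : Set X))
    (hQS : Q ≤ normalizer (S : Set X)) (hRQ : R ≤ normalizer (Q : Set X)) (hQR : ⁅Q, R⁆ = Q)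
    (hsolv : Group.IsSolvable ↥(Q ⊔ R)) (hodd : Odd (Nat.card ↥(Q ⊔ R)))
    (hcop : (Nat.card ↥(Q ⊔ R)).Coprime p) (hrQ : ¬ r ∣ Nat.card Q)
    (hfpf : S ⊓ centralizer (R : Set X) = ⊥) : Q ≤ centralizer (S : Set X) := by
  have : Fact p.Prime := ⟨hp⟩
  have hnil : Group.IsNilpotent ↥S := hS.isNilpotent
  obtain ⟨n, hn⟩ := hS.exists_card_eq
  have hcop' : (Nat.card ↥(Q ⊔ R)).Coprime (Nat.card S) := by
    rw [hn]; exact Nat.Coprime.pow_right n hcop
  have h := ShultNil.commutator_le_centralizer_of_fpf S Q R hnil hr hRcard hRQ hQS hRS hsolv hodd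
    hcop' hrQ hfpf
  rwa [hQR] at h

omit [Finite X] in
/-- `r ≠ p` in the standing configuration. -/
theorem r_ne_p {p r : ℕ} (hr : r.Prime) (Q R : Subgroup X) (hRcard : Nat.card R = r)
    (hcop : (Nat.card ↥(Q ⊔ R)).Coprime p) : r ≠ p := by
  intro h
  have h1 : r ∣ Nat.card ↥(Q ⊔ R) := by
    rw [← hRcard]; exact Subgroup.card_dvd_of_le le_sup_right
  have h2 : r ∣ Nat.gcd (Nat.card ↥(Q ⊔ R)) p := Nat.dvd_gcd h1 (h ▸ dvd_rfl)
  rw [hcop] at h2
  exact hr.one_lt.ne' (Nat.dvd_one.mp h2)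

/-- The order of a `p`-subgroup is coprime to `|Q R|`. -/
theorem coprime_card_of_isPGroup {p : ℕ} (hp : p.Prime) {T W : Subgroup X} (hT : IsPGroup p T)
    (hcop : (Nat.card W).Coprime p) : (Nat.card W).Coprime (Nat.card T) := by
  have : Fact p.Prime := ⟨hp⟩
  obtain ⟨n, hn⟩ := hT.exists_card_eq
  rw [hn]; exact Nat.Coprime.pow_right n hcop

/-- **Quotient form of Lemma F(a)**: if `N₀ ⊴ T` is `Q R`-invariant and contains `C_T(R)`,
then `[T, Q] ≤ N₀`. -/
theorem commutator_le_of_fix_le {p r : ℕ} (hp : p.Prime) (hr : r.Prime) (T N0 Q R : Subgroup X)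
    (hT : IsPGroup p T) (hRcard : Nat.card R = r) (hRT : R ≤ normalizer (T : Set X))
    (hQT : Q ≤ normalizer (T : Set X)) (hRQ : R ≤ normalizer (Q : Set X)) (hQR : ⁅Q, R⁆ = Q)
    (hsolv : Group.IsSolvable ↥(Q ⊔ R)) (hodd : Odd (Nat.card ↥(Q ⊔ R)))
    (hcop : (Nat.card ↥(Q ⊔ R)).Coprime p) (hrQ : ¬ r ∣ Nat.card Q)
    (hN0T : N0 ≤ T) (hTN0 : T ≤ normalizer (N0 : Set X)) (hQN0 : Q ≤ normalizer (N0 : Set X))
    (hRN0 : R ≤ normalizer (N0 : Set X)) (hfix : T ⊓ centralizer (R : Set X) ≤ N0) :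
    ⁅T, Q⁆ ≤ N0 := by
  have hpF : Fact p.Prime := ⟨hp⟩
  have hrp : r ≠ p := r_ne_p hr Q R hRcard hcop
  have hN0p : IsPGroup p N0 := hT.to_le hN0T
  have hRcop : (Nat.card R).Coprime p := by
    rw [hRcard]; exact (Nat.coprime_primes hr hp).mpr hrp
  have hRN0bot : R ⊓ N0 = ⊥ :=
    inf_eq_bot_of_coprime_card (coprime_card_of_isPGroup hp hN0p hRcop)
  have hR'card : Nat.card (img N0 R) = r := (card_img hRN0 hRN0bot).trans hRcard
  have hT' : IsPGroup p (img N0 T) := isPGroup_img hT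
  have h1 : img N0 R ≤ normalizer ((img N0 T : Subgroup (Quo N0)) : Set (Quo N0)) :=
    img_le_normalizer hRT
  have h2 : img N0 Q ≤ normalizer ((img N0 T : Subgroup (Quo N0)) : Set (Quo N0)) :=
    img_le_normalizer hQT
  have h3 : img N0 R ≤ normalizer ((img N0 Q : Subgroup (Quo N0)) : Set (Quo N0)) :=
    img_le_normalizer hRQ
  have h4 : ⁅img N0 Q, img N0 R⁆ = img N0 Q := by
    unfold img
    rw [← Subgroup.map_commutator]
    congr 1
    apply Subgroup.map_injective (normalizer (N0 : Set X)).subtype_injective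
    rw [Subgroup.map_commutator, Subgroup.map_subgroupOf_eq_of_le hQN0,
      Subgroup.map_subgroupOf_eq_of_le hRN0, hQR]
  have hQRN0 : Q ⊔ R ≤ normalizer (N0 : Set X) := sup_le hQN0 hRN0
  have h5 : img N0 Q ⊔ img N0 R = img N0 (Q ⊔ R) := (img_sup hQN0 hRN0).symm
  have hsurj := imgHom_surjective N0 hQRN0
  have hsolv' : Group.IsSolvable ↥(img N0 Q ⊔ img N0 R) := by
    rw [h5]; exact Group.isSolvable_of_surjective hsurj
  have hdvd : Nat.card ↥(img N0 Q ⊔ img N0 R) ∣ Nat.card ↥(Q ⊔ R) := by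
    rw [h5]; exact Subgroup.card_dvd_of_surjective _ hsurj
  have hodd' : Odd (Nat.card ↥(img N0 Q ⊔ img N0 R)) := by
    rcases Nat.even_or_odd (Nat.card ↥(img N0 Q ⊔ img N0 R)) with he | ho
    · exact absurd (he.two_dvd.trans hdvd) (fun h => (Nat.not_even_iff_odd.mpr hodd)
        (even_iff_two_dvd.mpr h))
    · exact ho
  have hcop' : (Nat.card ↥(img N0 Q ⊔ img N0 R)).Coprime p :=
    Nat.Coprime.coprime_dvd_left hdvd hcop
  have hrQ' : ¬ r ∣ Nat.card (img N0 Q) := by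
    intro h
    exact hrQ (h.trans (Subgroup.card_dvd_of_surjective _ (imgHom_surjective N0 hQN0)))
  have hfpf' : img N0 T ⊓ centralizer ((img N0 R : Subgroup (Quo N0)) : Set (Quo N0)) = ⊥ := by
    rw [eq_bot_iff]
    intro y hy
    obtain ⟨s, hs, hsT, hcomm, rfl⟩ := (mem_img_inf_centralizer hRN0).mp hy
    rw [mem_bot, proj_eq_one_iff]
    have hfix' : ∀ a ∈ R, a * s * a⁻¹ * s⁻¹ ∈ N0 := by
      intro a ha
      have h6 := hcomm a⁻¹ (R.inv_mem ha)
      have h7 := conj_mem_of_le_normalizer hTN0 hsT h6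
      have e : s * ((a⁻¹ * s)⁻¹ * (s * a⁻¹)) * s⁻¹ = a * s * a⁻¹ * s⁻¹ := by group
      rwa [e] at h7
    have hRsolv : Group.IsSolvable ↥R := by
      have : Fact (Nat.card R).Prime := ⟨hRcard ▸ hr⟩
      have := isCyclic_of_prime_card (α := ↥R) rfl
      infer_instance
    obtain ⟨c, hc, hsc⟩ := Cfsg.Agent.S0022.result R T hRT
      (coprime_card_of_isPGroup hp hT hRcop) (Or.inl hRsolv) N0 hN0T hTN0 hRN0 s hsT hfix'
    have hcN0 : c ∈ N0 := hfix hc
    have e : s = c * (s⁻¹ * c)⁻¹ := by group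
    show s ∈ N0
    have h12 := N0.mul_mem hcN0 (N0.inv_mem hsc)
    rwa [← e] at h12
  have key := lemmaF_a hp hr (img N0 T) (img N0 Q) (img N0 R) hT' hR'card h1 h2 h3 h4 hsolv' hodd'
    hcop' hrQ' hfpf'
  rw [Subgroup.commutator_le]
  intro t ht q hq
  have htN : t ∈ normalizer (N0 : Set X) := hTN0 ht
  have hqN : q ∈ normalizer (N0 : Set X) := hQN0 hq
  have h8 : proj N0 ⟨q, hqN⟩ ∈ img N0 Q := mem_img.mpr ⟨q, hqN, hq, rfl⟩
  have h9 : proj N0 ⟨t, htN⟩ ∈ img N0 T := mem_img.mpr ⟨t, htN, ht, rfl⟩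
  have h10 := mem_centralizer_iff.mp (key h8) _ h9
  have h11 : proj N0 (⟨t, htN⟩ * ⟨q, hqN⟩ * ⟨t, htN⟩⁻¹ * ⟨q, hqN⟩⁻¹) = 1 := by
    rw [map_mul, map_mul, map_mul, map_inv, map_inv, h10]
    group
  rw [proj_eq_one_iff] at h11
  exact h11

/-- Coprime action: `[T, Q] ≤ C(Q)` forces `[T, Q] = 1`. -/
theorem le_centralizer_of_commutator_le_centralizer {p : ℕ} (hp : p.Prime) (T Q : Subgroup X)
    (hT : IsPGroup p T) (hQT : Q ≤ normalizer (T : Set X)) (hcop : (Nat.card Q).Coprime p)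
    (h : ⁅T, Q⁆ ≤ centralizer (Q : Set X)) : T ≤ centralizer (Q : Set X) := by
  have hpF : Fact p.Prime := ⟨hp⟩
  have h1 : ⁅⁅T, Q⁆, Q⁆ = ⊥ := commutator_eq_bot_iff_le_centralizer.mpr h
  have hnil : Group.IsNilpotent ↥T := hT.isNilpotent
  have hsolvT : Group.IsSolvable ↥T := inferInstance
  have h2 := Cfsg.Agent.S0027.result Q T hQT (coprime_card_of_isPGroup hp hT hcop)
    (Or.inr hsolvT)
  rw [h1] at h2
  exact commutator_eq_bot_iff_le_centralizer.mp h2.symm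

omit [Finite X] in
/-- `|Q|` is prime to `p`. -/
theorem coprime_card_left {p : ℕ} (Q R : Subgroup X)
    (hcop : (Nat.card ↥(Q ⊔ R)).Coprime p) : (Nat.card Q).Coprime p :=
  Nat.Coprime.coprime_dvd_left (Subgroup.card_dvd_of_le le_sup_left) hcop

/-- A proper subgroup `C₀` of a `p`-group `S` is proper in its normalizer in `S`. -/
theorem eq_of_inf_normalizer_le {p : ℕ} (hp : p.Prime) {S C0 : Subgroup X} (hS : IsPGroup p S)
    (hC0S : C0 ≤ S) (h : S ⊓ normalizer (C0 : Set X) ≤ C0) : C0 = S := by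
  have hpF : Fact p.Prime := ⟨hp⟩
  by_contra hne
  have hnil : Group.IsNilpotent ↥S := hS.isNilpotent
  have hnc := Group.normalizerCondition_of_isNilpotent (G := ↥S)
  have hlt : C0.subgroupOf S < ⊤ := by
    rw [lt_top_iff_ne_top]
    intro h1
    rw [subgroupOf_eq_top] at h1
    exact hne (le_antisymm hC0S h1)
  have h2 := hnc _ hlt
  rw [← subgroupOf_normalizer_eq hC0S] at h2
  have h3 : (normalizer (C0 : Set X)).subgroupOf S ≤ C0.subgroupOf S := by
    intro x hx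
    rw [mem_subgroupOf] at hx ⊢
    exact h ⟨x.2, hx⟩
  exact lt_irrefl _ (lt_of_lt_of_le h2 h3)

/-- **Lemma F(b)**: if `C_S(R) = C_S(Q)` then `S` is centralized by `Q` and `R`. -/
theorem lemmaF_b {p r : ℕ} (hp : p.Prime) (hr : r.Prime) (S Q R : Subgroup X)
    (hS : IsPGroup p S) (hRcard : Nat.card R = r) (hRS : R ≤ normalizer (S : Set X))
    (hQS : Q ≤ normalizer (S : Set X)) (hRQ : R ≤ normalizer (Q : Set X)) (hQR : ⁅Q, R⁆ = Q)
    (hsolv : Group.IsSolvable ↥(Q ⊔ R)) (hodd : Odd (Nat.card ↥(Q ⊔ R)))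
    (hcop : (Nat.card ↥(Q ⊔ R)).Coprime p) (hrQ : ¬ r ∣ Nat.card Q)
    (h : S ⊓ centralizer (R : Set X) = S ⊓ centralizer (Q : Set X)) :
    S ≤ centralizer (Q : Set X) ∧ S ≤ centralizer (R : Set X) := by
  have hRC0 : R ≤ normalizer ((S ⊓ centralizer (R : Set X) : Subgroup X) : Set X) :=
    inf_le_normalizer hRS (le_normalizer_centralizer le_normalizer)
  have hQC0 : Q ≤ normalizer ((S ⊓ centralizer (R : Set X) : Subgroup X) : Set X) := by
    rw [h]; exact inf_le_normalizer hQS (le_normalizer_centralizer le_normalizer)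
  have hT : IsPGroup p ↥(S ⊓ normalizer ((S ⊓ centralizer (R : Set X) : Subgroup X) : Set X)) :=
    hS.to_le inf_le_left
  have hRT : R ≤ normalizer ((S ⊓ normalizer ((S ⊓ centralizer (R : Set X) : Subgroup X) : Set X)
      : Subgroup X) : Set X) := inf_le_normalizer hRS (hRC0.trans le_normalizer)
  have hQT : Q ≤ normalizer ((S ⊓ normalizer ((S ⊓ centralizer (R : Set X) : Subgroup X) : Set X)
      : Subgroup X) : Set X) := inf_le_normalizer hQS (hQC0.trans le_normalizer)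
  have h1 := commutator_le_of_fix_le hp hr _ (S ⊓ centralizer (R : Set X)) Q R hT hRcard hRT hQT
    hRQ hQR hsolv hodd hcop hrQ (le_inf inf_le_left le_normalizer) inf_le_right hQC0 hRC0
    (inf_le_inf_right _ inf_le_left)
  have h2 := le_centralizer_of_commutator_le_centralizer hp _ Q hT hQT (coprime_card_left Q R hcop)
    (h1.trans (h ▸ inf_le_right))
  have h3 : S ⊓ normalizer ((S ⊓ centralizer (R : Set X) : Subgroup X) : Set X) ≤
      S ⊓ centralizer (R : Set X) := by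
    have h5 : S ⊓ normalizer ((S ⊓ centralizer (R : Set X) : Subgroup X) : Set X) ≤
        S ⊓ centralizer (Q : Set X) := le_inf inf_le_left h2
    rwa [← h] at h5
  have h4 := eq_of_inf_normalizer_le hp hS inf_le_left h3
  constructor
  · rw [h] at h4
    exact h4 ▸ inf_le_right
  · exact h4 ▸ inf_le_right

/-! ### Part (c) -/

/-- In a cyclic subgroup containing a subgroup `P₀` of order `p`, the solutions of `x ^ p = 1`
are the elements of `P₀`. -/
theorem mem_of_pow_eq_one_of_isCyclic {p : ℕ} (hp : p.Prime) {C P0 : Subgroup X}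
    (hC : IsCyclic ↥C) (hP0C : P0 ≤ C) (hP0 : Nat.card P0 = p) {x : X} (hx : x ∈ C)
    (hxp : x ^ p = 1) : x ∈ P0 := by
  classical
  have : Fintype ↥C := Fintype.ofFinite _
  have : Fintype ↥P0 := Fintype.ofFinite _
  have h1 := IsCyclic.card_pow_eq_one_le (α := ↥C) hp.pos
  set F := Finset.univ.filter (fun a : ↥C => a ^ p = 1) with hF
  set I := (Finset.univ : Finset ↥P0).image (Subgroup.inclusion hP0C) with hI
  have hIcard : I.card = p := by
    rw [hI, Finset.card_image_of_injective _ (Subgroup.inclusion_injective hP0C),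
      Finset.card_univ, ← Nat.card_eq_fintype_card, hP0]
  have hIF : I ⊆ F := by
    intro a ha
    rw [hI, Finset.mem_image] at ha
    obtain ⟨b, -, rfl⟩ := ha
    rw [hF, Finset.mem_filter]
    refine ⟨Finset.mem_univ _, ?_⟩
    have h2 : b ^ p = 1 := by rw [← hP0]; exact pow_card_eq_one'
    rw [← map_pow, h2, map_one]
  have hIeq : I = F := Finset.eq_of_subset_of_card_le hIF (by rw [hIcard]; exact h1)
  have hxF : (⟨x, hx⟩ : ↥C) ∈ F := by
    rw [hF, Finset.mem_filter]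
    exact ⟨Finset.mem_univ _, Subtype.ext (by simpa using hxp)⟩
  rw [← hIeq, hI, Finset.mem_image] at hxF
  obtain ⟨b, -, hb⟩ := hxF
  have h3 : (b : X) = x := congrArg Subtype.val hb
  rw [← h3]
  exact b.2

omit [Finite X] in
/-- The commutator of two `W`-invariant subgroups is `W`-invariant. -/
theorem le_normalizer_commutator {W A B : Subgroup X} (hA : W ≤ normalizer (A : Set X))
    (hB : W ≤ normalizer (B : Set X)) : W ≤ normalizer ((⁅A, B⁆ : Subgroup X) : Set X) := by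
  apply le_normalizer_of_conj_mem
  intro x hx c hc
  have h1 : A.map (MulAut.conj x).toMonoidHom ≤ A := by
    rintro _ ⟨a, ha, rfl⟩
    exact conj_mem_of_le_normalizer hA hx ha
  have h2 : B.map (MulAut.conj x).toMonoidHom ≤ B := by
    rintro _ ⟨b, hb, rfl⟩
    exact conj_mem_of_le_normalizer hB hx hb
  have h3 : x * c * x⁻¹ ∈ (⁅A, B⁆).map (MulAut.conj x).toMonoidHom := ⟨c, hc, rfl⟩
  rw [Subgroup.map_commutator] at h3
  exact Subgroup.commutator_mono h1 h2 h3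

omit [Finite X] in
/-- `[A, B] ≤ A` when `B` normalizes `A`. -/
theorem commutator_le_left_of_le_normalizer {A B : Subgroup X} (h : B ≤ normalizer (A : Set X)) :
    ⁅A, B⁆ ≤ A := by
  rw [Subgroup.commutator_le]
  intro a ha b hb
  have h1 := conj_mem_of_le_normalizer h hb (A.inv_mem ha)
  have e : ⁅a, b⁆ = a * (b * a⁻¹ * b⁻¹) := by rw [commutatorElement_def]; group
  rw [e]
  exact A.mul_mem ha h1

/-- `Ω₁(Z(S))` as a subgroup of the ambient group. -/
def omegaCenter (p : ℕ) (S : Subgroup X) : Subgroup X where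
  carrier := {z | z ∈ S ∧ (∀ s ∈ S, s * z = z * s) ∧ z ^ p = 1}
  one_mem' := ⟨S.one_mem, fun s _ => by rw [mul_one, one_mul], one_pow p⟩
  mul_mem' := by
    rintro a b ⟨ha, hac, hap⟩ ⟨hb, hbc, hbp⟩
    refine ⟨S.mul_mem ha hb, fun s hs => ?_, ?_⟩
    · rw [← mul_assoc, hac s hs, mul_assoc, hbc s hs, mul_assoc]
    · have hcomm : Commute a b := hbc a ha
      rw [hcomm.mul_pow, hap, hbp, one_mul]
  inv_mem' := by
    rintro a ⟨ha, hac, hap⟩
    refine ⟨S.inv_mem ha, fun s hs => ?_, by rw [inv_pow, hap, inv_one]⟩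
    have h1 := hac s hs
    calc s * a⁻¹ = a⁻¹ * (a * s) * a⁻¹ := by group
      _ = a⁻¹ * (s * a) * a⁻¹ := by rw [h1]
      _ = a⁻¹ * s := by group

omit [Finite X] in
theorem mem_omegaCenter {p : ℕ} {S : Subgroup X} {z : X} :
    z ∈ omegaCenter p S ↔ z ∈ S ∧ (∀ s ∈ S, s * z = z * s) ∧ z ^ p = 1 := Iff.rfl

omit [Finite X] in
theorem omegaCenter_le (p : ℕ) (S : Subgroup X) : omegaCenter p S ≤ S := fun _ h => h.1

omit [Finite X] in
theorem omegaCenter_comm (p : ℕ) (S : Subgroup X) : IsMulCommutative ↥(omegaCenter p S) := by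
  refine ⟨⟨fun a b => ?_⟩⟩
  apply Subtype.ext
  show (a : X) * (b : X) = (b : X) * (a : X)
  exact b.2.2.1 a a.2.1

omit [Finite X] in
theorem le_normalizer_omegaCenter {p : ℕ} {W S : Subgroup X} (h : W ≤ normalizer (S : Set X)) :
    W ≤ normalizer ((omegaCenter p S : Subgroup X) : Set X) := by
  apply le_normalizer_of_conj_mem
  intro w hw z hz
  obtain ⟨hzS, hzc, hzp⟩ := hz
  refine ⟨conj_mem_of_le_normalizer h hw hzS, fun s hs => ?_, ?_⟩
  · have h1 := hzc _ (conj_inv_mem_of_le_normalizer h hw hs)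
    calc s * (w * z * w⁻¹) = w * ((w⁻¹ * s * w) * z) * w⁻¹ := by group
      _ = w * (z * (w⁻¹ * s * w)) * w⁻¹ := by rw [h1]
      _ = w * z * w⁻¹ * s := by group
  · rw [conj_pow, hzp, mul_one, mul_inv_cancel]

/-- A nontrivial `p`-subgroup has a nontrivial `Ω₁(Z(S))`. -/
theorem exists_mem_omegaCenter_ne_one {p : ℕ} (hp : p.Prime) {S : Subgroup X} (hS : IsPGroup p S)
    (hS1 : S ≠ ⊥) : ∃ z ∈ omegaCenter p S, z ≠ 1 := by
  have hpF : Fact p.Prime := ⟨hp⟩
  have hnt : Nontrivial ↥S := (Subgroup.nontrivial_iff_ne_bot S).mpr hS1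
  have hcn : Nontrivial ↥(center ↥S) := hS.center_nontrivial
  have hcp : IsPGroup p ↥(center ↥S) := hS.to_subgroup _
  have hdvd : p ∣ Nat.card ↥(center ↥S) := by
    rcases hcp.card_eq_or_dvd with h | h
    · exact absurd h (Finite.one_lt_card_iff_nontrivial.mpr hcn).ne'
    · exact h
  obtain ⟨z, hz⟩ := exists_prime_orderOf_dvd_card' p hdvd
  refine ⟨((z : ↥S) : X), ⟨(z : ↥S).2, fun s hs => ?_, ?_⟩, ?_⟩
  · have h1 := mem_center_iff.mp z.2 ⟨s, hs⟩
    exact congrArg Subtype.val h1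
  · have h1 : z ^ p = 1 := by rw [← hz]; exact pow_orderOf_eq_one z
    have h2 := congrArg (fun a : ↥(center ↥S) => ((a : ↥S) : X)) h1
    simpa using h2
  · intro h
    have h1 : z = 1 := by
      apply Subtype.ext; apply Subtype.ext; simpa using h
    rw [h1, orderOf_one] at hz
    exact hp.one_lt.ne hz

/-- A subgroup of prime order sharing a nonidentity element with `B` lies in `B`. -/
theorem le_of_card_prime_of_mem {G : Type*} [Group G] [Finite G] {p : ℕ} (hp : p.Prime)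
    {A B : Subgroup G} (hA : Nat.card A = p) {a : G} (ha : a ∈ A) (hb : a ∈ B) (ha1 : a ≠ 1) :
    A ≤ B := by
  have hdvd : Nat.card ↥(A ⊓ B) ∣ p := hA ▸ Subgroup.card_dvd_of_le inf_le_left
  rcases (Nat.dvd_prime hp).mp hdvd with h | h
  · exfalso
    have h1 := Subgroup.card_eq_one.mp h
    have h2 : a ∈ A ⊓ B := ⟨ha, hb⟩
    rw [h1, mem_bot] at h2
    exact ha1 h2
  · have h1 : A ⊓ B = A := Subgroup.eq_of_le_of_card_ge inf_le_left (by rw [h, hA])
    exact h1 ▸ inf_le_right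

/-- In a nilpotent group, `[A, G] = A` forces `A = 1`. -/
theorem eq_bot_of_commutator_top_eq {G : Type*} [Group G] [hG : Group.IsNilpotent G]
    (A : Subgroup G) (h : ⁅A, (⊤ : Subgroup G)⁆ = A) : A = ⊥ := by
  obtain ⟨n, hn⟩ := Subgroup.nilpotent_iff_lowerCentralSeries.mp hG
  have h1 : ∀ k, A ≤ (⊤ : Subgroup G).lowerCentralSeries k := by
    intro k
    induction k with
    | zero => rw [Subgroup.lowerCentralSeries_zero]; exact le_top
    | succ k ih =>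
      have h2 : ⁅A, (⊤ : Subgroup G)⁆ ≤ ⁅(⊤ : Subgroup G).lowerCentralSeries k, (⊤ : Subgroup G)⁆ :=
        Subgroup.commutator_mono ih le_rfl
      rw [h] at h2
      exact h2
  rw [eq_bot_iff, ← hn]
  exact h1 n

/-- Step 1 of (c): `Ω₁(Z(S)) ≤ P₀`. -/
theorem omegaCenter_le_of_cyclic {p r : ℕ} (hp : p.Prime) (hr : r.Prime) (S Q R : Subgroup X)
    (hS : IsPGroup p S) (hRcard : Nat.card R = r) (hRS : R ≤ normalizer (S : Set X))
    (hQS : Q ≤ normalizer (S : Set X)) (hRQ : R ≤ normalizer (Q : Set X)) (hQR : ⁅Q, R⁆ = Q)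
    (hsolv : Group.IsSolvable ↥(Q ⊔ R)) (hodd : Odd (Nat.card ↥(Q ⊔ R)))
    (hcop : (Nat.card ↥(Q ⊔ R)).Coprime p) (hrQ : ¬ r ∣ Nat.card Q)
    (hcR : IsCyclic ↥(S ⊓ centralizer (R : Set X))) (hcQ : IsCyclic ↥(S ⊓ centralizer (Q : Set X)))
    (P0 : Subgroup X) (hP0S : P0 ≤ S) (hP0 : Nat.card P0 = p)
    (hP0Q : Q ≤ centralizer (P0 : Set X)) (hP0R : R ≤ centralizer (P0 : Set X)) :
    omegaCenter p S ≤ P0 := by
  have hZ1S : omegaCenter p S ≤ S := omegaCenter_le p S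
  have hZ1p : IsPGroup p ↥(omegaCenter p S) := hS.to_le hZ1S
  have hQZ1 : Q ≤ normalizer ((omegaCenter p S : Subgroup X) : Set X) :=
    le_normalizer_omegaCenter hQS
  have hRZ1 : R ≤ normalizer ((omegaCenter p S : Subgroup X) : Set X) :=
    le_normalizer_omegaCenter hRS
  have hcomm : IsMulCommutative ↥(omegaCenter p S) := omegaCenter_comm p S
  have hQcop : (Nat.card Q).Coprime p := coprime_card_left Q R hcop
  obtain ⟨hd1, -⟩ := Cfsg.Agent.S0055.result Q (omegaCenter p S) hQZ1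
    (coprime_card_of_isPGroup hp hZ1p hQcop)
  have hWZ1 : ⁅omegaCenter p S, Q⁆ ≤ omegaCenter p S := commutator_le_left_of_le_normalizer hQZ1
  have hWp : IsPGroup p ↥⁅omegaCenter p S, Q⁆ := hZ1p.to_le hWZ1
  have hRW : R ≤ normalizer ((⁅omegaCenter p S, Q⁆ : Subgroup X) : Set X) :=
    le_normalizer_commutator hRZ1 hRQ
  have hQW : Q ≤ normalizer ((⁅omegaCenter p S, Q⁆ : Subgroup X) : Set X) :=
    le_normalizer_commutator hQZ1 le_normalizer
  have hP0CR : P0 ≤ S ⊓ centralizer (R : Set X) := le_inf hP0S (le_centralizer_symm hP0R)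
  have hP0CQ : P0 ≤ S ⊓ centralizer (Q : Set X) := le_inf hP0S (le_centralizer_symm hP0Q)
  have hfpf : ⁅omegaCenter p S, Q⁆ ⊓ centralizer (R : Set X) = ⊥ := by
    rw [eq_bot_iff]
    intro x hx
    have hxZ1 := hWZ1 hx.1
    have hxP0 : x ∈ P0 :=
      mem_of_pow_eq_one_of_isCyclic hp hcR hP0CR hP0 ⟨hZ1S hxZ1, hx.2⟩ hxZ1.2.2
    have h1 : x ∈ (omegaCenter p S ⊓ centralizer (Q : Set X)) ⊓ ⁅omegaCenter p S, Q⁆ :=
      ⟨⟨hxZ1, (hP0CQ hxP0).2⟩, hx.1⟩
    rw [hd1] at h1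
    exact h1
  have h1 := lemmaF_a hp hr ⁅omegaCenter p S, Q⁆ Q R hWp hRcard hRW hQW hRQ hQR hsolv hodd hcop
    hrQ hfpf
  have h2 : ⁅omegaCenter p S, Q⁆ ≤ centralizer (Q : Set X) := le_centralizer_symm h1
  have h3 : ⁅omegaCenter p S, Q⁆ = ⊥ := by
    rw [eq_bot_iff, ← hd1]
    exact le_inf (le_inf hWZ1 h2) le_rfl
  have h4 : omegaCenter p S ≤ centralizer (Q : Set X) :=
    commutator_eq_bot_iff_le_centralizer.mp h3
  intro z hz
  exact mem_of_pow_eq_one_of_isCyclic hp hcQ hP0CQ hP0 ⟨hZ1S hz, h4 hz⟩ hz.2.2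

omit [Finite X] in
/-- `V = {x ∈ S : x ^ p = 1, [x, S] ⊆ P₀}`, a subgroup when `P₀` is central in `S` of exponent
`p` and `p` is odd. -/
def vSub (p : ℕ) (S P0 : Subgroup X) (hodd : Odd p) (hc : ∀ c ∈ P0, ∀ s ∈ S, s * c = c * s)
    (hexp : ∀ c ∈ P0, c ^ p = 1) : Subgroup X where
  carrier := {x | x ∈ S ∧ x ^ p = 1 ∧ ∀ s ∈ S, x * s * x⁻¹ * s⁻¹ ∈ P0}
  one_mem' := ⟨S.one_mem, one_pow p, fun s _ => by
    have e : (1 : X) * s * 1⁻¹ * s⁻¹ = 1 := by group
    rw [e]; exact P0.one_mem⟩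
  mul_mem' := by
    rintro x y ⟨hxS, hxp, hxc⟩ ⟨hyS, hyp, hyc⟩
    refine ⟨S.mul_mem hxS hyS, ?_, fun s hs => ?_⟩
    · have hcP0 : ⁅y, x⁆ ∈ P0 := by rw [commutatorElement_def]; exact hyc x hxS
      have h1 : Commute ⁅y, x⁆ x := (hc _ hcP0 x hxS).symm
      have h2 : Commute ⁅y, x⁆ y := (hc _ hcP0 y hyS).symm
      rw [Cfsg.Agent.Helper51.mul_pow_of_odd_class_two h1 h2 hodd (hexp _ hcP0), hxp, hyp,
        one_mul]
    · have e : x * y * s * (x * y)⁻¹ * s⁻¹ =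
          (x * (y * s * y⁻¹ * s⁻¹) * x⁻¹) * (x * s * x⁻¹ * s⁻¹) := by group
      rw [e]
      have h3 := hc _ (hyc s hs) x hxS
      have e2 : x * (y * s * y⁻¹ * s⁻¹) * x⁻¹ = y * s * y⁻¹ * s⁻¹ := by
        rw [h3, mul_inv_cancel_right]
      rw [e2]
      exact P0.mul_mem (hyc s hs) (hxc s hs)
  inv_mem' := by
    rintro x ⟨hxS, hxp, hxc⟩
    refine ⟨S.inv_mem hxS, by rw [inv_pow, hxp, inv_one], fun s hs => ?_⟩
    have h1 := P0.inv_mem (hxc s hs)
    have h2 := hc _ h1 x hxS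
    have e : x⁻¹ * s * x⁻¹⁻¹ * s⁻¹ = x⁻¹ * ((x * s * x⁻¹ * s⁻¹)⁻¹ * x) := by group
    rw [e, ← h2, inv_mul_cancel_left]
    exact h1

omit [Finite X] in
theorem mem_vSub {p : ℕ} {S P0 : Subgroup X} {hodd : Odd p}
    {hc : ∀ c ∈ P0, ∀ s ∈ S, s * c = c * s} {hexp : ∀ c ∈ P0, c ^ p = 1} {x : X} :
    x ∈ vSub p S P0 hodd hc hexp ↔ x ∈ S ∧ x ^ p = 1 ∧ ∀ s ∈ S, x * s * x⁻¹ * s⁻¹ ∈ P0 :=
  Iff.rfl

omit [Finite X] in
/-- `V` is invariant under anything normalizing `S` and centralizing `P₀`. -/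
theorem le_normalizer_vSub {p : ℕ} {S P0 W : Subgroup X} {hodd : Odd p}
    {hc : ∀ c ∈ P0, ∀ s ∈ S, s * c = c * s} {hexp : ∀ c ∈ P0, c ^ p = 1}
    (hWS : W ≤ normalizer (S : Set X)) (hWP0 : W ≤ centralizer (P0 : Set X)) :
    W ≤ normalizer ((vSub p S P0 hodd hc hexp : Subgroup X) : Set X) := by
  apply le_normalizer_of_conj_mem
  intro g hg x hx
  obtain ⟨hxS, hxp, hxc⟩ := hx
  refine ⟨conj_mem_of_le_normalizer hWS hg hxS, ?_, fun s hs => ?_⟩
  · rw [conj_pow, hxp, mul_one, mul_inv_cancel]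
  · have hs' : g⁻¹ * s * g ∈ S := conj_inv_mem_of_le_normalizer hWS hg hs
    have h1 := hxc _ hs'
    have h2 := mem_centralizer_iff.mp (hWP0 hg) _ h1
    have e : g * x * g⁻¹ * s * (g * x * g⁻¹)⁻¹ * s⁻¹ =
        g * (x * (g⁻¹ * s * g) * x⁻¹ * (g⁻¹ * s * g)⁻¹) * g⁻¹ := by group
    rw [e, ← h2, mul_inv_cancel_right]
    exact h1

/-- **Lemma F(c)**: if `C_S(R)` and `C_S(Q)` are cyclic and `Q R` centralizes a subgroup `P₀` of
order `p` of `S` (`p` odd), then `S` is cyclic. -/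
theorem lemmaF_c {p r : ℕ} (hp : p.Prime) (hp2 : p ≠ 2) (hr : r.Prime) (S Q R : Subgroup X)
    (hS : IsPGroup p S) (hRcard : Nat.card R = r) (hRS : R ≤ normalizer (S : Set X))
    (hQS : Q ≤ normalizer (S : Set X)) (hRQ : R ≤ normalizer (Q : Set X)) (hQR : ⁅Q, R⁆ = Q)
    (hsolv : Group.IsSolvable ↥(Q ⊔ R)) (hodd : Odd (Nat.card ↥(Q ⊔ R)))
    (hcop : (Nat.card ↥(Q ⊔ R)).Coprime p) (hrQ : ¬ r ∣ Nat.card Q)
    (hcR : IsCyclic ↥(S ⊓ centralizer (R : Set X))) (hcQ : IsCyclic ↥(S ⊓ centralizer (Q : Set X)))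
    (P0 : Subgroup X) (hP0S : P0 ≤ S) (hP0 : Nat.card P0 = p)
    (hP0Q : Q ≤ centralizer (P0 : Set X)) (hP0R : R ≤ centralizer (P0 : Set X)) :
    IsCyclic ↥S := by
  have hpF : Fact p.Prime := ⟨hp⟩
  have hpodd : Odd p := hp.odd_of_ne_two hp2
  by_contra hncyc
  -- `Ω₁(Z(S)) = P₀`
  have hZle := omegaCenter_le_of_cyclic hp hr S Q R hS hRcard hRS hQS hRQ hQR hsolv hodd hcop hrQ
    hcR hcQ P0 hP0S hP0 hP0Q hP0R
  have hS1 : S ≠ ⊥ := by
    intro h
    rw [h] at hP0S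
    rw [le_bot_iff.mp hP0S, Subgroup.card_bot] at hP0
    exact hp.one_lt.ne hP0
  obtain ⟨z0, hz0, hz01⟩ := exists_mem_omegaCenter_ne_one hp hS hS1
  have hP0Z : P0 ≤ omegaCenter p S := le_of_card_prime_of_mem hp hP0 (hZle hz0) hz0 hz01
  have hc : ∀ c ∈ P0, ∀ s ∈ S, s * c = c * s := fun c hc s hs => (hP0Z hc).2.1 s hs
  have hexp : ∀ c ∈ P0, c ^ p = 1 := fun c hc => (hP0Z hc).2.2
  -- a normal elementary abelian subgroup of order `p ^ 2`
  have hnc' : ¬ IsCyclic ↥(⊤ : Subgroup ↥S) := by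
    intro h
    exact hncyc (isCyclic_of_surjective (Subgroup.topEquiv : ↥(⊤ : Subgroup ↥S) ≃* ↥S)
      Subgroup.topEquiv.surjective)
  obtain ⟨A, -, hAn, hAe, hAc⟩ := Cfsg.Agent.Helper52.exists_normal_elementaryAbelian_sq hp2 hS
    (⊤ : Subgroup ↥S) hnc'
  have hAne : A ≠ ⊥ := by
    intro h
    rw [h, Subgroup.card_bot] at hAc
    have : 1 < p ^ 2 := Nat.one_lt_pow (by norm_num) hp.one_lt
    omega
  -- central elements of `S` of order `p` lie in `P₀`
  have hcen : ∀ a : ↥S, a ∈ A → a ∈ center ↥S → (a : X) ∈ P0 := by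
    intro a haA hac
    apply hZle
    refine ⟨a.2, fun s hs => ?_, ?_⟩
    · have h1 := mem_center_iff.mp hac ⟨s, hs⟩
      exact congrArg Subtype.val h1
    · have h1 := hAe.2 a haA
      have h2 := congrArg Subtype.val h1
      simpa using h2
  -- `[A, S] ⊆ P₀`
  have hnil : Group.IsNilpotent ↥S := hS.isNilpotent
  have hDA : ⁅A, (⊤ : Subgroup ↥S)⁆ ≤ A := Subgroup.commutator_le_left A ⊤
  have hDne : ⁅A, (⊤ : Subgroup ↥S)⁆ ≠ A := fun h => hAne (eq_bot_of_commutator_top_eq A h)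
  have hDP0 : ∀ d ∈ ⁅A, (⊤ : Subgroup ↥S)⁆, (d : X) ∈ P0 := by
    intro d hd
    by_cases hD : ⁅A, (⊤ : Subgroup ↥S)⁆ = ⊥
    · rw [hD, mem_bot] at hd
      rw [hd]
      exact P0.one_mem
    · have hDn : (⁅A, (⊤ : Subgroup ↥S)⁆).Normal := inferInstance
      have h1 := Cfsg.Agent.Helper63.normal_inf_center_ne_bot hS ⁅A, (⊤ : Subgroup ↥S)⁆ hD
      obtain ⟨z, hz, hz1⟩ := (Subgroup.ne_bot_iff_exists_ne_one).mp h1 |>.elim
        fun z hz => (⟨(z : ↥S), z.2, fun h => hz (Subtype.ext h)⟩ :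
          ∃ z : ↥S, z ∈ ⁅A, (⊤ : Subgroup ↥S)⁆ ⊓ center ↥S ∧ z ≠ 1)
      have hzP0 : (z : X) ∈ P0 := hcen z (hDA hz.1) hz.2
      have hdvd : Nat.card ↥⁅A, (⊤ : Subgroup ↥S)⁆ ∣ p ^ 2 := hAc ▸ Subgroup.card_dvd_of_le hDA
      obtain ⟨m, hm, hcard⟩ := (Nat.dvd_prime_pow hp).mp hdvd
      have hm1 : m = 1 := by
        interval_cases m
        · exfalso
          rw [pow_zero] at hcard
          exact hD (Subgroup.card_eq_one.mp hcard)
        · rfl
        · exfalso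
          exact hDne (Subgroup.eq_of_le_of_card_ge hDA (by rw [hcard, hAc]))
      rw [hm1, pow_one] at hcard
      have hle : ⁅A, (⊤ : Subgroup ↥S)⁆ ≤ P0.subgroupOf S :=
        le_of_card_prime_of_mem hp hcard hz.1 (mem_subgroupOf.mpr hzP0) hz1
      exact mem_subgroupOf.mp (hle hd)
  -- `A ⊆ V ⊆ P₀`
  have hVS : vSub p S P0 hpodd hc hexp ≤ S := fun x hx => hx.1
  have hVp : IsPGroup p ↥(vSub p S P0 hpodd hc hexp) := hS.to_le hVS
  have hRV := le_normalizer_vSub (hodd := hpodd) (hc := hc) (hexp := hexp) hRS hP0R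
  have hQV := le_normalizer_vSub (hodd := hpodd) (hc := hc) (hexp := hexp) hQS hP0Q
  have hP0V : P0 ≤ vSub p S P0 hpodd hc hexp := by
    intro x hx
    refine ⟨hP0S hx, hexp x hx, fun s hs => ?_⟩
    rw [← hc x hx s hs, mul_inv_cancel_right, mul_inv_cancel]
    exact P0.one_mem
  have hVN : vSub p S P0 hpodd hc hexp ≤ normalizer (P0 : Set X) := by
    apply le_normalizer_of_le_centralizer
    apply le_centralizer_symm
    intro c hcP0
    rw [mem_centralizer_iff]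
    intro x hx
    exact hc c hcP0 x (hVS hx)
  have hP0CR : P0 ≤ S ⊓ centralizer (R : Set X) := le_inf hP0S (le_centralizer_symm hP0R)
  have hP0CQ : P0 ≤ S ⊓ centralizer (Q : Set X) := le_inf hP0S (le_centralizer_symm hP0Q)
  have hfix : vSub p S P0 hpodd hc hexp ⊓ centralizer (R : Set X) ≤ P0 := by
    intro x hx
    exact mem_of_pow_eq_one_of_isCyclic hp hcR hP0CR hP0 ⟨hVS hx.1, hx.2⟩ hx.1.2.1
  have h1 := commutator_le_of_fix_le hp hr (vSub p S P0 hpodd hc hexp) P0 Q R hVp hRcard hRV hQV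
    hRQ hQR hsolv hodd hcop hrQ hP0V hVN (le_normalizer_of_le_centralizer hP0Q)
    (le_normalizer_of_le_centralizer hP0R) hfix
  have h2 := le_centralizer_of_commutator_le_centralizer hp _ Q hVp hQV
    (coprime_card_left Q R hcop) (h1.trans (le_centralizer_symm hP0Q))
  have hVP0 : vSub p S P0 hpodd hc hexp ≤ P0 := by
    intro x hx
    exact mem_of_pow_eq_one_of_isCyclic hp hcQ hP0CQ hP0 ⟨hVS hx, h2 hx⟩ hx.2.1
  have hAV : ∀ a : ↥S, a ∈ A → (a : X) ∈ P0 := by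
    intro a ha
    apply hVP0
    refine ⟨a.2, ?_, fun s hs => ?_⟩
    · have h3 := congrArg Subtype.val (hAe.2 a ha)
      simpa using h3
    · have h3 := hDP0 ⁅a, (⟨s, hs⟩ : ↥S)⁆ (Subgroup.commutator_mem_commutator ha (mem_top _))
      rw [commutatorElement_def] at h3
      simpa using h3
  -- count
  have hinj : Function.Injective (fun a : ↥A => (⟨((a : ↥S) : X), hAV a a.2⟩ : ↥P0)) := by
    intro a b hab
    have h3 : ((a : ↥S) : X) = ((b : ↥S) : X) := by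
      have h4 := congrArg (fun t : ↥P0 => (t : X)) hab
      exact h4
    exact Subtype.ext (Subtype.ext h3)
  have hle := Nat.card_le_card_of_injective _ hinj
  rw [hAc, hP0] at hle
  have : p < p ^ 2 := by
    calc p = p ^ 1 := (pow_one p).symm
      _ < p ^ 2 := Nat.pow_lt_pow_right hp.one_lt (by norm_num)
  omega

end Cfsg.Agent.Helper63.BG13F
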