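import Mathlib
import Cfsg.Prelude.Def_OddOrderLocal
import Cfsg.Agent.Helper29.BG10F
import Cfsg.Agent.Helper64.BG1218
import Cfsg.Agent.Helper71.ShultBasic

/-!
# B-G Lemma 13.1(c) ("Lemma C" of the proof of Theorem 13.4)

`M` a maximal subgroup, `p ∈ τ₁(M)`, `H` a subgroup with `p ∣ |H'|` (e.g. `H` maximal with
`p ∈ σ(H)`), `H'` with a normal `p`-complement as soon as `p ∉ β(H)` (S1414), and `H'` containing
a nontrivial `σ(M)`-subgroup `Y`.  Then `p` is ideal.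

Proof: otherwise `H'` has a normal `p`-complement `K` (normalized by `H`); take a prime `t ∣ |Y|`
and a Sylow `t`-subgroup `T ≠ 1` of `K`; Frattini `H = K N_H(T)` and `p ∣ |H'|`, `p ∤ |K|` give
`p ∣ |N_H(T)'|`, against 12.18(b) (`Helper64.BG1218.lemma_12_18b`) for the `σ(M)`-subgroup `T`.
-/

set_option autoImplicit false
set_option linter.unusedSectionVars false

namespace Cfsg.Agent.Helper63.BG13C

open Subgroup
open scoped commutatorElement
open Cfsg Cfsg.Agent.Helper29.BG10 Cfsg.Agent.Helper64.BG1218 Cfsg.Agent.Helper71.Shult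

variable {G : Type*} [Group G] [Finite G]

/-- A normal `p`-complement `N` of a finite group `Γ` contains every `p'`-element. -/
theorem mem_of_coprime_orderOf {Γ : Type*} [Group Γ] [Finite Γ] {p : ℕ} [hp : Fact p.Prime]
    (P : Sylow p Γ) (N : Subgroup Γ) [N.Normal] (hc : N.IsComplement' (P : Subgroup Γ)) {x : Γ}
    (hx : (orderOf x).Coprime p) : x ∈ N := by
  have h1 := hc.card_mul_card
  have hidx : N.index = Nat.card (P : Subgroup Γ) := by
    have h2 := Subgroup.card_mul_index N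
    rw [← h1] at h2
    exact Nat.eq_of_mul_eq_mul_left Nat.card_pos h2
  obtain ⟨n, hn⟩ := IsPGroup.iff_card.1 P.isPGroup'
  have h3 : orderOf (QuotientGroup.mk' N x) ∣ orderOf x := orderOf_map_dvd _ x
  have h4 : orderOf (QuotientGroup.mk' N x) ∣ p ^ n := by
    rw [← hn, ← hidx, Subgroup.index_eq_card]
    exact orderOf_dvd_natCard _
  have h5 : orderOf (QuotientGroup.mk' N x) = 1 :=
    Nat.eq_one_of_dvd_coprimes (Nat.Coprime.pow_right n hx) h3 h4
  rw [orderOf_eq_one_iff, QuotientGroup.mk'_apply, QuotientGroup.eq_one_iff] at h5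
  exact h5

/-- The order of a normal `p`-complement is prime to `p`. -/
theorem not_dvd_card_of_isComplement' {Γ : Type*} [Group Γ] [Finite Γ] {p : ℕ} [hp : Fact p.Prime]
    (P : Sylow p Γ) (N : Subgroup Γ) (hc : N.IsComplement' (P : Subgroup Γ)) :
    ¬ p ∣ Nat.card N := by
  intro hd
  have h1 := hc.card_mul_card
  have hidx : (P : Subgroup Γ).index = Nat.card N := by
    have h2 := Subgroup.index_mul_card (P : Subgroup Γ)
    rw [← h1] at h2
    exact Nat.eq_of_mul_eq_mul_right Nat.card_pos h2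
  exact P.not_dvd_index (hidx ▸ hd)

/-- If `H'` has a normal `p`-complement, there is a subgroup `K ≤ H'` of `G`, normalized by `H`,
of order prime to `p` and of `p`-power index in `H'`. -/
theorem exists_normal_pComplement {p : ℕ} [hp : Fact p.Prime] {H : Subgroup G}
    (h : Cfsg.HasNormalPComplement p ↥⁅H, H⁆) :
    ∃ K : Subgroup G, K ≤ ⁅H, H⁆ ∧ H ≤ normalizer (K : Set G) ∧ ¬ p ∣ Nat.card K ∧
      ∃ n : ℕ, Nat.card ↥⁅H, H⁆ = Nat.card K * p ^ n := by
  obtain ⟨P, N, hN, hc⟩ := h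
  refine ⟨N.map (⁅H, H⁆).subtype, Subgroup.map_subtype_le _, ?_, ?_, ?_⟩
  · apply le_normalizer_of_conj_mem
    rintro h hh _ ⟨k, hk, rfl⟩
    have hH'n : H ≤ normalizer ((⁅H, H⁆ : Subgroup G) : Set G) := by
      apply le_normalizer_of_conj_mem
      intro x hx c hc'
      have h1 : H.map (MulAut.conj x).toMonoidHom ≤ H := by
        rintro _ ⟨a, ha, rfl⟩
        exact H.mul_mem (H.mul_mem hx ha) (H.inv_mem hx)
      have h3 : x * c * x⁻¹ ∈ (⁅H, H⁆).map (MulAut.conj x).toMonoidHom := ⟨c, hc', rfl⟩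
      rw [Subgroup.map_commutator] at h3
      exact Subgroup.commutator_mono h1 h1 h3
    have hmem : h * (k : G) * h⁻¹ ∈ ⁅H, H⁆ := conj_mem_of_le_normalizer hH'n hh k.2
    have hord : orderOf (⟨h * (k : G) * h⁻¹, hmem⟩ : ↥⁅H, H⁆) = orderOf k := by
      rw [← Subgroup.orderOf_coe, ← Subgroup.orderOf_coe]
      exact (MulAut.conj h).orderOf_eq (k : G)
    have hkc : (orderOf k).Coprime p := by
      have h1 : orderOf (⟨k, hk⟩ : ↥N) ∣ Nat.card N := orderOf_dvd_natCard _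
      have h2 : orderOf (⟨k, hk⟩ : ↥N) = orderOf k := by
        rw [← Subgroup.orderOf_coe]
      rw [h2] at h1
      have h3 := not_dvd_card_of_isComplement' P N hc
      exact Nat.Coprime.coprime_dvd_left h1
        ((Nat.Prime.coprime_iff_not_dvd hp.out).mpr h3).symm
    have h4 : (⟨h * (k : G) * h⁻¹, hmem⟩ : ↥⁅H, H⁆) ∈ N :=
      mem_of_coprime_orderOf P N hc (hord ▸ hkc)
    exact ⟨_, h4, rfl⟩
  · rw [Subgroup.card_map_of_injective (Subgroup.subtype_injective _)]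
    exact not_dvd_card_of_isComplement' P N hc
  · obtain ⟨n, hn⟩ := IsPGroup.iff_card.1 P.isPGroup'
    refine ⟨n, ?_⟩
    rw [Subgroup.card_map_of_injective (Subgroup.subtype_injective _), ← hn]
    exact hc.card_mul_card.symm

/-- **B-G Lemma 13.1(c)** (core form): `p ∈ τ₁(M)`, `p ∣ |H'|`, `H'` has a normal `p`-complement
when `p ∉ β(H)`, and `H'` contains a nontrivial `σ(M)`-subgroup: then `p` is ideal. -/
theorem lemma_13_1c (hG : Cfsg.IsMinSimpleOddOrder G) {M : Subgroup G} (h17 : Hyp1217 M)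
    {p : ℕ} [Fact p.Prime] (hp1 : p ∈ Cfsg.tau1 M) {H : Subgroup G}
    (hpH' : p ∣ Nat.card ↥⁅H, H⁆)
    (h1414 : p ∉ Cfsg.beta H → Cfsg.HasNormalPComplement p ↥⁅H, H⁆)
    {Y : Subgroup G} (hY1 : Y ≠ ⊥)
    (hYσ : ∀ r : ℕ, r.Prime → r ∣ Nat.card ↥Y → r ∈ Cfsg.sigma M) (hYH' : Y ≤ ⁅H, H⁆) :
    Cfsg.IsIdealPrime p G := by
  by_contra hideal
  have hpp : p.Prime := Fact.out
  obtain ⟨-, hpσ, hpM, hpM', -⟩ := hp1
  have hpβ : p ∉ Cfsg.beta H := fun h => hideal h.2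
  obtain ⟨K, hKH', hHK, hpK, n, hn⟩ := exists_normal_pComplement (h1414 hpβ)
  have hYcard : Nat.card ↥Y ≠ 1 := fun h => hY1 (Subgroup.card_eq_one.1 h)
  obtain ⟨t, htp, htY⟩ := Nat.exists_prime_and_dvd hYcard
  have : Fact t.Prime := ⟨htp⟩
  have htσ : t ∈ Cfsg.sigma M := hYσ t htp htY
  have htp' : t ≠ p := fun h => hpσ (h ▸ htσ)
  have htH' : t ∣ Nat.card ↥⁅H, H⁆ := htY.trans (Subgroup.card_dvd_of_le hYH')
  have htK : t ∣ Nat.card K := by
    rw [hn] at htH'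
    exact Nat.Coprime.dvd_of_dvd_mul_right
      (Nat.Coprime.pow_right n ((Nat.coprime_primes htp hpp).mpr htp')) htH'
  obtain ⟨T, -, hT⟩ := exists_isSylowIn_ge (p := t) (bot_le : (⊥ : Subgroup G) ≤ K) IsPGroup.of_bot
  have hT1 : T ≠ ⊥ := by
    intro h
    apply hT.2.2
    rw [h, Subgroup.relIndex_bot_left]
    exact htK
  have hH'H : ⁅H, H⁆ ≤ H := commutator_self_le H
  have hKH : K ≤ H := hKH'.trans hH'H
  have hTH : T ≤ H := hT.1.trans hKH
  have hTσ : ∀ r : ℕ, r.Prime → r ∣ Nat.card ↥T → r ∈ Cfsg.sigma M := by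
    intro r hr hrT
    obtain ⟨m, hm⟩ := IsPGroup.iff_card.1 hT.2.1
    rw [hm] at hrT
    have h1 := (Nat.prime_dvd_prime_iff_eq hr htp).1 (hr.dvd_of_dvd_pow hrT)
    rw [h1]
    exact htσ
  have hfr := frattini_sup_eq hKH hHK hT
  have hdvd := dvd_card_commutator_of_sup_eq hpp hHK hfr hpK hpH'
  exact lemma_12_18b hG h17 hpM hpσ hideal hpM' hT1 hTσ hTH hdvd

omit [Finite G] in
/-- `[H, H]` as a subgroup of `G` is the image of the derived subgroup of the group `H`. -/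
theorem map_commutator_subtype (H : Subgroup G) :
    (commutator ↥H).map H.subtype = ⁅H, H⁆ := by
  rw [commutator_def, Subgroup.map_commutator, ← MonoidHom.range_eq_map, Subgroup.range_subtype]

/-- For `p ∈ σ(H)`, `p` divides `|H'|`. -/
theorem dvd_card_commutator_of_mem_sigma (hG : Cfsg.IsMinSimpleOddOrder G) (hU : UniquenessThm G)
    {H : Subgroup G} (hH : IsCoatom H) {p : ℕ} [Fact p.Prime] (hp : p ∈ Cfsg.sigma H) :
    p ∣ Nat.card ↥⁅H, H⁆ := by
  obtain ⟨P⟩ : Nonempty (Sylow p ↥H) := inferInstance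
  have h1 := sylow_le_commutator hG hU hH hp P
  have h2 : p ∣ Nat.card (P : Subgroup ↥H) := by
    have := P.dvd_card_of_dvd_card hp.2.1
    exact this
  have h3 : Nat.card (P : Subgroup ↥H) ∣ Nat.card (commutator ↥H) := Subgroup.card_dvd_of_le h1
  rw [← map_commutator_subtype, Subgroup.card_map_of_injective (Subgroup.subtype_injective _)]
  exact h2.trans h3

/-- For `p ∈ σ(H)` with `G` of `p`-rank at least 3, `p ∈ α(H)`. -/
theorem mem_alpha_of_mem_sigma (hG : Cfsg.IsMinSimpleOddOrder G) (hU : UniquenessThm G)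
    {H : Subgroup G} (hH : IsCoatom H) {p : ℕ} [Fact p.Prime] (hp : p ∈ Cfsg.sigma H)
    (hr : ¬ Cfsg.PRankLE p 2 G) : p ∈ Cfsg.alpha H := by
  refine ⟨hp.1, ?_⟩
  obtain ⟨P⟩ : Nonempty (Sylow p ↥H) := inferInstance
  have hctx := sigmaCtx_of hG hU hH hp
  have hP'M := isSylowIn_map_sylow P
  have hP'top : IsSylowIn p ((P : Subgroup ↥H).map H.subtype) ⊤ :=
    isSylowIn_top_of_normalizer_le hP'M (hctx.sylNorm _ hP'M)
  unfold Cfsg.PRankLE at hr
  push Not at hr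
  obtain ⟨A, hAc, hAe, hAcard⟩ := hr
  have hAp : IsPGroup p ↥A := by
    intro a
    refine ⟨1, ?_⟩
    rw [pow_one]
    apply Subtype.ext
    rw [Subgroup.coe_pow, Subgroup.coe_one]
    exact hAe a a.2
  obtain ⟨R, hAR, hR⟩ := exists_isSylowIn_ge (p := p) (le_top : A ≤ ⊤) hAp
  obtain ⟨n, -, hn⟩ := hP'top.exists_cj_eq hR
  rw [Cfsg.Agent.Helper23.not_pRankLE_subgroup_iff]
  refine ⟨cj n A, ?_, isElementaryAbelian_cj ⟨hAc, hAe⟩ n, ?_⟩
  · exact ((cj_mono hAR).trans hn.le).trans hP'M.1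
  · rw [card_cj]
    exact hAcard

/-- **B-G Lemma 13.1(c)**: `M`, `H` maximal, `p ∈ τ₁(M) ∩ σ(H)`, `H'` contains a nontrivial
`σ(M)`-subgroup `Y`; then `p` is ideal and `p ∈ β(H)`.  (`h1414` is the normal `p`-complement
clause of S1414 for `H`.) -/
theorem lemma_13_1c_sigma (hG : Cfsg.IsMinSimpleOddOrder G) (hU : UniquenessThm G)
    {M : Subgroup G} (h17 : Hyp1217 M) {p : ℕ} [Fact p.Prime] (hp1 : p ∈ Cfsg.tau1 M)
    {H : Subgroup G} (hH : IsCoatom H) (hpH : p ∈ Cfsg.sigma H)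
    (h1414 : ∀ q : ℕ, q.Prime → q ∣ Nat.card ↥H → q ∉ Cfsg.beta H →
      Cfsg.HasNormalPComplement q ↥⁅H, H⁆)
    {Y : Subgroup G} (hY1 : Y ≠ ⊥)
    (hYσ : ∀ r : ℕ, r.Prime → r ∣ Nat.card ↥Y → r ∈ Cfsg.sigma M) (hYH' : Y ≤ ⁅H, H⁆) :
    Cfsg.IsIdealPrime p G ∧ p ∈ Cfsg.beta H := by
  have hid := lemma_13_1c hG h17 hp1 (dvd_card_commutator_of_mem_sigma hG hU hH hpH)
    (fun h => h1414 p hpH.1 hpH.2.1 h) hY1 hYσ hYH'
  exact ⟨hid, mem_alpha_of_mem_sigma hG hU hH hpH hid.2.1, hid⟩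

end Cfsg.Agent.Helper63.BG13C
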