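import Mathlib
import Cfsg.Prelude.Def_Solvable
import Cfsg.Agent.Helper71.FrobConstruct

/-!
# S3999 (helper10's plan, board #6179): piece (ZB1), universe transport of a Frobenius complement

This is `Cfsg.Agent.Helper71.exists_frobenius_type_zero` with the complement implicit.
-/

set_option autoImplicit false

namespace Cfsg.Agent.Helper63.FrobOT

open Cfsg

universe u

variable {X : Type u} [Group X] [Finite X]

/-- (ZB1) universe transport of a Frobenius complement to `Type` -/
theorem exists_frobenius_type_zero {C : Subgroup X} (hC : IsFrobeniusComplement C) :
    ∃ (L : Type) (_ : Group L) (_ : Finite L) (H : Subgroup L),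
      IsFrobeniusComplement H ∧ Nonempty (C ≃* H) :=
  Cfsg.Agent.Helper71.exists_frobenius_type_zero C hC

end Cfsg.Agent.Helper63.FrobOT
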