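import Mathlib
import Cfsg.Agent.Helper54.SCG.Defs

set_option autoImplicit false

/-!
# S3921 farm (helper54), leaf (NC): in a non-abelian finite simple group the Sylow subgroup for the
least prime divisor is not cyclic (Burnside's transfer theorem).
-/

namespace Cfsg.Agent.Helper63.SCG

open Cfsg.Agent.Helper54.SCG

/-- (NC) Burnside for the least prime: Mathlib `IsCyclic.isComplement'` (Mathlib/GroupTheory/Transfer.lean);
the kernel of the transfer is normal, so ⊥ or ⊤. -/
theorem NC_not_cyclic_sylow {G : Type*} [Group G] [Finite G] [IsSimpleGroup G]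
    (hna : ¬ IsMulCommutative G) (p : ℕ) [Fact p.Prime] (hp : (Nat.card G).minFac = p)
    (P : Sylow p G) : ¬ IsCyclic ↥(P : Subgroup G) := by
  intro hP
  have hpp : p.Prime := Fact.out
  have hcompl := IsCyclic.isComplement' hp hP
  set K := (MonoidHom.transferSylow P (hP.normalizer_le_centralizer hp)).ker with hK
  have hKn : K.Normal := MonoidHom.normal_ker _
  have hcard : Nat.card K * Nat.card (P : Subgroup G) = Nat.card G := hcompl.card_mul_card
  have hpdvd : p ∣ Nat.card G := by
    rw [← hp]
    exact Nat.minFac_dvd _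
  rcases hKn.eq_bot_or_eq_top with h | h
  · -- `P = ⊤`, so `G` is cyclic
    rw [h, Subgroup.card_bot, one_mul] at hcard
    have hPtop : (P : Subgroup G) = ⊤ := (Subgroup.card_eq_iff_eq_top _).1 hcard
    apply hna
    have hcyc : IsCyclic G := by
      have e : (P : Subgroup G) ≃* G := (MulEquiv.subgroupCongr hPtop).trans Subgroup.topEquiv
      exact isCyclic_of_surjective e e.surjective
    exact ⟨⟨fun a b => (IsCyclic.commGroup (α := G)).mul_comm a b⟩⟩
  · -- `P = ⊥`, but `p ∣ |G|`
    rw [h, Subgroup.card_top] at hcard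
    have h1 : Nat.card (P : Subgroup G) = 1 := by
      have hpos : 0 < Nat.card G := Nat.card_pos
      exact Nat.eq_of_mul_eq_mul_left hpos (by rw [hcard, mul_one])
    have h2 : p ∣ Nat.card (P : Subgroup G) := P.dvd_card_of_dvd_card hpdvd
    rw [h1] at h2
    exact hpp.one_lt.ne' (Nat.dvd_one.1 h2)

end Cfsg.Agent.Helper63.SCG
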