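/-
helper63: piece (C) of board #4506 (helper12, S2715): coset representatives of Inndiag/Inn for the plus form,
`q` odd: every similarity with `dHom = 1` induces (inner) ∘ (a diagonal similarity `dRep τ ν`).
-/
import Mathlib
import Cfsg.Agent.Helper44.InndiagPlus
import Cfsg.Agent.Helper44.PlusRot
import Cfsg.Agent.Helper44.PgoInn
import Cfsg.Agent.Helper37.EvFC
import Cfsg.Agent.Helper37.OddFB
import Cfsg.Agent.Helper5.AutOB

set_option autoImplicit false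

namespace Cfsg.Agent.Helper63.PlusDiagRep

open Matrix Cfsg Cfsg.Agent.Helper44 Cfsg.Agent.Helper37.OddF

variable {F : Type*} [Field F]

/-- the diagonal similarity `diag(τ ν, ν, …, ν ; τ⁻¹, 1, …, 1)` of the plus form -/
noncomputable def dRep (m : ℕ) (hm : 1 ≤ m) (τ ν : Fˣ) : ↥(Cfsg.Geo.quadSimilarityGroup (F := F) ⇑(plusForm m F)) := toGO (plusForm m F) (plusEmbed (diagAt (⟨0, hm⟩ : Fin m) (τ : F) τ.ne_zero)) * deltaGO m ν

/-- the isometry `diag(τ, 1, …, 1; τ⁻¹, 1, …, 1)` of the plus form -/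
noncomputable def dIso (m : ℕ) (hm : 1 ≤ m) (τ : Fˣ) : ↥(Cfsg.isometryGroup F ⇑(plusForm m F)) :=
  plusEmbed (diagAt (⟨0, hm⟩ : Fin m) (τ : F) τ.ne_zero)

theorem dRep_eq (m : ℕ) (hm : 1 ≤ m) (τ ν : Fˣ) :
    dRep m hm τ ν = toGO (plusForm m F) (dIso m hm τ) * deltaGO m ν := rfl

theorem dIso_coe (m : ℕ) (hm : 1 ≤ m) (τ : Fˣ) :
    (((dIso m hm τ : ↥(Cfsg.isometryGroup F ⇑(plusForm m F))) : GL (Fin m ⊕ Fin m) F) :
      Matrix (Fin m ⊕ Fin m) (Fin m ⊕ Fin m) F)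
      = Matrix.diagonal (fun k => if k = Sum.inl (⟨0, hm⟩ : Fin m) then (τ : F)
          else if k = Sum.inr (⟨0, hm⟩ : Fin m) then (τ : F)⁻¹ else 1) :=
  plusEmbed_diagAt_coe (⟨0, hm⟩ : Fin m) (τ : F) τ.ne_zero

theorem detHom_dIso (m : ℕ) (hm : 1 ≤ m) (τ : Fˣ) :
    detHom ⇑(plusForm m F) (dIso m hm τ) = 1 := by
  apply Units.ext
  show (((dIso m hm τ : ↥(Cfsg.isometryGroup F ⇑(plusForm m F))) : GL (Fin m ⊕ Fin m) F) :
      Matrix (Fin m ⊕ Fin m) (Fin m ⊕ Fin m) F).det = 1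
  rw [dIso_coe, Matrix.det_diagonal, Fintype.prod_sum_type]
  have h1 : ∀ k : Fin m, (if (Sum.inl k : Fin m ⊕ Fin m) = Sum.inl (⟨0, hm⟩ : Fin m) then (τ : F)
      else if (Sum.inl k : Fin m ⊕ Fin m) = Sum.inr (⟨0, hm⟩ : Fin m) then (τ : F)⁻¹ else 1)
      = if k = ⟨0, hm⟩ then (τ : F) else 1 := by
    intro k
    simp
  have h2 : ∀ k : Fin m, (if (Sum.inr k : Fin m ⊕ Fin m) = Sum.inl (⟨0, hm⟩ : Fin m) then (τ : F)
      else if (Sum.inr k : Fin m ⊕ Fin m) = Sum.inr (⟨0, hm⟩ : Fin m) then (τ : F)⁻¹ else 1)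
      = if k = ⟨0, hm⟩ then (τ : F)⁻¹ else 1 := by
    intro k
    simp
  simp only [h1, h2]
  rw [Finset.prod_ite_eq' Finset.univ (⟨0, hm⟩ : Fin m) (fun _ => (τ : F)),
    Finset.prod_ite_eq' Finset.univ (⟨0, hm⟩ : Fin m) (fun _ => (τ : F)⁻¹)]
  simp

theorem dIso_one (m : ℕ) (hm : 1 ≤ m) : dIso m hm (1 : Fˣ) = 1 := by
  apply Subtype.ext
  apply Units.ext
  rw [dIso_coe]
  show _ = (1 : Matrix (Fin m ⊕ Fin m) (Fin m ⊕ Fin m) F)
  rw [← Matrix.diagonal_one]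
  congr 1
  funext k
  simp

theorem dIso_mem_Omega_iff [Fintype F] (h2 : (2 : F) ≠ 0) (m : ℕ) (hm : 1 ≤ m) (τ : Fˣ) :
    dIso m hm τ ∈ Cfsg.Omega F ⇑(plusForm m F) ↔ IsSquare (τ : F) := by
  have hc : Fintype.card F ≠ 2 ∨ m ≠ 2 := by
    left
    intro h
    apply h2
    have := Nat.cast_card_eq_zero F
    rw [h] at this
    exact_mod_cast this
  have := plusEmbed_mem_Omega_iff (F := F) hm hc (diagAt (⟨0, hm⟩ : Fin m) (τ : F) τ.ne_zero)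
  rw [det_diagAt] at this
  exact this

theorem exists_diag_rep [Fintype F] (h2 : (2 : F) ≠ 0) {m : ℕ} (hm : 2 ≤ m) {t : Fin m ⊕ Fin m → F} (ht : plusForm m F t ≠ 0) (g : ↥(Cfsg.Geo.quadSimilarityGroup (F := F) ⇑(plusForm m F))) (hg : dHom (plusForm m F) ht m g = 1) : ∃ (τ ν : Fˣ) (ω : ↥(Cfsg.Omega F ⇑(plusForm m F))), conjAut ⇑(plusForm m F) g = MulAut.conj (Cfsg.Agent.Helper5.AutO.prj ω) * conjAut ⇑(plusForm m F) (dRep m (by omega) τ ν) := by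
  classical
  have hm1 : 1 ≤ m := by omega
  obtain ⟨ν, hν⟩ : ∃ ν : Fˣ, ν = multHom ⇑(plusForm m F) ht g := ⟨_, rfl⟩
  obtain ⟨g', hg'⟩ : ∃ g' : ↥(Cfsg.Geo.quadSimilarityGroup (F := F) ⇑(plusForm m F)),
      g' = g * (deltaGO m ν)⁻¹ := ⟨_, rfl⟩
  have hcard : Fintype.card (Fin m ⊕ Fin m) = 2 * m := by
    rw [Fintype.card_sum, Fintype.card_fin]; omega
  have hm' : multHom ⇑(plusForm m F) ht g' = 1 := by
    rw [hg', map_mul, map_inv, multHom_deltaGO, ← hν, mul_inv_cancel]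
  have hd' : dHom (plusForm m F) ht m g' = 1 := by
    rw [hg', map_mul, map_inv, dHom_deltaGO, hg, inv_one, mul_one]
  obtain ⟨c, s, hs1, hgs⟩ := exists_scalar_mul_SO (plusForm m F) ht m hcard g' hd'
    (by rw [hm']; exact ⟨1, by simp⟩)
  have hnd := nondegenerate_plusForm (F := F) m
  have hfr : 2 ≤ Module.finrank F (Fin m ⊕ Fin m → F) := by
    rw [Module.finrank_fintype_fun_eq_card, hcard]; omega
  have hidx := index_omSO (plusForm m F) h2 hnd hfr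
  obtain ⟨a, ha⟩ := FiniteField.exists_nonsquare (F := F) (ringChar_ne_two_of_two_ne_zero h2)
  have ha0 : a ≠ 0 := by
    rintro rfl
    exact ha ⟨0, by simp⟩
  set τ₀ : Fˣ := Units.mk0 a ha0 with hτ₀
  -- `s = ω * dIso τ` with `ω ∈ Ω`
  obtain ⟨τ, ω, hω⟩ : ∃ (τ : Fˣ) (ω : ↥(Cfsg.Omega F ⇑(plusForm m F))), s = ω.1 * dIso m hm1 τ := by
    by_cases hsΩ : s ∈ Cfsg.Omega F ⇑(plusForm m F)
    · exact ⟨1, ⟨s, hsΩ⟩, by rw [dIso_one, mul_one]⟩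
    · refine ⟨τ₀, ⟨s * (dIso m hm1 τ₀)⁻¹, ?_⟩, by rw [inv_mul_cancel_right]⟩
      have hsk : s ∈ (detHom ⇑(plusForm m F)).ker := MonoidHom.mem_ker.2 hs1
      have hdk : dIso m hm1 τ₀ ∈ (detHom ⇑(plusForm m F)).ker :=
        MonoidHom.mem_ker.2 (detHom_dIso m hm1 τ₀)
      have hdΩ : dIso m hm1 τ₀ ∉ Cfsg.Omega F ⇑(plusForm m F) := by
        rw [dIso_mem_Omega_iff h2]
        exact ha
      have key := Subgroup.mul_mem_iff_of_index_two hidx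
        (a := (⟨s, hsk⟩ : ↥(detHom ⇑(plusForm m F)).ker))
        (b := (⟨dIso m hm1 τ₀, hdk⟩ : ↥(detHom ⇑(plusForm m F)).ker)⁻¹)
      have h3 : (⟨s, hsk⟩ : ↥(detHom ⇑(plusForm m F)).ker)
          * (⟨dIso m hm1 τ₀, hdk⟩ : ↥(detHom ⇑(plusForm m F)).ker)⁻¹ ∈ omSO (plusForm m F) := by
        rw [key, inv_mem_iff]
        constructor
        · intro h; exact absurd h hsΩ
        · intro h; exact absurd h hdΩ
      exact h3
  refine ⟨τ, ν, ω, ?_⟩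
  have hgfull : g = scalarGO (plusForm m F) c * toGO (plusForm m F) ω.1 * dRep m hm1 τ ν := by
    have h1 : g = g' * deltaGO m ν := by rw [hg', inv_mul_cancel_right]
    rw [h1, hgs, hω, map_mul, dRep_eq]
    group
  rw [hgfull, map_mul, map_mul,
    MonoidHom.mem_ker.1 (mem_ker_of_mem_scalars ⇑(plusForm m F) _ (scalarGO_mem_scalars (plusForm m F) c)),
    one_mul]
  congr 1
  have h1 := conjAut_of_mem_Omega ⇑(plusForm m F) ω
    (isometryGroup_le_quadSimilarityGroup ⇑(plusForm m F) ω.1.2)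
  exact h1

theorem dRep_mulVec (m : ℕ) (hm : 1 ≤ m) (τ ν : Fˣ) (v : Fin m ⊕ Fin m → F) : (((dRep m hm τ ν : ↥(Cfsg.Geo.quadSimilarityGroup (F := F) ⇑(plusForm m F))) : GL (Fin m ⊕ Fin m) F) : Matrix (Fin m ⊕ Fin m) (Fin m ⊕ Fin m) F) *ᵥ v = fun j => Sum.elim (fun i : Fin m => (if i = ⟨0, hm⟩ then (τ : F) * ν else (ν : F)) * v (Sum.inl i)) (fun i : Fin m => (if i = ⟨0, hm⟩ then ((τ⁻¹ : Fˣ) : F) else 1) * v (Sum.inr i)) j := by
  have h1 : (((dRep m hm τ ν : ↥(Cfsg.Geo.quadSimilarityGroup (F := F) ⇑(plusForm m F))) :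
      GL (Fin m ⊕ Fin m) F) : Matrix (Fin m ⊕ Fin m) (Fin m ⊕ Fin m) F)
      = (((dIso m hm τ : ↥(Cfsg.isometryGroup F ⇑(plusForm m F))) : GL (Fin m ⊕ Fin m) F) :
          Matrix (Fin m ⊕ Fin m) (Fin m ⊕ Fin m) F)
        * ((deltaGL m ν : GL (Fin m ⊕ Fin m) F) : Matrix (Fin m ⊕ Fin m) (Fin m ⊕ Fin m) F) := rfl
  rw [h1, ← Matrix.mulVec_mulVec, deltaGL_mulVec, dIso_coe]
  funext j
  rw [Matrix.mulVec_diagonal]
  rcases j with i | i
  · by_cases hi : i = ⟨0, hm⟩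
    · simp [hi, mul_assoc]
    · simp [hi]
  · by_cases hi : i = ⟨0, hm⟩
    · simp [hi]
    · simp [hi]

theorem multHom_dRep (m : ℕ) (hm : 1 ≤ m) (τ ν : Fˣ) {t : Fin m ⊕ Fin m → F} (ht : plusForm m F t ≠ 0) : multHom ⇑(plusForm m F) ht (dRep m hm τ ν) = ν := by
  rw [dRep_eq, map_mul, multHom_toGO, one_mul, multHom_deltaGO]

end Cfsg.Agent.Helper63.PlusDiagRep
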