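import Mathlib
import Cfsg.Agent.S2904

/-!
# (AR1) of helper99's S2362 farm (#9932): a Zsigmondy prime of `q ^ (2k) - 1`.
-/

set_option autoImplicit false

namespace Cfsg.Agent.Helper63.BC

/-- (AR1) a Zsigmondy prime of `q ^ (2k) - 1` (use `Cfsg.Agent.S2904.result q (2 * k)`). -/
theorem exists_ppd_prime (q k : ℕ) (hq : 3 ≤ q) (hodd : Odd q) (hk : 2 ≤ k) :
    ∃ r : ℕ, r.Prime ∧ r ∣ q ^ k + 1 ∧ ¬ r ∣ q ∧ r ≠ 2 ∧
      ∀ j : ℕ, 0 < j → r ∣ q ^ j - 1 → 2 * k ∣ j := by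
  obtain ⟨r, hr, hrd, hmin⟩ := Cfsg.Agent.S2904.result q (2 * k) (by omega) (by omega)
    (by omega) (by omega)
  have key : ∀ j : ℕ, r ∣ q ^ j - 1 ↔ ((q : ZMod r)) ^ j = 1 := by
    intro j
    have h1 : 1 ≤ q ^ j := Nat.one_le_pow _ _ (by omega)
    rw [← ZMod.natCast_eq_zero_iff, Nat.cast_sub h1, Nat.cast_pow, Nat.cast_one, sub_eq_zero]
  have hq2k : ((q : ZMod r)) ^ (2 * k) = 1 := (key _).1 hrd
  have hd : orderOf (q : ZMod r) ∣ 2 * k := orderOf_dvd_of_pow_eq_one hq2k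
  have hdpos : 0 < orderOf (q : ZMod r) := Nat.pos_of_dvd_of_pos hd (by omega)
  have hdle : orderOf (q : ZMod r) ≤ 2 * k := Nat.le_of_dvd (by omega) hd
  have hdeq : orderOf (q : ZMod r) = 2 * k := by
    by_contra hne
    have hlt : orderOf (q : ZMod r) < 2 * k := lt_of_le_of_ne hdle hne
    exact hmin _ hdpos hlt ((key _).2 (pow_orderOf_eq_one _))
  refine ⟨r, hr, ?_, ?_, ?_, ?_⟩
  · -- r ∣ q^k + 1
    have hfac : q ^ (2 * k) - 1 = (q ^ k - 1) * (q ^ k + 1) := by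
      have h1 : 1 ≤ q ^ k := Nat.one_le_pow _ _ (by omega)
      obtain ⟨b, hb⟩ : ∃ b, q ^ k = b + 1 := ⟨q ^ k - 1, by omega⟩
      have : q ^ (2 * k) = (q ^ k) ^ 2 := by rw [← pow_mul, mul_comm]
      rw [this, hb]
      have : (b + 1) ^ 2 = b * (b + 1 + 1) + 1 := by ring
      rw [this]
      simp
    rw [hfac] at hrd
    rcases (Nat.Prime.dvd_mul hr).1 hrd with h | h
    · exact absurd h (hmin k (by omega) (by omega))
    · exact h
  · -- ¬ r ∣ q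
    intro hrq
    have h0 : (q : ZMod r) = 0 := (ZMod.natCast_eq_zero_iff _ _).2 hrq
    rw [h0, zero_pow (by omega)] at hq2k
    have : Fact r.Prime := ⟨hr⟩
    exact zero_ne_one hq2k
  · -- r ≠ 2
    intro h2
    subst h2
    apply hmin 1 (by omega) (by omega)
    rw [pow_one]
    obtain ⟨m, hm⟩ := hodd
    exact ⟨m, by omega⟩
  · intro j _ hj
    rw [← hdeq]
    exact orderOf_dvd_of_pow_eq_one ((key j).1 hj)

end Cfsg.Agent.Helper63.BC
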