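import Mathlib
import Cfsg.Prelude.Def_Classical
import Cfsg.Agent.Helper5.OmegaCard

/-!
# (B0) of helper99's S2362 farm (#9932): lifting element orders from `PΩ_{2n+1}(q)` to `Ω_{2n+1}(q)`
(the centre of `Ω_{2n+1}(q)` is trivial, exactly as in the proof of `Cfsg.Agent.S0292.result`).
-/

set_option autoImplicit false

namespace Cfsg.Agent.Helper63.BC

open Cfsg.Agent.Helper5

variable {F : Type*} [Field F] [Fintype F]

omit [Fintype F] in
/-- the centre of `Ω_{2n+1}(q)`, `q` odd, `n ≥ 3`, is trivial. -/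
theorem center_Omega_odd_eq_bot (n : ℕ) (hn : 3 ≤ n) (h2 : (2 : F) ≠ 0) :
    Subgroup.center (Cfsg.Omega F (Cfsg.quadFormOdd n F)) = ⊥ := by
  obtain ⟨k, rfl⟩ : ∃ k, n = k + 3 := ⟨n - 3, by omega⟩
  apply center_Omega_eq_bot _ (Hc_odd k)
  intro g hg hgm
  exfalso
  have hdet : (Matrix.GeneralLinearGroup.det.comp
      (Cfsg.isometryGroup F (Cfsg.quadFormOdd (k + 3) F)).subtype) g = 1 :=
    Abelianization.commutator_subset_ker _ hg
  have h3 := congrArg Units.val hdet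
  have h4 : ((g.1 : Matrix.GeneralLinearGroup (Unit ⊕ (Fin (k + 3) ⊕ Fin (k + 3))) F).1).det = 1 := h3
  rw [hgm, Matrix.det_neg, Matrix.det_one, mul_one] at h4
  have hcard : Fintype.card (Unit ⊕ (Fin (k + 3) ⊕ Fin (k + 3))) = 2 * (k + 3) + 1 := by
    simp; ring
  rw [hcard, pow_succ, pow_mul, neg_one_sq, one_pow, one_mul] at h4
  apply h2
  linear_combination -h4

/-- (B0) lifting from `PΩ` (the centre of `Ω_{2n+1}` is trivial; see the proof of
`Cfsg.Agent.S0292.result`) -/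
theorem exists_lift_orderOf (n : ℕ) (hn : 3 ≤ n) (h2 : (2 : F) ≠ 0)
    (g : Cfsg.POmega F (Cfsg.quadFormOdd n F)) :
    ∃ x : ↥(Cfsg.isometryGroup F (Cfsg.quadFormOdd n F)),
      x ∈ Cfsg.Omega F (Cfsg.quadFormOdd n F) ∧ orderOf x = orderOf g := by
  have hcen := center_Omega_odd_eq_bot (F := F) n hn h2
  obtain ⟨y, rfl⟩ := QuotientGroup.mk_surjective g
  refine ⟨y.1, y.2, ?_⟩
  have hinj : Function.Injective
      (QuotientGroup.mk' (Subgroup.center (Cfsg.Omega F (Cfsg.quadFormOdd n F)))) := by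
    rw [← MonoidHom.ker_eq_bot_iff, QuotientGroup.ker_mk', hcen]
  have h1 : orderOf (QuotientGroup.mk' (Subgroup.center (Cfsg.Omega F (Cfsg.quadFormOdd n F))) y)
      = orderOf y := orderOf_injective _ hinj y
  rw [Subgroup.orderOf_coe]
  exact h1.symm

end Cfsg.Agent.Helper63.BC
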