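import Mathlib
import Cfsg.Agent.Helper13.QFEArith

/-! # (AE) of helper13's WANTED #8823 (S5977/S5978): the arithmetic condition, `d = 2m` even.

Also contains the common lemmas used for (AO) (`Cfsg.Agent.Helper63.QFEAO`). -/

set_option autoImplicit false

namespace Cfsg.Agent.Helper63.QFEAE

open Cfsg.Agent.Helper13.QFE

/-- splitting a product over `range (2m)` into odd and even indices -/
theorem prod_range_two_mul {M : Type*} [CommMonoid M] (f : ℕ → M) (m : ℕ) :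
    ∏ i ∈ Finset.range (2 * m), f i =
      (∏ i ∈ Finset.range m, f (2 * i + 1)) * ∏ k ∈ Finset.range m, f (2 * k) := by
  induction m with
  | zero => simp
  | succ m ih =>
    rw [show 2 * (m + 1) = 2 * m + 1 + 1 by ring, Finset.prod_range_succ, Finset.prod_range_succ,
      ih, Finset.prod_range_succ, Finset.prod_range_succ]
    simp only [mul_assoc, mul_comm, mul_left_comm]

/-- the factor `f (2 i + 1)` is the factor of `q ^ 2` -/
theorem prod_odd_eq (q m : ℕ) :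
    ∏ i ∈ Finset.range m, (q ^ (2 * (2 * i + 1 + 1)) - 1) =
      ∏ i ∈ Finset.range m, ((q ^ 2) ^ (2 * (i + 1)) - 1) := by
  refine Finset.prod_congr rfl (fun i _ => ?_)
  rw [← pow_mul, show 2 * (2 * i + 1 + 1) = 2 * (2 * (i + 1)) by ring]

/-- divisors of `2 j`, `j` odd -/
theorem order_cases {i j : ℕ} (hj : Odd j) (hdiv : i ∣ 2 * j) :
    (Odd i ∧ i ∣ j) ∨ (i % 4 = 2 ∧ i ≤ 2 * j ∧ ¬ i ∣ j) := by
  have hjpos : 0 < j := hj.pos
  rcases Nat.even_or_odd i with he | ho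
  · right
    obtain ⟨i', rfl⟩ := he
    have h1 : 2 * i' ∣ 2 * j := by rwa [two_mul]
    have h2 : i' ∣ j := Nat.dvd_of_mul_dvd_mul_left two_pos h1
    have h3 : Odd i' := Odd.of_dvd_nat hj h2
    obtain ⟨t, rfl⟩ := h3
    refine ⟨by omega, Nat.le_of_dvd (by omega) hdiv, ?_⟩
    intro h4
    have h6 : Even (2 * t + 1 + (2 * t + 1)) := ⟨2 * t + 1, rfl⟩
    have h5 : Even j := h6.trans_dvd h4
    exact (Nat.not_even_iff_odd.2 hj) h5
  · left
    refine ⟨ho, ?_⟩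
    have hc : Nat.Coprime i 2 := ho.coprime_two_right
    rw [mul_comm] at hdiv
    exact hc.dvd_of_dvd_mul_right hdiv

theorem pow_eq_one_of_dvd_sub {q r n : ℕ} (hq : 1 ≤ q) (h : r ∣ q ^ n - 1) :
    ((q : ℕ) : ZMod r) ^ n = 1 := by
  have h1 : 1 ≤ q ^ n := Nat.one_le_pow _ _ hq
  have h2 := (ZMod.natCast_eq_zero_iff _ _).2 h
  rw [Nat.cast_sub h1] at h2
  push_cast at h2
  exact sub_eq_zero.1 h2

theorem pow_eq_neg_one_of_dvd_add {q r n : ℕ} (h : r ∣ q ^ n + 1) :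
    ((q : ℕ) : ZMod r) ^ n = -1 := by
  have h2 := (ZMod.natCast_eq_zero_iff _ _).2 h
  push_cast at h2
  exact eq_neg_of_add_eq_zero_left h2

/-- the generic case: `r ∣ q ^ (2 j) - 1`, `j` odd, `j < d`. -/
theorem icond_of_dvd_odd {q r j d : ℕ} (ε : ℤ) (hq : 1 ≤ q) (hj : Odd j) (hjd : j < d)
    (h : r ∣ q ^ (2 * j) - 1) : ICond q r d ε := by
  have h1 := orderOf_dvd_of_pow_eq_one (pow_eq_one_of_dvd_sub hq h)
  rcases order_cases hj h1 with ⟨ho, hd⟩ | ⟨h4, hle, _⟩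
  · have hle : orderOf ((q : ℕ) : ZMod r) ≤ j := Nat.le_of_dvd hj.pos hd
    exact Or.inl ⟨ho, by omega, fun h => by omega⟩
  · exact Or.inr ⟨h4, by omega, fun h => by omega⟩

/-- the prime `r` divides one of the odd factors -/
theorem exists_dvd_of_dvd_prod {q r m e : ℕ} (hr : r.Prime) (hrq : ¬ r ∣ q)
    (h : r ∣ q ^ e * ∏ k ∈ Finset.range m, (q ^ (2 * (2 * k + 1)) - 1)) :
    ∃ k, k < m ∧ r ∣ q ^ (2 * (2 * k + 1)) - 1 := by
  rcases (Nat.Prime.dvd_mul hr).1 h with h1 | h1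
  · exact absurd (hr.dvd_of_dvd_pow h1) hrq
  · obtain ⟨k, hk, hk2⟩ := (Prime.dvd_finsetProd_iff hr.prime _).1 h1
    exact ⟨k, Finset.mem_range.1 hk, hk2⟩

theorem prod_pos {q n : ℕ} (hq : 2 ≤ q) :
    0 < ∏ i ∈ Finset.range n, ((q ^ 2) ^ (2 * (i + 1)) - 1) := by
  refine Finset.prod_pos (fun i _ => ?_)
  have : 1 < (q ^ 2) ^ (2 * (i + 1)) := Nat.one_lt_pow (by omega) (Nat.one_lt_pow (by omega) (by omega))
  omega

theorem cardOp_two_mul (q m : ℕ) :
    cardOp q (2 * (m + 1)) = cardOp (q ^ 2) (m + 1) *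
      (q ^ (2 * (m + 1) ^ 2) * ∏ k ∈ Finset.range (m + 1), (q ^ (2 * (2 * k + 1)) - 1)) := by
  unfold cardOp
  have e1 : 2 * (m + 1) - 1 = 2 * m + 1 := by omega
  have e2 : m + 1 - 1 = m := by omega
  rw [e1, e2, Finset.prod_range_succ, prod_range_two_mul, prod_odd_eq,
    Finset.prod_range_succ (fun k => q ^ (2 * (2 * k + 1)) - 1)]
  simp only [← pow_mul]
  have e3 : q ^ (2 * (m + 1) * (2 * m + 1)) = q ^ (2 * ((m + 1) * m)) * q ^ (2 * (m + 1) ^ 2) := by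
    rw [← pow_add]; congr 1; ring
  rw [e3]
  ring

theorem cardOm_two_mul (q m : ℕ) :
    cardOm q (2 * (m + 1)) = cardOm (q ^ 2) (m + 1) *
      (q ^ (2 * (m + 1) ^ 2) * ∏ k ∈ Finset.range (m + 1), (q ^ (2 * (2 * k + 1)) - 1)) := by
  unfold cardOm
  have e1 : 2 * (m + 1) - 1 = 2 * m + 1 := by omega
  have e2 : m + 1 - 1 = m := by omega
  rw [e1, e2, Finset.prod_range_succ, prod_range_two_mul, prod_odd_eq,
    Finset.prod_range_succ (fun k => q ^ (2 * (2 * k + 1)) - 1)]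
  simp only [← pow_mul]
  have e3 : q ^ (2 * (m + 1) * (2 * m + 1)) = q ^ (2 * ((m + 1) * m)) * q ^ (2 * (m + 1) ^ 2) := by
    rw [← pow_add]; congr 1; ring
  rw [e3]
  ring

theorem cardOp_pos {q m : ℕ} (hq : 2 ≤ q) (hm : 1 ≤ m) : 0 < cardOp (q ^ 2) m := by
  unfold cardOp
  have h1 : 1 < (q ^ 2) ^ m := Nat.one_lt_pow (by omega) (Nat.one_lt_pow (by omega) (by omega))
  have h2 : 0 < (q ^ 2) ^ (m * (m - 1)) := by positivity
  have h3 := prod_pos (n := m - 1) hq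
  have h4 : 0 < (q ^ 2) ^ m - 1 := by omega
  positivity

theorem cardOm_pos {q m : ℕ} (hq : 2 ≤ q) : 0 < cardOm (q ^ 2) m := by
  unfold cardOm
  have h2 : 0 < (q ^ 2) ^ (m * (m - 1)) := by positivity
  have h3 := prod_pos (n := m - 1) hq
  positivity

/-- (A-even) -/
theorem icond_even (q r m : ℕ) (hq : 2 ≤ q) (hr : r.Prime) (_hr2 : r ≠ 2) (hrq : ¬ r ∣ q)
    (hm : 1 ≤ m) :
    (r * cardOp (q ^ 2) m ∣ cardOp q (2 * m) → ICond q r (2 * m) 1) ∧
    (r * cardOm (q ^ 2) m ∣ cardOm q (2 * m) → ICond q r (2 * m) (-1)) := by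
  obtain ⟨m, rfl⟩ : ∃ m', m = m' + 1 := ⟨m - 1, by omega⟩
  constructor
  · intro h
    rw [cardOp_two_mul, mul_comm r] at h
    have h1 := Nat.dvd_of_mul_dvd_mul_left (cardOp_pos hq hm) h
    obtain ⟨k, hk, hk2⟩ := exists_dvd_of_dvd_prod hr hrq h1
    exact icond_of_dvd_odd 1 (by omega) (odd_two_mul_add_one k) (by omega) hk2
  · intro h
    rw [cardOm_two_mul, mul_comm r] at h
    have h1 := Nat.dvd_of_mul_dvd_mul_left (cardOm_pos hq) h
    obtain ⟨k, hk, hk2⟩ := exists_dvd_of_dvd_prod hr hrq h1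
    exact icond_of_dvd_odd (-1) (by omega) (odd_two_mul_add_one k) (by omega) hk2

end Cfsg.Agent.Helper63.QFEAE
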