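import Mathlib
import Cfsg.Agent.Helper13.QFEArith
import Cfsg.Agent.Helper63.QFEAE

/-! # (AO) of helper13's WANTED #8823 (S5977/S5978): the arithmetic condition, `d = 2m+1` odd. -/

set_option autoImplicit false

namespace Cfsg.Agent.Helper63.QFEAO

open Cfsg.Agent.Helper13.QFE Cfsg.Agent.Helper63.QFEAE

theorem cardOo_pos {q m : ℕ} (hq : 2 ≤ q) : 0 < cardOo (q ^ 2) m := by
  unfold cardOo
  have h2 : 0 < (q ^ 2) ^ (m ^ 2) := by positivity
  have h3 := prod_pos (n := m) hq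
  positivity

theorem cardOp_two_mul_add_one (q m : ℕ) :
    cardOp q (2 * m + 1) = cardOo (q ^ 2) m *
      (q ^ (2 * m ^ 2 + 2 * m) *
        ((q ^ (2 * m + 1) - 1) * ∏ k ∈ Finset.range m, (q ^ (2 * (2 * k + 1)) - 1))) := by
  unfold cardOp cardOo
  have e1 : 2 * m + 1 - 1 = 2 * m := by omega
  rw [e1, prod_range_two_mul, prod_odd_eq]
  simp only [← pow_mul]
  have e3 : q ^ ((2 * m + 1) * (2 * m)) = q ^ (2 * m ^ 2) * q ^ (2 * m ^ 2 + 2 * m) := by
    rw [← pow_add]; congr 1; ring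
  rw [e3]
  ring

theorem cardOm_two_mul_add_one (q m : ℕ) :
    cardOm q (2 * m + 1) = cardOo (q ^ 2) m *
      (q ^ (2 * m ^ 2 + 2 * m) *
        ((q ^ (2 * m + 1) + 1) * ∏ k ∈ Finset.range m, (q ^ (2 * (2 * k + 1)) - 1))) := by
  unfold cardOm cardOo
  have e1 : 2 * m + 1 - 1 = 2 * m := by omega
  rw [e1, prod_range_two_mul, prod_odd_eq]
  simp only [← pow_mul]
  have e3 : q ^ ((2 * m + 1) * (2 * m)) = q ^ (2 * m ^ 2) * q ^ (2 * m ^ 2 + 2 * m) := by
    rw [← pow_add]; congr 1; ring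
  rw [e3]
  ring

/-- `r` divides `q ^ e * (a * ∏ …)`: either it divides `a` or one of the odd factors -/
theorem dvd_cases {q r m e a : ℕ} (hr : r.Prime) (hrq : ¬ r ∣ q)
    (h : r ∣ q ^ e * (a * ∏ k ∈ Finset.range m, (q ^ (2 * (2 * k + 1)) - 1))) :
    r ∣ a ∨ ∃ k, k < m ∧ r ∣ q ^ (2 * (2 * k + 1)) - 1 := by
  rcases (Nat.Prime.dvd_mul hr).1 h with h1 | h1
  · exact absurd (hr.dvd_of_dvd_pow h1) hrq
  · rcases (Nat.Prime.dvd_mul hr).1 h1 with h2 | h2
    · exact Or.inl h2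
    · obtain ⟨k, hk, hk2⟩ := (Prime.dvd_finsetProd_iff hr.prime _).1 h2
      exact Or.inr ⟨k, Finset.mem_range.1 hk, hk2⟩

/-- (A-odd) -/
theorem icond_odd (q r m : ℕ) (hq : 2 ≤ q) (hr : r.Prime) (hr2 : r ≠ 2) (hrq : ¬ r ∣ q)
    (hm : 1 ≤ m) :
    (r * cardOo (q ^ 2) m ∣ cardOp q (2 * m + 1) → ICond q r (2 * m + 1) 1) ∧
    (r * cardOo (q ^ 2) m ∣ cardOm q (2 * m + 1) → ICond q r (2 * m + 1) (-1)) := by
  constructor
  · intro h
    rw [cardOp_two_mul_add_one, mul_comm r] at h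
    have h1 := Nat.dvd_of_mul_dvd_mul_left (cardOo_pos hq) h
    rcases dvd_cases hr hrq h1 with h2 | ⟨k, hk, hk2⟩
    · have h3 := orderOf_dvd_of_pow_eq_one (pow_eq_one_of_dvd_sub (by omega : 1 ≤ q) h2)
      have ho : Odd (orderOf ((q : ℕ) : ZMod r)) := Odd.of_dvd_nat (odd_two_mul_add_one m) h3
      exact Or.inl ⟨ho, Nat.le_of_dvd (by omega) h3, fun _ => rfl⟩
    · exact icond_of_dvd_odd 1 (by omega) (odd_two_mul_add_one k) (by omega) hk2
  · intro h
    rw [cardOm_two_mul_add_one, mul_comm r] at h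
    have h1 := Nat.dvd_of_mul_dvd_mul_left (cardOo_pos hq) h
    rcases dvd_cases hr hrq h1 with h2 | ⟨k, hk, hk2⟩
    · have h3 : ((q : ℕ) : ZMod r) ^ (2 * m + 1) = -1 := pow_eq_neg_one_of_dvd_add h2
      have h4 : ((q : ℕ) : ZMod r) ^ (2 * (2 * m + 1)) = 1 := by
        rw [mul_comm, pow_mul, h3]; norm_num
      have h5 := orderOf_dvd_of_pow_eq_one h4
      rcases order_cases (odd_two_mul_add_one m) h5 with ⟨_, hd⟩ | ⟨h6, hle, _⟩
      · exfalso
        have h7 : ((q : ℕ) : ZMod r) ^ (2 * m + 1) = 1 := orderOf_dvd_iff_pow_eq_one.1 hd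
        rw [h3] at h7
        have h8 : ((2 : ℕ) : ZMod r) = 0 := by
          push_cast
          linear_combination -h7
        have h9 : r ∣ 2 := (ZMod.natCast_eq_zero_iff _ _).1 h8
        have h10 : r ≤ 2 := Nat.le_of_dvd (by norm_num) h9
        have := hr.two_le
        omega
      · exact Or.inr ⟨h6, hle, fun _ => rfl⟩
    · exact icond_of_dvd_odd (-1) (by omega) (odd_two_mul_add_one k) (by omega) hk2

end Cfsg.Agent.Helper63.QFEAO
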