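import Mathlib

/-!
# (NORMIDX) of helper19's S2548 farm (#10996): a subgroup normalised by `r` which together with `r`
generates the group contains the commutator subgroup.
-/

set_option autoImplicit false

namespace Cfsg.Agent.Helper63.OpBN

/-- (NORMIDX) generic: a subgroup normalised by `r` which together with `r` generates contains the
commutator subgroup -/
theorem commutator_le_of_sup_zpowers {Γ : Type*} [Group Γ] (H : Subgroup Γ) (r : Γ)
    (hr : ∀ h ∈ H, r * h * r⁻¹ ∈ H) (hr' : ∀ h ∈ H, r⁻¹ * h * r ∈ H)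
    (htop : H ⊔ Subgroup.zpowers r = ⊤) : commutator Γ ≤ H := by
  -- `H` is normal
  have hrN : r ∈ Subgroup.normalizer (H : Set Γ) := by
    rw [Subgroup.mem_normalizer_iff]
    intro h
    constructor
    · exact hr h
    · intro hh
      have := hr' _ hh
      have e : r⁻¹ * (r * h * r⁻¹) * r = h := by group
      rwa [e] at this
  have hnorm : Subgroup.normalizer (H : Set Γ) = ⊤ := by
    rw [eq_top_iff, ← htop]
    apply sup_le
    · exact Subgroup.le_normalizer
    · rw [Subgroup.zpowers_le]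
      exact hrN
  have hN : H.Normal := Subgroup.normalizer_eq_top_iff.mp hnorm
  -- the quotient is generated by the image of `r`, hence commutative
  rw [← hN.quotient_commutative_iff_commutator_le]
  have hgen : ∀ g : Γ, ∃ k : ℤ, ∃ h ∈ H, g = h * r ^ k := by
    intro g
    have hg : g ∈ H ⊔ Subgroup.zpowers r := by rw [htop]; trivial
    have hg' : g ∈ ((H ⊔ Subgroup.zpowers r : Subgroup Γ) : Set Γ) := hg
    rw [Subgroup.normal_mul, Set.mem_mul] at hg'
    obtain ⟨h, hh, z, hz, rfl⟩ := hg'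
    obtain ⟨k, rfl⟩ := Subgroup.mem_zpowers_iff.1 hz
    exact ⟨k, h, hh, rfl⟩
  have hmk : ∀ g : Γ, ∃ k : ℤ, (QuotientGroup.mk g : Γ ⧸ H) = (QuotientGroup.mk r : Γ ⧸ H) ^ k := by
    intro g
    obtain ⟨k, h, hh, rfl⟩ := hgen g
    refine ⟨k, ?_⟩
    rw [QuotientGroup.mk_mul, (QuotientGroup.eq_one_iff h).2 hh, one_mul, QuotientGroup.mk_zpow]
  refine ⟨⟨fun a b => ?_⟩⟩
  obtain ⟨a, rfl⟩ := QuotientGroup.mk_surjective a
  obtain ⟨b, rfl⟩ := QuotientGroup.mk_surjective b
  obtain ⟨k, hk⟩ := hmk a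
  obtain ⟨l, hl⟩ := hmk b
  rw [hk, hl, ← zpow_add, ← zpow_add, add_comm]

end Cfsg.Agent.Helper63.OpBN
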