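import Mathlib
import Cfsg.Agent.Helper13.SubOddDefs
import Cfsg.Agent.Helper13.SubInvB

set_option autoImplicit false

namespace Cfsg.Agent.Helper63.SubOddORD

open Matrix Polynomial Cfsg Cfsg.Geo
open Cfsg.Agent.Helper13.SubInv (subH)

variable {F : Type*} [Field F] {n : ℕ}

/-- a prime `r ≠ p` does not divide the order of a finite field of characteristic `p` -/
theorem not_dvd_card_field [Fintype F] (p : ℕ) [Fact p.Prime] [CharP F p] (r : ℕ) [Fact r.Prime]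
    (hrp : r ≠ p) : ¬ r ∣ Fintype.card F := by
  obtain ⟨a, hp, ha⟩ := FiniteField.card F p
  rw [ha]
  intro h
  have h1 := (Fact.out : r.Prime).dvd_of_dvd_pow h
  exact hrp ((Nat.prime_dvd_prime_iff_eq Fact.out hp).1 h1)

/-- `q ^ n - q ^ i = q ^ i * (q ^ (n - i) - 1)` -/
theorem pow_sub_pow_eq (q n i : ℕ) (hi : i ≤ n) :
    q ^ n - q ^ i = q ^ i * (q ^ (n - i) - 1) := by
  rw [Nat.mul_sub, mul_one, ← pow_add, Nat.add_sub_cancel' hi]

/-- (ORD) -/
theorem exists_dvd_pow_sub_one_of_dvd_index [Fintype F] (p : ℕ) [Fact p.Prime] [CharP F p]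
    (hn : 0 < n) (F₀ : Subfield F) (r : ℕ) [Fact r.Prime] (hrp : r ≠ p)
    (h : r ∣ (subH n F₀).index) : ∃ j, 0 < j ∧ j ≤ n ∧ r ∣ Fintype.card F ^ j - 1 := by
  classical
  have : Nonempty (Fin n) := ⟨⟨0, hn⟩⟩
  have hrq := not_dvd_card_field (F := F) p r hrp
  have h1 : r ∣ Nat.card (Matrix.SpecialLinearGroup (Fin n) F) :=
    h.trans (Subgroup.index_dvd_card _)
  have h2 : r ∣ Nat.card (GL (Fin n) F) := by
    rw [Cfsg.Agent.Helper5.card_GL_eq_card_SL_mul (n := Fin n) (F := F)]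
    exact h1.mul_right _
  rw [Matrix.card_GL_field] at h2
  obtain ⟨i, _, hi⟩ := (Nat.Prime.prime (Fact.out : r.Prime)).exists_mem_finset_dvd h2
  rw [pow_sub_pow_eq _ _ _ i.2.le] at hi
  rcases (Nat.Prime.dvd_mul (Fact.out : r.Prime)).1 hi with h3 | h3
  · exact absurd ((Fact.out : r.Prime).dvd_of_dvd_pow h3) hrq
  · exact ⟨n - i, Nat.sub_pos_of_lt i.2, Nat.sub_le _ _, h3⟩

end Cfsg.Agent.Helper63.SubOddORD
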