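import Mathlib
import Cfsg.Agent.Helper13.SubOddDefs
import Cfsg.Agent.Helper13.SubInvB
import Cfsg.Agent.Helper63.SubOddORD

set_option autoImplicit false

namespace Cfsg.Agent.Helper63.SubOddIDX

open Matrix Polynomial Cfsg Cfsg.Geo
open Cfsg.Agent.Helper13.SubInv (subH)
open Cfsg.Agent.Helper63.SubOddORD

variable {F : Type*} [Field F] {n : ℕ}

/-- valuation of a finite product of nonzero naturals -/
theorem padicValNat_prod_range (r : ℕ) [Fact r.Prime] (f : ℕ → ℕ) (n : ℕ)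
    (hf : ∀ i < n, f i ≠ 0) :
    padicValNat r (∏ i ∈ Finset.range n, f i) = ∑ i ∈ Finset.range n, padicValNat r (f i) := by
  induction n with
  | zero => simp
  | succ n ih =>
    rw [Finset.prod_range_succ, Finset.sum_range_succ, padicValNat.mul, ih]
    · exact fun i hi => hf i (Nat.lt_succ_of_lt hi)
    · exact Finset.prod_ne_zero_iff.2 fun i hi => hf i (Nat.lt_succ_of_lt (Finset.mem_range.1 hi))
    · exact hf n (Nat.lt_succ_self n)

/-- the `r`-adic valuation of `|GL_n(q)|` for `r ∤ q` -/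
theorem padicValNat_GLprod (r q n : ℕ) [Fact r.Prime] (hq : 2 ≤ q) (hrq : ¬ r ∣ q) :
    padicValNat r (∏ i : Fin n, (q ^ n - q ^ (i : ℕ))) =
      ∑ j ∈ Finset.range n, padicValNat r (q ^ (j + 1) - 1) := by
  have hpos : ∀ j, q ^ (j + 1) - 1 ≠ 0 := by
    intro j
    have : 2 ≤ q ^ (j + 1) := by
      calc 2 ≤ q := hq
        _ = q ^ 1 := (pow_one q).symm
        _ ≤ q ^ (j + 1) := Nat.pow_le_pow_right (by omega) (by omega)
    omega
  have hq0 : q ≠ 0 := by omega
  rw [Fin.prod_univ_eq_prod_range (fun i => q ^ n - q ^ i) n]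
  have h1 : ∏ i ∈ Finset.range n, (q ^ n - q ^ i) =
      (∏ i ∈ Finset.range n, q ^ i) * ∏ i ∈ Finset.range n, (q ^ (n - 1 - i + 1) - 1) := by
    rw [← Finset.prod_mul_distrib]
    apply Finset.prod_congr rfl
    intro i hi
    rw [Finset.mem_range] at hi
    rw [pow_sub_pow_eq q n i hi.le]
    congr 3
    omega
  rw [h1, Finset.prod_range_reflect (fun j => q ^ (j + 1) - 1) n, Finset.prod_pow_eq_pow_sum,
    padicValNat.mul (pow_ne_zero _ hq0) (Finset.prod_ne_zero_iff.2 fun i _ => hpos i),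
    padicValNat_prod_range r _ n (fun i _ => hpos i)]
  rw [padicValNat.eq_zero_of_not_dvd, zero_add]
  exact fun h => hrq ((Fact.out : r.Prime).dvd_of_dvd_pow h)

/-- the `r`-adic valuation of `|SL_n(q)|` -/
theorem padicValNat_card_SL (K : Type*) [Field K] [Fintype K] (p : ℕ) [Fact p.Prime] [CharP K p]
    (n : ℕ) (hn : 0 < n) (r : ℕ) [Fact r.Prime] (hrp : r ≠ p) :
    padicValNat r (Nat.card (Matrix.SpecialLinearGroup (Fin n) K)) =
      ∑ j ∈ Finset.range (n - 1), padicValNat r (Fintype.card K ^ (j + 2) - 1) := by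
  classical
  have : Nonempty (Fin n) := ⟨⟨0, hn⟩⟩
  have hrq := not_dvd_card_field (F := K) p r hrp
  have hq : 2 ≤ Fintype.card K := Fintype.one_lt_card
  have hG := Cfsg.Agent.Helper5.card_GL_eq_card_SL_mul (n := Fin n) (F := K)
  rw [Matrix.card_GL_field] at hG
  have hv := padicValNat_GLprod r (Fintype.card K) n hq hrq
  rw [hG, padicValNat.mul Nat.card_pos.ne' (by omega)] at hv
  obtain ⟨m, rfl⟩ : ∃ m, n = m + 1 := ⟨n - 1, by omega⟩
  rw [Finset.sum_range_succ', zero_add, pow_one] at hv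
  rw [Nat.add_sub_cancel]
  exact Nat.add_right_cancel hv

/-- (IDX) -/
theorem not_dvd_index [Fintype F] (p : ℕ) [Fact p.Prime] [CharP F p] (hn : 0 < n)
    (F₀ : Subfield F) (q₀ : ℕ) (hF₀ : Nat.card ↥F₀ = q₀) (r : ℕ) [Fact r.Prime] (hrp : r ≠ p)
    (h : ∀ j, 2 ≤ j → j ≤ n →
      padicValNat r (Fintype.card F ^ j - 1) = padicValNat r (q₀ ^ j - 1)) :
    ¬ r ∣ (subH n F₀).index := by
  classical
  intro hdvd
  have : Fintype ↥F₀ := Fintype.ofFinite _
  have hcF₀ : Fintype.card ↥F₀ = q₀ := by rw [← Nat.card_eq_fintype_card, hF₀]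
  have h1 := padicValNat_card_SL F p n hn r hrp
  have h2 := padicValNat_card_SL ↥F₀ p n hn r hrp
  rw [hcF₀] at h2
  have h3 : padicValNat r (Nat.card (Matrix.SpecialLinearGroup (Fin n) F)) =
      padicValNat r (Nat.card (Matrix.SpecialLinearGroup (Fin n) ↥F₀)) := by
    rw [h1, h2]
    apply Finset.sum_congr rfl
    intro j hj
    rw [Finset.mem_range] at hj
    exact h (j + 2) (by omega) (by omega)
  obtain ⟨j₁, hj₁⟩ := Cfsg.Agent.Helper13.SubInv.card_SL_sub_dvd (n := n) F₀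
  have hidx : (subH n F₀).index ≠ 0 := Subgroup.index_ne_zero_of_finite
  have hS := Subgroup.card_mul_index (subH n F₀)
  have hj₁0 : j₁ ≠ 0 := by
    rintro rfl
    rw [mul_zero] at hj₁
    exact Nat.card_pos.ne' hj₁
  rw [← hS, hj₁, padicValNat.mul (mul_ne_zero Nat.card_pos.ne' hj₁0) hidx,
    padicValNat.mul Nat.card_pos.ne' hj₁0] at h3
  have := one_le_padicValNat_of_dvd hidx hdvd
  omega

end Cfsg.Agent.Helper63.SubOddIDX
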