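import Mathlib

set_option autoImplicit false

namespace Cfsg.Agent.Helper63.SubOddSYM

theorem sym3_aux : ∀ a b c : Fin 4, a.val + b.val + c.val = 3 → (b.val + 2 * c.val) % 3 = 0 →
    (b = c) ∨ (a = b) ∨ (a = c) := by
  decide

set_option maxRecDepth 100000 in
set_option synthInstance.maxSize 2000 in
set_option synthInstance.maxHeartbeats 400000 in
theorem sym5_aux : ∀ a b c d e : Fin 6, a.val + b.val + c.val + d.val + e.val = 5 →
    (b.val + 2 * c.val + 3 * d.val + 4 * e.val) % 5 = 0 →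
    (b = e ∧ c = d) ∨ (a = b ∧ c = e) ∨ (a = c ∧ d = e) ∨ (a = d ∧ b = c) ∨ (a = e ∧ b = d) := by
  decide

theorem center3 (m : ZMod 3 → ℕ) (hsum : ∑ j, m j = 3)
    (hmom : ∑ j : ZMod 3, (m j : ZMod 3) * j = 0) :
    ∃ c : ZMod 3, ∀ j, m (-1 * j + c) = m j := by
  have h1 : m 0 + m 1 + m 2 = 3 := by
    exact (Fin.sum_univ_three m).symm.trans hsum
  have h2 : ((m 1 + 2 * m 2 : ℕ) : ZMod 3) = 0 := by
    have this : (m 0 : ZMod 3) * 0 + m 1 * 1 + m 2 * 2 = 0 :=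
      (Fin.sum_univ_three (fun j : ZMod 3 => (m j : ZMod 3) * j)).symm.trans hmom
    push_cast
    rw [← this]
    ring
  rw [ZMod.natCast_eq_zero_iff] at h2
  have h3 : (m 1 + 2 * m 2) % 3 = 0 := Nat.mod_eq_zero_of_dvd h2
  have ha : m 0 < 4 := by omega
  have hb : m 1 < 4 := by omega
  have hc : m 2 < 4 := by omega
  have key := sym3_aux ⟨m 0, ha⟩ ⟨m 1, hb⟩ ⟨m 2, hc⟩ h1 h3
  simp only [Fin.mk.injEq] at key
  have hall : ∀ P : ZMod 3 → Prop, P 0 → P 1 → P 2 → ∀ j, P j := by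
    intro P h0 h1 h2 j
    fin_cases j
    · exact h0
    · exact h1
    · exact h2
  rcases key with h | h | h
  · exact ⟨0, hall _ rfl h.symm h⟩
  · exact ⟨1, hall _ h.symm h rfl⟩
  · exact ⟨2, hall _ h.symm rfl h⟩

theorem center5 (m : ZMod 5 → ℕ) (hsum : ∑ j, m j = 5)
    (hmom : ∑ j : ZMod 5, (m j : ZMod 5) * j = 0) :
    ∃ c : ZMod 5, ∀ j, m (-1 * j + c) = m j := by
  have h1 : m 0 + m 1 + m 2 + m 3 + m 4 = 5 := by
    exact (Fin.sum_univ_five m).symm.trans hsum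
  have h2 : ((m 1 + 2 * m 2 + 3 * m 3 + 4 * m 4 : ℕ) : ZMod 5) = 0 := by
    have this : (m 0 : ZMod 5) * 0 + m 1 * 1 + m 2 * 2 + m 3 * 3 + m 4 * 4 = 0 :=
      (Fin.sum_univ_five (fun j : ZMod 5 => (m j : ZMod 5) * j)).symm.trans hmom
    push_cast
    rw [← this]
    ring
  rw [ZMod.natCast_eq_zero_iff] at h2
  have h3 : (m 1 + 2 * m 2 + 3 * m 3 + 4 * m 4) % 5 = 0 := Nat.mod_eq_zero_of_dvd h2
  have ha : m 0 < 6 := by omega
  have hb : m 1 < 6 := by omega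
  have hc : m 2 < 6 := by omega
  have hd : m 3 < 6 := by omega
  have he : m 4 < 6 := by omega
  have key := sym5_aux ⟨m 0, ha⟩ ⟨m 1, hb⟩ ⟨m 2, hc⟩ ⟨m 3, hd⟩ ⟨m 4, he⟩ h1 h3
  simp only [Fin.mk.injEq] at key
  have hall : ∀ P : ZMod 5 → Prop, P 0 → P 1 → P 2 → P 3 → P 4 → ∀ j, P j := by
    intro P h0 h1 h2 h3 h4 j
    fin_cases j
    · exact h0
    · exact h1
    · exact h2
    · exact h3
    · exact h4
  rcases key with h | h | h | h | h
  · exact ⟨0, hall _ rfl h.1.symm h.2.symm h.2 h.1⟩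
  · exact ⟨1, hall _ h.1.symm h.1 h.2.symm rfl h.2⟩
  · exact ⟨2, hall _ h.1.symm rfl h.1 h.2.symm h.2⟩
  · exact ⟨3, hall _ h.1.symm h.2.symm h.2 h.1 rfl⟩
  · exact ⟨4, hall _ h.1.symm h.2.symm rfl h.2 h.1⟩

/-- (SYM) -/
theorem exists_center_of_moment_zero (r : ℕ) [Fact r.Prime] (hr : r = 3 ∨ r = 5) (m : ZMod r → ℕ)
    (hsum : ∑ j, m j = r) (hmom : ∑ j : ZMod r, (m j : ZMod r) * j = 0) :
    ∃ c : ZMod r, ∀ j, m (-1 * j + c) = m j := by
  rcases hr with rfl | rfl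
  · exact center3 m hsum hmom
  · exact center5 m hsum hmom

end Cfsg.Agent.Helper63.SubOddSYM
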