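import Mathlib
import Cfsg.Agent.Helper15.CSGDefs
import Cfsg.Agent.Helper10.Card

/-!
# S4257 (helper15's plan, board #6691): piece (D5a)
-/

set_option autoImplicit false

namespace Cfsg.Agent.Helper63.CSG

open Subgroup Cfsg.Agent.Helper15.CSG

variable {G : Type*} [Group G] [Finite G]

/-- `|CA : C| = |A : C ∩ A|` for `A` normal -/
theorem relIndex_sup_of_normal (C A : Subgroup G) [A.Normal] :
    C.relIndex (C ⊔ A) = C.relIndex A := by
  have hle : C ≤ normalizer (A : Set G) := by
    rw [Subgroup.normalizer_eq_top]; exact le_top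
  have h0 := Cfsg.Agent.Helper10.card_sup_mul_card_inf C A hle
  have h1 : Nat.card (C ⊔ A : Subgroup G) = Nat.card C * C.relIndex (C ⊔ A) := by
    rw [← Subgroup.relIndex_bot_left, ← Subgroup.relIndex_bot_left,
      Subgroup.relIndex_mul_relIndex _ _ _ bot_le le_sup_left]
  have h2 : Nat.card A = Nat.card (C ⊓ A : Subgroup G) * C.relIndex A := by
    rw [← Subgroup.inf_relIndex_right, ← Subgroup.relIndex_bot_left, ← Subgroup.relIndex_bot_left,
      Subgroup.relIndex_mul_relIndex _ _ _ bot_le inf_le_right]
  rw [h1, h2] at h0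
  have hpos : 0 < Nat.card C * Nat.card (C ⊓ A : Subgroup G) := Nat.mul_pos Nat.card_pos Nat.card_pos
  have h3 : (Nat.card C * Nat.card (C ⊓ A : Subgroup G)) * C.relIndex (C ⊔ A) =
      (Nat.card C * Nat.card (C ⊓ A : Subgroup G)) * C.relIndex A := by
    calc (Nat.card C * Nat.card (C ⊓ A : Subgroup G)) * C.relIndex (C ⊔ A)
        = Nat.card C * C.relIndex (C ⊔ A) * Nat.card (C ⊓ A : Subgroup G) := by ring
      _ = Nat.card C * (Nat.card (C ⊓ A : Subgroup G) * C.relIndex A) := h0
      _ = (Nat.card C * Nat.card (C ⊓ A : Subgroup G)) * C.relIndex A := by ring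
  exact Nat.eq_of_mul_eq_mul_left hpos h3

/-- (D5a) -/
theorem dvd_cs_iff {π : Set ℕ} {A H : Subgroup G} (S : Split G π A H)
    (hA : ∀ x ∈ A, ∀ y ∈ A, x * y = y * x) {s : ℕ} (hs : s.Prime) (hsH : ¬ s ∣ Nat.card H)
    {u h : G} (hu : u ∈ A) (_hh : h ∈ H) :
    s ∣ cs (u * h) ↔ s ∣ (centralizer ({h} : Set G)).relIndex A := by
  have hAn : A.Normal := S.normal
  have hinf : centralizer ({u * h} : Set G) ⊓ A = centralizer ({h} : Set G) ⊓ A := by
    ext x
    simp only [Subgroup.mem_inf, Subgroup.mem_centralizer_iff, Set.mem_singleton_iff, forall_eq]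
    constructor
    · rintro ⟨h1, hx⟩
      refine ⟨?_, hx⟩
      have hux := hA u hu x hx
      have h2 : u * (h * x) = u * (x * h) := by
        calc u * (h * x) = u * h * x := by group
          _ = x * (u * h) := h1
          _ = (x * u) * h := by group
          _ = (u * x) * h := by rw [hux]
          _ = u * (x * h) := by group
      exact mul_left_cancel h2
    · rintro ⟨h1, hx⟩
      refine ⟨?_, hx⟩
      have hux := hA u hu x hx
      calc u * h * x = u * (h * x) := by group
        _ = u * (x * h) := by rw [h1]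
        _ = (u * x) * h := by group
        _ = (x * u) * h := by rw [hux]
        _ = x * (u * h) := by group
  have h1 : (centralizer ({u * h} : Set G)).relIndex (centralizer ({u * h} : Set G) ⊔ A) *
      (centralizer ({u * h} : Set G) ⊔ A).index = (centralizer ({u * h} : Set G)).index :=
    Subgroup.relIndex_mul_index le_sup_left
  have h2 := relIndex_sup_of_normal (centralizer ({u * h} : Set G)) A
  have h3 : (centralizer ({u * h} : Set G)).relIndex A = (centralizer ({h} : Set G)).relIndex A := by
    rw [← Subgroup.inf_relIndex_right, hinf, Subgroup.inf_relIndex_right]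
  have h4 : ¬ s ∣ (centralizer ({u * h} : Set G) ⊔ A).index := by
    intro hd
    apply hsH
    rw [← S.compl.symm.index_eq_card]
    exact dvd_trans hd (Subgroup.index_dvd_of_le le_sup_right)
  show s ∣ (centralizer ({u * h} : Set G)).index ↔ _
  rw [← h1, h2, h3]
  constructor
  · intro hd
    rcases (Nat.Prime.dvd_mul hs).mp hd with h5 | h5
    · exact h5
    · exact absurd h5 h4
  · intro hd
    exact Dvd.dvd.mul_right hd _

end Cfsg.Agent.Helper63.CSG
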