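/-
helper63: piece (M3a) of board #5926 (helper15, S4017): in a minimal counterexample `MC G p a`
every proper nontrivial normal subgroup has odd order.
-/
import Mathlib
import Cfsg.Agent.Helper15.MixDefs

set_option autoImplicit false

namespace Cfsg.Agent.Helper63.MixM3a

open Subgroup Cfsg.Agent.Helper15.Mix

variable {G : Type*} [Group G] [Finite G] {p a : ℕ}

/-- `|H ⊔ K|` divides `|H| |K|` for `K` normal -/
theorem card_sup_dvd_of_normal {Γ : Type*} [Group Γ] [Finite Γ] (H K : Subgroup Γ) [K.Normal] :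
    Nat.card ↥(H ⊔ K) ∣ Nat.card H * Nat.card K := by
  have hle : K ≤ H ⊔ K := le_sup_right
  have h1 : K.relIndex (H ⊔ K) * Nat.card K = Nat.card ↥(H ⊔ K) := by
    have h2 := (K.subgroupOf (H ⊔ K)).index_mul_card
    rw [Nat.card_congr (Subgroup.subgroupOfEquivOfLe hle).toEquiv] at h2
    exact h2
  rw [← h1, relIndex_sup_right]
  exact Nat.mul_dvd_mul_right (relIndex_dvd_card K H) _

/-- (M1), local copy: a subgroup of even order which is not a `2`-group has order divisible by `p` -/
theorem mix (h : MC G p a) (H : Subgroup G) (h2 : 2 ∣ Nat.card H) (hn : ¬ IsPGroup 2 H) :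
    p ∣ Nat.card H := by
  by_cases htop : H = ⊤
  · rw [htop, Subgroup.card_top]
    exact h.hpG
  · by_contra hp
    apply hn
    have : Fact (Nat.Prime 2) := ⟨Nat.prime_two⟩
    have hpos : Nat.card H ≠ 0 := Nat.card_pos.ne'
    have hall : ∀ r : ℕ, r.Prime → r ∣ Nat.card H → r = 2 := by
      intro r hr hrH
      rcases h.f1 H htop h2 hn r hr hrH with h3 | h3
      · exact absurd (h3 ▸ hrH) hp
      · exact h3
    have hpow : Nat.card H = 2 ^ (Nat.card H).primeFactorsList.length :=
      Nat.eq_prime_pow_of_unique_prime_dvd hpos (fun {r} hr hrH => hall r hr hrH)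
    exact IsPGroup.of_card hpow

omit [Finite G] in
theorem p_ne_two (h : MC G p a) : p ≠ 2 := by
  intro h2
  have h4 : 2 ^ 2 ∣ 2 ^ a := pow_dvd_pow 2 h.ha
  rw [← h.hpa, h2] at h4
  omega

/-- (M3a) -/
theorem odd_of_normal (h : MC G p a) (M : Subgroup G) [M.Normal] (h1 : M ≠ ⊥) (h2 : M ≠ ⊤) :
    Odd (Nat.card M) := by
  by_contra hodd
  rw [Nat.not_odd_iff_even, even_iff_two_dvd] at hodd
  have : Fact (Nat.Prime 2) := ⟨Nat.prime_two⟩
  obtain ⟨r, hr, hrG, hrp, hr2⟩ := h.bad
  have : Fact r.Prime := ⟨hr⟩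
  have hp2 := p_ne_two h
  by_cases hrM : r ∣ Nat.card M
  · -- `M` is not a `2`-group, so its primes are `2` and `p`
    have hn : ¬ IsPGroup 2 M := by
      intro hM
      obtain ⟨n, hn⟩ := IsPGroup.iff_card.mp hM
      rw [hn] at hrM
      exact hr2 ((Nat.prime_dvd_prime_iff_eq hr Nat.prime_two).mp (hr.dvd_of_dvd_pow hrM))
    rcases h.f1 M h2 hodd hn r hr hrM with h3 | h3
    · exact hrp h3
    · exact hr2 h3
  · -- Frattini
    let Q0 : Sylow 2 M := default
    set Q0' : Subgroup G := (Q0 : Subgroup M).map M.subtype with hQ0'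
    have hfrat : normalizer (Q0' : Set G) ⊔ M = ⊤ := Sylow.normalizer_sup_eq_top Q0
    set N : Subgroup G := normalizer (Q0' : Set G) with hN
    have hdvd : Nat.card G ∣ Nat.card N * Nat.card M := by
      have := card_sup_dvd_of_normal N M
      rwa [hfrat, Subgroup.card_top] at this
    have hrN : r ∣ Nat.card N := by
      rcases (Nat.Prime.dvd_mul hr).mp (dvd_trans hrG hdvd) with h3 | h3
      · exact h3
      · exact absurd h3 hrM
    obtain ⟨y, hy⟩ := exists_prime_orderOf_dvd_card' (G := N) r hrN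
    -- work inside `N`
    let A : Subgroup N := Q0'.subgroupOf N
    have : A.Normal := Subgroup.normal_in_normalizer
    let Z : Subgroup N := Subgroup.zpowers y
    have hcardA : Nat.card A = Nat.card Q0 := by
      have hle : Q0' ≤ N := Subgroup.le_normalizer
      rw [Nat.card_congr (Subgroup.subgroupOfEquivOfLe hle).toEquiv, hQ0']
      exact Nat.card_congr
        (Subgroup.equivMapOfInjective (Q0 : Subgroup M) M.subtype M.subtype_injective).symm.toEquiv
    obtain ⟨k, hk⟩ := IsPGroup.iff_card.mp Q0.isPGroup'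
    have hk' : Nat.card A = 2 ^ k := by rw [hcardA]; exact hk
    have h2A : 2 ∣ Nat.card A := by
      rw [hcardA]
      exact Q0.dvd_card_of_dvd_card hodd
    have hZ : Nat.card Z = r := by rw [Nat.card_zpowers, hy]
    set H' : Subgroup G := (Z ⊔ A).map N.subtype with hH'
    have hcardH : Nat.card H' = Nat.card ↥(Z ⊔ A) :=
      Nat.card_congr (Subgroup.equivMapOfInjective (Z ⊔ A) N.subtype N.subtype_injective).symm.toEquiv
    have hdvdH : Nat.card H' ∣ r * 2 ^ k := by
      rw [hcardH, ← hZ, ← hk']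
      exact card_sup_dvd_of_normal Z A
    have h2H : 2 ∣ Nat.card H' := by
      rw [hcardH]
      exact dvd_trans h2A (Subgroup.card_dvd_of_le le_sup_right)
    have hrH : r ∣ Nat.card H' := by
      rw [hcardH, ← hZ]
      exact Subgroup.card_dvd_of_le le_sup_left
    have hnH : ¬ IsPGroup 2 H' := by
      intro hH
      obtain ⟨n, hn⟩ := IsPGroup.iff_card.mp hH
      rw [hn] at hrH
      exact hr2 ((Nat.prime_dvd_prime_iff_eq hr Nat.prime_two).mp (hr.dvd_of_dvd_pow hrH))
    have hpH := mix h H' h2H hnH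
    rcases (Nat.Prime.dvd_mul h.hp).mp (dvd_trans hpH hdvdH) with h3 | h3
    · exact hrp ((Nat.prime_dvd_prime_iff_eq h.hp hr).mp h3).symm
    · exact hp2 ((Nat.prime_dvd_prime_iff_eq h.hp Nat.prime_two).mp (h.hp.dvd_of_dvd_pow h3))

end Cfsg.Agent.Helper63.MixM3a
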