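import Mathlib
import Cfsg.Agent.Helper15.MixDefs
import Cfsg.Agent.Helper15.MixBasic
import Cfsg.Agent.Helper22.Sup
import Cfsg.Agent.Helper33.MixD3
import Cfsg.Agent.Helper65.MixD5
import Cfsg.Agent.Helper72.MixC1
import Cfsg.Agent.Helper91.MixC2

/-!
# S4017 (helper15's plan, board #5926): pieces (I1a), (I1b), (I2)

Case I: `hI : ∀ t ∈ Q, t ≠ 1 → W p t ≤ C(Q)`.  The pieces depend on (C2b) `C(t) = W_t Q`.  The
primed versions take (C2b) as the explicit hypothesis `hC`; the unprimed ones (exact statements of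
the skeleton) get it from helper91's `cz_eq_W_mul_Q'` and helper72's (C1).
-/

set_option autoImplicit false

namespace Cfsg.Agent.Helper63.MixI12

open Subgroup Cfsg.Agent.Helper15.Mix

variable {G : Type*} [Group G] [Finite G] {p a : ℕ} {Q : Subgroup G} {x : G}

omit [Finite G] in
theorem mem_cz {y s : G} (hys : y * s = s * y) : y ∈ centralizer ({s} : Set G) := by
  rw [Subgroup.mem_centralizer_iff]
  intro z hz
  rw [Set.mem_singleton_iff] at hz
  rw [hz]; exact hys.symm

omit [Finite G] in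
theorem cz_mem {y s : G} (hy : y ∈ centralizer ({s} : Set G)) : y * s = s * y :=
  ((Subgroup.mem_centralizer_iff.mp hy) s (Set.mem_singleton s)).symm

omit [Finite G] in
/-- (I1a), with (C2b) as the hypothesis `hC`. -/
theorem cz_le_normalizer' (_h : Cfg G p a Q x)
    (hC : ∀ t ∈ Q, t ≠ 1 → ∀ c ∈ centralizer ({t} : Set G), ∃ w ∈ W p t, ∃ u ∈ Q, c = w * u)
    (hI : ∀ t ∈ Q, t ≠ 1 → W p t ≤ centralizer (Q : Set G)) {t : G} (ht : t ∈ Q) (ht1 : t ≠ 1) :
    centralizer ({t} : Set G) ≤ normalizer (Q : Set G) := by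
  intro c hc
  obtain ⟨w, hw, u, hu, rfl⟩ := hC t ht ht1 c hc
  exact Subgroup.mul_mem _ (Subgroup.centralizer_le_normalizer (Q : Set G) (hI t ht ht1 hw))
    (Subgroup.le_normalizer hu)

/-- (I1b), with (C2b) as the hypothesis `hC`: `Q` is a TI-subgroup. -/
theorem mem_normalizer_of_conj_mem' (h : Cfg G p a Q x)
    (hC : ∀ t ∈ Q, t ≠ 1 → ∀ c ∈ centralizer ({t} : Set G), ∃ w ∈ W p t, ∃ u ∈ Q, c = w * u)
    (hI : ∀ t ∈ Q, t ≠ 1 → W p t ≤ centralizer (Q : Set G)) {g u : G} (hu : u ∈ Q) (hu1 : u ≠ 1)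
    (hgu : g * u * g⁻¹ ∈ Q) : g ∈ normalizer (Q : Set G) := by
  have ht1 : g * u * g⁻¹ ≠ 1 := by
    intro h1
    apply hu1
    have : u = g⁻¹ * (g * u * g⁻¹) * g := by group
    rw [this, h1]; group
  have hcz := cz_le_normalizer' h hC hI hgu ht1
  apply Subgroup.mem_normalizer_fintype
  intro v hv
  have hv : v ∈ Q := hv
  show g * v * g⁻¹ ∈ Q
  by_cases hv1 : v = 1
  · subst hv1
    simp
  · have hN : g * v * g⁻¹ ∈ normalizer (Q : Set G) := by
      apply hcz
      apply mem_cz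
      have := h.Q_comm u hu v hv
      calc g * v * g⁻¹ * (g * u * g⁻¹) = g * (v * u) * g⁻¹ := by group
        _ = g * (u * v) * g⁻¹ := by rw [this]
        _ = g * u * g⁻¹ * (g * v * g⁻¹) := by group
    have ho : orderOf (g * v * g⁻¹) = 2 ^ 1 := by
      have : g * v * g⁻¹ = MulAut.conj g v := rfl
      rw [this, MulEquiv.orderOf_eq, pow_one]
      exact h.orderOf_of_mem hv hv1
    exact h.mem_Q_of_mem_N hN ho

/-- (I2), with (C2b) as the hypothesis `hC`. -/
theorem real_elt' (h : Cfg G p a Q x)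
    (hC : ∀ t ∈ Q, t ≠ 1 → ∀ c ∈ centralizer ({t} : Set G), ∃ w ∈ W p t, ∃ u ∈ Q, c = w * u)
    (hI : ∀ t ∈ Q, t ≠ 1 → W p t ≤ centralizer (Q : Set G)) {t u : G} (ht : t ∈ Q) (ht1 : t ≠ 1)
    (hu : orderOf u = 2) (huN : u ∉ normalizer (Q : Set G)) :
    t * u ≠ 1 ∧ IsPElt p (t * u) ∧ IsPGroup p (centralizer ({t * u} : Set G)) := by
  have hN : ∀ {s : G}, s ∈ Q → s ≠ 1 → centralizer ({s} : Set G) ≤ normalizer (Q : Set G) :=
    fun hs hs1 => cz_le_normalizer' h hC hI hs hs1
  have ht2 : t * t = 1 := h.qexp t ht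
  have hto : orderOf t = 2 := h.orderOf_of_mem ht ht1
  have hu2 : u * u = 1 := by
    have := pow_orderOf_eq_one u
    rwa [hu, sq] at this
  have htinv : t⁻¹ = t := inv_eq_of_mul_eq_one_left ht2
  have huinv : u⁻¹ = u := inv_eq_of_mul_eq_one_left hu2
  have hnc : t * u ≠ u * t := by
    intro hc
    exact huN (hN ht ht1 (mem_cz hc.symm))
  have hg1 : t * u ≠ 1 := by
    intro h1
    apply huN
    have h3 : u = t := by
      have h4 : t⁻¹ = u := inv_eq_of_mul_eq_one_right h1
      rw [← h4, htinv]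
    rw [h3]
    exact Subgroup.le_normalizer ht
  have hginv : (t * u)⁻¹ = u * t := by rw [mul_inv_rev, htinv, huinv]
  have htg : t * (t * u) * t⁻¹ = (t * u)⁻¹ := by
    rw [hginv, htinv]
    calc t * (t * u) * t = (t * t) * u * t := by group
      _ = u * t := by rw [ht2, one_mul]
  have hug : u * (t * u) * u⁻¹ = (t * u)⁻¹ := by
    rw [hginv, huinv]
    calc u * (t * u) * u = u * t * (u * u) := by group
      _ = u * t := by rw [hu2, mul_one]
  generalize hg : t * u = g at *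
  -- the order of `g` is odd
  have hodd : Odd (orderOf g) := by
    rw [← Nat.not_even_iff_odd]
    rintro ⟨k, hk⟩
    have hkpos : 0 < k := by
      rcases Nat.eq_zero_or_pos k with h0 | h0
      · exfalso
        rw [h0] at hk
        exact (orderOf_pos g).ne' hk
      · exact h0
    have hz2 : g ^ k * g ^ k = 1 := by rw [← pow_add, ← hk, pow_orderOf_eq_one]
    have hz1 : g ^ k ≠ 1 := by
      intro h1
      have h3 := orderOf_dvd_of_pow_eq_one h1
      rw [hk] at h3
      have := Nat.le_of_dvd hkpos h3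
      omega
    have hzinv : (g ^ k)⁻¹ = g ^ k := inv_eq_of_mul_eq_one_left hz2
    have hzo : orderOf (g ^ k) = 2 ^ 1 := by
      rw [pow_one]
      exact orderOf_eq_prime (by rw [sq]; exact hz2) hz1
    have htz : t * g ^ k * t⁻¹ = g ^ k := by
      have : t * g ^ k * t⁻¹ = (t * g * t⁻¹) ^ k := by rw [conj_pow]
      rw [this, htg, inv_pow, hzinv]
    have huz : u * g ^ k * u⁻¹ = g ^ k := by
      have : u * g ^ k * u⁻¹ = (u * g * u⁻¹) ^ k := by rw [conj_pow]
      rw [this, hug, inv_pow, hzinv]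
    have hzt : g ^ k * t = t * g ^ k := (mul_inv_eq_iff_eq_mul.mp htz).symm
    have hzN : g ^ k ∈ normalizer (Q : Set G) := hN ht ht1 (mem_cz hzt)
    have hzQ : g ^ k ∈ Q := h.mem_Q_of_mem_N hzN hzo
    have huz' : u * g ^ k = g ^ k * u := mul_inv_eq_iff_eq_mul.mp huz
    exact huN (hN hzQ hz1 (mem_cz huz'))
  have hpelt : IsPElt p g := Cfsg.Agent.Helper33.Mix.pelt_of_inverted h.mc hto htg hodd
  -- `t` normalizes `C(g)`
  have htN : t ∈ normalizer ((centralizer ({g} : Set G) : Subgroup G) : Set G) := by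
    apply Subgroup.mem_normalizer_fintype
    intro y hy
    have hy' : y * g = g * y := cz_mem hy
    apply mem_cz
    have h5 : t⁻¹ * g * t = g⁻¹ := by
      have : t⁻¹ * g * t = t * g * t⁻¹ := by rw [htinv]
      rw [this, htg]
    have h6 : y * g⁻¹ = g⁻¹ * y := by
      calc y * g⁻¹ = g⁻¹ * (g * y) * g⁻¹ := by group
        _ = g⁻¹ * (y * g) * g⁻¹ := by rw [hy']
        _ = g⁻¹ * y := by group
    calc t * y * t⁻¹ * g = t * (y * (t⁻¹ * g * t)) * t⁻¹ := by group
      _ = t * (y * g⁻¹) * t⁻¹ := by rw [h5]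
      _ = t * (g⁻¹ * y) * t⁻¹ := by rw [h6]
      _ = (t * g * t⁻¹)⁻¹ * (t * y * t⁻¹) := by group
      _ = g * (t * y * t⁻¹) := by rw [htg, inv_inv]
  -- `C(g)` has odd order
  have hoddC : Odd (Nat.card (centralizer ({g} : Set G))) := by
    rw [← Nat.not_even_iff_odd]
    intro hev
    have h2 : 2 ∣ Nat.card (centralizer ({g} : Set G)) := even_iff_two_dvd.mp hev
    have : Fact (Nat.Prime 2) := ⟨Nat.prime_two⟩
    obtain ⟨z', hz'⟩ := exists_prime_orderOf_dvd_card' (G := centralizer ({g} : Set G)) 2 h2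
    have hz'o : orderOf (z' : G) = 2 := by rw [Subgroup.orderOf_coe]; exact hz'
    obtain ⟨c, hc⟩ := h.exists_conj_mem hz'o
    have ht'1 : c * (z' : G) * c⁻¹ ≠ 1 := by
      intro h1
      have h3 : orderOf (c * (z' : G) * c⁻¹) = 2 := by
        have : c * (z' : G) * c⁻¹ = MulAut.conj c (z' : G) := rfl
        rw [this, MulEquiv.orderOf_eq]; exact hz'o
      rw [h1, orderOf_one] at h3
      norm_num at h3
    have hz'g : (z' : G) * g = g * z' := cz_mem z'.2
    have hg't' : c * g * c⁻¹ * (c * (z' : G) * c⁻¹) = c * (z' : G) * c⁻¹ * (c * g * c⁻¹) := by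
      calc c * g * c⁻¹ * (c * (z' : G) * c⁻¹) = c * (g * z') * c⁻¹ := by group
        _ = c * (z' * g) * c⁻¹ := by rw [hz'g]
        _ = c * (z' : G) * c⁻¹ * (c * g * c⁻¹) := by group
    have hg'W : c * g * c⁻¹ ∈ W p (c * (z' : G) * c⁻¹) := mem_W hg't' (isPElt_conj c hpelt)
    have hg'CQ : c * g * c⁻¹ ∈ centralizer (Q : Set G) := hI _ hc ht'1 hg'W
    have hQ1 : Q.map (MulAut.conj c⁻¹).toMonoidHom ≤ centralizer ({g} : Set G) := by
      rintro _ ⟨v, hv, rfl⟩
      apply mem_cz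
      simp only [MulEquiv.coe_toMonoidHom, MulAut.conj_apply, inv_inv]
      have h3 := (Subgroup.mem_centralizer_iff.mp hg'CQ) v hv
      calc c⁻¹ * v * c * g = c⁻¹ * (v * (c * g * c⁻¹)) * c := by group
        _ = c⁻¹ * ((c * g * c⁻¹) * v) * c := by rw [h3]
        _ = g * (c⁻¹ * v * c) := by group
    have hcardQ1 : Nat.card (Q.map (MulAut.conj c⁻¹).toMonoidHom) = 2 ^ a := by
      rw [← h.qcard]
      exact Nat.card_congr
        (Subgroup.equivMapOfInjective Q _ (MulAut.conj c⁻¹).injective).symm.toEquiv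
    have h2a : 2 ^ a ∣ Nat.card (centralizer ({g} : Set G)) := by
      rw [← hcardQ1]; exact Subgroup.card_dvd_of_le hQ1
    -- `t ∈ C(g)`
    have htcz : t ∈ centralizer ({g} : Set G) := by
      by_contra htn
      have hle : zpowers t ≤ normalizer ((centralizer ({g} : Set G) : Subgroup G) : Set G) := by
        rw [Subgroup.zpowers_le]; exact htN
      have hdvd := Cfsg.Agent.Helper22.card_sup_dvd_of_le_normalizer (zpowers t)
        (centralizer ({g} : Set G)) hle
      rw [Nat.card_zpowers, hto] at hdvd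
      have hAle : centralizer ({g} : Set G) ≤ zpowers t ⊔ centralizer ({g} : Set G) := le_sup_right
      obtain ⟨k, hk⟩ := Subgroup.card_dvd_of_le hAle
      have hApos : 0 < Nat.card (centralizer ({g} : Set G)) := Nat.card_pos
      rw [hk, mul_comm 2] at hdvd
      have hk2 : k ∣ 2 := (Nat.mul_dvd_mul_iff_left hApos).mp hdvd
      have hkne : k ≠ 1 := by
        intro hk1
        rw [hk1, mul_one] at hk
        have h3 : centralizer ({g} : Set G) = zpowers t ⊔ centralizer ({g} : Set G) :=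
          Subgroup.eq_of_le_of_card_ge hAle hk.le
        apply htn
        rw [h3]
        exact (le_sup_left : zpowers t ≤ zpowers t ⊔ centralizer ({g} : Set G))
          (Subgroup.mem_zpowers t)
      have hk2' : k = 2 := by
        rcases (Nat.dvd_prime Nat.prime_two).mp hk2 with h1 | h1
        · exact absurd h1 hkne
        · exact h1
      have h4 : 2 ^ (a + 1) ∣ Nat.card G := by
        have h1 : 2 ^ (a + 1) ∣ Nat.card ↥(zpowers t ⊔ centralizer ({g} : Set G)) := by
          rw [hk, hk2', pow_succ]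
          exact Nat.mul_dvd_mul_right h2a 2
        exact dvd_trans h1 (Subgroup.card_subgroup_dvd_card _)
      have h5 := (Nat.Prime.pow_dvd_iff_le_factorization Nat.prime_two Nat.card_pos.ne').mp h4
      rw [h.mc.hcard] at h5
      omega
    have htg' : t * g = g * t := cz_mem htcz
    have h6 : g = g⁻¹ := by
      rw [← htg, htg', mul_assoc, mul_inv_cancel, mul_one]
    have hgg : g * g = 1 := by
      nth_rewrite 2 [h6]; exact mul_inv_cancel g
    have h7 : orderOf g ∣ 2 := orderOf_dvd_of_pow_eq_one (by rw [sq]; exact hgg)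
    rcases (Nat.dvd_prime Nat.prime_two).mp h7 with h1 | h1
    · exact hg1 (orderOf_eq_one_iff.mp h1)
    · rw [h1] at hodd; exact absurd hodd (by decide)
  exact ⟨hg1, hpelt, Cfsg.Agent.Helper65.Mix.isPGroup_of_odd h.mc _ hoddC hto htN⟩

/-- (C2b), glued from helper91's primed version and helper72's (C1). -/
theorem c2b (h : Cfg G p a Q x) :
    ∀ t ∈ Q, t ≠ 1 → ∀ c ∈ centralizer ({t} : Set G), ∃ w ∈ W p t, ∃ u ∈ Q, c = w * u :=
  fun _ ht ht1 => Cfsg.Agent.Helper91.Mix.cz_eq_W_mul_Q' h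
    (fun _ _ hg ht ht1 hgt => Cfsg.Agent.Helper72.Mix.Cfg.mem_centralizer_of_commute h hg ht ht1 hgt)
    ht ht1

/-- (I1a), exact skeleton statement. -/
theorem cz_le_normalizer (h : Cfg G p a Q x)
    (hI : ∀ t ∈ Q, t ≠ 1 → W p t ≤ centralizer (Q : Set G)) {t : G} (ht : t ∈ Q) (ht1 : t ≠ 1) :
    centralizer ({t} : Set G) ≤ normalizer (Q : Set G) :=
  cz_le_normalizer' h (c2b h) hI ht ht1

/-- (I1b), exact skeleton statement: `Q` is a TI-subgroup. -/
theorem mem_normalizer_of_conj_mem (h : Cfg G p a Q x)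
    (hI : ∀ t ∈ Q, t ≠ 1 → W p t ≤ centralizer (Q : Set G)) {g u : G} (hu : u ∈ Q) (hu1 : u ≠ 1)
    (hgu : g * u * g⁻¹ ∈ Q) : g ∈ normalizer (Q : Set G) :=
  mem_normalizer_of_conj_mem' h (c2b h) hI hu hu1 hgu

/-- (I2), exact skeleton statement. -/
theorem real_elt (h : Cfg G p a Q x)
    (hI : ∀ t ∈ Q, t ≠ 1 → W p t ≤ centralizer (Q : Set G)) {t u : G} (ht : t ∈ Q) (ht1 : t ≠ 1)
    (hu : orderOf u = 2) (huN : u ∉ normalizer (Q : Set G)) :
    t * u ≠ 1 ∧ IsPElt p (t * u) ∧ IsPGroup p (centralizer ({t * u} : Set G)) :=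
  real_elt' h (c2b h) hI ht ht1 hu huN

end Cfsg.Agent.Helper63.MixI12
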