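import Cfsg.Agent.Helper54.BT.Defs
import Cfsg.Agent.Helper82.Brauer43.L4Glue
import Cfsg.Agent.Helper25.NPCSimple
import Cfsg.Agent.S4731

/-!
# (BS) of #7616 for helper54's S0998: the Brauer–Tuan congruence summed over `P \ 1`
-/

set_option autoImplicit false

namespace Cfsg.Agent.Helper63.BT

open Cfsg Cfsg.Agent.Helper16 Cfsg.Agent.Helper16.DefOne Cfsg.Agent.Helper82.DefOne
  Cfsg.Agent.Helper77.DefOne Cfsg.Agent.Helper16.Brauer43 Cfsg.Agent.Helper54.BT
open scoped ComplexConjugate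

universe u

variable {G : Type u} [Group G] [Fintype G] {p : ℕ} [Fact p.Prime]
  (P : Sylow p G) [Fintype (P : Subgroup G)] (D : L0Data P)

/-- `χ(1) · ∑_{z ∈ P \ 1} χ(z) = cW χ` -/
theorem sum_erase_eq_cW [DecidableEq (P : Subgroup G)] (hP : Nat.card P = p)
    (χ : IrrCharacter G) :
    ∑ z ∈ (Finset.univ : Finset (P : Subgroup G)).erase 1,
      (charDegree (χ : G → ℂ) : ℂ) * (χ : G → ℂ) (z : G) = ((cW P D χ : ℤ) : ℂ) := by
  have hcard : ((Finset.univ : Finset (P : Subgroup G)).erase 1).card = p - 1 := by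
    rw [Finset.card_erase_of_mem (Finset.mem_univ _), Finset.card_univ,
      ← Nat.card_eq_fintype_card]
    exact congrArg (· - 1) hP
  have hp1 : 1 ≤ p := (Fact.out : p.Prime).one_lt.le
  have hne : ∀ z ∈ (Finset.univ : Finset (P : Subgroup G)).erase 1, ((z : G) ≠ 1) := by
    intro z hz h
    rw [Finset.mem_erase] at hz
    exact hz.1 (Subtype.ext h)
  by_cases hX : χ ∈ D.X
  · rw [cW_of_mem_X P D hX]
    rw [Finset.sum_congr rfl (g := fun _ => (charDegree (χ : G → ℂ) : ℂ) * (D.ε χ : ℂ))]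
    · rw [Finset.sum_const, hcard, nsmul_eq_mul, Nat.cast_sub hp1]
      push_cast
      ring
    · intro z hz
      rw [D.hX χ hX (z : G) z.2 (hne z hz)]
  · by_cases hY : χ ∈ D.Y
    · rw [cW_of_mem_Y P D hY, ← Finset.mul_sum,
        Finset.sum_erase_eq_sub (Finset.mem_univ (1 : (P : Subgroup G))),
        D.hY1 χ hY]
      have h1 : (χ : G → ℂ) ((1 : (P : Subgroup G)) : G) = (charDegree (χ : G → ℂ) : ℂ) :=
        Cfsg.Agent.Helper79.irr_one χ
      rw [h1]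
      push_cast
      ring
    · rw [cW_of_not_mem P D hX hY]
      rw [Finset.sum_eq_zero]
      · simp
      · intro z hz
        rw [D.hZ χ hX hY (z : G) z.2 (hne z hz), mul_zero]

/-- (BS) the Brauer–Tuan congruence summed over `P \ 1` -/
theorem block_sum (hP : Nat.card P = p) (hC : cen P = (P : Subgroup G)) (q : ℕ) [Fact q.Prime]
    (hpq : p ≠ q) (hno : ∀ g : G, orderOf g ≠ p * q) (b : ℕ)
    (hb : (Nat.card G).factorization q = b)
    (Mp Mq : Ideal AlgInt) (hMp : IsPModular p Mp) (hMq : IsPModular q Mq)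
    (Bp Bq : Set (IrrCharacter G)) (hBp : IsPBlock Mp Bp) (hBq : IsPBlock Mq Bq) :
    ∃ m : ℤ, ∑ᶠ χ ∈ Bp ∩ Bq, cW P D χ = (q : ℤ) ^ b * m := by
  classical
  have hfin : Finite (IrrCharacter G) := Cfsg.Agent.Helper79.irr_finite'
  -- the congruence for every `z ∈ P \ 1`
  have hω : ∀ z : (P : Subgroup G), ∃ ω : AlgInt, z ≠ 1 →
      ∑ᶠ χ ∈ Bp ∩ Bq, (charDegree (χ : G → ℂ) : ℂ) * (χ : G → ℂ) (z : G) =
        (q : ℂ) ^ b * (ω : ℂ) := by
    intro z
    by_cases hz : z = 1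
    · exact ⟨0, fun h => absurd hz h⟩
    · have h1 : orderOf z ∣ p := (orderOf_dvd_natCard z).trans (dvd_of_eq hP)
      have h2 : orderOf z ≠ 1 := by rwa [Ne, orderOf_eq_one_iff]
      have h3 : orderOf z = p := ((Nat.dvd_prime Fact.out).1 h1).resolve_left h2
      have hord : p ∣ orderOf (z : G) := by rw [Subgroup.orderOf_coe, h3]
      obtain ⟨ω, hω⟩ := Cfsg.Agent.S4731.result p q hpq Mp Mq hMp hMq hno b hb Bp hBp Bq hBq
        (z : G) hord
      exact ⟨ω, fun _ => hω⟩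
  choose ω hω using hω
  set S := (Finset.univ : Finset (P : Subgroup G)).erase 1 with hS
  set Ω : AlgInt := ∑ z ∈ S, ω z with hΩ
  -- the main identity in `ℂ`
  have hmain : ((∑ᶠ χ ∈ Bp ∩ Bq, cW P D χ : ℤ) : ℂ) = (q : ℂ) ^ b * (Ω : ℂ) := by
    rw [finsum_mem_eq_finite_toFinset_sum _ (Set.toFinite (Bp ∩ Bq))]
    push_cast
    rw [Finset.sum_congr rfl (fun χ _ => (sum_erase_eq_cW P D hP χ).symm), Finset.sum_comm]
    rw [hΩ]
    push_cast
    rw [Finset.mul_sum]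
    apply Finset.sum_congr rfl
    intro z hz
    have hz1 : z ≠ 1 := (Finset.mem_erase.1 hz).1
    rw [← hω z hz1, finsum_mem_eq_finite_toFinset_sum _ (Set.toFinite (Bp ∩ Bq))]
  -- an integer which is `q ^ b` times an algebraic integer is divisible by `q ^ b`
  have hq0 : q ^ b ≠ 0 := pow_ne_zero _ (Fact.out : q.Prime).ne_zero
  have hint : IsIntegral ℤ (((∑ᶠ χ ∈ Bp ∩ Bq, cW P D χ : ℤ) : ℂ) / ((q ^ b : ℕ) : ℂ)) := by
    rw [hmain]
    have : (q : ℂ) ^ b * (Ω : ℂ) / ((q ^ b : ℕ) : ℂ) = (Ω : ℂ) := by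
      push_cast
      rw [mul_div_assoc, mul_comm, div_mul_cancel₀]
      exact_mod_cast hq0
    rw [this]
    exact Ω.2
  obtain ⟨m, hm⟩ := Cfsg.Agent.Helper25.NPCSimple.int_dvd_of_isIntegral_div' hq0 hint
  exact ⟨m, by rw [hm]; push_cast; ring⟩

end Cfsg.Agent.Helper63.BT
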