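import Cfsg.Agent.Helper18.E8Odd.Lin

/-!
helper63 for helper18 (S4281, E8INV-1), piece (D1), LIGHT version (imports only the linear model `Helper18.E8Odd.Lin`):
a word which maps all fundamental roots of `E₈` to positive roots acts trivially on the 240 roots (the `2ρ` argument).
The verbatim Skel statement is `Cfsg.Agent.Helper63.E8Inv.triv_of_pos` in `Cfsg/Agent/Helper63/E8Inv_D1.lean`.
-/

set_option autoImplicit false
set_option maxRecDepth 100000

namespace Cfsg.Agent.Helper63.E8Inv

open Cfsg Cfsg.Lie Cfsg.Agent.Helper18 Cfsg.Agent.Helper18.E8Odd Cfsg.Agent.Helper19.Cox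

local notation "aW" => actW reflTabsE8 8 240

/-- `2ρ`, the sum of the positive roots -/
def D1_rho2 : V := ![92, 136, 182, 270, 220, 168, 114, 58]

theorem D1_rho2_eq : ∀ k : Fin 8, ∑ x ∈ Finset.Ico 120 240, cf x k = D1_rho2 k := by
  decide +kernel

theorem D1_rho2_sum : ∑ x ∈ Finset.Ico 120 240, cf x = D1_rho2 := by
  funext k
  rw [Finset.sum_apply]
  exact D1_rho2_eq k

theorem D1_rho2_inj : ∀ a b : Fin 8, D1_rho2 a = D1_rho2 b → a = b := by decide

theorem D1_B_e_rho2 : ∀ i : Fin 8, ∑ k, Cm i k * D1_rho2 k = 2 := by decide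

theorem D1_decomp (v : V) : v = ∑ k, v k • e k := by
  funext j
  rw [Finset.sum_apply, Finset.sum_eq_single j]
  · simp [e]
  · intro b _ hb
    simp [e, hb.symm]
  · intro h
    exact absurd (Finset.mem_univ j) h

theorem D1_map_decomp (L : V →ₗ[ℤ] V) (v : V) : L v = ∑ k, v k • L (e k) := by
  conv_lhs => rw [D1_decomp v]
  rw [map_sum]
  apply Finset.sum_congr rfl
  intro k _
  rw [map_smul]

/-- `B v (2ρ) = 2 * height v` -/
theorem D1_B_rho2 (v : V) : B v D1_rho2 = 2 * ∑ k, v k := by
  conv_lhs => rw [D1_decomp v]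
  rw [map_sum, LinearMap.sum_apply, Finset.mul_sum]
  apply Finset.sum_congr rfl
  intro k _
  rw [map_smul, LinearMap.smul_apply, B_e_left, D1_B_e_rho2, smul_eq_mul]
  ring

/-- a non-negative integer vector of height one is a unit vector -/
theorem D1_unit (v : V) (h0 : ∀ k, 0 ≤ v k) (h1 : ∑ k, v k = 1) : ∃ j, v = e j := by
  have hex : ∃ j, v j ≠ 0 := by
    by_contra hne
    push Not at hne
    rw [Finset.sum_eq_zero (fun k _ => hne k)] at h1
    exact zero_ne_one h1
  obtain ⟨j, hj⟩ := hex
  have hj1 : 1 ≤ v j := by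
    have := h0 j
    omega
  have hsplit : ∑ k, v k = v j + ∑ k ∈ Finset.univ.erase j, v k := by
    rw [Finset.add_sum_erase _ _ (Finset.mem_univ j)]
  have hrest0 : 0 ≤ ∑ k ∈ Finset.univ.erase j, v k := Finset.sum_nonneg (fun k _ => h0 k)
  have hvj : v j = 1 := by omega
  have hrest : ∑ k ∈ Finset.univ.erase j, v k = 0 := by omega
  have hz : ∀ k ∈ Finset.univ.erase j, v k = 0 :=
    (Finset.sum_eq_zero_iff_of_nonneg (fun k _ => h0 k)).1 hrest
  refine ⟨j, ?_⟩
  funext k
  by_cases hk : k = j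
  · subst hk
    simp [e, hvj]
  · rw [hz k (Finset.mem_erase.2 ⟨hk, Finset.mem_univ k⟩)]
    simp [e, hk]

/-- (D1), light version: a word which maps all fundamental roots to positive roots acts trivially; here `aW` is
`actW reflTabsE8 8 240` (of which `Cfsg.Agent.Helper36.E8Odd.aW` is an `abbrev`) and `chevE8.simple i` is `sr i`. -/
theorem triv_of_pos_core (w : List ℕ) (hw : ∀ i ∈ w, i < 8)
    (h : ∀ i < 8, 120 ≤ aW w (chevE8.simple i)) : ∀ x < 240, aW w x = x := by
  -- the images of the unit vectors are non-negative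
  have hLe : ∀ i : Fin 8, ∀ k, 0 ≤ Lw w (e i) k := by
    intro i k
    obtain ⟨hlt, _, hcf⟩ := cf_simple i
    obtain ⟨h1, h2⟩ := cf_aW w hw (chevE8.simple i.val) hlt
    rw [hcf] at h2
    rw [← h2]
    exact (cf_sign _ h1).1 (h i.val i.isLt) k
  have hLnonneg : ∀ v : V, (∀ k, 0 ≤ v k) → ∀ k, 0 ≤ Lw w v k := by
    intro v hv k
    rw [D1_map_decomp (Lw w) v, Finset.sum_apply]
    apply Finset.sum_nonneg
    intro j _
    rw [Pi.smul_apply, smul_eq_mul]
    exact mul_nonneg (hv j) (hLe j k)
  -- positive roots go to positive roots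
  have hpos : ∀ x, 120 ≤ x → x < 240 → 120 ≤ aW w x := by
    intro x hx1 hx2
    obtain ⟨h1, h2⟩ := cf_aW w hw x hx2
    by_contra hlt
    push Not at hlt
    have hle := (cf_sign _ h1).2.1 hlt
    have hge : ∀ k, 0 ≤ cf (aW w x) k := by
      intro k
      rw [h2]
      exact hLnonneg _ ((cf_sign x hx2).1 hx1) k
    apply (cf_sign _ h1).2.2
    funext k
    exact le_antisymm (hle k) (hge k)
  have hinj : ∀ x < 240, ∀ y < 240, aW w x = aW w y → x = y := by
    intro x hx y hy hxy
    apply cf_inj x hx y hy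
    have h1 := (cf_aW w hw x hx).2
    have h2 := (cf_aW w hw y hy).2
    rw [hxy, h2] at h1
    have := congrArg (Lw w.reverse) h1
    rw [Lw_reverse, Lw_reverse] at this
    exact this.symm
  -- `w` permutes the positive roots, so it fixes `2ρ`
  have himage : (Finset.Ico 120 240).image (fun x => aW w x) = Finset.Ico 120 240 := by
    apply Finset.eq_of_subset_of_card_le
    · intro y hy
      obtain ⟨x, hx, rfl⟩ := Finset.mem_image.1 hy
      rw [Finset.mem_Ico] at hx ⊢
      exact ⟨hpos x hx.1 hx.2, (cf_aW w hw x hx.2).1⟩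
    · rw [Finset.card_image_of_injOn]
      intro x hx y hy hxy
      rw [Finset.coe_Ico, Set.mem_Ico] at hx hy
      exact hinj x hx.2 y hy.2 hxy
  have hfix : Lw w D1_rho2 = D1_rho2 := by
    rw [← D1_rho2_sum, map_sum]
    have h1 : ∑ x ∈ Finset.Ico 120 240, Lw w (cf x) = ∑ x ∈ Finset.Ico 120 240, cf (aW w x) := by
      apply Finset.sum_congr rfl
      intro x hx
      rw [Finset.mem_Ico] at hx
      exact ((cf_aW w hw x hx.2).2).symm
    rw [h1]
    conv_rhs => rw [← himage]
    rw [Finset.sum_image]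
    intro x hx y hy hxy
    rw [Finset.coe_Ico, Set.mem_Ico] at hx hy
    exact hinj x hx.2 y hy.2 hxy
  -- the images of the unit vectors have height one
  have hheight : ∀ i : Fin 8, ∑ k, Lw w (e i) k = 1 := by
    intro i
    have h1 : B (Lw w (e i)) D1_rho2 = 2 := by
      conv_lhs => rw [← hfix]
      rw [B_Lw, B_e_left, D1_B_e_rho2]
    rw [D1_B_rho2] at h1
    omega
  have hunit : ∀ i : Fin 8, ∃ j, Lw w (e i) = e j := fun i => D1_unit _ (hLe i) (hheight i)
  choose σ hσ using hunit
  have hσinj : Function.Injective σ := by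
    intro a b hab
    have h1 : Lw w (e a) = Lw w (e b) := by rw [hσ a, hσ b, hab]
    have := congrArg (Lw w.reverse) h1
    rw [Lw_reverse, Lw_reverse] at this
    have h2 := congrFun this a
    by_contra hne
    simp [e, hne] at h2
  -- `σ = id`
  have hσid : ∀ i, σ i = i := by
    intro i
    apply D1_rho2_inj
    have h1 := congrFun hfix (σ i)
    rw [D1_map_decomp (Lw w) D1_rho2, Finset.sum_apply, Finset.sum_eq_single i] at h1
    · rw [Pi.smul_apply, hσ i, smul_eq_mul] at h1
      simp [e] at h1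
      exact h1.symm
    · intro b _ hb
      rw [Pi.smul_apply, hσ b]
      have hne : σ b ≠ σ i := fun hh => hb (hσinj hh)
      simp [e, hne.symm]
    · intro hh
      exact absurd (Finset.mem_univ i) hh
  have hLid : ∀ v : V, Lw w v = v := by
    intro v
    rw [D1_map_decomp (Lw w) v]
    conv_rhs => rw [D1_decomp v]
    apply Finset.sum_congr rfl
    intro k _
    rw [hσ k, hσid k]
  intro x hx
  obtain ⟨h1, h2⟩ := cf_aW w hw x hx
  rw [hLid] at h2
  exact cf_inj _ h1 x hx h2

end Cfsg.Agent.Helper63.E8Inv
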