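import Mathlib
import Cfsg.Agent.Helper19.OpBN.Defs

/-!
# (L1) of helper19's S2548 farm (#10996): an isometry whose first `m` columns are upper triangular
is upper triangular (adapted from helper24's `SuBNL1`).
-/

set_option autoImplicit false

namespace Cfsg.Agent.Helper63.OpBN

open Matrix Cfsg.Agent.Helper19.OpBN

variable {F : Type*} [Field F] {m : ℕ}

/-- (L1) an isometry whose first `m` columns are upper triangular is upper triangular -/
theorem Pj_half_subset_Bsub (g : OG m F) (hg : g ∈ Pj m) : g ∈ Bsub m F := by
  rw [mem_Bsub_iff]
  intro a b hab
  by_cases hb : b.val < m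
  · exact hg a b hb hab
  · have hginv := inv_mem_Pj m g hg
    have h := inv_apply g⁻¹ a b
    rw [inv_inv] at h
    rw [h]
    have hab' : b.val < a.val := hab
    apply hginv
    · rw [val_rev]
      have := a.isLt
      omega
    · rw [Fin.lt_def, val_rev, val_rev]
      have := a.isLt
      omega

end Cfsg.Agent.Helper63.OpBN
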