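import Mathlib
import Cfsg.Agent.Helper19.OpBN.Defs

/-!
# (L2) of helper19's S2548 farm (#10996): making one more column upper triangular
(adapted from helper23's `SuBNL2`).
-/

set_option autoImplicit false

namespace Cfsg.Agent.Helper63.OpBN

open Matrix Cfsg.Agent.Helper19.OpBN

variable {F : Type*} [Field F] {m : ℕ}

/-- (L2) one more column -/
theorem exists_mul_mem_Pj_succ
    (hred : ∀ (j : ℕ), j < m → ∀ v : Fin (2 * m) → F, Qp m v = 0 →
      (∀ a : Fin (2 * m), 2 * m - 1 - j < a.val → v a = 0) →
      (∃ a : Fin (2 * m), j ≤ a.val ∧ v a ≠ 0) →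
      ∃ h ∈ Hfull m F, Fixj j h ∧ ∀ a : Fin (2 * m), j < a.val → (mat h *ᵥ v) a = 0)
    (j : ℕ) (hj : j < m) (g : OG m F) (hg : g ∈ Pj j) :
    ∃ h ∈ Hfull m F, h * g ∈ Pj (j + 1) := by
  have hjn : j < 2 * m := by omega
  set jj : Fin (2 * m) := ⟨j, hjn⟩ with hjj
  set v : Fin (2 * m) → F := fun a => mat g a jj with hv
  by_cases hex : ∃ a : Fin (2 * m), j ≤ a.val ∧ v a ≠ 0
  · -- the column is not yet reduced
    have h1 : Qp m v = 0 := q_col g jj
    have h2 : ∀ a : Fin (2 * m), 2 * m - 1 - j < a.val → v a = 0 := by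
      intro a ha
      have hgi : g⁻¹ ∈ Pj j := inv_mem_Pj j g hg
      have e := inv_apply g⁻¹ a jj
      rw [inv_inv] at e
      have h0 : mat g⁻¹ (Fin.rev jj) (Fin.rev a) = 0 := by
        apply hgi
        · rw [val_rev]; have := a.2; omega
        · rw [Fin.lt_def, val_rev, val_rev]
          simp only [hjj]
          have := a.2; omega
      show mat g a jj = 0
      rw [e, h0]
    obtain ⟨h, hh, hfix, hcol⟩ := hred j hj v h1 h2 hex
    refine ⟨h, hh, ?_⟩
    intro a b hb hba
    rw [mat_mul, Matrix.mul_apply]
    by_cases hbj : b.val < j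
    · apply Finset.sum_eq_zero
      intro i _
      by_cases hib : b < i
      · rw [hg i b hbj hib, mul_zero]
      · have hib' : i.val ≤ b.val := by rw [Fin.lt_def] at hib; omega
        rw [hfix a i (by omega), if_neg, zero_mul]
        rintro rfl
        rw [Fin.lt_def] at hba
        omega
    · have hbj' : b = jj := by
        apply Fin.ext
        simp only [hjj]
        omega
      subst hbj'
      have := hcol a (by rw [Fin.lt_def] at hba; simpa [hjj] using hba)
      rw [Matrix.mulVec, dotProduct] at this
      exact this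
  · -- nothing to do
    refine ⟨1, one_mem _, ?_⟩
    rw [one_mul]
    intro a b hb hba
    by_cases hbj : b.val < j
    · exact hg a b hbj hba
    · have hbj' : b = jj := by
        apply Fin.ext
        simp only [hjj]
        omega
      subst hbj'
      by_contra hne
      apply hex
      refine ⟨a, ?_, hne⟩
      rw [Fin.lt_def] at hba
      simp only [hjj] at hba
      omega

end Cfsg.Agent.Helper63.OpBN
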