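import Mathlib
import Cfsg.Agent.Helper19.OpBN.Defs

/-!
# (STEPMID) of helper19's S2548 farm (#10996): the last nonzero coordinate is `m`; use the
reflection `rr`.
-/

set_option autoImplicit false

namespace Cfsg.Agent.Helper63.OpBN

open Matrix Cfsg.Agent.Helper19.OpBN

variable {F : Type*} [Field F] {m : ℕ}

theorem STEPMID_rPerm_inv : (rPerm m)⁻¹ = rPerm m := by
  rw [inv_eq_iff_eq_inv, eq_comm, inv_eq_iff_mul_eq_one]
  ext j
  rw [Equiv.Perm.mul_apply, rPerm_rPerm]
  rfl

/-- (STEPMID) the last nonzero coordinate is `m`: the vector is singular, so its coordinate `m - 1`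
vanishes; use the reflection `rr` -/
theorem step_middle (j : ℕ) (hj : j < m) (v : Fin (2 * m) → F) (hv : Qp m v = 0)
    (hvA : ∀ a : Fin (2 * m), m < a.val → v a = 0) (a : Fin (2 * m)) (ha : a.val = m) (hva : v a ≠ 0) :
    Fixj j (rr : OG m F) ∧ ∀ a : Fin (2 * m), m ≤ a.val → (mat (rr : OG m F) *ᵥ v) a = 0 := by
  have hm : 0 < m := by omega
  constructor
  · intro c b hb
    rw [mat_rr, pMat_apply]
    have hfix : rPerm m b = b := by
      apply Fin.ext
      rw [val_rPerm]
      have := b.2
      split_ifs <;> omega
    rw [hfix]
  · -- the coordinate `m - 1` vanishes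
    have hlast : v ⟨m - 1, by omega⟩ = 0 := by
      have hQ : Qp m v = v (lo ⟨m - 1, by omega⟩) * v (hi ⟨m - 1, by omega⟩) := by
        unfold Qp
        apply Finset.sum_eq_single (⟨m - 1, by omega⟩ : Fin m)
        · intro i _ hi'
          have hi2 : i.val ≠ m - 1 := fun h => hi' (Fin.ext h)
          have : v (hi i) = 0 := by
            apply hvA
            rw [val_hi]
            have := i.2
            omega
          rw [this, mul_zero]
        · intro h; exact absurd (Finset.mem_univ _) h
      rw [hQ] at hv
      have hhi : hi (⟨m - 1, by omega⟩ : Fin m) = a := by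
        apply Fin.ext
        rw [val_hi, ha]
        simp only
        omega
      have hlo : lo (⟨m - 1, by omega⟩ : Fin m) = (⟨m - 1, by omega⟩ : Fin (2 * m)) := by
        apply Fin.ext
        rw [val_lo]
      rw [hhi, hlo] at hv
      rcases mul_eq_zero.1 hv with h | h
      · exact h
      · exact absurd h hva
    intro c hc
    rw [mat_rr, pMat_mulVec, STEPMID_rPerm_inv]
    by_cases hcm : c.val = m
    · have : rPerm m c = ⟨m - 1, by omega⟩ := by
        apply Fin.ext
        rw [val_rPerm]
        split_ifs <;> simp only <;> omega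
      rw [this]
      exact hlast
    · have : rPerm m c = c := by
        apply Fin.ext
        rw [val_rPerm]
        split_ifs <;> omega
      rw [this]
      exact hvA c (by omega)

end Cfsg.Agent.Helper63.OpBN
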