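import Mathlib
import Cfsg.Agent.Helper19.OpBN.Defs

/-!
# (TOP) of helper19's S2548 farm (#10996): `B`, `N` and the reflection `rr` generate `O(Qp m)`.
-/

set_option autoImplicit false

namespace Cfsg.Agent.Helper63.OpBN

open Matrix Cfsg.Agent.Helper19.OpBN

variable {F : Type*} [Field F] {m : ℕ}

/-- (TOP) `B`, `N` and `rr` generate -/
theorem Hfull_eq_top_of
    (hL1 : ∀ g : OG m F, g ∈ Pj m → g ∈ Bsub m F)
    (hL2 : ∀ (j : ℕ), j < m → ∀ g : OG m F, g ∈ Pj j → ∃ h ∈ Hfull m F, h * g ∈ Pj (j + 1)) :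
    Hfull m F = ⊤ := by
  rw [eq_top_iff]
  intro g _
  have key : ∀ j, j ≤ m → ∃ h ∈ Hfull m F, h * g ∈ Pj j := by
    intro j
    induction j with
    | zero =>
      intro _
      exact ⟨1, Subgroup.one_mem _, by
        intro a b hb
        exact absurd hb (Nat.not_lt_zero _)⟩
    | succ j ih =>
      intro hj
      obtain ⟨h, hh, hhg⟩ := ih (by omega)
      obtain ⟨h', hh', hh'g⟩ := hL2 j (by omega) (h * g) hhg
      exact ⟨h' * h, Subgroup.mul_mem _ hh' hh, by rwa [mul_assoc]⟩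
  obtain ⟨h, hh, hhg⟩ := key m le_rfl
  have h1 : h * g ∈ Hfull m F :=
    (le_sup_left : G1 m F ≤ Hfull m F) ((le_sup_left : Bsub m F ≤ G1 m F) (hL1 _ hhg))
  have h2 : g = h⁻¹ * (h * g) := by group
  rw [h2]
  exact Subgroup.mul_mem _ (Subgroup.inv_mem _ hh) h1

end Cfsg.Agent.Helper63.OpBN
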