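import Mathlib
import Cfsg.Agent.Helper5.SuBN.Defs

/-! # (TOP) of helper5's farm for S2546: `B` and `N` generate the special unitary group. -/

set_option autoImplicit false

namespace Cfsg.Agent.Helper63.SuBNTOP

open Matrix Cfsg.Agent.Helper5.SuBN

variable {F : Type*} [Field F] {n : ℕ} {σ : F →+* F}

theorem sup_eq_top_of (c : F)
    (hL1 : ∀ g : UG n σ, g ∈ Pj σ (n / 2) → g ∈ Bsub n σ)
    (hL2 : ∀ (j : ℕ), j < n / 2 → ∀ g : UG n σ, g ∈ Pj σ j →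
      ∃ h ∈ Bsub n σ ⊔ Nsub n σ c, h * g ∈ Pj σ (j + 1)) :
    Bsub n σ ⊔ Nsub n σ c = ⊤ := by
  rw [eq_top_iff]
  intro g _
  have key : ∀ j, j ≤ n / 2 → ∃ h ∈ Bsub n σ ⊔ Nsub n σ c, h * g ∈ Pj σ j := by
    intro j
    induction j with
    | zero =>
      intro _
      exact ⟨1, Subgroup.one_mem _, by
        intro a b hb
        exact absurd hb (Nat.not_lt_zero _)⟩
    | succ j ih =>
      intro hj
      obtain ⟨h, hh, hhg⟩ := ih (by omega)
      obtain ⟨h', hh', hh'g⟩ := hL2 j (by omega) (h * g) hhg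
      exact ⟨h' * h, Subgroup.mul_mem _ hh' hh, by rwa [mul_assoc]⟩
  obtain ⟨h, hh, hhg⟩ := key (n / 2) le_rfl
  have h1 : h * g ∈ Bsub n σ ⊔ Nsub n σ c := (le_sup_left : Bsub n σ ≤ _) (hL1 _ hhg)
  have h2 : g = h⁻¹ * (h * g) := by group
  rw [h2]
  exact Subgroup.mul_mem _ (Subgroup.inv_mem _ hh) h1

end Cfsg.Agent.Helper63.SuBNTOP
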