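import Mathlib
import Cfsg.Agent.Helper5.SuBN.Defs

/-! # (MXb) of helper5's farm for S2546: a monomial element moving every simple root group out of
`B` is the longest element: `B ∩ m B m⁻¹ = T`. -/

set_option autoImplicit false

namespace Cfsg.Agent.Helper63.SuBNMXb

open Matrix Cfsg.Agent.Helper5.SuBN

variable {F : Type*} [Field F] {n : ℕ} {σ : F →+* F}

/-- a strictly decreasing sequence of `n / 2` values in `[n - n / 2, n - 1]` -/
theorem antitone_eq (n : ℕ) (f : ℕ → ℕ) (hf : ∀ j, j < n → f j < n)
    (hA : ∀ j, j + 1 < n / 2 → f (j + 1) < f j) (hB : 1 ≤ n / 2 → n ≤ 2 * f (n / 2 - 1)) :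
    ∀ j, j < n / 2 → f j = n - 1 - j := by
  have up : ∀ j, j < n / 2 → f j + j ≤ n - 1 := by
    intro j
    induction j with
    | zero =>
      intro h0
      have := hf 0 (by omega)
      omega
    | succ j ih =>
      intro hj
      have := ih (by omega)
      have := hA j hj
      omega
  have lo : ∀ d, d < n / 2 → n - n / 2 + d ≤ f (n / 2 - 1 - d) := by
    intro d
    induction d with
    | zero =>
      intro h0
      have := hB (by omega)
      simp only [Nat.sub_zero, Nat.add_zero]
      omega
    | succ d ih =>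
      intro hd
      have h1 := ih (by omega)
      have h2 := hA (n / 2 - 1 - (d + 1)) (by omega)
      have e : n / 2 - 1 - (d + 1) + 1 = n / 2 - 1 - d := by omega
      rw [e] at h2
      omega
  intro j hj
  have h1 := up j hj
  have h2 := lo (n / 2 - 1 - j) (by omega)
  have e : n / 2 - 1 - (n / 2 - 1 - j) = j := by omega
  rw [e] at h2
  omega

/-- Step 1: if the permutation of `m` does not invert the simple root `k`, then `m X_k m⁻¹ ⊆ B`. -/
theorem conj_mem_Bsub_of_lt (m : UG n σ) (π : Equiv.Perm (Fin n))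
    (hπ : ∀ a b : Fin n, a ≠ π b → mat m a b = 0) (k : Fin (n / 2))
    (hP : if 2 * k.val + 3 < n then π (ia k) < π (ib k) else π (ia k) < Fin.rev (π (ia k))) :
    ∀ x ∈ Xset σ k, m * x * m⁻¹ ∈ Bsub n σ := by
  have hrev : ∀ a, π (Fin.rev a) = Fin.rev (π a) := mono_perm_rev m π hπ
  have hk := k.2
  rintro x ⟨t, u', hpar, hx⟩
  rw [mem_Bsub_iff]
  intro a' b' hlt
  obtain ⟨a, rfl⟩ := π.surjective a'
  obtain ⟨b, rfl⟩ := π.surjective b'
  rw [mono_conj_apply' m π hπ x a b]
  suffices hz : mat x a b = 0 by rw [hz]; simp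
  rw [hx, xMat_apply]
  have hab : a ≠ b := by
    rintro rfl
    exact lt_irrefl _ hlt
  rw [if_neg hab]
  have T2 : π (ia k) < π (ib k) → (if ia k = a ∧ ib k = b then t else 0) = 0 := by
    intro hP1
    rw [if_neg]
    rintro ⟨rfl, rfl⟩
    exact absurd hlt (not_lt.2 hP1.le)
  have T3 : π (ia k) < π (ib k) →
      (if Fin.rev (ib k) = a ∧ Fin.rev (ia k) = b then σ t else 0) = 0 := by
    intro hP1
    rw [if_neg]
    rintro ⟨rfl, rfl⟩
    rw [hrev, hrev, Fin.rev_lt_rev] at hlt
    exact absurd hlt (not_lt.2 hP1.le)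
  have T4 : π (ia k) < Fin.rev (π (ia k)) →
      (if ia k = a ∧ Fin.rev (ia k) = b then u' else 0) = 0 := by
    intro hP2
    rw [if_neg]
    rintro ⟨rfl, rfl⟩
    rw [hrev] at hlt
    exact absurd hlt (not_lt.2 hP2.le)
  unfold Param at hpar
  by_cases h1 : 2 * k.val + 3 < n
  · rw [if_pos h1] at hP hpar
    rw [T2 hP, T3 hP, hpar]
    simp
  · rw [if_neg h1] at hP hpar
    by_cases h2 : 2 * k.val + 2 = n
    · rw [if_pos h2] at hpar
      obtain ⟨ht, -⟩ := hpar
      rw [ht, map_zero, T4 hP]
      simp
    · have h3 : 2 * k.val + 3 = n := by omega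
      have hmid : Fin.rev (ib k) = ib k := Fin.ext (by rw [val_rev, val_ib]; omega)
      have hP1 : π (ia k) < π (ib k) := by
        have e : π (ib k) = Fin.rev (π (ib k)) := by
          rw [← hrev, hmid]
        have v1 := congrArg Fin.val e
        rw [val_rev] at v1
        have hb := (π (ib k)).2
        have ha := (π (ia k)).2
        rw [Fin.lt_def] at hP ⊢
        rw [val_rev] at hP
        omega
      rw [T2 hP1, T3 hP1, T4 hP]
      simp

theorem conj_mem_Bsub_iff_of_not (m : UG n σ) (hm : m ∈ Mono n σ)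
    (h : ∀ k : Fin (n / 2), ¬ ∀ x ∈ Xset σ k, m * x * m⁻¹ ∈ Bsub n σ) (u : UG n σ)
    (hu : u ∈ Bsub n σ) : m⁻¹ * u * m ∈ Bsub n σ ↔ u ∈ Tsub n σ := by
  obtain ⟨π, hπ⟩ := hm
  have hrev : ∀ a, π (Fin.rev a) = Fin.rev (π a) := mono_perm_rev m π hπ
  -- Step 2: the inequalities
  have ineqA : ∀ k : Fin (n / 2), 2 * k.val + 3 < n → π (ib k) < π (ia k) := by
    intro k hk
    by_contra hcon
    apply h k
    apply conj_mem_Bsub_of_lt m π hπ k
    rw [if_pos hk]
    have hne : π (ia k) ≠ π (ib k) := fun e => by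
      have := π.injective e
      rw [Fin.ext_iff, val_ia, val_ib] at this
      omega
    exact lt_of_le_of_ne (not_lt.1 hcon) hne
  have ineqB : ∀ k : Fin (n / 2), ¬ 2 * k.val + 3 < n → Fin.rev (π (ia k)) < π (ia k) := by
    intro k hk
    by_contra hcon
    apply h k
    apply conj_mem_Bsub_of_lt m π hπ k
    rw [if_neg hk]
    have hne : π (ia k) ≠ Fin.rev (π (ia k)) := fun e => by
      rw [← hrev] at e
      have := π.injective e
      rw [Fin.ext_iff, val_rev, val_ia] at this
      have := k.2
      omega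
    exact lt_of_le_of_ne (not_lt.1 hcon) hne
  -- the permutation is the reversal on the first half
  set f : ℕ → ℕ := fun j => if hj : j < n then (π ⟨j, hj⟩).val else 0 with hf
  have hfval : ∀ a : Fin n, f a.val = (π a).val := by
    intro a
    simp only [hf, dif_pos a.2]
  have hhalf : ∀ j, j < n / 2 → f j = n - 1 - j := by
    apply antitone_eq n f
    · intro j hj
      simp only [hf, dif_pos hj]
      exact (π ⟨j, hj⟩).2
    · intro j hj
      have h1 := ineqA ⟨j, by omega⟩ (by simp only; omega)
      rw [Fin.lt_def, ← hfval, ← hfval, val_ia, val_ib] at h1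
      exact h1
    · intro h1
      have h2 := ineqB ⟨n / 2 - 1, by omega⟩ (by simp only; omega)
      rw [Fin.lt_def, val_rev, ← hfval, val_ia] at h2
      simp only at h2
      omega
  have hfirst : ∀ a : Fin n, a.val < n / 2 → π a = Fin.rev a := by
    intro a ha
    apply Fin.ext
    rw [← hfval, hhalf a.val ha, val_rev]
  have hπrev : ∀ a : Fin n, π a = Fin.rev a := by
    intro a
    have ha := a.2
    by_cases h1 : a.val < n / 2
    · exact hfirst a h1
    · by_cases h2 : (Fin.rev a).val < n / 2
      · have h3 := hfirst (Fin.rev a) h2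
        rw [hrev, Fin.rev_rev] at h3
        have h4 := congrArg Fin.rev h3
        rwa [Fin.rev_rev] at h4
      · rw [val_rev] at h2
        have hmid : Fin.rev a = a := Fin.ext (by rw [val_rev]; omega)
        have h3 := hrev a
        rw [hmid] at h3
        have v := congrArg Fin.val h3
        rw [val_rev] at v
        have hb := (π a).2
        rw [hmid]
        apply Fin.ext
        omega
  -- Step 3
  constructor
  · intro hB
    rw [mem_Bsub_iff] at hB hu
    rw [mem_Tsub_iff]
    intro a b hab
    rcases lt_or_gt_of_ne hab with hlt | hgt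
    · have h1 := hB (Fin.rev a) (Fin.rev b) (Fin.rev_lt_rev.2 hlt)
      rw [mono_conj_apply m π hπ u (Fin.rev a) (Fin.rev b), hπrev (Fin.rev a), hπrev (Fin.rev b),
        Fin.rev_rev, Fin.rev_rev] at h1
      have e1 := mono_inv_apply_ne_zero m π hπ (Fin.rev a)
      have e2 := mono_apply_ne_zero m π hπ (Fin.rev b)
      rw [hπrev, Fin.rev_rev] at e1 e2
      rcases mul_eq_zero.1 h1 with h2 | h2
      · rcases mul_eq_zero.1 h2 with h3 | h3
        · exact absurd h3 e1
        · exact h3
      · exact absurd h2 e2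
    · exact hu a b hgt
  · intro hT
    rw [mem_Tsub_iff] at hT
    rw [mem_Bsub_iff]
    intro a b hab
    rw [mono_conj_apply m π hπ u a b, hT (π a) (π b) (fun e => by
      have := π.injective e
      rw [this] at hab
      exact lt_irrefl _ hab)]
    simp

end Cfsg.Agent.Helper63.SuBNMXb
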