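import Cfsg.Agent.Helper6.SUrep3
import Cfsg.Agent.Helper48.SUA0

set_option autoImplicit false

namespace Cfsg.Agent.Helper63.SUrep

open Matrix Cfsg.Agent.Helper13 Module
open Cfsg.Agent.Helper6.SUrep

variable {F : Type*} [Field F] [Fintype F] {q n : ℕ}

local notation "⟪" x ", " y "⟫" => Cfsg.hermForm n F q x y

/-- (A1b), with the transitivity statement (A0c) as a hypothesis -/
theorem exists_conj_tvW_of_map (hF : Fintype.card F = q ^ 2) {W : Submodule F (Fin n → F)}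
    (u : Fin n → F) (huW : u ∈ W)
    (huu : ⟪u, u⟫ = 0) (κ : F) (hκ : κ ^ q = κ) (hκ0 : κ ≠ 0)
    (hmap : ∀ a : F, a ≠ 0 → ∃ g : suW q W, suMat (g : Cfsg.SU n F q) *ᵥ u = a • u) :
    ∃ g : suW q W, ∀ c : skewS hF,
      g * tvW hF W u huW huu c * g⁻¹ = tvW hF W u huW huu (mulSEquiv hF κ hκ hκ0 c) := by
  obtain ⟨a, ha⟩ := exists_norm_eq_of_fixed hF hκ
  have ha0 : a ≠ 0 := by
    rintro rfl
    rw [zero_mul] at ha
    exact hκ0 ha.symm
  obtain ⟨g, hg⟩ := hmap a ha0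
  refine ⟨g, fun c => ?_⟩
  rw [conj_tvW hF g u huW huu c]
  apply suW_ext
  rw [suMat_tvW, suMat_tvW, hg, unitaryTransvection_smul, mulSEquiv_coe, ← ha]
  congr 1
  ring

section A1

variable {M : Type*} [AddCommGroup M] [Module ℂ M]

/-- (A1b) the torus: every multiplication by a non-zero element of the fixed field on the root
group of `u` is induced by conjugation in `suW q W` -/
theorem exists_conj_tvW (hF : Fintype.card F = q ^ 2) {W : Submodule F (Fin n → F)}
    (hW : NonDeg q W) (hk : 3 ≤ finrank F W) (u : Fin n → F) (huW : u ∈ W) (hu0 : u ≠ 0)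
    (huu : ⟪u, u⟫ = 0) (κ : F) (hκ : κ ^ q = κ) (hκ0 : κ ≠ 0) :
    ∃ g : suW q W, ∀ c : skewS hF,
      g * tvW hF W u huW huu c * g⁻¹ = tvW hF W u huW huu (mulSEquiv hF κ hκ hκ0 c) := by
  apply exists_conj_tvW_of_map hF u huW huu κ hκ hκ0
  intro a ha
  exact Cfsg.Agent.Helper48.SUrep.exists_suW_map hF hW hk huW (W.smul_mem a huW) hu0
    (smul_ne_zero ha hu0) huu (hermForm_smul_self u a huu)

end A1

end Cfsg.Agent.Helper63.SUrep
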