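/-
helper63: pieces (U3) and (U5) of board #4781 (helper20, S0420: M11 is unique by its order).
-/
import Mathlib
import Cfsg.Agent.Helper12.OrbitalGen
import Cfsg.Agent.Helper12.PermCharBasics

set_option autoImplicit false

namespace Cfsg.Agent.Helper63.M11U35

open Cfsg Module LinearMap Cfsg.Agent.Helper12.Orbital Cfsg.Agent.Helper12.OrbitalGen Cfsg.Agent.Helper12.PermCharBasics
open scoped ComplexConjugate

universe u v

variable {G : Type u} [Group G] [Fintype G] {Ω : Type v} [Fintype Ω] [DecidableEq Ω] [MulAction G Ω]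

omit [Fintype Ω] in
theorem sum_stab_eq (a : Ω) (f : G → ℂ) [Fintype (MulAction.stabilizer G a)] :
    ∑ b : MulAction.stabilizer G a, f (b : G) = ∑ g : G, if g • a = a then f g else 0 := by
  classical
  rw [← Finset.sum_filter]
  exact (Finset.sum_subtype (Finset.univ.filter fun g : G => g • a = a)
    (by intro x; simp [MulAction.mem_stabilizer_iff]) f).symm

omit [Fintype Ω] in
theorem sum_stab_conj (a : Ω) (u : G) {f : G → ℂ} (hf : IsClassFunction G f) :
    (∑ g : G, if g • (u • a) = u • a then f g else 0) = ∑ g : G, if g • a = a then f g else 0 := by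
  rw [← Equiv.sum_comp (MulAut.conj u).toEquiv]
  refine Finset.sum_congr rfl fun h _ => ?_
  have h1 : (MulAut.conj u).toEquiv h = u * h * u⁻¹ := rfl
  rw [h1, hf h u]
  have h2 : (u * h * u⁻¹) • (u • a) = u • a ↔ h • a = a := by
    rw [mul_smul, inv_smul_smul, mul_smul, smul_left_cancel_iff]
  simp only [h2]

omit [Fintype G] in
theorem card_fixedBy_eq_sum (g : G) :
    (Nat.card (MulAction.fixedBy Ω g) : ℂ) = ∑ y : Ω, if g • y = y then 1 else 0 := by
  classical
  rw [Finset.sum_boole]
  congr 1
  rw [Nat.card_eq_fintype_card, Fintype.card_subtype]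
  rfl

theorem classInner_permChar_eq_stab_aux [MulAction.IsPretransitive G Ω] (a : Ω) {χ : G → ℂ} (hχ : IsClassFunction G χ)
    [Fintype (MulAction.stabilizer G a)] :
    classInner (permChar G Ω) χ = (Nat.card (MulAction.stabilizer G a) : ℂ)⁻¹ * ∑ b : MulAction.stabilizer G a, conj (χ (b : G)) := by
  classical
  have hχ' : IsClassFunction G (fun g => conj (χ g)) := by
    intro g h
    show conj (χ (h * g * h⁻¹)) = conj (χ g)
    rw [hχ g h]
  rw [sum_stab_eq a (fun g => conj (χ g))]
  unfold classInner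
  have h1 : ∑ g : G, permChar G Ω g * conj (χ g) = (Fintype.card Ω : ℂ) * ∑ g : G, if g • a = a then conj (χ g) else 0 := by
    have h2 : ∀ g : G, permChar G Ω g * conj (χ g) = ∑ y : Ω, if g • y = y then conj (χ g) else 0 := by
      intro g
      show (Nat.card (MulAction.fixedBy Ω g) : ℂ) * conj (χ g) = _
      rw [card_fixedBy_eq_sum, Finset.sum_mul]
      refine Finset.sum_congr rfl fun y _ => ?_
      split_ifs <;> simp
    simp only [h2]
    rw [Finset.sum_comm]
    have h3 : ∀ y : Ω, (∑ g : G, if g • y = y then conj (χ g) else 0) = ∑ g : G, if g • a = a then conj (χ g) else 0 := by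
      intro y
      obtain ⟨u, rfl⟩ := MulAction.exists_smul_eq G a y
      exact sum_stab_conj a u hχ'
    simp only [h3]
    rw [Finset.sum_const, Finset.card_univ, nsmul_eq_mul]
  rw [h1]
  have h4 : Nat.card G = Fintype.card Ω * Nat.card (MulAction.stabilizer G a) := by
    have h5 := MulAction.card_orbit_mul_card_stabilizer_eq_card_group G a
    simp only [← Nat.card_eq_fintype_card] at h5
    rw [← h5, MulAction.orbit_eq_univ, Nat.card_coe_set_eq, Set.ncard_univ, Nat.card_eq_fintype_card]
  have hΩ : (Fintype.card Ω : ℂ) ≠ 0 := by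
    have : Nonempty Ω := ⟨a⟩
    exact_mod_cast Fintype.card_ne_zero
  have hS : (Nat.card (MulAction.stabilizer G a) : ℂ) ≠ 0 := by
    exact_mod_cast Nat.card_pos.ne'
  rw [h4, Nat.cast_mul]
  field_simp

open Classical in
theorem classInner_permChar_eq_stab [MulAction.IsPretransitive G Ω] (a : Ω) {χ : G → ℂ} (hχ : IsClassFunction G χ) :
    classInner (permChar G Ω) χ = (Nat.card (MulAction.stabilizer G a) : ℂ)⁻¹ * ∑ b : MulAction.stabilizer G a, conj (χ (b : G)) :=
  classInner_permChar_eq_stab_aux a hχ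

omit [Fintype G] in
theorem adj_single (R : Ω → Ω → Prop) [DecidableRel R] (z y : Ω) :
    adj R (Pi.single z 1) y = if R y z then 1 else 0 := by
  rw [adj_apply, Finset.sum_eq_single z]
  · rw [Pi.single_eq_same]
  · intro b _ hb
    rw [Pi.single_eq_of_ne hb]
    simp
  · intro h
    exact absurd (Finset.mem_univ z) h

theorem exists_subgroup_of_adj_sq [MulAction.IsPretransitive G Ω] (a : Ω) (R : Ω → Ω → Prop) [DecidableRel R] (hR : ∀ (g : G) x y, R (g • x) (g • y) ↔ R x y) (hsymm : ∀ x y, R x y → R y x) (hirr : ∀ x, ¬ R x x) (k : ℕ) (hk : ∀ x, (Finset.univ.filter fun y => R x y).card = k) (hadj : adj R ∘ₗ adj R = ((k : ℂ) - 1) • adj R + (k : ℂ) • (LinearMap.id : (Ω → ℂ) →ₗ[ℂ] (Ω → ℂ))) :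
    ∃ L : Subgroup G, (∀ g : G, g ∈ L ↔ (g • a = a ∨ R a (g • a))) ∧ Nat.card L = Nat.card (MulAction.stabilizer G a) * (k + 1) := by
  classical
  have hcount : ∀ x z : Ω, ((Finset.univ.filter fun y => R x y ∧ R y z).card : ℂ)
      = ((k : ℂ) - 1) * (if R x z then 1 else 0) + (k : ℂ) * (if x = z then 1 else 0) := by
    intro x z
    have h1 := congrArg (fun f : (Ω → ℂ) →ₗ[ℂ] (Ω → ℂ) => f (Pi.single z 1) x) hadj
    simp only [LinearMap.comp_apply, LinearMap.add_apply, LinearMap.smul_apply,
      LinearMap.id_apply, Pi.add_apply, Pi.smul_apply, smul_eq_mul] at h1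
    rw [adj_single, adj_apply] at h1
    simp only [adj_single] at h1
    rw [Pi.single_apply] at h1
    rw [← h1, Finset.card_filter, Nat.cast_sum]
    refine Finset.sum_congr rfl fun y _ => ?_
    by_cases h2 : R x y <;> by_cases h3 : R y z <;> simp [h2, h3]
  have htrans : ∀ x y z : Ω, R x y → R y z → x = z ∨ R x z := by
    intro x y z hxy hyz
    by_contra hcon
    push Not at hcon
    have h1 := hcount x z
    rw [if_neg hcon.2, if_neg hcon.1, mul_zero, mul_zero, add_zero] at h1
    have h2 : (Finset.univ.filter fun y => R x y ∧ R y z).card = 0 := by exact_mod_cast h1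
    rw [Finset.card_eq_zero] at h2
    have : y ∈ (Finset.univ.filter fun y => R x y ∧ R y z) :=
      Finset.mem_filter.2 ⟨Finset.mem_univ _, hxy, hyz⟩
    rw [h2] at this
    exact absurd this (Finset.notMem_empty _)
  -- the equivalence relation
  have hEtrans : ∀ x y z : Ω, (y = x ∨ R x y) → (z = y ∨ R y z) → (z = x ∨ R x z) := by
    rintro x y z (rfl | hxy) (rfl | hyz)
    · exact Or.inl rfl
    · exact Or.inr hyz
    · exact Or.inr hxy
    · rcases htrans x y z hxy hyz with h | h
      · exact Or.inl h.symm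
      · exact Or.inr h
  have hEsymm : ∀ x y : Ω, (y = x ∨ R x y) → (x = y ∨ R y x) := by
    rintro x y (rfl | h)
    · exact Or.inl rfl
    · exact Or.inr (hsymm _ _ h)
  have hEinv : ∀ (g : G) (x y : Ω), (g • y = g • x ∨ R (g • x) (g • y)) ↔ (y = x ∨ R x y) := by
    intro g x y
    rw [hR, smul_left_cancel_iff]
  let L : Subgroup G :=
    { carrier := {g | g • a = a ∨ R a (g • a)}
      one_mem' := Or.inl (one_smul _ _)
      mul_mem' := by
        intro g h hg hh
        have h1 : (g • (h • a) = g • a ∨ R (g • a) (g • (h • a))) := (hEinv g a (h • a)).2 hh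
        have h2 := hEtrans a (g • a) (g • (h • a)) hg h1
        show (g * h) • a = a ∨ R a ((g * h) • a)
        rw [mul_smul]
        exact h2
      inv_mem' := by
        intro g hg
        have h1 : (g⁻¹ • (g • a) = g⁻¹ • a ∨ R (g⁻¹ • a) (g⁻¹ • (g • a))) := (hEinv g⁻¹ a (g • a)).2 hg
        rw [inv_smul_smul] at h1
        exact hEsymm _ _ h1 }
  have hmemL : ∀ g : G, g ∈ L ↔ (g • a = a ∨ R a (g • a)) := fun g => Iff.rfl
  refine ⟨L, hmemL, ?_⟩
  have h1 := MulAction.card_orbit_mul_card_stabilizer_eq_card_group L a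
  simp only [← Nat.card_eq_fintype_card] at h1
  have horb : MulAction.orbit L a = {y | y = a ∨ R a y} := by
    ext y
    constructor
    · rintro ⟨⟨g, hg⟩, rfl⟩
      exact hg
    · intro hy
      obtain ⟨g, rfl⟩ := MulAction.exists_smul_eq G a y
      exact ⟨⟨g, hy⟩, rfl⟩
  have h2 : Nat.card (MulAction.orbit L a) = k + 1 := by
    rw [horb, Set.coe_ofPred, Nat.card_eq_fintype_card, Fintype.card_subtype]
    have h3 : (Finset.univ.filter fun y => y = a ∨ R a y) = insert a (Finset.univ.filter fun y => R a y) := by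
      ext y
      simp
    rw [h3, Finset.card_insert_of_notMem, hk a]
    simp [hirr]
  have h3 : Nat.card (MulAction.stabilizer L a) = Nat.card (MulAction.stabilizer G a) := by
    refine Nat.card_congr ⟨fun g => ⟨g.1.1, g.2⟩, fun g => ⟨⟨g.1, Or.inl g.2⟩, g.2⟩, ?_, ?_⟩
    · intro g; rfl
    · intro g; rfl
  rw [← h1, h2, h3, mul_comm]

end Cfsg.Agent.Helper63.M11U35
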