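import Mathlib
import Cfsg.Agent.Helper21.A6Defs

set_option autoImplicit false

namespace Cfsg.Agent.Helper63.A6GA0

open Cfsg.Agent.Helper21.A6

universe u
variable {G : Type u} [Group G] [Finite G]

/-- (GA0) -/
theorem basisStmt (T : Subgroup G) (hT : Hyp T) : BasisStmt T := by
  intro x hx hx1 y hy hyx
  have hx3 : x ^ 3 = 1 := hT.expT x hx
  have hy3 : y ^ 3 = 1 := hT.expT y hy
  have hy1 : y ≠ 1 := by simpa using hyx 0
  have hox : orderOf x = 3 := orderOf_eq_prime hx3 hx1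
  have hoy : orderOf y = 3 := orderOf_eq_prime hy3 hy1
  have indep : ∀ i k : ℕ, x ^ i = y ^ k → x ^ i = 1 := by
    intro i k h
    rw [pow_eq_pow_mod k hy3] at h
    have hk : k % 3 < 3 := Nat.mod_lt _ (by norm_num)
    interval_cases hk' : k % 3
    · rw [h, pow_zero]
    · rw [pow_one] at h
      exact absurd h.symm (hyx i)
    · exfalso
      apply hyx (2 * i)
      calc y = (y ^ 2) ^ 2 := by
            rw [← pow_mul]
            show y = y ^ (3 + 1)
            rw [pow_add, hy3, one_mul, pow_one]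
        _ = (x ^ i) ^ 2 := by rw [h]
        _ = x ^ (2 * i) := by rw [← pow_mul, mul_comm]
  refine ⟨indep, ?_⟩
  -- the map `(i, k) ↦ x ^ i * y ^ k` is injective, hence surjective
  let f : Fin 3 × Fin 3 → T := fun p =>
    ⟨x ^ (p.1 : ℕ) * y ^ (p.2 : ℕ), T.mul_mem (T.pow_mem hx _) (T.pow_mem hy _)⟩
  have hinj : Function.Injective f := by
    rintro ⟨i, k⟩ ⟨i', k'⟩ h
    have h0 : x ^ (i : ℕ) * y ^ (k : ℕ) = x ^ (i' : ℕ) * y ^ (k' : ℕ) := congrArg Subtype.val h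
    have hi : (i : ℕ) < 3 := i.2
    have hi' : (i' : ℕ) < 3 := i'.2
    have hk : (k : ℕ) < 3 := k.2
    have hk' : (k' : ℕ) < 3 := k'.2
    have h1 : x ^ (3 - (i' : ℕ) + i) = y ^ ((k' : ℕ) + (3 - k)) := by
      calc x ^ (3 - (i' : ℕ) + i) = x ^ (3 - (i' : ℕ)) * (x ^ (i : ℕ) * y ^ (k : ℕ)) * y ^ (3 - (k : ℕ)) := by
            rw [mul_assoc, mul_assoc, ← pow_add y, Nat.add_sub_cancel' hk.le, hy3, mul_one, ← pow_add]
        _ = x ^ (3 - (i' : ℕ)) * (x ^ (i' : ℕ) * y ^ (k' : ℕ)) * y ^ (3 - (k : ℕ)) := by rw [h0]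
        _ = y ^ ((k' : ℕ) + (3 - k)) := by
            rw [← mul_assoc, ← pow_add x, Nat.sub_add_cancel hi'.le, hx3, one_mul, ← pow_add]
    have h2 := indep _ _ h1
    have h3 : y ^ ((k' : ℕ) + (3 - k)) = 1 := by rw [← h1, h2]
    have d1 := orderOf_dvd_of_pow_eq_one h2
    have d2 := orderOf_dvd_of_pow_eq_one h3
    rw [hox] at d1
    rw [hoy] at d2
    have e1 : (i : ℕ) = i' := by omega
    have e2 : (k : ℕ) = k' := by omega
    exact Prod.ext (Fin.ext e1) (Fin.ext e2)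
  have hbij : Function.Bijective f := by
    apply hinj.bijective_of_nat_card_le
    rw [hT.cardT]
    simp
  intro s hs
  obtain ⟨⟨i, k⟩, hik⟩ := hbij.2 ⟨s, hs⟩
  exact ⟨i, k, (congrArg Subtype.val hik).symm⟩

end Cfsg.Agent.Helper63.A6GA0
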