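import Mathlib
import Cfsg.Agent.Helper21.A6Defs

set_option autoImplicit false

namespace Cfsg.Agent.Helper63.A6GA4

open Cfsg.Agent.Helper21.A6

universe u
variable {G : Type u} [Group G] [Finite G]

/-- the index of `T` in its normalizer -/
theorem index_subgroupOf_normalizer (T : Subgroup G) (c e : ℕ) (hc : Nat.card T = c) (hc0 : 0 < c)
    (hN : Nat.card (Subgroup.normalizer (T : Set G)) = c * e) :
    (T.subgroupOf (Subgroup.normalizer (T : Set G))).index = e := by
  have h1 := Subgroup.card_mul_index (T.subgroupOf (Subgroup.normalizer (T : Set G)))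
  rw [Nat.card_congr (Subgroup.subgroupOfEquivOfLe (Subgroup.le_normalizer (H := T))).toEquiv,
    hc, hN] at h1
  exact Nat.eq_of_mul_eq_mul_left hc0 h1

/-- a basis `x, y` of `T` -/
theorem exists_basis (T : Subgroup G) (hT : Hyp T) :
    ∃ x y : G, x ∈ T ∧ y ∈ T ∧ x ≠ 1 ∧ ∀ i : ℕ, y ≠ x ^ i := by
  rcases T.bot_or_exists_ne_one with h | ⟨x, hx, hx1⟩
  · exfalso
    have := hT.cardT
    rw [h, Subgroup.card_bot] at this
    omega
  · have hx3 := hT.expT x hx
    have hox : orderOf x = 3 := orderOf_eq_prime hx3 hx1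
    have hnle : ¬ T ≤ Subgroup.zpowers x := by
      intro hle
      have := Subgroup.card_le_of_le hle
      rw [hT.cardT, Nat.card_zpowers, hox] at this
      omega
    obtain ⟨y, hy, hyx⟩ := SetLike.not_le_iff_exists.1 hnle
    refine ⟨x, y, hx, hy, hx1, ?_⟩
    intro i h
    exact hyx (h ▸ Subgroup.npow_mem_zpowers x i)

/-- (GA4) -/
theorem exists_ndata2 (T : Subgroup G) (hT : Hyp T) (hb : BasisStmt T)
    (hN : Nat.card (Subgroup.normalizer (T : Set G)) = 18) :
    ∃ x y t : G, NData2 T x y t := by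
  have hidx : (T.subgroupOf (Subgroup.normalizer (T : Set G))).index = 2 :=
    index_subgroupOf_normalizer T 9 2 hT.cardT (by norm_num) hN
  -- an element of `N \ T`
  have hnle : ¬ Subgroup.normalizer (T : Set G) ≤ T := by
    intro hle
    have := Subgroup.card_le_of_le hle
    rw [hN, hT.cardT] at this
    omega
  obtain ⟨t, htN, htT⟩ := SetLike.not_le_iff_exists.1 hnle
  have ht2 : t ^ 2 ∈ T := by
    have := Subgroup.sq_mem_of_index_two hidx (⟨t, htN⟩ : Subgroup.normalizer (T : Set G))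
    rwa [Subgroup.mem_subgroupOf] at this
  have hinv := hT.inverts_of_sq_mem htN htT ht2
  obtain ⟨x, y, hx, hy, hx1, hyx⟩ := exists_basis T hT
  obtain ⟨indep, memT⟩ := hb x hx hx1 y hy hyx
  have hy1 : y ≠ 1 := by simpa using hyx 0
  refine ⟨x, y, t, hT.expT x hx, hT.expT y hy, hx1, hy1, hT.commT x hx y hy, hT.commT, hx, hy,
    indep, memT, htN, hinv x hx, hinv y hy, ?_⟩
  intro n hn
  by_cases hnT : n ∈ T
  · exact ⟨n, hnT, Or.inl rfl⟩
  · refine ⟨n * t⁻¹, ?_, Or.inr (by group)⟩
    have h1 : (⟨n, hn⟩ : Subgroup.normalizer (T : Set G)) * (⟨t, htN⟩)⁻¹ ∈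
        T.subgroupOf (Subgroup.normalizer (T : Set G)) := by
      rw [Subgroup.mul_mem_iff_of_index_two hidx]
      constructor
      · intro h
        exact absurd (Subgroup.mem_subgroupOf.1 h) hnT
      · intro h
        rw [inv_mem_iff] at h
        exact absurd (Subgroup.mem_subgroupOf.1 h) htT
    exact Subgroup.mem_subgroupOf.1 h1

end Cfsg.Agent.Helper63.A6GA4
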