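import Mathlib

/-!
# Counting subgroups of order `p` in a group of order `p²` and exponent `p` (helper63)

* `card_subgroups_card_eq_prime`: a group of order `p ^ 2` in which every element satisfies
  `x ^ p = 1` has exactly `p + 1` subgroups of order `p`.
-/

set_option autoImplicit false

namespace Cfsg.Agent.Helper63

/-- A group of order `p ^ 2` and exponent `p` has exactly `p + 1` subgroups of order `p`. -/
theorem card_subgroups_card_eq_prime {V : Type*} [Group V] {p : ℕ} [hp : Fact p.Prime]
    (hV : Nat.card V = p ^ 2) (hexp : ∀ x : V, x ^ p = 1) :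
    Nat.card {D : Subgroup V // Nat.card D = p} = p + 1 := by
  classical
  have hfin : Finite V := Nat.finite_of_card_ne_zero (by rw [hV]; exact pow_ne_zero _ hp.out.ne_zero)
  have : Fintype V := Fintype.ofFinite V
  have hord : ∀ x : V, x ≠ 1 → orderOf x = p := fun x hx => orderOf_eq_prime (hexp x) hx
  -- the map from nonidentity elements to subgroups of order p
  let f : {x : V // x ≠ 1} → {D : Subgroup V // Nat.card D = p} := fun x =>
    ⟨Subgroup.zpowers x.1, by rw [Nat.card_zpowers, hord x.1 x.2]⟩
  -- each fibre has p - 1 elements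
  have hfib : ∀ D : {D : Subgroup V // Nat.card D = p},
      Nat.card {x : {x : V // x ≠ 1} // f x = D} = p - 1 := by
    intro D
    have hD : ∀ x : V, x ≠ 1 → x ∈ D.1 → Subgroup.zpowers x = D.1 := by
      intro x hx hxD
      have hle : Subgroup.zpowers x ≤ D.1 := (Subgroup.zpowers_le).mpr hxD
      have hfinD : Finite D.1 := inferInstance
      refine Subgroup.eq_of_le_of_card_ge hle ?_
      rw [Nat.card_zpowers, hord x hx, D.2]
    let e : {x : {x : V // x ≠ 1} // f x = D} ≃ {y : D.1 // y ≠ 1} :=
      { toFun := fun x => ⟨⟨x.1.1, by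
            have h := x.2
            have h' : Subgroup.zpowers x.1.1 = D.1 := congrArg Subtype.val h
            rw [← h']
            exact Subgroup.mem_zpowers _⟩, fun h => x.1.2 (congrArg Subtype.val h)⟩
        invFun := fun y => ⟨⟨y.1.1, fun h => y.2 (Subtype.ext h)⟩,
          Subtype.ext (hD y.1.1 (fun h => y.2 (Subtype.ext h)) y.1.2)⟩
        left_inv := fun x => by rfl
        right_inv := fun y => by rfl }
    rw [Nat.card_congr e]
    have : Fintype D.1 := Fintype.ofFinite _
    rw [Nat.card_eq_fintype_card]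
    have h1 := Set.card_ne_eq (1 : D.1)
    have h2 : Fintype.card {y : D.1 // y ≠ 1} = Fintype.card {y : D.1 | y ≠ 1} :=
      Fintype.card_congr (Equiv.refl _)
    rw [h2, h1, ← Nat.card_eq_fintype_card, D.2]
  -- total count
  have hT : Nat.card {x : V // x ≠ 1} = p ^ 2 - 1 := by
    rw [Nat.card_eq_fintype_card]
    have h1 := Set.card_ne_eq (1 : V)
    have h2 : Fintype.card {y : V // y ≠ 1} = Fintype.card {y : V | y ≠ 1} :=
      Fintype.card_congr (Equiv.refl _)
    rw [h2, h1, ← Nat.card_eq_fintype_card, hV]
  have hfinX : Finite {D : Subgroup V // Nat.card D = p} := inferInstance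
  have : Fintype {D : Subgroup V // Nat.card D = p} := Fintype.ofFinite _
  have hsum : Nat.card {x : V // x ≠ 1} =
      Nat.card {D : Subgroup V // Nat.card D = p} * (p - 1) := by
    rw [← Nat.card_congr (Equiv.sigmaFiberEquiv f), Nat.card_sigma]
    simp only [hfib, Finset.sum_const, Finset.card_univ, smul_eq_mul, Nat.card_eq_fintype_card]
  rw [hT] at hsum
  have hp1 : 0 < p - 1 := Nat.sub_pos_of_lt hp.out.one_lt
  have hfact : p ^ 2 - 1 = (p + 1) * (p - 1) := by
    have h1 : 1 ≤ p := hp.out.one_lt.le
    obtain ⟨k, rfl⟩ : ∃ k, p = k + 1 := ⟨p - 1, by omega⟩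
    simp only [Nat.add_sub_cancel]
    ring_nf
    omega
  rw [hfact] at hsum
  exact (Nat.eq_of_mul_eq_mul_right hp1 hsum).symm

end Cfsg.Agent.Helper63
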