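import Mathlib
import Cfsg.Prelude.Def_OddOrderLocal
import Cfsg.Agent.Helper23.BG13E
import Cfsg.Agent.Helper71.BGHall
import Cfsg.Agent.Helper10.SolvMinNormal
import Cfsg.Agent.Helper67.CyclicSub

/-!
# General group theory for Lemma Sigma (the `σ`-case of B-G 13.5; helper53's proof, board `#3398`)

* `exists_card_eq_prime_le`: a nontrivial `t`-group has a subgroup of order `t`;
* `exists_normal_pComplement_of_not_dvd_commutator`: if `p ∤ |M'|` then `M` has a normal
  `p`-complement `K` (containing every `p'`-subgroup of `M`);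
* `exists_normal_card_prime`: a nontrivial solvable group all of whose Sylow subgroups are cyclic
  (here: `p`-rank at most one for all `p`, odd order) has a normal subgroup of prime order;
* `exists_cj_le_normalizer`: in a solvable group `C` of odd order with `t`-rank and `u`-rank at most
  one, subgroups `Y`, `Z` of orders `t ≠ u`: a `C`-conjugate of `Z` normalizes `Y`, or a
  `C`-conjugate of `Y` normalizes `Z`.
-/

set_option autoImplicit false
set_option linter.unusedVariables false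
set_option linter.unusedSectionVars false
set_option linter.style.haveILetI false

namespace Cfsg.Agent.Helper63.BGSigma

open Cfsg Cfsg.Agent.Helper29 Cfsg.Agent.Helper29.BG10 Cfsg.Agent.Helper29.BG11
  Cfsg.Agent.Helper1.BG12 Cfsg.Agent.Helper23.BG13
open scoped commutatorElement Pointwise

variable {G : Type*} [Group G] [Finite G]

/-- a nontrivial `t`-group has a subgroup of order `t` -/
theorem exists_card_eq_prime_le {t : ℕ} [ht : Fact t.Prime] {X : Subgroup G} (hX : IsPGroup t X)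
    (hX1 : X ≠ ⊥) : ∃ Y : Subgroup G, Y ≤ X ∧ Nat.card Y = t := by
  have hd : t ∣ Nat.card X := dvd_card_of_isPGroup_ne_bot hX hX1
  obtain ⟨x, hx⟩ := exists_prime_orderOf_dvd_card' t hd
  refine ⟨(Subgroup.zpowers x).map X.subtype, Subgroup.map_subtype_le _, ?_⟩
  rw [Subgroup.card_map_of_injective X.subtype_injective, Nat.card_zpowers, hx]

/-- abstract version: a finite group `Γ` with `p ∤ |Γ'|` has a normal subgroup of order prime to `p`
containing all `p'`-elements -/
theorem exists_normal_pComplement_abstract {Γ : Type*} [Group Γ] [Finite Γ] {p : ℕ} [hp : Fact p.Prime]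
    (h : ¬ p ∣ Nat.card (commutator Γ)) :
    ∃ K : Subgroup Γ, K.Normal ∧ ¬ p ∣ Nat.card K ∧ ∀ x : Γ, (orderOf x).Coprime p → x ∈ K := by
  have hpp : p.Prime := hp.out
  set n := Nat.card Γ with hn
  have hn0 : n ≠ 0 := Nat.card_pos.ne'
  set m := ordCompl[p] n with hm
  have hmcop : m.Coprime p := (Nat.coprime_ordCompl hpp hn0).symm
  let f : Γ →* Abelianization Γ := (powMonoidHom m).comp Abelianization.of
  have hmem : ∀ x : Γ, x ∈ f.ker ↔ x ^ m ∈ commutator Γ := by
    intro x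
    rw [MonoidHom.mem_ker]
    show (Abelianization.of x) ^ m = 1 ↔ _
    rw [← map_pow, ← MonoidHom.mem_ker, Abelianization.ker_of]
  refine ⟨f.ker, inferInstance, ?_, ?_⟩
  · intro hd
    obtain ⟨x, hx⟩ := exists_prime_orderOf_dvd_card' p hd
    have hxm : (x : Γ) ^ m ∈ commutator Γ := (hmem x).1 x.2
    have hxp : (x : Γ) ^ p = 1 := by
      have : x ^ p = 1 := by rw [← hx]; exact pow_orderOf_eq_one x
      simpa using congrArg Subtype.val this
    have h1 : orderOf ((x : Γ) ^ m) ∣ p := by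
      apply orderOf_dvd_of_pow_eq_one
      rw [← pow_mul, mul_comm, pow_mul, hxp, one_pow]
    have h2 : orderOf ((x : Γ) ^ m) ∣ Nat.card (commutator Γ) := by
      have := Subgroup.orderOf_dvd_natCard (commutator Γ) hxm
      exact this
    have h3 : orderOf ((x : Γ) ^ m) = 1 := by
      rcases (Nat.dvd_prime hpp).1 h1 with h | h
      · exact h
      · exact absurd (h ▸ h2) ‹¬ p ∣ Nat.card (commutator Γ)›
    rw [orderOf_eq_one_iff] at h3
    have h4 : orderOf (x : Γ) ∣ m := orderOf_dvd_of_pow_eq_one h3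
    rw [Subgroup.orderOf_coe, hx] at h4
    exact (Nat.Prime.coprime_iff_not_dvd hpp).1 hmcop.symm h4
  · intro x hx
    rw [hmem]
    have h1 : orderOf x ∣ n := orderOf_dvd_natCard x
    have h2 : orderOf x ∣ m := by
      have : n = ordProj[p] n * m := (Nat.ordProj_mul_ordCompl_eq_self n p).symm
      rw [this] at h1
      exact (Nat.Coprime.pow_right _ hx).dvd_of_dvd_mul_left h1
    rw [orderOf_dvd_iff_pow_eq_one.1 h2]
    exact one_mem _

/-- if `p ∤ |M'|` then `M` has a normal `p`-complement `K`, which contains every `p'`-subgroup of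
`M` -/
theorem exists_normal_pComplement_of_not_dvd_commutator {p : ℕ} [hp : Fact p.Prime] {M : Subgroup G}
    (h : ¬ p ∣ Nat.card ↥⁅M, M⁆) :
    ∃ K : Subgroup G, K ≤ M ∧ M ≤ Subgroup.normalizer (K : Set G) ∧ ¬ p ∣ Nat.card K ∧
      ∀ X : Subgroup G, X ≤ M → (Nat.card X).Coprime p → X ≤ K := by
  have hc : Nat.card (commutator ↥M) = Nat.card ↥⁅M, M⁆ := by
    rw [← Subgroup.map_subtype_commutator M, Subgroup.card_map_of_injective M.subtype_injective]
  rw [← hc] at h
  obtain ⟨K0, hK0n, hK0p, hK0⟩ := exists_normal_pComplement_abstract h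
  refine ⟨K0.map M.subtype, Subgroup.map_subtype_le _,
    Cfsg.Agent.Helper64.BG1217D.le_normalizer_map_subtype K0, ?_, ?_⟩
  · rwa [Subgroup.card_map_of_injective M.subtype_injective]
  · intro X hXM hXc x hx
    refine ⟨⟨x, hXM hx⟩, hK0 _ ?_, rfl⟩
    rw [Subgroup.orderOf_mk]
    exact Nat.Coprime.coprime_dvd_left (Subgroup.orderOf_dvd_natCard X hx) hXc

/-- a nontrivial solvable subgroup `J ≤ H`, with `H` of `s`-rank at most one for every prime divisor
`s` of `|J|`, has a normal subgroup of prime order -/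
theorem exists_normal_card_prime {J H : Subgroup G} (hJH : J ≤ H) (hsolv : Group.IsSolvable ↥J)
    (hJ1 : J ≠ ⊥) (hrk : ∀ s : ℕ, s.Prime → s ∣ Nat.card J → Cfsg.PRankLE s 1 ↥H) :
    ∃ (Ω : Subgroup G) (s : ℕ), s.Prime ∧ Ω ≤ J ∧ J ≤ Subgroup.normalizer (Ω : Set G) ∧
      Nat.card Ω = s := by
  classical
  -- a minimal normal subgroup of `↥J`
  have hex : ∃ N : Subgroup ↥J, N.Normal ∧ N ≠ ⊥ := by
    refine ⟨⊤, inferInstance, ?_⟩
    intro h
    apply hJ1
    rw [eq_bot_iff]
    intro x hx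
    have : (⟨x, hx⟩ : ↥J) ∈ (⊤ : Subgroup ↥J) := Subgroup.mem_top _
    rw [h, Subgroup.mem_bot] at this
    rw [Subgroup.mem_bot]
    exact congrArg Subtype.val this
  obtain ⟨N, hNmin⟩ := exists_minimal_of_wellFoundedLT
    (fun N : Subgroup ↥J => N.Normal ∧ N ≠ ⊥) hex
  obtain ⟨⟨hNn, hN1⟩, hmin⟩ := hNmin
  haveI := hNn
  have hmin' : ∀ K : Subgroup ↥J, K.Normal → K ≤ N → K = ⊥ ∨ K = N := by
    intro K hK hKN
    by_cases hK1 : K = ⊥
    · exact Or.inl hK1
    · exact Or.inr (le_antisymm hKN (hmin ⟨hK, hK1⟩ hKN))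
  have hab := Cfsg.Agent.Helper10.minNormal_commutative_of_solvable N hN1 hmin'
  obtain ⟨s, hs, hexp, d, hd0, hcard⟩ :=
    Cfsg.Agent.Helper10.minNormal_elementary_of_solvable N hN1 hmin'
  set Ω : Subgroup G := N.map J.subtype with hΩ
  have hΩJ : Ω ≤ J := Subgroup.map_subtype_le _
  have hΩc : Nat.card Ω = s ^ d := by
    rw [hΩ, Subgroup.card_map_of_injective J.subtype_injective, hcard]
  have hsJ : s ∣ Nat.card J := by
    have h1 : s ∣ Nat.card Ω := by rw [hΩc]; exact dvd_pow_self s hd0.ne'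
    exact h1.trans (Subgroup.card_dvd_of_le hΩJ)
  have hΩe : Cfsg.IsElementaryAbelian s Ω := by
    refine ⟨⟨⟨?_⟩⟩, ?_⟩
    · rintro ⟨_, a, ha, rfl⟩ ⟨_, b, hb, rfl⟩
      apply Subtype.ext
      show (a : G) * (b : G) = (b : G) * (a : G)
      have := hab a ha b hb
      exact congrArg Subtype.val this
    · rintro _ ⟨a, ha, rfl⟩
      have := hexp a ha
      show ((a : G)) ^ s = 1
      exact_mod_cast congrArg Subtype.val this
  have hle : Nat.card Ω ≤ s ^ 1 := by
    by_contra hlt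
    push Not at hlt
    exact (Cfsg.Agent.Helper23.not_pRankLE_subgroup_iff s 1 H).2
      ⟨Ω, hΩJ.trans hJH, hΩe, hlt⟩ (hrk s hs hsJ)
  have hd1 : d = 1 := by
    rw [hΩc] at hle
    have := (Nat.pow_le_pow_iff_right hs.one_lt).1 hle
    omega
  refine ⟨Ω, s, hs, hΩJ, Cfsg.Agent.Helper64.BG1217D.le_normalizer_map_subtype N, ?_⟩
  rw [hΩc, hd1, pow_one]

omit [Finite G] in
theorem conj_smul_eq_cj (g : G) (H : Subgroup G) : MulAut.conj g • H = cj g H := rfl

/-- two subgroups of the same prime order `t` of a subgroup `H` of `t`-rank at most one, one of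
which normalizes the other, are equal -/
theorem eq_of_card_prime_of_le_normalizer (hodd : Odd (Nat.card G)) {t : ℕ} [ht : Fact t.Prime]
    {H Y Ω : Subgroup G} (hrk : Cfsg.PRankLE t 1 ↥H) (hYH : Y ≤ H) (hΩH : Ω ≤ H)
    (hYc : Nat.card Y = t) (hΩc : Nat.card Ω = t) (hn : Y ≤ Subgroup.normalizer (Ω : Set G)) :
    Y = Ω := by
  have hYt : IsPGroup t Y := IsPGroup.of_card (n := 1) (by rw [hYc, pow_one])
  have hΩt : IsPGroup t Ω := IsPGroup.of_card (n := 1) (by rw [hΩc, pow_one])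
  have hsup : IsPGroup t ↥(Y ⊔ Ω) := IsPGroup.to_sup_of_normal_right' hYt hΩt hn
  haveI : IsCyclic ↥(Y ⊔ Ω) :=
    isCyclic_of_isPGroup_of_pRankLE_one hodd hsup (pRankLE_mono (sup_le hYH hΩH) hrk)
  exact Cfsg.Agent.Helper67.eq_of_card_eq_of_le_cyclic (Y ⊔ Ω) Y Ω le_sup_left le_sup_right
    (hYc.trans hΩc.symm)

/-- In a solvable subgroup `C ≤ H` (odd order), with `H` of `t`-rank and `u`-rank at most one,
let `Y, Z ≤ C` have orders `t ≠ u`.  Then a `C`-conjugate of `Z` normalizes `Y`, or a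
`C`-conjugate of `Y` normalizes `Z`. -/
theorem exists_cj_le_normalizer (hodd : Odd (Nat.card G)) {C H : Subgroup G} (hCH : C ≤ H)
    (hsolv : Group.IsSolvable ↥C) {t u : ℕ} [ht : Fact t.Prime] [hu : Fact u.Prime]
    (hrt : Cfsg.PRankLE t 1 ↥H) (hru : Cfsg.PRankLE u 1 ↥H) {Y Z : Subgroup G}
    (hYC : Y ≤ C) (hZC : Z ≤ C) (hYc : Nat.card Y = t) (hZc : Nat.card Z = u) :
    (∃ c ∈ C, cj c Z ≤ Subgroup.normalizer (Y : Set G)) ∨
      (∃ c ∈ C, cj c Y ≤ Subgroup.normalizer (Z : Set G)) := by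
  classical
  haveI := hsolv
  set π : Set ℕ := {t, u} with hπ
  have hYπ : ∀ s : ℕ, s.Prime → s ∣ Nat.card Y → s ∈ π := by
    intro s hs hd
    rw [hYc] at hd
    left
    exact (Nat.prime_dvd_prime_iff_eq hs ht.out).1 hd
  have hZπ : ∀ s : ℕ, s.Prime → s ∣ Nat.card Z → s ∈ π := by
    intro s hs hd
    rw [hZc] at hd
    right
    exact (Nat.prime_dvd_prime_iff_eq hs hu.out).1 hd
  obtain ⟨J, hJ, hYJ⟩ := Cfsg.Agent.Helper71.BGHall.exists_isPiHallOf_ge π C hYC hYπ
  obtain ⟨J', hJ', hZJ'⟩ := Cfsg.Agent.Helper71.BGHall.exists_isPiHallOf_ge π C hZC hZπ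
  obtain ⟨g, hgC, hg⟩ := Cfsg.Agent.Helper62.isPiHallOf_conj_of_solvable hJ' hJ
  rw [conj_smul_eq_cj] at hg
  have hZJ : cj g Z ≤ J := by rw [← hg]; exact cj_mono hZJ'
  have hJC : J ≤ C := hJ.1
  have hJsolv : Group.IsSolvable ↥J :=
    Group.isSolvable_of_isSolvable_injective (Subgroup.inclusion_injective hJC)
  have hJ1 : J ≠ ⊥ := by
    intro h
    rw [h, le_bot_iff] at hYJ
    rw [hYJ, Subgroup.card_bot] at hYc
    exact ht.out.one_lt.ne hYc
  have hrk : ∀ s : ℕ, s.Prime → s ∣ Nat.card J → Cfsg.PRankLE s 1 ↥H := by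
    intro s hs hd
    rcases hJ.2.1 s hs hd with h | h
    · rw [h]; exact hrt
    · rw [Set.mem_singleton_iff] at h; rw [h]; exact hru
  obtain ⟨Ω, s, hs, hΩJ, hJΩ, hΩc⟩ := exists_normal_card_prime (hJC.trans hCH) hJsolv hJ1 hrk
  have hsπ : s ∈ π := by
    apply hJ.2.1 s hs
    rw [← hΩc]; exact Subgroup.card_dvd_of_le hΩJ
  rcases hsπ with h | h
  · -- `Ω = Y`
    subst h
    left
    have e : Y = Ω := eq_of_card_prime_of_le_normalizer hodd hrt (hYC.trans hCH)
      ((hΩJ.trans hJC).trans hCH) hYc hΩc (hYJ.trans hJΩ)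
    exact ⟨g, hgC, by rw [e]; exact hZJ.trans hJΩ⟩
  · rw [Set.mem_singleton_iff] at h
    subst h
    right
    have e : cj g Z = Ω := eq_of_card_prime_of_le_normalizer hodd hru ((hZJ.trans hJC).trans hCH)
      ((hΩJ.trans hJC).trans hCH) (by rw [card_cj]; exact hZc) hΩc (hZJ.trans hJΩ)
    refine ⟨g⁻¹, C.inv_mem hgC, ?_⟩
    have h1 : Y ≤ Subgroup.normalizer ((cj g Z : Subgroup G) : Set G) := by
      rw [e]; exact hYJ.trans hJΩ
    rw [normalizer_cj] at h1
    rw [cj_le_iff, inv_inv]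
    exact h1

end Cfsg.Agent.Helper63.BGSigma
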