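import Mathlib
import Cfsg.Prelude.Def_OddOrderLocal
import Cfsg.Agent.S1403
import Cfsg.Agent.S1408
import Cfsg.Agent.S1414
import Cfsg.Agent.S1416
import Cfsg.Agent.S1423
import Cfsg.Agent.S1428
import Cfsg.Agent.S0024
import Cfsg.Agent.S0025
import Cfsg.Agent.S0026
import Cfsg.Agent.Helper23.BG13E
import Cfsg.Agent.Helper64.BG1217D
import Cfsg.Agent.Helper64.BG13W
import Cfsg.Agent.Helper71.BGHall
import Cfsg.Agent.Helper71.BG11Leaf
import Cfsg.Agent.Helper63.BG13F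
import Cfsg.Agent.Helper63.BGSigmaA

/-!
# Lemma Sigma: the `σ`-case of B-G 13.5 (paper proof: helper53, board `#3398`)

`lemma_sigma`: let `M`, `L` be non-conjugate maximal subgroups of the minimal simple group `G` of
odd order, `q ∈ σ(M) ∩ σ(L)`, `S` a `q`-subgroup with `N_G(S) ≤ M ∩ L`, `p ∈ τ₁(M) ∩ τ₁(L)`,
`P ≤ M ∩ L` of order `p` normalizing `S` with `C_S(P) = 1`.  Then `False`.

(The paper statement takes `S` to be a Sylow `q`-subgroup of `G`; this is not needed.)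
All inputs (S1403, S1406, S1408, S1414, S1416, S1423, S1428, 12.17(d), Lemma F) are landed, so the
statement only has the standing hypothesis `hG`.
-/

set_option autoImplicit false
set_option linter.unusedVariables false
set_option linter.unusedSectionVars false
set_option linter.style.haveILetI false

namespace Cfsg.Agent.Helper63.BGSigma

open Cfsg Cfsg.Agent.Helper29 Cfsg.Agent.Helper29.BG10 Cfsg.Agent.Helper29.BG11
  Cfsg.Agent.Helper1.BG12 Cfsg.Agent.Helper23.BG13 Cfsg.Agent.Helper64.BG1217D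
  Cfsg.Agent.Helper71.BG11
open scoped commutatorElement Pointwise

variable {G : Type*} [Group G] [Finite G]

/-- the Uniqueness Theorem, from the landed S1403 -/
theorem uniquenessThm (hG : Cfsg.IsMinSimpleOddOrder G) : UniquenessThm G :=
  fun K hK hK2 hK3 => Cfsg.Agent.S1403.result hG K hK hK2 hK3

/-- an ideal prime `t ∉ σ(L)` has `r_t(L) ≤ 1` -/
theorem pRankLE_one_of_ideal_of_not_mem_sigma (hG : Cfsg.IsMinSimpleOddOrder G)
    {L : Subgroup G} (hL : IsCoatom L) {t : ℕ} [Fact t.Prime] (hid : Cfsg.IsIdealPrime t G)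
    (htσ : t ∉ Cfsg.sigma L) : Cfsg.PRankLE t 1 ↥L := by
  have hU := uniquenessThm hG
  by_contra h1
  by_cases h2 : Cfsg.PRankLE t 2 ↥L
  · exact (Cfsg.Agent.S1408.result hG L hL t htσ h2 h1).1 hid
  · exact htσ (alpha_subset_sigma hG hU hL ⟨Fact.out, h2⟩)

/-- for `t ∈ β(M)` and `Y ≤ M` of order `t`: `N_G(Y) ≤ M` -/
theorem normalizer_le_of_mem_beta (hG : Cfsg.IsMinSimpleOddOrder G) {M : Subgroup G}
    (hM : IsCoatom M) {t : ℕ} [Fact t.Prime] (ht : t ∈ Cfsg.beta M) {Y : Subgroup G}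
    (hYM : Y ≤ M) (hYc : Nat.card Y = t) :
    Subgroup.normalizer (Y : Set G) ≤ M ∧ Subgroup.centralizer (Y : Set G) ≤ M := by
  have hU := uniquenessThm hG
  haveI : IsSimpleGroup G := hG.2.1
  have htp : t.Prime := Fact.out
  have htσ : t ∈ Cfsg.sigma M := alpha_subset_sigma hG hU hM ht.1
  obtain ⟨P⟩ : Nonempty (Sylow t ↥(Cfsg.sigmaCore M)) := inferInstance
  obtain ⟨⟨hC, huniq⟩, -, -⟩ := Cfsg.Agent.S1423.result hG M hM t htσ Y hYM hYc P (Or.inl ht)
  refine ⟨?_, hC⟩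
  have hYt : IsPGroup t Y := IsPGroup.of_card (n := 1) (by rw [hYc, pow_one])
  have hY1 : Y ≠ ⊥ := by
    intro h
    rw [h, Subgroup.card_bot] at hYc
    exact htp.one_lt.ne hYc
  have hNtop : Subgroup.normalizer (Y : Set G) ≠ ⊤ :=
    Cfsg.Agent.Helper31.bgt_normalizer_ne_top_of_simple hY1 (isPGroup_ne_top hG hYt)
  obtain ⟨L, hL, hNL⟩ := (eq_top_or_exists_le_coatom _).resolve_left hNtop
  have := huniq L hL ((Subgroup.centralizer_le_normalizer _).trans hNL)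
  rw [← this]; exact hNL

/-- **Steps (3)-(5)** of Lemma Sigma, for the pair `(M, L)`: there are `t ∈ β(M)`, an `SP`-invariant
`t`-subgroup `T` of `M_β`, and `Y ≤ C_T(P)` of order `t`, with `C_T(SP) = 1`. -/
theorem side_of_commutator_eq (hG : Cfsg.IsMinSimpleOddOrder G) {M L H : Subgroup G}
    (hM : IsCoatom M)
    (hL : IsCoatom L) (hH : IsCoatom H) (hHM : H ≠ M) (hncML : ∀ g : G, cj g M ≠ L)
    {q : ℕ} [Fact q.Prime] (hqM : q ∈ Cfsg.sigma M) (hqL : q ∈ Cfsg.sigma L)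
    {S : Subgroup G} (hSq : IsPGroup q S) (hNSM : Subgroup.normalizer (S : Set G) ≤ M)
    (hNSL : Subgroup.normalizer (S : Set G) ≤ L)
    {p : ℕ} [Fact p.Prime] (hp : p ∈ Cfsg.tau1 M) {P : Subgroup G} (hPM : P ≤ M)
    (hPc : Nat.card P = p) (hPS : P ≤ Subgroup.normalizer (S : Set G))
    (hQR : ⁅S, P⁆ = S)
    (hCPH : Subgroup.centralizer (P : Set G) ≤ H)
    (hMβ : Cfsg.piCoreOf (Cfsg.beta M) M ≠ ⊥) :
    ∃ (t : ℕ) (T Y : Subgroup G), t.Prime ∧ t ∈ Cfsg.beta M ∧ IsPGroup t T ∧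
      T ≤ Cfsg.piCoreOf (Cfsg.beta M) M ∧ Y ≤ T ∧ Y ≤ Subgroup.centralizer (P : Set G) ∧
      Nat.card Y = t ∧
      T ⊓ Subgroup.centralizer (S : Set G) ⊓ Subgroup.centralizer (P : Set G) = ⊥ := by
  classical
  have hU := uniquenessThm hG
  haveI : IsSimpleGroup G := hG.2.1
  have hpp : p.Prime := Fact.out
  have hqp : q.Prime := Fact.out
  obtain ⟨-, hpσ, hpM, hpM', hpr1⟩ := id hp
  have hβHall : Cfsg.IsPiHallOf (Cfsg.beta M) (Cfsg.piCoreOf (Cfsg.beta M) M) M :=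
    (Cfsg.Agent.S1414.result hG M hM).1
  set K := Cfsg.piCoreOf (Cfsg.beta M) M with hK
  have hKM : K ≤ M := hβHall.1
  have hKn : M ≤ Subgroup.normalizer (K : Set G) := Cfsg.Agent.Helper31.le_normalizer_piCoreOf _ M
  have hSM : S ≤ M := Subgroup.le_normalizer.trans hNSM
  have hSL : S ≤ L := Subgroup.le_normalizer.trans hNSL
  have hqp' : q ≠ p := by rintro rfl; exact hpσ hqM
  have hqα : q ∉ Cfsg.alpha M := fun h => alpha_sigma_disjoint hG hU hM hL hncML h hqL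
  have hpα : p ∉ Cfsg.alpha M := fun h => h.2 (pRankLE_one_le_two hpr1)
  have hPp : IsPGroup p P := IsPGroup.of_card (n := 1) (by rw [hPc, pow_one])
  have hdisj : S ⊓ P = ⊥ := by
    apply (Subgroup.disjoint_of_coprime_natCard _).eq_bot
    obtain ⟨k, hk⟩ := IsPGroup.iff_card.1 hSq
    rw [hk, hPc]
    exact Nat.Coprime.pow_left k ((Nat.coprime_primes hqp hpp).2 hqp')
  have hcardA := Cfsg.Agent.Helper23.card_sup_of_disjoint_of_le_normalizer hdisj hPS
  have hAM : S ⊔ P ≤ M := sup_le hSM hPM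
  have hnotdvd : ∀ s : ℕ, s.Prime → s ∉ Cfsg.alpha M → s.Coprime (Nat.card K) := by
    intro s hs hsα
    rw [Nat.Prime.coprime_iff_not_dvd hs]
    exact fun hd => hsα (Cfsg.Agent.Helper31.piCoreOf_primes _ M s hs hd).1
  have hcopA : (Nat.card ↥(S ⊔ P)).Coprime (Nat.card K) := by
    rw [hcardA]
    apply Nat.Coprime.mul_left
    · obtain ⟨k, hk⟩ := IsPGroup.iff_card.1 hSq
      rw [hk]; exact Nat.Coprime.pow_left k (hnotdvd q hqp hqα)
    · rw [hPc]; exact hnotdvd p hpp hpα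
  haveI hsolvM : Group.IsSolvable ↥M := hG.2.2.2 M hM.1
  have hsolvK : Group.IsSolvable ↥K :=
    Group.isSolvable_of_isSolvable_injective (Subgroup.inclusion_injective hKM)
  have hsolvA : Group.IsSolvable ↥(S ⊔ P) :=
    Group.isSolvable_of_isSolvable_injective (Subgroup.inclusion_injective hAM)
  have hoddA : Odd (Nat.card ↥(S ⊔ P)) :=
    Odd.of_dvd_nat hG.1 (Subgroup.card_subgroup_dvd_card _)
  -- Step 3: `S` does not centralize `M_β`
  have hKS : ¬ K ≤ Subgroup.centralizer (S : Set G) := by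
    intro hle
    have hKL : K ≤ L := (hle.trans (Subgroup.centralizer_le_normalizer _)).trans hNSL
    have hKc : Nat.card K ≠ 1 := fun h => hMβ (Subgroup.card_eq_one.1 h)
    obtain ⟨t, htp, htd⟩ := Nat.exists_prime_and_dvd hKc
    haveI : Fact t.Prime := ⟨htp⟩
    have htβ : t ∈ Cfsg.beta M := Cfsg.Agent.Helper31.piCoreOf_primes _ M t htp htd
    obtain ⟨T0, -, hT0⟩ :=
      exists_isSylowIn_ge (p := t) (bot_le : (⊥ : Subgroup G) ≤ K) IsPGroup.of_bot
    have hT0M : IsSylowIn t T0 M := isSylowIn_of_isPiHallOf hβHall htβ hT0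
    have hrk : ¬ Cfsg.PRankLE t 2 ↥T0 := fun h => htβ.1.2 (pRankLE_of_isSylowIn hT0M h)
    obtain ⟨M', -, huniq⟩ := uniq_of_uniquenessThm hG hU T0 hT0.2.1 hrk
    have e1 := huniq M ⟨hM, hT0M.1⟩
    have e2 := huniq L ⟨hL, hT0.1.trans hKL⟩
    exact hncML 1 (by rw [cj_one]; exact e1.trans e2.symm)
  have hAK : S ⊔ P ≤ Subgroup.normalizer (K : Set G) := hAM.trans hKn
  have hex : ∃ (t : ℕ) (_ : Fact t.Prime) (T : Subgroup G), IsSylowIn t T K ∧
      S ⊔ P ≤ Subgroup.normalizer (T : Set G) ∧ ¬ T ≤ Subgroup.centralizer (S : Set G) := by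
    by_contra hcon
    push Not at hcon
    apply hKS
    have hCK : K ⊓ Subgroup.centralizer (S : Set G) = K := by
      apply eq_of_forall_not_dvd_relIndex inf_le_left
      intro t ht
      haveI : Fact t.Prime := ⟨ht⟩
      obtain ⟨Q, hQ⟩ :=
        Cfsg.Agent.Helper1.exists_invariant_sylow (S ⊔ P) K hAK hcopA (Or.inr hsolvK) t
      have hQK : IsSylowIn t ((Q : Subgroup ↥K).map K.subtype) K := isSylowIn_map_sylow Q
      exact not_dvd_relIndex_of_isSylowIn_le hQK (le_inf hQK.1 (hcon t ⟨ht⟩ _ hQK hQ))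
    exact inf_eq_left.1 hCK
  obtain ⟨t, htF, T, hTK, hAT, hTS⟩ := hex
  have htp : t.Prime := htF.out
  have hT1 : T ≠ ⊥ := by rintro rfl; exact hTS bot_le
  have htK : t ∣ Nat.card K :=
    (dvd_card_of_isPGroup_ne_bot hTK.2.1 hT1).trans (Subgroup.card_dvd_of_le hTK.1)
  have htβ : t ∈ Cfsg.beta M := Cfsg.Agent.Helper31.piCoreOf_primes _ M t htp htK
  have htα : t ∈ Cfsg.alpha M := htβ.1
  have hTM : IsSylowIn t T M := isSylowIn_of_isPiHallOf hβHall htβ hTK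
  have hST : S ≤ Subgroup.normalizer (T : Set G) := le_sup_left.trans hAT
  have hPT : P ≤ Subgroup.normalizer (T : Set G) := le_sup_right.trans hAT
  have ht2 : t ≠ 2 := by
    rintro rfl
    have h2 : 2 ∣ Nat.card G :=
      (htK.trans (Subgroup.card_dvd_of_le hKM)).trans (Subgroup.card_subgroup_dvd_card M)
    exact (Nat.not_even_iff_odd.2 hG.1) (even_iff_two_dvd.2 h2)
  -- Step 4: `S = [S, P]` and Lemma F(a)
  have hcopAt : (Nat.card ↥(S ⊔ P)).Coprime t := Nat.Coprime.coprime_dvd_right htK hcopA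
  have hpS : ¬ p ∣ Nat.card S := by
    intro hd
    exact hqp' (eq_of_prime_dvd_card_pgroup hSq hpp hd).symm
  have hTP1 : T ⊓ Subgroup.centralizer (P : Set G) ≠ ⊥ := by
    intro hbot
    have := Cfsg.Agent.Helper63.BG13F.lemmaF_a htp hpp T S P hTK.2.1 hPc hPT hST hPS hQR hsolvA
      hoddA hcopAt hpS hbot
    exact hTS (Subgroup.le_centralizer_iff.1 this)
  obtain ⟨Y, hYle, hYc⟩ := exists_card_eq_prime_le (hTK.2.1.to_le inf_le_left) hTP1
  -- Step 5
  have hCMH : M ⊓ Subgroup.centralizer (P : Set G) ≤ H := inf_le_right.trans hCPH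
  have hPα' : ∀ s : ℕ, s.Prime → s ∣ Nat.card P → s ∉ Cfsg.alpha M := by
    intro s hs hd
    rw [hPc] at hd
    rw [(Nat.prime_dvd_prime_iff_eq hs hpp).1 hd]; exact hpα
  have hStep2 := rankLE_one_alphaCore_centralizer' hG hU hM hH hHM hPM hPα' hCMH
  have hTα : T ≤ Cfsg.alphaCore M := le_alphaCore_of_isPGroup hG hU hM htα hTK.2.1 hTM.1
  have hcR : IsCyclic ↥(T ⊓ Subgroup.centralizer (P : Set G)) := by
    apply isCyclic_of_isPGroup_of_pRankLE_one hG.1 (hTK.2.1.to_le inf_le_left)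
    exact pRankLE_mono (inf_le_inf_right _ hTα) (hStep2 t htp)
  have htσL : t ∉ Cfsg.sigma L := alpha_sigma_disjoint hG hU hM hL hncML htα
  have hrtL : Cfsg.PRankLE t 1 ↥L := pRankLE_one_of_ideal_of_not_mem_sigma hG hL htβ.2 htσL
  have hcQ : IsCyclic ↥(T ⊓ Subgroup.centralizer (S : Set G)) := by
    apply isCyclic_of_isPGroup_of_pRankLE_one hG.1 (hTK.2.1.to_le inf_le_left)
    exact pRankLE_mono
      (inf_le_right.trans ((Subgroup.centralizer_le_normalizer _).trans hNSL)) hrtL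
  have hTnc : ¬ IsCyclic ↥T := fun hc =>
    htα.2 (pRankLE_succ (pRankLE_one_of_isCyclic_sylow hTM hc))
  have hfixT : T ⊓ Subgroup.centralizer (S : Set G) ⊓ Subgroup.centralizer (P : Set G) = ⊥ := by
    by_contra hne
    obtain ⟨P0, hP0le, hP0c⟩ :=
      exists_card_eq_prime_le (hTK.2.1.to_le (inf_le_left.trans inf_le_left)) hne
    apply hTnc
    exact Cfsg.Agent.Helper63.BG13F.lemmaF_c htp ht2 hpp T S P hTK.2.1 hPc hPT hST hPS hQR hsolvA
      hoddA hcopAt hpS hcR hcQ P0 (hP0le.trans (inf_le_left.trans inf_le_left)) hP0c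
      (Subgroup.le_centralizer_iff.1 (hP0le.trans (inf_le_left.trans inf_le_right)))
      (Subgroup.le_centralizer_iff.1 (hP0le.trans inf_le_right))
  exact ⟨t, T, Y, htp, htβ, hTK.2.1, hTK.1, hYle.trans inf_le_left, hYle.trans inf_le_right,
    hYc, hfixT⟩

/-- under coprime action of `P` (of prime order `p ≠ q`) on the `q`-group `S`: `C_S(P) = 1` gives
`S = [S, P]` -/
theorem commutator_eq_of_fix_eq_bot {q : ℕ} [Fact q.Prime] {S : Subgroup G} (hSq : IsPGroup q S)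
    {p : ℕ} [Fact p.Prime] (hqp : q ≠ p) {P : Subgroup G} (hPc : Nat.card P = p)
    (hPS : P ≤ Subgroup.normalizer (S : Set G))
    (hfix : S ⊓ Subgroup.centralizer (P : Set G) = ⊥) : ⁅S, P⁆ = S := by
  have hpp : p.Prime := Fact.out
  have hqq : q.Prime := Fact.out
  have hcopPS : (Nat.card P).Coprime (Nat.card S) := by
    obtain ⟨k, hk⟩ := IsPGroup.iff_card.1 hSq
    rw [hk, hPc]; exact Nat.Coprime.pow_right k ((Nat.coprime_primes hpp hqq).2 hqp.symm)
  have hSsolv : Group.IsSolvable ↥S := by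
    have := hSq.isNilpotent
    infer_instance
  have := Cfsg.Agent.S0026.result P S hPS hcopPS (Or.inr hSsolv)
  rwa [hfix, sup_bot_eq] at this

/-- **Steps (3)-(5)** of Lemma Sigma, with the hypothesis `C_S(P) = 1`. -/
theorem side (hG : Cfsg.IsMinSimpleOddOrder G) {M L H : Subgroup G} (hM : IsCoatom M)
    (hL : IsCoatom L) (hH : IsCoatom H) (hHM : H ≠ M) (hncML : ∀ g : G, cj g M ≠ L)
    {q : ℕ} [Fact q.Prime] (hqM : q ∈ Cfsg.sigma M) (hqL : q ∈ Cfsg.sigma L)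
    {S : Subgroup G} (hSq : IsPGroup q S) (hNSM : Subgroup.normalizer (S : Set G) ≤ M)
    (hNSL : Subgroup.normalizer (S : Set G) ≤ L)
    {p : ℕ} [Fact p.Prime] (hp : p ∈ Cfsg.tau1 M) {P : Subgroup G} (hPM : P ≤ M)
    (hPc : Nat.card P = p) (hPS : P ≤ Subgroup.normalizer (S : Set G))
    (hfix : S ⊓ Subgroup.centralizer (P : Set G) = ⊥)
    (hCPH : Subgroup.centralizer (P : Set G) ≤ H)
    (hMβ : Cfsg.piCoreOf (Cfsg.beta M) M ≠ ⊥) :
    ∃ (t : ℕ) (T Y : Subgroup G), t.Prime ∧ t ∈ Cfsg.beta M ∧ IsPGroup t T ∧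
      T ≤ Cfsg.piCoreOf (Cfsg.beta M) M ∧ Y ≤ T ∧ Y ≤ Subgroup.centralizer (P : Set G) ∧
      Nat.card Y = t ∧
      T ⊓ Subgroup.centralizer (S : Set G) ⊓ Subgroup.centralizer (P : Set G) = ⊥ :=
  side_of_commutator_eq hG hM hL hH hHM hncML hqM hqL hSq hNSM hNSL hp hPM hPc hPS
    (commutator_eq_of_fix_eq_bot hSq (by rintro rfl; exact hp.2.1 hqM) hPc hPS hfix) hCPH hMβ

/-- **Step (9)** of Lemma Sigma: if `M = M_β (M ∩ L)`, `p ∈ τ₁(M)`, `P ≤ M ∩ L` of order `p`, and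
`Y₂ ≤ C_M(P)` has prime order `u ∉ β(M)`, `u ≠ p`, then some subgroup `R₁ ≤ M ∩ L` of order `u`
centralizes `P`. -/
theorem exists_card_prime_le_inf (hG : Cfsg.IsMinSimpleOddOrder G) {M L : Subgroup G}
    (hM : IsCoatom M)
    (hsup : Cfsg.piCoreOf (Cfsg.beta M) M ⊔ (M ⊓ L) = M)
    {p : ℕ} [Fact p.Prime] (hp : p ∈ Cfsg.tau1 M) {P : Subgroup G} (hPM : P ≤ M) (hPL : P ≤ L)
    (hPc : Nat.card P = p) {u : ℕ} [Fact u.Prime] (huβ : u ∉ Cfsg.beta M) (hup : u ≠ p)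
    {Y₂ : Subgroup G} (hY₂M : Y₂ ≤ M) (hY₂c : Nat.card Y₂ = u)
    (hY₂P : Y₂ ≤ Subgroup.centralizer (P : Set G)) :
    ∃ R₁ : Subgroup G, R₁ ≤ M ⊓ L ∧ Nat.card R₁ = u ∧
      R₁ ≤ Subgroup.centralizer (P : Set G) := by
  classical
  have hpp : p.Prime := Fact.out
  have hup' : u.Prime := Fact.out
  obtain ⟨-, hpσ, hpM, hpM', hpr1⟩ := id hp
  set K := Cfsg.piCoreOf (Cfsg.beta M) M with hK
  have hKM : K ≤ M := Cfsg.Agent.Helper31.piCoreOf_le _ M
  have hKn : M ≤ Subgroup.normalizer (K : Set G) := Cfsg.Agent.Helper31.le_normalizer_piCoreOf _ M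
  have hpβ : p ∉ Cfsg.beta M := fun h => h.1.2 (pRankLE_one_le_two hpr1)
  -- the normal `p`-complement `N` of `M`
  obtain ⟨N, hNM, hMN, hpN, hNmax⟩ := exists_normal_pComplement_of_not_dvd_commutator hpM'
  have hKN : K ≤ N := by
    apply hNmax K hKM
    apply Nat.Coprime.symm
    rw [Nat.Prime.coprime_iff_not_dvd hpp]
    exact fun hd => hpβ (Cfsg.Agent.Helper31.piCoreOf_primes _ M p hpp hd)
  have hY₂N : Y₂ ≤ N := by
    apply hNmax Y₂ hY₂M
    rw [hY₂c]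
    exact (Nat.coprime_primes hup' hpp).2 hup
  set D := M ⊓ L with hD
  have hPD : P ≤ D := le_inf hPM hPL
  -- Dedekind: `N = K (N ∩ D)`
  have hsupN : K ⊔ (N ⊓ D) = N := by
    apply le_antisymm (sup_le hKN inf_le_left)
    intro x hx
    have hxM : x ∈ K ⊔ D := by rw [hsup]; exact hNM hx
    have hDK : D ≤ Subgroup.normalizer (K : Set G) := inf_le_left.trans hKn
    obtain ⟨k, hk, d, hd, rfl⟩ :=
      (Cfsg.Agent.Helper23.mem_sup_iff_of_le_normalizer hDK).1 hxM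
    have hdN : d ∈ N := by
      have : d = k⁻¹ * (k * d) := by group
      rw [this]; exact N.mul_mem (N.inv_mem (hKN hk)) hx
    exact Subgroup.mul_mem_sup hk ⟨hdN, hd⟩
  have huK : ¬ u ∣ Nat.card K := fun hd => huβ (Cfsg.Agent.Helper31.piCoreOf_primes _ M u hup' hd)
  -- coprime action of `P` on `N` and on `N ∩ D`
  have hPN : P ≤ Subgroup.normalizer (N : Set G) := hPM.trans hMN
  have hcopN : (Nat.card P).Coprime (Nat.card N) := by
    rw [hPc]; exact (Nat.Prime.coprime_iff_not_dvd hpp).2 hpN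
  haveI hsolvM : Group.IsSolvable ↥M := hG.2.2.2 M hM.1
  have hsolvN : Group.IsSolvable ↥N :=
    Group.isSolvable_of_isSolvable_injective (Subgroup.inclusion_injective hNM)
  have hPND : P ≤ Subgroup.normalizer ((N ⊓ D : Subgroup G) : Set G) := by
    intro x hx
    have h1 := hPN hx
    have h2 : x ∈ Subgroup.normalizer (D : Set G) := Subgroup.le_normalizer (hPD hx)
    rw [Subgroup.mem_normalizer_iff] at h1 h2 ⊢
    intro y
    exact ⟨fun h => ⟨(h1 y).1 h.1, (h2 y).1 h.2⟩, fun h => ⟨(h1 y).2 h.1, (h2 y).2 h.2⟩⟩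
  have hcopND : (Nat.card P).Coprime (Nat.card ↥(N ⊓ D)) :=
    Nat.Coprime.coprime_dvd_right (Subgroup.card_dvd_of_le inf_le_left) hcopN
  have hsolvND : Group.IsSolvable ↥(N ⊓ D) :=
    Group.isSolvable_of_isSolvable_injective
      (Subgroup.inclusion_injective (inf_le_left.trans hNM : N ⊓ D ≤ M))
  -- a `P`-invariant Sylow `u`-subgroup `S₁` of `N ∩ D`; it is Sylow in `N`
  obtain ⟨S₁, hS₁, -, hPS₁⟩ := Cfsg.Agent.Helper64.BG13W.exists_invariant_sylow_ge P (N ⊓ D) ⊥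
    hPND hcopND (Or.inr hsolvND) u IsPGroup.of_bot bot_le (by
      intro x _
      rw [Subgroup.mem_normalizer_iff]
      intro y
      simp [Subgroup.mem_bot])
  have hS₁N : IsSylowIn u S₁ N := by
    refine ⟨hS₁.1.trans inf_le_left, hS₁.2.1, ?_⟩
    rw [← Subgroup.relIndex_mul_relIndex S₁ (N ⊓ D) N hS₁.1 inf_le_left]
    intro hd
    rcases (Nat.Prime.dvd_mul hup').1 hd with h | h
    · exact hS₁.2.2 h
    · exact huK (h.trans (Cfsg.Agent.Helper64.BG1218.relIndex_dvd_card_of_sup_eq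
        (hNM.trans hKn) hsupN))
  obtain ⟨Q₂, hQ₂⟩ := IsSylowIn.exists_sylow hS₁N
  -- a `P`-invariant Sylow `u`-subgroup of `N` containing `Y₂`
  have hY₂u : IsPGroup u Y₂ := IsPGroup.of_card (n := 1) (by rw [hY₂c, pow_one])
  have hPY₂ : P ≤ Subgroup.normalizer (Y₂ : Set G) :=
    (Subgroup.le_centralizer_iff.1 hY₂P).trans (Subgroup.centralizer_le_normalizer _)
  obtain ⟨P₂, hY₂P₂, hPP₂⟩ :=
    Cfsg.Agent.S0025.result P N hPN hcopN (Or.inr hsolvN) u Y₂ hY₂N hY₂u hPY₂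
  obtain ⟨c, hcP, hc⟩ := Cfsg.Agent.S0024.result P N hPN hcopN (Or.inr hsolvN) u P₂ Q₂ hPP₂
    (by rw [hQ₂]; exact hPS₁)
  -- `R₁ = c Y₂ c⁻¹`
  refine ⟨cj (c : G) Y₂, ?_, by rw [card_cj]; exact hY₂c, ?_⟩
  · intro x hx
    rw [mem_cj] at hx
    obtain ⟨y, hy, hyx⟩ := hY₂P₂ hx
    have h1 : MulAut.conj c • y ∈ ((MulAut.conj c • P₂ : Sylow u ↥N) : Subgroup ↥N) := by
      rw [Sylow.pointwise_smul_def]
      exact Subgroup.smul_mem_pointwise_smul _ _ _ hy
    rw [hc] at h1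
    have h2 : ((MulAut.conj c • y : ↥N) : G) ∈ (Q₂ : Subgroup ↥N).map N.subtype := ⟨_, h1, rfl⟩
    rw [hQ₂] at h2
    have h3 : ((MulAut.conj c • y : ↥N) : G) = x := by
      rw [MulAut.smul_def, MulAut.conj_apply]
      push_cast
      rw [Subgroup.subtype_apply] at hyx
      rw [hyx]; group
    rw [h3] at h2
    exact (hS₁.1 h2).2
  · intro x hx
    rw [mem_cj] at hx
    have h1 := hY₂P hx
    rw [Subgroup.mem_centralizer_iff] at h1 hcP ⊢
    intro z hz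
    have e1 := h1 z hz
    have e2 := hcP z hz
    have e3 : z * (c : G)⁻¹ = (c : G)⁻¹ * z := by
      have : (c : G)⁻¹ * (z * (c : G)) * (c : G)⁻¹ = (c : G)⁻¹ * ((c : G) * z) * (c : G)⁻¹ := by rw [e2]
      simpa [mul_assoc] using this.symm
    calc z * x = (c : G) * ((c : G)⁻¹ * z * x * (c : G)) * (c : G)⁻¹ := by group
      _ = (c : G) * (z * ((c : G)⁻¹ * x * (c : G))) * (c : G)⁻¹ := by rw [← e3]; group
      _ = (c : G) * (((c : G)⁻¹ * x * (c : G)) * z) * (c : G)⁻¹ := by rw [e1]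
      _ = x * ((c : G) * z * (c : G)⁻¹) := by group
      _ = x * z := by rw [← e2]; group

/-- **Steps (9)-(12)** of Lemma Sigma (Case A): a subgroup `Y₂ ≤ C_M(P)` of order `u ∈ β(L)` leads
to a contradiction. -/
theorem caseA (hG : Cfsg.IsMinSimpleOddOrder G) {M L : Subgroup G} (hM : IsCoatom M)
    (hL : IsCoatom L) (hncML : ∀ g : G, cj g M ≠ L) (hncLM : ∀ g : G, cj g L ≠ M)
    {q : ℕ} [Fact q.Prime] (hqL : q ∈ Cfsg.sigma L) {S : Subgroup G} (hSq : IsPGroup q S)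
    (hSM : S ≤ M) (hSL : S ≤ L)
    (hsup : Cfsg.piCoreOf (Cfsg.beta M) M ⊔ (M ⊓ L) = M)
    {p : ℕ} [Fact p.Prime] (hpM : p ∈ Cfsg.tau1 M) (hpσL : p ∉ Cfsg.sigma L) {P : Subgroup G}
    (hPM : P ≤ M) (hPL : P ≤ L) (hPc : Nat.card P = p)
    {t : ℕ} [Fact t.Prime] (ht : t ∈ Cfsg.beta M) {T Y : Subgroup G} (hTt : IsPGroup t T)
    (hTK : T ≤ Cfsg.piCoreOf (Cfsg.beta M) M) (hYT : Y ≤ T)
    (hYP : Y ≤ Subgroup.centralizer (P : Set G)) (hYc : Nat.card Y = t)
    (hfixT : T ⊓ Subgroup.centralizer (S : Set G) ⊓ Subgroup.centralizer (P : Set G) = ⊥)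
    {u : ℕ} [Fact u.Prime] (hu : u ∈ Cfsg.beta L) {Y₂ : Subgroup G} (hY₂M : Y₂ ≤ M)
    (hY₂c : Nat.card Y₂ = u) (hY₂P : Y₂ ≤ Subgroup.centralizer (P : Set G)) : False := by
  classical
  have hU := uniquenessThm hG
  have hpp : p.Prime := Fact.out
  have hup' : u.Prime := Fact.out
  have htp : t.Prime := Fact.out
  obtain ⟨-, hpσ, hpM', hpM'', hpr1⟩ := id hpM
  have huσL : u ∈ Cfsg.sigma L := alpha_subset_sigma hG hU hL hu.1
  have huσM : u ∉ Cfsg.sigma M := alpha_sigma_disjoint hG hU hL hM hncLM hu.1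
  have huβM : u ∉ Cfsg.beta M := fun h => huσM (alpha_subset_sigma hG hU hM h.1)
  have hup : u ≠ p := by rintro rfl; exact hpσL huσL
  -- Step 9
  obtain ⟨R₁, hR₁D, hR₁c, hR₁P⟩ :=
    exists_card_prime_le_inf hG hM hsup hpM hPM hPL hPc huβM hup hY₂M hY₂c hY₂P
  have hR₁M : R₁ ≤ M := hR₁D.trans inf_le_left
  have hR₁L : R₁ ≤ L := hR₁D.trans inf_le_right
  -- Step 10
  have hCR₁ : Subgroup.centralizer (R₁ : Set G) ≤ L :=
    (normalizer_le_of_mem_beta hG hL hu hR₁L hR₁c).2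
  -- Step 11
  have hPR : P ≤ Subgroup.normalizer (R₁ : Set G) :=
    (Subgroup.le_centralizer_iff.1 hR₁P).trans (Subgroup.centralizer_le_normalizer _)
  have hdisj : R₁ ⊓ P = ⊥ := by
    apply (Subgroup.disjoint_of_coprime_natCard _).eq_bot
    rw [hR₁c, hPc]
    exact (Nat.coprime_primes hup' hpp).2 hup
  have hcard := Cfsg.Agent.Helper23.card_sup_of_disjoint_of_le_normalizer hdisj hPR
  have hprimes : ∀ s : ℕ, s.Prime → s ∣ Nat.card ↥(R₁ ⊔ P) → s ∉ Cfsg.sigma M := by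
    intro s hs hd
    rw [hcard, hR₁c, hPc] at hd
    rcases (Nat.Prime.dvd_mul hs).1 hd with h | h
    · rw [(Nat.prime_dvd_prime_iff_eq hs hup').1 h]; exact huσM
    · rw [(Nat.prime_dvd_prime_iff_eq hs hpp).1 h]; exact hpσ
  obtain ⟨E, hE, hRPE⟩ := Cfsg.Agent.Helper71.BGHall.exists_isComplIn_sigmaCore_ge hG hU hM
    (sup_le hR₁M hPM) hprimes
  have h1428 := Cfsg.Agent.S1428.result hG M hM E hE p hpM P (le_sup_right.trans hRPE) hPc R₁
    (le_inf (le_sup_left.trans hRPE) hR₁P) (by rw [hR₁c]; exact hup')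
  have htσ : t ∈ Cfsg.sigma M := alpha_subset_sigma hG hU hM ht.1
  have hTM : T ≤ M := hTK.trans (Cfsg.Agent.Helper31.piCoreOf_le _ M)
  have hYσ : Y ≤ Cfsg.sigmaCore M :=
    Cfsg.Agent.Helper71.BG11.le_sigmaCore_of_isPGroup hG hU hM htσ (hTt.to_le hYT) (hYT.trans hTM)
  have hYR : Y ≤ Subgroup.centralizer (R₁ : Set G) :=
    ((le_inf hYσ hYP).trans h1428).trans inf_le_right
  have hYL : Y ≤ L := hYR.trans hCR₁
  -- Step 12
  set K := Cfsg.piCoreOf (Cfsg.beta M) M with hK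
  have hB : Y ≤ K ⊓ L := le_inf (hYT.trans hTK) hYL
  have hSLσ : S ≤ Cfsg.sigmaCore L :=
    Cfsg.Agent.Helper71.BG11.le_sigmaCore_of_isPGroup hG hU hL hqL hSq hSL
  have hBS : ⁅K ⊓ L, S⁆ ≤ K ⊓ Cfsg.sigmaCore L := by
    apply le_inf
    · exact (Subgroup.commutator_mono inf_le_left le_rfl).trans
        (Cfsg.Agent.Helper63.BG13F.commutator_le_left_of_le_normalizer
          (hSM.trans (Cfsg.Agent.Helper31.le_normalizer_piCoreOf _ M)))
    · rw [Subgroup.commutator_comm]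
      exact (Subgroup.commutator_mono hSLσ inf_le_right).trans
        (Cfsg.Agent.Helper63.BG13F.commutator_le_left_of_le_normalizer
          (le_normalizer_sigmaCore L))
  have hKLσ : K ⊓ Cfsg.sigmaCore L = ⊥ := by
    apply (Subgroup.disjoint_of_coprime_natCard _).eq_bot
    apply Nat.coprime_of_dvd
    intro k hk hka hkb
    exact alpha_sigma_disjoint hG hU hM hL hncML
      (Cfsg.Agent.Helper31.piCoreOf_primes _ M k hk hka).1 (primes_sigmaCore L k hk hkb)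
  have hBcent : K ⊓ L ≤ Subgroup.centralizer (S : Set G) := by
    rw [← Subgroup.commutator_eq_bot_iff_le_centralizer, eq_bot_iff, ← hKLσ]
    exact hBS
  have hYbot : Y ≤ ⊥ := by
    rw [← hfixT]; exact le_inf (le_inf hYT (hB.trans hBcent)) hYP
  rw [le_bot_iff] at hYbot
  rw [hYbot, Subgroup.card_bot] at hYc
  exact htp.one_lt.ne hYc

/-- **Lemma Sigma** (the `σ`-case of B-G 13.5; helper53's proof, board `#3398`), in the form with
`S = [S, P]`: let `M`, `L` be non-conjugate maximal subgroups, `q ∈ σ(M) ∩ σ(L)`, `S` a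
`q`-subgroup with `N_G(S) ≤ M ∩ L`, `p ∈ τ₁(M) ∩ τ₁(L)`, `P ≤ N_G(S)` of order `p`.  Then
`[S, P] ≠ S`. -/
theorem lemma_sigma_of_commutator_eq (hG : Cfsg.IsMinSimpleOddOrder G) {M L : Subgroup G}
    (hM : IsCoatom M)
    (hL : IsCoatom L) (hnc : ∀ g : G, cj g M ≠ L)
    {q : ℕ} [Fact q.Prime] (hqM : q ∈ Cfsg.sigma M) (hqL : q ∈ Cfsg.sigma L)
    {S : Subgroup G} (hSq : IsPGroup q S) (hNS : Subgroup.normalizer (S : Set G) ≤ M ⊓ L)
    {p : ℕ} [Fact p.Prime] (hpM : p ∈ Cfsg.tau1 M) (hpL : p ∈ Cfsg.tau1 L) {P : Subgroup G}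
    (hPc : Nat.card P = p) (hPS : P ≤ Subgroup.normalizer (S : Set G))
    (hSP : ⁅S, P⁆ = S) : False := by
  have hPD : P ≤ M ⊓ L := hPS.trans hNS
  classical
  have hU := uniquenessThm hG
  haveI : IsSimpleGroup G := hG.2.1
  have hpp : p.Prime := Fact.out
  have h1416 : H1416 G :=
    fun L hL q _ A hAL hAe hAc => (Cfsg.Agent.S1416.result hG L hL q A ⟨hAL, hAe, hAc⟩).1
  have hW : NilpHallSigma G := fun L hL => (Cfsg.Agent.S1414.result hG L hL).2.2.2.1
  have hβ : BetaHall G := fun L hL => (Cfsg.Agent.S1414.result hG L hL).1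
  have hnc' : ∀ g : G, cj g L ≠ M := by
    intro g hg
    apply hnc g⁻¹
    rw [← hg, cj_inv_cj]
  have hne : L ≠ M := by
    rintro rfl
    exact hnc 1 (cj_one _)
  have hNSM : Subgroup.normalizer (S : Set G) ≤ M := hNS.trans inf_le_left
  have hNSL : Subgroup.normalizer (S : Set G) ≤ L := hNS.trans inf_le_right
  have hSM : S ≤ M := Subgroup.le_normalizer.trans hNSM
  have hSL : S ≤ L := Subgroup.le_normalizer.trans hNSL
  have hPM : P ≤ M := hPD.trans inf_le_left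
  have hPL : P ≤ L := hPD.trans inf_le_right
  have hS1 : S ≠ ⊥ := by
    rintro rfl
    apply hM.1
    rw [eq_top_iff]
    intro x _
    apply hNSM
    rw [Subgroup.mem_normalizer_iff]
    intro y
    simp [Subgroup.mem_bot]
  have hPp : IsPGroup p P := IsPGroup.of_card (n := 1) (by rw [hPc, pow_one])
  have hP1 : P ≠ ⊥ := by
    intro h
    rw [h, Subgroup.card_bot] at hPc
    exact hpp.one_lt.ne hPc
  -- Step 0: the maximal subgroup `H ≥ N_G(P)`
  have hNtop : Subgroup.normalizer (P : Set G) ≠ ⊤ :=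
    Cfsg.Agent.Helper31.bgt_normalizer_ne_top_of_simple hP1 (isPGroup_ne_top hG hPp)
  obtain ⟨H, hH, hNP⟩ := (eq_top_or_exists_le_coatom _).resolve_left hNtop
  have hCP : Subgroup.centralizer (P : Set G) ≤ H :=
    (Subgroup.centralizer_le_normalizer _).trans hNP
  have h122 := mem_sigma_or_rank_two hG hU hH P hPp hP1 hNP
  have hncMH : ∀ g : G, cj g M ≠ H := by
    rintro g rfl
    rcases h122 with h | ⟨-, h⟩
    · rw [sigma_cj] at h; exact hpM.2.1 h
    · exact h (pRankLE_cj hpM.2.2.2.2 g)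
  have hncLH : ∀ g : G, cj g L ≠ H := by
    rintro g rfl
    rcases h122 with h | ⟨-, h⟩
    · rw [sigma_cj] at h; exact hpL.2.1 h
    · exact h (pRankLE_cj hpL.2.2.2.2 g)
  have hHM : H ≠ M := by
    rintro rfl
    exact hncMH 1 (cj_one _)
  have hHL : H ≠ L := by
    rintro rfl
    exact hncLH 1 (cj_one _)
  -- Step 1: 12.17(d)
  have hd3M := lemma_12_17_d3 hG hU h1416 hW hβ hM hL hne hqM hSq hS1 hSM hNSL hqL
  have hd3L := lemma_12_17_d3 hG hU h1416 hW hβ hL hM hne.symm hqL hSq hS1 hSL hNSM hqM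
  have hsupM := lemma_12_17_d1_mirror hG hU h1416 hW hβ hM hL hne hqM hSq hS1 hSM hNSL hqL
  have hsupL := lemma_12_17_d1_mirror hG hU h1416 hW hβ hL hM hne.symm hqL hSq hS1 hSL hNSM hqM
  -- Steps 3-6
  obtain ⟨t, T, Y, htp, htβ, hTt, hTK, hYT, hYP, hYc, hfixT⟩ :=
    side_of_commutator_eq hG hM hL hH hHM hnc hqM hqL hSq hNSM hNSL hpM hPM hPc hPS hSP hCP
      hd3M.2
  obtain ⟨u, T', Z, hup, huβ, hT'u, hT'K, hZT', hZP, hZc, hfixT'⟩ :=
    side_of_commutator_eq hG hL hM hH hHL hnc' hqL hqM hSq hNSL hNSM hpL hPL hPc hPS hSP hCP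
      hd3L.2
  haveI : Fact t.Prime := ⟨htp⟩
  haveI : Fact u.Prime := ⟨hup⟩
  -- Step 8
  have htσH : t ∉ Cfsg.sigma H := alpha_sigma_disjoint hG hU hM hH hncMH htβ.1
  have huσH : u ∉ Cfsg.sigma H := alpha_sigma_disjoint hG hU hL hH hncLH huβ.1
  have hrt : Cfsg.PRankLE t 1 ↥H := pRankLE_one_of_ideal_of_not_mem_sigma hG hH htβ.2 htσH
  have hru : Cfsg.PRankLE u 1 ↥H := pRankLE_one_of_ideal_of_not_mem_sigma hG hH huβ.2 huσH
  haveI hsolvH : Group.IsSolvable ↥H := hG.2.2.2 H hH.1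
  have hsolvC : Group.IsSolvable ↥(Subgroup.centralizer (P : Set G)) :=
    Group.isSolvable_of_isSolvable_injective (Subgroup.inclusion_injective hCP)
  have hTM : T ≤ M := hTK.trans (Cfsg.Agent.Helper31.piCoreOf_le _ M)
  have hT'L : T' ≤ L := hT'K.trans (Cfsg.Agent.Helper31.piCoreOf_le _ L)
  rcases exists_cj_le_normalizer hG.1 hCP hsolvC hrt hru hYP hZP hYc hZc with
    ⟨c, hc, hcZ⟩ | ⟨c, hc, hcY⟩
  · -- Case A
    have hNY := (normalizer_le_of_mem_beta hG hM htβ (hYT.trans hTM) hYc).1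
    have hY₂P : cj c Z ≤ Subgroup.centralizer (P : Set G) := by
      have := cj_mono (g := c) hZP
      rwa [cj_eq_self_of_mem hc] at this
    exact caseA hG hM hL hnc hnc' hqL hSq hSM hSL hsupM hpM hpL.2.1 hPM hPL hPc htβ hTt hTK hYT
      hYP hYc hfixT huβ (hcZ.trans hNY) (by rw [card_cj]; exact hZc) hY₂P
  · -- Case B
    have hNZ := (normalizer_le_of_mem_beta hG hL huβ (hZT'.trans hT'L) hZc).1
    have hY₂P : cj c Y ≤ Subgroup.centralizer (P : Set G) := by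
      have := cj_mono (g := c) hYP
      rwa [cj_eq_self_of_mem hc] at this
    exact caseA hG hL hM hnc' hnc hqM hSq hSL hSM hsupL hpL hpM.2.1 hPL hPM hPc huβ hT'u hT'K
      hZT' hZP hZc hfixT' htβ (hcY.trans hNZ) (by rw [card_cj]; exact hYc) hY₂P

/-- **Lemma Sigma** (the `σ`-case of B-G 13.5; helper53's proof, board `#3398`): let `M`, `L` be
non-conjugate maximal subgroups, `q ∈ σ(M) ∩ σ(L)`, `S` a `q`-subgroup with `N_G(S) ≤ M ∩ L`,
`p ∈ τ₁(M) ∩ τ₁(L)`, `P ≤ M ∩ L` of order `p` normalizing `S`.  Then `C_S(P) ≠ 1`. -/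
theorem lemma_sigma (hG : Cfsg.IsMinSimpleOddOrder G) {M L : Subgroup G} (hM : IsCoatom M)
    (hL : IsCoatom L) (hnc : ∀ g : G, cj g M ≠ L)
    {q : ℕ} [Fact q.Prime] (hqM : q ∈ Cfsg.sigma M) (hqL : q ∈ Cfsg.sigma L)
    {S : Subgroup G} (hSq : IsPGroup q S) (hNS : Subgroup.normalizer (S : Set G) ≤ M ⊓ L)
    {p : ℕ} [Fact p.Prime] (hpM : p ∈ Cfsg.tau1 M) (hpL : p ∈ Cfsg.tau1 L) {P : Subgroup G}
    (hPD : P ≤ M ⊓ L) (hPc : Nat.card P = p) (hPS : P ≤ Subgroup.normalizer (S : Set G))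
    (hfix : S ⊓ Subgroup.centralizer (P : Set G) = ⊥) : False :=
  lemma_sigma_of_commutator_eq hG hM hL hnc hqM hqL hSq hNS hpM hpL hPc hPS
    (commutator_eq_of_fix_eq_bot hSq (by rintro rfl; exact hpM.2.1 hqM) hPc hPS hfix)

end Cfsg.Agent.Helper63.BGSigma
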