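import Mathlib
import Cfsg.Prelude.Def_OddOrderLocal
import Cfsg.Agent.Helper32.BGSigmaDefs
import Cfsg.Agent.Helper63.BGSigma

/-!
# Lemma Sigma on helper32's configuration `Cfg` (piece (S4) of board post `#3503`)

`lemma_sigma_cfg`: the configuration `(Σ0)` of `Helper32.BGSigma.Cfg` with `p ∈ τ₁(L)` is
impossible.  No hypothesis besides `hG` (S1403, S1428 are landed).
-/

set_option autoImplicit false
set_option linter.unusedVariables false

namespace Cfsg.Agent.Helper63.BGSigma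

open Cfsg Cfsg.Agent.Helper29 Cfsg.Agent.Helper29.BG10

variable {G : Type*} [Group G] [Finite G]

/-- **Lemma Sigma**, piece (S4) of `#3503`. -/
theorem lemma_sigma_cfg (hG : Cfsg.IsMinSimpleOddOrder G) {M L S P : Subgroup G} {q p : ℕ}
    [Fact q.Prime] [Fact p.Prime] (h : Cfsg.Agent.Helper32.BGSigma.Cfg M L S P q p)
    (hpL : p ∈ Cfsg.tau1 L) : False :=
  lemma_sigma_of_commutator_eq hG h.hM h.hL h.hnc h.hqM h.hqL h.hS.2.1 h.hNS h.hpM hpL h.hPc h.hPS
    h.hSP

/-- the same with the (unused) hypotheses of the signature proposed in `#3503` -/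
theorem lemma_sigma_cfg' (hG : Cfsg.IsMinSimpleOddOrder G) (hU : UniquenessThm G)
    (h28 : Cfsg.Agent.Helper32.BGSigma.H1428 G) {M L S P : Subgroup G} {q p : ℕ}
    [Fact q.Prime] [Fact p.Prime] (h : Cfsg.Agent.Helper32.BGSigma.Cfg M L S P q p)
    (hpL : p ∈ Cfsg.tau1 L) : False :=
  lemma_sigma_cfg hG h hpL

/-- `H1428` holds (S1428 is landed) -/
theorem h1428 (hG : Cfsg.IsMinSimpleOddOrder G) : Cfsg.Agent.Helper32.BGSigma.H1428 G :=
  fun M hM E hE p hp P hPE hPc R hRE hR => Cfsg.Agent.S1428.result hG M hM E hE p hp P hPE hPc R hRE hR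

end Cfsg.Agent.Helper63.BGSigma
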