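import Mathlib
import Cfsg.Prelude.Def_OddOrderLocal
import Cfsg.Agent.S1403
import Cfsg.Agent.S1404
import Cfsg.Agent.S1416
import Cfsg.Agent.S1417
import Cfsg.Agent.Helper23.BG13E
import Cfsg.Agent.Helper64.BG1218
import Cfsg.Agent.Helper71.BG11Leaf
import Cfsg.Agent.Helper31.BG144Core
import Cfsg.Agent.Helper31.BenderMax
import Cfsg.Agent.Helper35.BG153I

/-!
# B-G Theorem 14.4 (S1374, S1375) from the `σ`-partition (helper57's proof, board `#3162` (I))

`s1374_of_sp`, `s1375_of_sp`: the exact conclusions of S1374 and S1375 from the hypothesis `SP G`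
(= second half of S1378: non-conjugate maximal subgroups have disjoint `σ`-sets).
-/

set_option autoImplicit false
set_option linter.unusedVariables false
set_option linter.unusedSectionVars false
set_option linter.style.haveILetI false

namespace Cfsg.Agent.Helper63.BG144

open Cfsg Cfsg.Agent.Helper29 Cfsg.Agent.Helper29.BG10 Cfsg.Agent.Helper29.BG11
  Cfsg.Agent.Helper1.BG12 Cfsg.Agent.Helper23.BG13

variable {G : Type*} [Group G] [Finite G]

/-- `σ`-partition (S1378, second half), as a hypothesis -/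
def SP (G : Type*) [Group G] : Prop :=
  ∀ M L : Subgroup G, IsCoatom M → IsCoatom L → (∀ g : G, cj g M ≠ L) →
    ∀ q : ℕ, q ∈ Cfsg.sigma M → q ∉ Cfsg.sigma L

/-- the data of B-G 14.4 for an element `x ∈ M_σ#` lying in a second conjugate of `M` -/
theorem exists_data (hG : Cfsg.IsMinSimpleOddOrder G) (hSP : SP G) {M : Subgroup G}
    (hM : IsCoatom M) {x : G} (hx : x ∈ Cfsg.sigmaCore M) (hx1 : x ≠ 1)
    (h2 : ∃ g : G, x ∈ cj g M ∧ cj g M ≠ M) :
    ∃ (N : Subgroup G) (p : ℕ), IsCoatom N ∧ p.Prime ∧ p ∣ orderOf x ∧ p ∈ Cfsg.tau2 N ∧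
      (∀ g : G, cj g M ≠ N) ∧ Subgroup.centralizer ({x} : Set G) ≤ N ∧
      Cfsg.IsComplIn (M ⊓ N) (Cfsg.sigmaCore N) N ∧ Group.IsNilpotent ↥(Cfsg.sigmaCore N) ∧
      (∀ g : G, x ∈ cj g M → ∃ c ∈ N, cj g M = cj c M) := by
  classical
  have hU : UniquenessThm G := fun K hK hK2 hK3 => Cfsg.Agent.S1403.result hG K hK hK2 hK3
  haveI : IsSimpleGroup G := hG.2.1
  have h1416 : H1416 G :=
    fun L hL q _ A hAL hAe hAc => (Cfsg.Agent.S1416.result hG L hL q A ⟨hAL, hAe, hAc⟩).1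
  have h1417 : H1417 G := by
    intro L hL q _ hq A hAL hAe hAc
    have h := Cfsg.Agent.S1417.result hG L hL q hq A ⟨hAL, hAe, hAc⟩
    exact ⟨h.1, fun P => (h.2.1 P).1, h.2.2.1, h.2.2.2.2.1⟩
  have hxM : x ∈ M := sigmaCore_le M hx
  -- the prime `p` and the subgroup `Y` of order `p`
  have ho1 : orderOf x ≠ 1 := fun h => hx1 (orderOf_eq_one_iff.1 h)
  obtain ⟨p, hpp, hpo⟩ := Nat.exists_prime_and_dvd ho1
  haveI : Fact p.Prime := ⟨hpp⟩
  have ho0 : orderOf x ≠ 0 := (orderOf_pos x).ne'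
  set x0 : G := x ^ (orderOf x / p) with hx0
  have hx0o : orderOf x0 = p := orderOf_pow_orderOf_div ho0 hpo
  set Y : Subgroup G := Subgroup.zpowers x0 with hY
  have hYc : Nat.card Y = p := by rw [hY, Nat.card_zpowers, hx0o]
  have hYp : IsPGroup p Y := IsPGroup.of_card (n := 1) (by rw [hYc, pow_one])
  have hY1 : Y ≠ ⊥ := by
    intro h
    rw [h, Subgroup.card_bot] at hYc
    exact hpp.one_lt.ne hYc
  have hYM : Y ≤ M := by
    rw [hY, Subgroup.zpowers_le]
    exact M.pow_mem hxM _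
  have hpσ : p ∈ Cfsg.sigma M := by
    apply primes_sigmaCore M p hpp
    exact hpo.trans (Subgroup.orderOf_dvd_natCard _ hx)
  have hCxY : Subgroup.centralizer ({x} : Set G) ≤ Subgroup.centralizer (Y : Set G) := by
    intro c hc
    rw [Subgroup.mem_centralizer_iff] at hc ⊢
    intro y hy
    obtain ⟨k, rfl⟩ := Subgroup.mem_zpowers_iff.1 hy
    have h1 : x * c = c * x := hc x rfl
    have h2 : Commute x c := h1
    have h3 : Commute (x ^ (orderOf x / p)) c := h2.pow_left _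
    exact (h3.zpow_left k).eq
  -- transitivity
  have h1404 := (Cfsg.Agent.S1404.result hG M hM p hpσ Y hYp hY1 hYM).1
  have htr : ∀ g : G, x ∈ cj g M → ∃ c ∈ Subgroup.centralizer (Y : Set G), cj g M = cj c M := by
    intro g hg
    rw [mem_cj] at hg
    have hYg : Y.map (MulAut.conj g⁻¹).toMonoidHom ≤ M := by
      rintro _ ⟨y, hy, rfl⟩
      obtain ⟨k, rfl⟩ := Subgroup.mem_zpowers_iff.1 hy
      have key : (MulAut.conj g⁻¹).toMonoidHom x = g⁻¹ * x * g := by
        simp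
      have e : (MulAut.conj g⁻¹).toMonoidHom ((x ^ (orderOf x / p)) ^ k) =
          ((g⁻¹ * x * g) ^ (orderOf x / p)) ^ k := by
        rw [map_zpow, map_pow, key]
      rw [e]
      exact M.zpow_mem (M.pow_mem hg _) _
    obtain ⟨m, hm, c, hc, hgmc⟩ := h1404 g⁻¹ hYg
    refine ⟨c⁻¹, Subgroup.inv_mem _ hc, ?_⟩
    have hg' : g = c⁻¹ * m⁻¹ := by
      have : g = (g⁻¹)⁻¹ := by simp
      rw [this, hgmc]; group
    rw [hg', cj_mul, cj_eq_self_of_mem (M.inv_mem hm)]
  -- the maximal subgroup `N`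
  have hNtop : Subgroup.normalizer (Y : Set G) ≠ ⊤ :=
    Cfsg.Agent.Helper31.bgt_normalizer_ne_top_of_simple hY1 (isPGroup_ne_top hG hYp)
  obtain ⟨N, hN, hNY⟩ := (eq_top_or_exists_le_coatom _).resolve_left hNtop
  have hCYN : Subgroup.centralizer (Y : Set G) ≤ N :=
    (Subgroup.centralizer_le_normalizer _).trans hNY
  have hne : N ≠ M := by
    rintro rfl
    obtain ⟨g, hg, hgM⟩ := h2
    obtain ⟨c, hc, hgc⟩ := htr g hg
    apply hgM
    rw [hgc, cj_eq_self_of_mem (hCYN hc)]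
  have hnc : ∀ g : G, cj g M ≠ N :=
    Cfsg.Agent.Helper71.BG11.lemma_12_2b hG hU hM hpσ hYp hY1 hYM hNY hne
  have hpN : p ∉ Cfsg.sigma N := hSP M N hM hN hnc p hpσ
  have hcompl := lemma_12_17_e hG hU h1416 h1417 hM hN hne hpσ hYp hY1 hYM hNY hpN
  obtain ⟨hr2, hr1⟩ := (mem_sigma_or_rank_two hG hU hN Y hYp hY1 hNY).resolve_left hpN
  have hpτ : p ∈ Cfsg.tau2 N := ⟨hpp, hpN, hr2, hr1⟩
  -- `N_σ` is nilpotent
  obtain ⟨A₁, hA₁N, hA₁e, hA₁lt⟩ := (Cfsg.Agent.Helper23.not_pRankLE_subgroup_iff p 1 N).1 hr1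
  rw [pow_one] at hA₁lt
  obtain ⟨A, hAA₁, hAe, hAc⟩ := Cfsg.Agent.Helper64.BG1218.exists_sq_le hA₁e hA₁lt
  have hnil : Group.IsNilpotent ↥(Cfsg.sigmaCore N) :=
    (Cfsg.Agent.S1417.result hG N hN p hpτ A ⟨hAA₁.trans hA₁N, hAe, hAc⟩).1
  refine ⟨N, p, hN, hpp, hpo, hpτ, hnc, hCxY.trans hCYN, hcompl, hnil, ?_⟩
  intro g hg
  obtain ⟨c, hc, hgc⟩ := htr g hg
  exact ⟨c, hCYN hc, hgc⟩

/-- a maximal subgroup of a simple group containing a non-identity element is self-normalizing,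
in the form used below -/
theorem mem_of_cj_eq (hG : Cfsg.IsMinSimpleOddOrder G) {M : Subgroup G} (hM : IsCoatom M) {x : G}
    (hxM : x ∈ M) (hx1 : x ≠ 1) {g : G} (hg : cj g M = M) : g ∈ M := by
  haveI : IsSimpleGroup G := hG.2.1
  have hM1 : M ≠ ⊥ := by
    rintro rfl
    exact hx1 (Subgroup.mem_bot.1 hxM)
  have hn := Cfsg.Agent.Helper31.normalizer_eq_of_isCoatom hM le_rfl hM1 Subgroup.le_normalizer
  rw [← hn]
  exact mem_normalizer_of_cj_eq hg

/-- the coprimality needed for `Helper31.BG144Core.core` -/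
theorem coprime_card_sigmaCore_of_isComplIn (hG : Cfsg.IsMinSimpleOddOrder G) {N D : Subgroup G}
    (hN : IsCoatom N) (hcompl : Cfsg.IsComplIn D (Cfsg.sigmaCore N) N) :
    (Nat.card (Cfsg.sigmaCore N)).Coprime (Nat.card D) := by
  have hU : UniquenessThm G := fun K hK hK2 hK3 => Cfsg.Agent.S1403.result hG K hK hK2 hK3
  obtain ⟨hS, -, -⟩ := thm_10_2_sigma hG hU N hN
  have h1 := Cfsg.Agent.Helper62.isPiHallOf_card_mul_relIndex hS
  have h2 := Cfsg.Agent.Helper31.BG144Core.card_mul_card_of_isComplIn hcompl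
  have h3 := Cfsg.Agent.Helper62.isPiHallOf_coprime hS
  have h4 : (Cfsg.sigmaCore N).relIndex N = Nat.card D := by
    rw [← h2, mul_comm] at h1
    exact Nat.eq_of_mul_eq_mul_right Nat.card_pos h1
  rwa [h4] at h3

/-- **S1374 from the `σ`-partition.** -/
theorem s1374_of_sp (hG : Cfsg.IsMinSimpleOddOrder G) (hSP : SP G)
    (M : Subgroup G) (hM : IsCoatom M) (x : G) (hx : x ∈ Cfsg.sigmaCore M) (hx1 : x ≠ 1) :
    (Nat.card ↥(M ⊓ Subgroup.centralizer ({x} : Set G))).Coprime ((M ⊓ Subgroup.centralizer ({x} : Set G)).relIndex (Subgroup.centralizer ({x} : Set G))) ∧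
      ∃ R : Subgroup G, Subgroup.centralizer ({x} : Set G) ≤ Subgroup.normalizer (R : Set G) ∧ Cfsg.IsComplIn (M ⊓ Subgroup.centralizer ({x} : Set G)) R (Subgroup.centralizer ({x} : Set G)) ∧
        ∀ g : G, x ∈ M.map (MulAut.conj g).toMonoidHom → ∃! r : G, r ∈ R ∧ M.map (MulAut.conj r).toMonoidHom = M.map (MulAut.conj g).toMonoidHom := by
  classical
  have hxM : x ∈ M := sigmaCore_le M hx
  by_cases h2 : ∃ g : G, x ∈ cj g M ∧ cj g M ≠ M
  · obtain ⟨N, p, hN, hpp, hpo, hpτ, hnc, hCx, hcompl, hnil, htr⟩ :=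
      exists_data hG hSP hM hx hx1 h2
    obtain ⟨h1, h3, h4, h5⟩ := Cfsg.Agent.Helper31.BG144Core.core M N (Cfsg.sigmaCore N) x hxM hCx
      (fun g hg => mem_of_cj_eq hG hM hxM hx1 hg) hcompl (le_normalizer_sigmaCore N)
      (coprime_card_sigmaCore_of_isComplIn hG hN hcompl) htr
    exact ⟨h4, _, h1, h3, h5⟩
  · push Not at h2
    have hCM : Subgroup.centralizer ({x} : Set G) ≤ M := by
      intro c hc
      apply mem_of_cj_eq hG hM hxM hx1
      apply h2 c
      rw [mem_cj]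
      have h1 : x * c = c * x := Cfsg.Agent.Helper31.BG144Core.mem_centralizer_singleton.1 hc
      have e : c⁻¹ * x * c = x := by rw [mul_assoc, h1, ← mul_assoc, inv_mul_cancel, one_mul]
      rw [e]; exact hxM
    have hinf : M ⊓ Subgroup.centralizer ({x} : Set G) = Subgroup.centralizer ({x} : Set G) :=
      inf_eq_right.2 hCM
    refine ⟨?_, ⊥, ?_, ?_, ?_⟩
    · rw [hinf, Subgroup.relIndex_self]
      exact Nat.coprime_one_right _
    · intro c _
      rw [Subgroup.mem_normalizer_iff]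
      intro y
      simp [Subgroup.mem_bot]
    · rw [hinf]
      refine ⟨le_rfl, bot_le, inf_bot_eq _, ?_⟩
      intro c hc
      exact ⟨c, hc, 1, Subgroup.one_mem _, (mul_one c).symm⟩
    · intro g hg
      have hgM : cj g M = M := h2 g hg
      refine ⟨1, ⟨Subgroup.one_mem _, ?_⟩, ?_⟩
      · show cj 1 M = cj g M
        rw [cj_one, hgM]
      · rintro r ⟨hr, -⟩
        exact Subgroup.mem_bot.1 hr

end Cfsg.Agent.Helper63.BG144
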