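import Mathlib
import Cfsg.Prelude.Def_OddOrderLocal
import Cfsg.Agent.S1432
import Cfsg.Agent.Helper17.G4320b
import Cfsg.Agent.Helper48.BG142B
import Cfsg.Agent.Helper63.BG144

/-!
# S1375 (B-G Theorem 14.4, second part) from the `σ`-partition (helper57's proof, `#3162` (I)(v))

`s1375_of_sp`: the exact conclusion of S1375 from `SP G`.  Uses S1432 (B-G 14.3).
-/

set_option autoImplicit false
set_option linter.unusedVariables false
set_option linter.unusedSectionVars false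
set_option linter.style.haveILetI false

namespace Cfsg.Agent.Helper63.BG144

open Cfsg Cfsg.Agent.Helper29 Cfsg.Agent.Helper29.BG10 Cfsg.Agent.Helper29.BG11
  Cfsg.Agent.Helper1.BG12 Cfsg.Agent.Helper23.BG13

variable {G : Type*} [Group G] [Finite G]

/-- `τ₂(N)` and `κ(N)` are disjoint -/
theorem not_mem_kappa_of_mem_tau2 {N : Subgroup G} {p : ℕ} (h2 : p ∈ Cfsg.tau2 N) :
    p ∉ Cfsg.kappa N := by
  intro hκ
  haveI : Fact p.Prime := ⟨h2.1⟩
  exact h2.2.2.2 (Cfsg.Agent.Helper48.BG142.pRankLE_one_of_cyclic_sylow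
    (fun P => (hκ.2.2.2 P).1))

/-- **S1375 from the `σ`-partition.** -/
theorem s1375_of_sp (hG : Cfsg.IsMinSimpleOddOrder G) (hSP : SP G)
    (M : Subgroup G) (hM : IsCoatom M) (x : G) (hx : x ∈ Cfsg.sigmaCore M) (hx1 : x ≠ 1) (hxM : ¬ Subgroup.centralizer ({x} : Set G) ≤ M) :
    ∃ N : Subgroup G, (IsCoatom N ∧ Subgroup.centralizer ({x} : Set G) ≤ N) ∧ (∀ L : Subgroup G, IsCoatom L → Subgroup.centralizer ({x} : Set G) ≤ L → L = N) ∧
        Cfsg.sigmaCore N = Cfsg.fittingHallOf N ∧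
        Subgroup.centralizer ({x} : Set G) ≤ Subgroup.normalizer ((Cfsg.sigmaCore N ⊓ Subgroup.centralizer ({x} : Set G) : Subgroup G) : Set G) ∧
        Cfsg.IsComplIn (M ⊓ Subgroup.centralizer ({x} : Set G)) (Cfsg.sigmaCore N ⊓ Subgroup.centralizer ({x} : Set G)) (Subgroup.centralizer ({x} : Set G)) ∧
        Cfsg.IsComplIn (M ⊓ N) (Cfsg.sigmaCore N) N ∧
        ∀ K' U' : Subgroup G, Cfsg.IsSigmaDecomposition N K' U' → U' ≠ ⊥ ∧ x ∈ Cfsg.sigmaA N U' ∧ x ∉ Cfsg.sigmaCore N := by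
  classical
  have hxMM : x ∈ M := sigmaCore_le M hx
  -- `x` lies in a second conjugate of `M`
  have h2 : ∃ g : G, x ∈ cj g M ∧ cj g M ≠ M := by
    obtain ⟨c, hc, hcM⟩ := SetLike.not_le_iff_exists.1 hxM
    refine ⟨c, ?_, fun h => hcM (mem_of_cj_eq hG hM hxMM hx1 h)⟩
    rw [mem_cj]
    have h1 : x * c = c * x := Cfsg.Agent.Helper31.BG144Core.mem_centralizer_singleton.1 hc
    have e : c⁻¹ * x * c = x := by rw [mul_assoc, h1, ← mul_assoc, inv_mul_cancel, one_mul]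
    rw [e]; exact hxMM
  obtain ⟨N, p, hN, hpp, hpo, hpτ, hnc, hCx, hcompl, hnil, htr⟩ :=
    exists_data hG hSP hM hx hx1 h2
  haveI : Fact p.Prime := ⟨hpp⟩
  obtain ⟨h1, h3, h4, h5⟩ := Cfsg.Agent.Helper31.BG144Core.core M N (Cfsg.sigmaCore N) x hxMM hCx
    (fun g hg => mem_of_cj_eq hG hM hxMM hx1 hg) hcompl (le_normalizer_sigmaCore N)
    (coprime_card_sigmaCore_of_isComplIn hG hN hcompl) htr
  set C := Subgroup.centralizer ({x} : Set G) with hC
  have hxC : x ∈ C := Cfsg.Agent.Helper31.BG144Core.mem_centralizer_singleton.2 rfl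
  have hxN : x ∈ N := hCx hxC
  -- `R ≠ 1`
  have hR1 : Cfsg.sigmaCore N ⊓ C ≠ ⊥ := by
    intro hbot
    apply hxM
    intro c hc
    obtain ⟨a, ha, b, hb, rfl⟩ := h3.2.2.2 c hc
    rw [hbot, Subgroup.mem_bot] at hb
    rw [hb, mul_one]
    exact ha.1
  obtain ⟨⟨n, hnR⟩, hn1⟩ := (Subgroup.ne_bot_iff_exists_ne_one).1 hR1
  have hn1' : n ≠ 1 := fun h => hn1 (Subtype.ext h)
  have hnσ : n ∈ Cfsg.sigmaCore N := hnR.1
  have hxn : x * n = n * x := Cfsg.Agent.Helper31.BG144Core.mem_centralizer_singleton.1 hnR.2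
  -- the primes of `o(x)` are in `σ(M)`, so not in `σ(N)`
  have hprimes : ∀ r : ℕ, r.Prime → r ∣ orderOf x → r ∉ Cfsg.sigma N := by
    intro r hr hd
    apply hSP M N hM hN hnc r
    apply primes_sigmaCore M r hr
    exact hd.trans (Subgroup.orderOf_dvd_natCard _ hx)
  -- S1432
  have hxCn : x ∈ N ⊓ Subgroup.centralizer ({n} : Set G) :=
    ⟨hxN, Cfsg.Agent.Helper31.BG144Core.mem_centralizer_singleton.2 hxn.symm⟩
  have h32 := Cfsg.Agent.S1432.result hG N hN n hnσ hn1' x hxCn hx1 hprimes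
  have hτ2 : (∀ r : ℕ, r.Prime → r ∣ orderOf x → r ∈ Cfsg.tau2 N) ∧
      ∀ L : Subgroup G, IsCoatom L → C ≤ L → L = N := by
    rcases h32 with ⟨hκ, -⟩ | ⟨hτ, -, -, huniq⟩
    · exact absurd (hκ p hpp hpo) (not_mem_kappa_of_mem_tau2 hpτ)
    · exact ⟨hτ, huniq⟩
  refine ⟨N, ⟨hN, hCx⟩, hτ2.2,
    (Cfsg.Agent.Helper35.BG153.fittingHallOf_eq_sigmaCore_of_isNilpotent hG hN hnil).symm,
    h1, h3, hcompl, ?_⟩
  intro K' U' hd
  have hpσN : p ∉ Cfsg.sigma N := hpτ.2.1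
  have hpN : p ∣ Nat.card N := hpo.trans (Subgroup.orderOf_dvd_natCard _ hxN)
  have hK'N : K' ≤ N := hd.hall.1
  have hK'σ : K' ≤ Subgroup.normalizer ((Cfsg.sigmaCore N : Subgroup G) : Set G) :=
    hK'N.trans (le_normalizer_sigmaCore N)
  refine ⟨?_, ⟨⟨hxN, n, hnσ, hn1', hxn⟩, ?_⟩, ?_⟩
  · -- `U' ≠ 1`
    rintro rfl
    have hle : N ≤ K' ⊔ Cfsg.sigmaCore N := by
      intro m hm
      obtain ⟨a, ha, b, hb, rfl⟩ := hd.compl.2.2.2 m hm
      rw [Subgroup.mem_bot] at ha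
      rw [ha, one_mul]; exact hb
    have hdvd : p ∣ Nat.card K' * Nat.card (Cfsg.sigmaCore N) := by
      rw [← Cfsg.Agent.Helper31.card_sup_mul_card_inf' K' (Cfsg.sigmaCore N) hK'σ]
      exact Dvd.dvd.mul_right (hpN.trans (Subgroup.card_dvd_of_le hle)) _
    rcases (Nat.Prime.dvd_mul hpp).1 hdvd with h | h
    · exact not_mem_kappa_of_mem_tau2 hpτ (hd.hall.2.1 p hpp h)
    · exact hpσN (primes_sigmaCore N p hpp h)
  · -- `x ∈ U' N_σ`
    set W := U' ⊔ Cfsg.sigmaCore N with hW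
    have hU'N : U' ≤ N := hd.compl.1
    have hWN : W ≤ N := sup_le hU'N (sigmaCore_le N)
    have hK'W : K' ≤ Subgroup.normalizer (W : Set G) := by
      intro k hk
      apply mem_normalizer_of_cj_eq
      have e : cj k W = cj k U' ⊔ cj k (Cfsg.sigmaCore N) := Subgroup.map_sup _ _ _
      rw [e, cj_eq_of_mem_normalizer (hd.normal hk), cj_eq_of_mem_normalizer (hK'σ hk)]
    have hNfac : N ≤ U' ⊔ (K' ⊔ Cfsg.sigmaCore N) := by
      intro m hm
      obtain ⟨a, ha, b, hb, rfl⟩ := hd.compl.2.2.2 m hm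
      exact Subgroup.mul_mem_sup ha hb
    have hNW : N ≤ Subgroup.normalizer (W : Set G) := by
      refine hNfac.trans (sup_le ?_ (sup_le hK'W ?_))
      · exact (le_sup_left : U' ≤ W).trans Subgroup.le_normalizer
      · exact (le_sup_right : Cfsg.sigmaCore N ≤ W).trans Subgroup.le_normalizer
    have hsupN : K' ⊔ W = N := by
      apply le_antisymm (sup_le hK'N hWN)
      refine hNfac.trans (sup_le ?_ (sup_le_sup_left le_sup_right K'))
      exact (le_sup_left : U' ≤ W).trans le_sup_right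
    have hidx : W.relIndex N = W.relIndex K' := by
      rw [← hsupN]
      exact Cfsg.Agent.Helper31.relIndex_sup_right_of_le_normalizer' K' W hK'W
    have hdvd : W.relIndex N ∣ Nat.card K' := by
      rw [hidx]; exact Subgroup.relIndex_dvd_card W K'
    have hcardN : Nat.card N = Nat.card W * W.relIndex N :=
      (Cfsg.Agent.Helper11.card_mul_relIndex hWN).symm
    have hcop : (orderOf x).Coprime (W.relIndex N) := by
      apply Nat.coprime_of_dvd
      intro k hk hk1 hk2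
      exact not_mem_kappa_of_mem_tau2 (hτ2.1 k hk hk1) (hd.hall.2.1 k hk (hk2.trans hdvd))
    exact Cfsg.Agent.Helper17.G4320.mem_of_normal_of_coprime_index hWN hNW hcardN hxN hcop
  · -- `x ∉ N_σ`
    intro hxσ
    exact hpσN (primes_sigmaCore N p hpp (hpo.trans (Subgroup.orderOf_dvd_natCard _ hxσ)))

end Cfsg.Agent.Helper63.BG144
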