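import Mathlib
import Cfsg.Agent.Helper16.DT.Defs
import Cfsg.Agent.Helper77.DefectOrder
import Cfsg.Agent.Helper78.BlockBasic
import Cfsg.Agent.Helper79.RelDegDS
import Cfsg.Agent.Helper80.TwoClassesSylow
import Cfsg.Agent.Helper80.Degree
import Cfsg.Agent.S0907
import Cfsg.Agent.S4491

set_option autoImplicit false
set_option linter.unusedSectionVars false
set_option linter.unusedVariables false

/-!
# DT farm (helper16), leaf (FIN): S4641 from the five properties of the irreducible Brauer characters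
of a block (pure ordinary character theory).
-/

namespace Cfsg.Agent.Helper63.DT

open Cfsg Cfsg.Agent.Helper16 Cfsg.Agent.Helper16.DT Polynomial Matrix
open scoped ComplexConjugate

universe u v w

section Main

variable {p : ℕ} [Fact p.Prime] {M : Ideal AlgInt} {G : Type u} [Group G]

/-- the `p`-parts: `m = min ν_p(χ 1)`, `d = a - m`, `ν_p(g) = m`, `m ≤ a` -/
theorem FIN_arith [Finite G] (hM : IsPModular p M) (B : Set (IrrCharacter G))
    (hB : IsPBlock M B) (D : Subgroup G) (hD : IsDefectGroup p M B D) (a d : ℕ)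
    (ha : (Nat.card G).factorization p = a) (hd : Nat.card D = p ^ d) (g : ℕ)
    (hg1 : ∀ χ ∈ B, g ∣ charDegree (χ : G → ℂ))
    (hg2 : ∀ g' : ℕ, (∀ χ ∈ B, g' ∣ charDegree (χ : G → ℂ)) → g' ∣ g) :
    ∃ m : ℕ, m ≤ a ∧ d = a - m ∧ blockDefect p B = a - m ∧ g.factorization p = m ∧ 0 < g := by
  classical
  have : Fintype G := Fintype.ofFinite G
  have hp : p.Prime := Fact.out
  have hMp : M.IsPrime := Helper78.isPrime_of_isPModular hM
  have hne : B.Nonempty := Helper78.isPBlock_nonempty hMp hB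
  set T : Set ℕ := (fun χ : IrrCharacter G => (charDegree (χ : G → ℂ)).factorization p) '' B
    with hT
  have hTne : T.Nonempty := hne.image _
  obtain ⟨χ₀, hχ₀, hχ₀m⟩ := Nat.sInf_mem hTne
  have hle : ∀ χ ∈ B, sInf T ≤ (charDegree (χ : G → ℂ)).factorization p :=
    fun χ hχ => Nat.sInf_le ⟨χ, hχ, rfl⟩
  have hpos : ∀ χ : IrrCharacter G, 0 < charDegree (χ : G → ℂ) := Helper79.irr_charDegree_pos
  have hGpos : 0 < Nat.card G := Nat.card_pos
  have hma : sInf T ≤ a := by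
    rw [← hχ₀m, ← ha]
    exact (Nat.factorization_le_iff_dvd (hpos χ₀).ne' hGpos.ne').2
      (Helper80.IsIrrCharacter.charDegree_dvd_card χ₀.2) p
  have hdef : blockDefect p B = a - sInf T := by
    unfold blockDefect
    rw [ha]
  have hd' : d = a - sInf T := by
    have h1 := Helper77.card_defectGroup hM hB D hD
    rw [hd, hdef] at h1
    exact Nat.pow_right_injective hp.two_le h1
  have hgpos : 0 < g := by
    rcases Nat.eq_zero_or_pos g with h0 | h0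
    · exfalso
      have := hg1 χ₀ hχ₀
      rw [h0, zero_dvd_iff] at this
      exact (hpos χ₀).ne' this
    · exact h0
  have hgm : g.factorization p = sInf T := by
    apply le_antisymm
    · rw [← hχ₀m]
      exact (Nat.factorization_le_iff_dvd hgpos.ne' (hpos χ₀).ne').2 (hg1 χ₀ hχ₀) p
    · have h1 : p ^ sInf T ∣ g := by
        apply hg2
        intro χ hχ
        exact (hp.pow_dvd_iff_le_factorization (hpos χ).ne').2 (hle χ hχ)
      exact (hp.pow_dvd_iff_le_factorization hgpos.ne').1 h1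
  exact ⟨sInf T, hma, hd', hdef, hgm, hgpos⟩

theorem FIN_reg {χ : G → ℂ} {x : G} (hx : ¬ p ∣ orderOf x) : pRegularPart p χ x = χ x := by
  unfold pRegularPart
  rw [if_pos]
  exact hx

theorem FIN_sing {χ : G → ℂ} {x : G} (hx : p ∣ orderOf x) : pRegularPart p χ x = 0 := by
  unfold pRegularPart
  rw [if_neg]
  intro h
  exact h hx

theorem FIN_indep {S : Finset (G → ℂ)}
    (hS1 : LinearIndependent ℂ (fun φ : S => (φ : G → ℂ))) (c : (G → ℂ) → ℂ)
    (h : ∑ φ ∈ S, c φ • φ = 0) : ∀ φ ∈ S, c φ = 0 := by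
  intro φ hφ
  have h0 : ∑ i : S, c (i : G → ℂ) • (i : G → ℂ) = 0 := by
    rw [← h]
    exact Finset.sum_coe_sort S (fun φ => c φ • φ)
  exact Fintype.linearIndependent_iff.1 hS1 (fun φ : S => c φ) h0 ⟨φ, hφ⟩

/-- the projective characters `Φ_φ` vanish at the `p`-singular elements -/
theorem FIN_vanish [Finite G] (hM : IsPModular p M) (Bf : Finset (IrrCharacter G))
    (hB : IsPBlock M (Bf : Set (IrrCharacter G)))
    (S : Finset (G → ℂ)) (hS1 : LinearIndependent ℂ (fun φ : S => (φ : G → ℂ)))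
    (dd : IrrCharacter G → (G → ℂ) → ℕ)
    (hdd : ∀ χ ∈ Bf, pRegularPart p (χ : G → ℂ) = ∑ φ ∈ S, (dd χ φ : ℂ) • φ)
    (y : G) (hy : p ∣ orderOf y) (φ : G → ℂ) (hφ : φ ∈ S) :
    ∑ χ ∈ Bf, (dd χ φ : ℂ) * (χ : G → ℂ) y = 0 := by
  have key : ∀ x : G, ∑ χ ∈ Bf, pRegularPart p (χ : G → ℂ) x * conj ((χ : G → ℂ) y) = 0 := by
    intro x
    by_cases hx : p ∣ orderOf x
    · apply Finset.sum_eq_zero
      intro χ _
      rw [FIN_sing hx, zero_mul]
    · have h := Cfsg.Agent.S0907.result p M hM (Bf : Set (IrrCharacter G)) hB x y hx hy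
      rw [finsum_mem_coe_finset] at h
      rw [← h]
      apply Finset.sum_congr rfl
      intro χ _
      rw [FIN_reg hx]
  have hc : ∑ ψ ∈ S, (∑ χ ∈ Bf, (dd χ ψ : ℂ) * conj ((χ : G → ℂ) y)) • ψ = 0 := by
    funext x
    rw [Finset.sum_apply, Pi.zero_apply, ← key x]
    simp only [Pi.smul_apply, smul_eq_mul]
    have h1 : ∀ χ ∈ Bf, pRegularPart p (χ : G → ℂ) x * conj ((χ : G → ℂ) y) =
        ∑ ψ ∈ S, (dd χ ψ : ℂ) * conj ((χ : G → ℂ) y) * ψ x := by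
      intro χ hχ
      rw [hdd χ hχ, Finset.sum_apply, Finset.sum_mul]
      apply Finset.sum_congr rfl
      intro ψ _
      rw [Pi.smul_apply, smul_eq_mul]
      ring
    rw [Finset.sum_congr rfl h1, Finset.sum_comm]
    apply Finset.sum_congr rfl
    intro ψ _
    rw [Finset.sum_mul]
  have h0 := FIN_indep hS1 _ hc φ hφ
  have h1 : conj (∑ χ ∈ Bf, (dd χ φ : ℂ) * (χ : G → ℂ) y) =
      ∑ χ ∈ Bf, (dd χ φ : ℂ) * conj ((χ : G → ℂ) y) := by
    rw [map_sum]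
    apply Finset.sum_congr rfl
    intro χ _
    rw [map_mul, Complex.conj_natCast]
  rw [← h1] at h0
  exact (map_eq_zero _).1 h0

/-- some decomposition number in the column of `φ` is nonzero -/
theorem FIN_pos (Bf : Finset (IrrCharacter G))
    (S : Finset (G → ℂ)) (hS1 : LinearIndependent ℂ (fun φ : S => (φ : G → ℂ)))
    (dd : IrrCharacter G → (G → ℂ) → ℕ)
    (hdd : ∀ χ ∈ Bf, pRegularPart p (χ : G → ℂ) = ∑ φ ∈ S, (dd χ φ : ℂ) • φ)
    (aa : IrrCharacter G → ℤ) (φ : G → ℂ) (hφ : φ ∈ S)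
    (haa : φ = ∑ χ ∈ Bf, (aa χ : ℂ) • pRegularPart p (χ : G → ℂ)) :
    ∃ χ ∈ Bf, dd χ φ ≠ 0 := by
  classical
  have h1 : ∑ ψ ∈ S, (∑ χ ∈ Bf, (aa χ : ℂ) * (dd χ ψ : ℂ)) • ψ = φ := by
    have e1 : ∑ χ ∈ Bf, (aa χ : ℂ) • pRegularPart p (χ : G → ℂ) =
        ∑ χ ∈ Bf, ∑ ψ ∈ S, ((aa χ : ℂ) * (dd χ ψ : ℂ)) • ψ := by
      apply Finset.sum_congr rfl
      intro χ hχ
      rw [hdd χ hχ, Finset.smul_sum]
      apply Finset.sum_congr rfl
      intro ψ _
      rw [smul_smul]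
    conv_rhs => rw [haa, e1, Finset.sum_comm]
    apply Finset.sum_congr rfl
    intro ψ _
    rw [Finset.sum_smul]
  have h2 : ∑ ψ ∈ S, (if ψ = φ then (1 : ℂ) else 0) • ψ = φ := by
    rw [Finset.sum_eq_single φ]
    · rw [if_pos rfl, one_smul]
    · intro b _ hb
      rw [if_neg hb, zero_smul]
    · intro h
      exact absurd hφ h
  have h3 : ∑ ψ ∈ S, ((∑ χ ∈ Bf, (aa χ : ℂ) * (dd χ ψ : ℂ)) -
      (if ψ = φ then (1 : ℂ) else 0)) • ψ = 0 := by
    simp only [sub_smul, Finset.sum_sub_distrib]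
    rw [h1, h2, sub_self]
  have h4 := FIN_indep hS1 _ h3 φ hφ
  rw [if_pos rfl] at h4
  by_contra hall
  push Not at hall
  have h5 : ∑ χ ∈ Bf, (aa χ : ℂ) * (dd χ φ : ℂ) = 0 := by
    apply Finset.sum_eq_zero
    intro χ hχ
    rw [hall χ hχ, Nat.cast_zero, mul_zero]
  rw [h5] at h4
  norm_num at h4


/-- nontrivial elements of a `p`-subgroup are `p`-singular -/
theorem FIN_dvd_orderOf {P : Subgroup G} (hP : IsPGroup p P) {y : G} (hy : y ∈ P) (hy1 : y ≠ 1) :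
    p ∣ orderOf y := by
  have hp : p.Prime := Fact.out
  obtain ⟨k, hk⟩ := hP ⟨y, hy⟩
  have hk' : y ^ p ^ k = 1 := by
    have := congrArg Subtype.val hk
    simpa using this
  obtain ⟨j, hj, hj'⟩ := (Nat.dvd_prime_pow hp).1 (orderOf_dvd_of_pow_eq_one hk')
  rcases Nat.eq_zero_or_pos j with h0 | h0
  · exfalso
    rw [h0, pow_zero, orderOf_eq_one_iff] at hj'
    exact hy1 hj'
  · rw [hj']
    exact dvd_pow_self p h0.ne'

/-- `p ^ a` divides `Φ_φ 1` -/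
theorem FIN_pow_dvd [Finite G] (hM : IsPModular p M) (Bf : Finset (IrrCharacter G))
    (hB : IsPBlock M (Bf : Set (IrrCharacter G)))
    (S : Finset (G → ℂ)) (hS1 : LinearIndependent ℂ (fun φ : S => (φ : G → ℂ)))
    (dd : IrrCharacter G → (G → ℂ) → ℕ)
    (hdd : ∀ χ ∈ Bf, pRegularPart p (χ : G → ℂ) = ∑ φ ∈ S, (dd χ φ : ℂ) • φ)
    (φ : G → ℂ) (hφ : φ ∈ S) :
    p ^ (Nat.card G).factorization p ∣ ∑ χ ∈ Bf, dd χ φ * charDegree (χ : G → ℂ) := by
  classical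
  set Φ : G → ℂ := ∑ χ ∈ Bf, dd χ φ • (χ : G → ℂ) with hΦ
  have hΦc : IsCharacter G Φ := by
    apply Helper79.RelDeg.isCharacter_fsum
    intro χ _
    exact Helper79.RelDeg.isCharacter_nsmul' (Helper74.irr_isCharacter χ) _
  have hΦy : ∀ y : G, Φ y = ∑ χ ∈ Bf, (dd χ φ : ℂ) * (χ : G → ℂ) y := by
    intro y
    rw [hΦ, Finset.sum_apply]
    apply Finset.sum_congr rfl
    intro χ _
    rw [Pi.smul_apply, nsmul_eq_mul]
  obtain ⟨P⟩ : Nonempty (Sylow p G) := inferInstance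
  have hv : ∀ y ∈ (P : Subgroup G), y ≠ 1 → Φ y = 0 := by
    intro y hy hy1
    rw [hΦy]
    exact FIN_vanish hM Bf hB S hS1 dd hdd y (FIN_dvd_orderOf P.isPGroup' hy hy1) φ hφ
  have h1 := Helper80.IsCharacter.card_dvd_charDegree_of_vanish hΦc (P : Subgroup G) hv
  rw [P.card_eq_multiplicity] at h1
  have h2 : charDegree Φ = ∑ χ ∈ Bf, dd χ φ * charDegree (χ : G → ℂ) := by
    have h3 : ((charDegree Φ : ℕ) : ℂ) = ((∑ χ ∈ Bf, dd χ φ * charDegree (χ : G → ℂ) : ℕ) : ℂ) := by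
      rw [Helper80.IsCharacter.charDegree_cast hΦc, hΦy]
      push_cast
      apply Finset.sum_congr rfl
      intro χ _
      rw [Helper79.irr_one]
    exact_mod_cast h3
  rw [← h2]
  exact h1


/-- the arithmetic core -/
theorem FIN_core {p a m g : ℕ} (hp : p.Prime) (hgpos : 0 < g)
    (hgm : g.factorization p = m) {ι : Type*} (S : Finset ι) (nn Φ1 : ι → ℕ)
    (hn : ∀ φ ∈ S, 0 < nn φ) (hgn : ∀ φ ∈ S, g ∣ nn φ)
    (hΦpos : ∀ φ ∈ S, 0 < Φ1 φ) (hpa : ∀ φ ∈ S, p ^ a ∣ Φ1 φ) (hgΦ : ∀ φ ∈ S, g ∣ Φ1 φ)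
    (T : ℕ) (hT : T = ∑ φ ∈ S, nn φ * Φ1 φ) (hTpos : 0 < T) (hTp : T.factorization p = a + m) :
    ∃ v : ℕ, 0 < v ∧ ¬ p ∣ v ∧ S.card ≤ v ∧ T = p ^ (a + m) * (g / p ^ m) ^ 2 * v := by
  set u : ℕ := g / p ^ m with hu_def
  have hu : p ^ m * u = g := by
    rw [hu_def, ← hgm]
    exact Nat.ordProj_mul_ordCompl_eq_self g p
  have hup : ¬ p ∣ u := by
    rw [hu_def, ← hgm]
    exact Nat.not_dvd_ordCompl hp hgpos.ne'
  have hcop : Nat.Coprime (p ^ a) u :=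
    Nat.Coprime.pow_left a ((Nat.Prime.coprime_iff_not_dvd hp).2 hup)
  have hs : ∀ φ ∈ S, ∃ s, 0 < s ∧ nn φ = g * s := by
    intro φ hφ
    obtain ⟨s, hs⟩ := hgn φ hφ
    refine ⟨s, ?_, hs⟩
    rcases Nat.eq_zero_or_pos s with h | h
    · exfalso
      rw [h, mul_zero] at hs
      have := hn φ hφ
      omega
    · exact h
  have ht : ∀ φ ∈ S, ∃ t, 0 < t ∧ Φ1 φ = p ^ a * u * t := by
    intro φ hφ
    obtain ⟨t, ht⟩ := Nat.Coprime.mul_dvd_of_dvd_of_dvd hcop (hpa φ hφ)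
      ((Dvd.intro_left _ hu).trans (hgΦ φ hφ))
    refine ⟨t, ?_, ht⟩
    rcases Nat.eq_zero_or_pos t with h | h
    · exfalso
      rw [h, mul_zero] at ht
      have := hΦpos φ hφ
      omega
    · exact h
  choose! s hs using hs
  choose! t ht using ht
  have hTv : T = p ^ (a + m) * u ^ 2 * ∑ φ ∈ S, s φ * t φ := by
    rw [hT, Finset.mul_sum]
    apply Finset.sum_congr rfl
    intro φ hφ
    rw [(hs φ hφ).2, (ht φ hφ).2, ← hu, pow_add]
    ring
  have hT0 : T ≠ 0 := hTpos.ne'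
  have hv0 : 0 < ∑ φ ∈ S, s φ * t φ := by
    rcases Nat.eq_zero_or_pos (∑ φ ∈ S, s φ * t φ) with h | h
    · exfalso
      rw [h, mul_zero] at hTv
      exact hT0 hTv
    · exact h
  refine ⟨∑ φ ∈ S, s φ * t φ, hv0, ?_, ?_, hTv⟩
  · intro hdvd
    obtain ⟨w, hw⟩ := hdvd
    have h1 : p ^ (a + m + 1) ∣ T := by
      rw [hTv, hw]
      exact ⟨u ^ 2 * w, by rw [pow_succ]; ring⟩
    have h2 := (hp.pow_dvd_iff_le_factorization hT0).1 h1
    omega
  · rw [Finset.card_eq_sum_ones]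
    apply Finset.sum_le_sum
    intro φ hφ
    exact Nat.mul_pos (hs φ hφ).1 (ht φ hφ).1

/-- (FIN) the application: S4641 from the main theorem. -/
theorem s4641_of_main [Finite G] (hM : IsPModular p M) (B : Set (IrrCharacter G))
    (hB : IsPBlock M B) (S : Finset (G → ℂ))
    (hS1 : LinearIndependent ℂ (fun φ : S => (φ : G → ℂ)))
    (hS2 : S.card = blockRank p B)
    (hS3 : ∀ χ ∈ B, ∃ d : (G → ℂ) → ℕ, pRegularPart p (χ : G → ℂ) = ∑ φ ∈ S, (d φ : ℂ) • φ)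
    (hS4 : ∀ φ ∈ S, ∃ a : IrrCharacter G → ℤ,
        φ = ∑ᶠ χ ∈ B, (a χ : ℂ) • pRegularPart p (χ : G → ℂ))
    (hS5 : ∀ φ ∈ S, ∃ n : ℕ, 0 < n ∧ φ 1 = n)
    (D : Subgroup G) (hD : IsDefectGroup p M B D) (a d : ℕ)
    (ha : (Nat.card G).factorization p = a) (hd : Nat.card D = p ^ d) (g : ℕ)
    (hg1 : ∀ χ ∈ B, g ∣ charDegree (χ : G → ℂ))
    (hg2 : ∀ g' : ℕ, (∀ χ ∈ B, g' ∣ charDegree (χ : G → ℂ)) → g' ∣ g) :
    g.factorization p = a - d ∧ ∃ v : ℕ, 0 < v ∧ ¬ p ∣ v ∧ blockRank p B ≤ v ∧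
      ∑ᶠ χ ∈ B, charDegree (χ : G → ℂ) ^ 2 = p ^ (2 * a - d) * (g / p ^ (a - d)) ^ 2 * v := by
  classical
  have hp : p.Prime := Fact.out
  have hMp : M.IsPrime := Helper78.isPrime_of_isPModular hM
  obtain ⟨m, hma, hdm, hdef, hgm, hgpos⟩ := FIN_arith hM B hB D hD a d ha hd g hg1 hg2
  have hne : B.Nonempty := Helper78.isPBlock_nonempty hMp hB
  have e1 : a - d = m := by omega
  have e2 : 2 * a - d = a + m := by omega
  refine ⟨by rw [hgm, e1], ?_⟩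
  rw [e1, e2]
  have h4491 := Cfsg.Agent.S4491.result p M hM B hB
  rw [hdef, ha] at h4491
  have e3 : 2 * a - (a - m) = a + m := by omega
  rw [e3] at h4491
  -- `B` as a finset
  have : Finite (IrrCharacter G) := Helper79.irr_finite'
  have hBfin : B.Finite := Set.toFinite B
  obtain ⟨Bf, rfl⟩ : ∃ Bf : Finset (IrrCharacter G), (Bf : Set (IrrCharacter G)) = B :=
    ⟨hBfin.toFinset, hBfin.coe_toFinset⟩
  rw [finsum_mem_coe_finset] at h4491 ⊢
  have hS3' : ∀ χ ∈ Bf, ∃ d : (G → ℂ) → ℕ,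
      pRegularPart p (χ : G → ℂ) = ∑ φ ∈ S, (d φ : ℂ) • φ :=
    fun χ hχ => hS3 χ (Finset.mem_coe.2 hχ)
  choose! dd hdd using hS3'
  choose! aa haa using hS4
  choose! nn hnn using hS5
  have hBne : Bf.Nonempty := by
    obtain ⟨χ, hχ⟩ := hne
    exact ⟨χ, Finset.mem_coe.1 hχ⟩
  have hcdpos : ∀ χ : IrrCharacter G, 0 < charDegree (χ : G → ℂ) := Helper79.irr_charDegree_pos
  have hone : ¬ p ∣ orderOf (1 : G) := by
    rw [orderOf_one]
    exact hp.one_lt.ne' ∘ Nat.dvd_one.1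
  -- the degrees
  have hdeg : ∀ χ ∈ Bf, charDegree (χ : G → ℂ) = ∑ φ ∈ S, dd χ φ * nn φ := by
    intro χ hχ
    have h1 : ((charDegree (χ : G → ℂ) : ℕ) : ℂ) = ((∑ φ ∈ S, dd χ φ * nn φ : ℕ) : ℂ) := by
      rw [← Helper79.irr_one, ← FIN_reg (p := p) (χ := (χ : G → ℂ)) hone, hdd χ hχ,
        Finset.sum_apply]
      push_cast
      apply Finset.sum_congr rfl
      intro φ hφ
      rw [Pi.smul_apply, smul_eq_mul, (hnn φ hφ).2]
    exact_mod_cast h1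
  -- `g ∣ φ 1`
  have hgn : ∀ φ ∈ S, g ∣ nn φ := by
    intro φ hφ
    have h1 : ((nn φ : ℤ) : ℂ) = ((∑ χ ∈ Bf, aa φ χ * (charDegree (χ : G → ℂ) : ℤ) : ℤ) : ℂ) := by
      have h2 := congrFun (haa φ hφ) 1
      rw [finsum_mem_coe_finset, Finset.sum_apply, (hnn φ hφ).2] at h2
      push_cast
      rw [h2]
      apply Finset.sum_congr rfl
      intro χ _
      rw [Pi.smul_apply, smul_eq_mul, FIN_reg hone, Helper79.irr_one]
    have h3 : (nn φ : ℤ) = ∑ χ ∈ Bf, aa φ χ * (charDegree (χ : G → ℂ) : ℤ) := by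
      exact_mod_cast h1
    have h4 : (g : ℤ) ∣ (nn φ : ℤ) := by
      rw [h3]
      apply Finset.dvd_sum
      intro χ hχ
      exact Dvd.dvd.mul_left (Int.natCast_dvd_natCast.2 (hg1 χ (Finset.mem_coe.2 hχ))) _
    exact Int.natCast_dvd_natCast.1 h4
  -- the columns
  have hΦpos : ∀ φ ∈ S, 0 < ∑ χ ∈ Bf, dd χ φ * charDegree (χ : G → ℂ) := by
    intro φ hφ
    have haa' : φ = ∑ χ ∈ Bf, (aa φ χ : ℂ) • pRegularPart p (χ : G → ℂ) := by
      have := haa φ hφ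
      rwa [finsum_mem_coe_finset] at this
    obtain ⟨χ, hχ, hχ0⟩ := FIN_pos Bf S hS1 dd hdd (aa φ) φ hφ haa'
    apply Finset.sum_pos'
    · intro i _
      exact Nat.zero_le _
    · exact ⟨χ, hχ, Nat.mul_pos (Nat.pos_of_ne_zero hχ0) (hcdpos χ)⟩
  have hpa : ∀ φ ∈ S, p ^ a ∣ ∑ χ ∈ Bf, dd χ φ * charDegree (χ : G → ℂ) := by
    intro φ hφ
    rw [← ha]
    exact FIN_pow_dvd hM Bf hB S hS1 dd hdd φ hφ
  have hgΦ : ∀ φ ∈ S, g ∣ ∑ χ ∈ Bf, dd χ φ * charDegree (χ : G → ℂ) := by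
    intro φ hφ
    apply Finset.dvd_sum
    intro χ hχ
    exact Dvd.dvd.mul_left (hg1 χ (Finset.mem_coe.2 hχ)) _
  have hT : ∑ χ ∈ Bf, charDegree (χ : G → ℂ) ^ 2 =
      ∑ φ ∈ S, nn φ * ∑ χ ∈ Bf, dd χ φ * charDegree (χ : G → ℂ) := by
    have h1 : ∀ χ ∈ Bf, charDegree (χ : G → ℂ) ^ 2 =
        ∑ φ ∈ S, nn φ * (dd χ φ * charDegree (χ : G → ℂ)) := by
      intro χ hχ
      conv_lhs => rw [sq, hdeg χ hχ, Finset.sum_mul]
      apply Finset.sum_congr rfl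
      intro φ _
      rw [← hdeg χ hχ]
      ring
    rw [Finset.sum_congr rfl h1, Finset.sum_comm]
    apply Finset.sum_congr rfl
    intro φ _
    rw [Finset.mul_sum]
  have hTpos : 0 < ∑ χ ∈ Bf, charDegree (χ : G → ℂ) ^ 2 := by
    apply Finset.sum_pos
    · intro χ _
      exact pow_pos (hcdpos χ) 2
    · exact hBne
  obtain ⟨v, hv0, hpv, hSv, hTv⟩ := FIN_core hp hgpos hgm S nn
    (fun φ => ∑ χ ∈ Bf, dd χ φ * charDegree (χ : G → ℂ)) (fun φ hφ => (hnn φ hφ).1) hgn hΦpos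
    hpa hgΦ _ hT hTpos h4491
  exact ⟨v, hv0, hpv, hS2 ▸ hSv, hTv⟩


end Main

end Cfsg.Agent.Helper63.DT
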