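import Mathlib
import Cfsg.Agent.Helper3.E27Defs

/-!
# S3701 (helper3's plan, board #6444): piece (B0), Fourier analysis on `Vec = (ZMod 3)³`
-/

set_option autoImplicit false

namespace Cfsg.Agent.Helper63.E27

open Cfsg Finset Cfsg.Agent.Helper3.E27
open scoped ComplexConjugate

variable {ζ : ℂ}

theorem e_add (h3 : ζ ^ 3 = 1) (x y : ZMod 3) : ζ ^ (x + y).val = ζ ^ x.val * ζ ^ y.val := by
  rw [← pow_add, ZMod.val_add, ← pow_eq_pow_mod _ h3]

theorem e_eq_one_iff (hζ : IsPrimitiveRoot ζ 3) (x : ZMod 3) : ζ ^ x.val = 1 ↔ x = 0 := by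
  constructor
  · intro h
    by_contra hx
    have hne : x.val ≠ 0 := by rwa [Ne, ZMod.val_eq_zero]
    exact hζ.pow_ne_one_of_pos_of_lt hne (ZMod.val_lt x) h
  · rintro rfl
    simp

theorem e_conj (h3 : ζ ^ 3 = 1) (x : ZMod 3) : conj (ζ ^ x.val) = ζ ^ (-x).val := by
  have hn : ‖ζ ^ x.val‖ = 1 := by
    rw [norm_pow, Complex.norm_eq_one_of_pow_eq_one h3 (by norm_num), one_pow]
  rw [← Complex.inv_eq_conj hn]
  have h1 : ζ ^ x.val * ζ ^ (-x).val = 1 := by
    rw [← e_add h3, add_neg_cancel]; simp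
  exact (eq_inv_of_mul_eq_one_right h1).symm

theorem lam_add (h3 : ζ ^ 3 = 1) (u v v' : Vec) : lam ζ u (v + v') = lam ζ u v * lam ζ u v' := by
  unfold lam
  rw [dotProduct_add, e_add h3]

theorem lam_zero_right (u : Vec) : lam ζ u 0 = 1 := by
  unfold lam
  simp

theorem lam_zero_left (v : Vec) : lam ζ 0 v = 1 := by
  unfold lam
  simp

theorem lam_comm (u v : Vec) : lam ζ u v = lam ζ v u := by
  unfold lam
  rw [dotProduct_comm]

theorem lam_mul (σ u v : Vec) : lam ζ (σ * u) v = lam ζ u (σ * v) := by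
  unfold lam
  congr 2
  simp only [dotProduct, Pi.mul_apply]
  apply Finset.sum_congr rfl
  intro i _
  ring

theorem lam_conj (h3 : ζ ^ 3 = 1) (u v : Vec) : conj (lam ζ u v) = lam ζ u (-v) := by
  unfold lam
  rw [e_conj h3, dotProduct_neg]

theorem lam_sub (h3 : ζ ^ 3 = 1) (u w v : Vec) :
    lam ζ u v * conj (lam ζ w v) = lam ζ v (u - w) := by
  rw [lam_conj h3, lam_comm u v, lam_comm w (-v)]
  unfold lam
  rw [← e_add h3]
  congr 2
  rw [neg_dotProduct, ← dotProduct_neg, ← dotProduct_add, sub_eq_add_neg]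

theorem card_vec : Fintype.card Vec = 27 := by
  simp [Vec]

/-- the sum of a nontrivial character vanishes -/
theorem sum_lam_eq_zero (hζ : IsPrimitiveRoot ζ 3) (d : Vec) (hd : d ≠ 0) :
    ∑ v : Vec, lam ζ v d = 0 := by
  have h3 : ζ ^ 3 = 1 := hζ.pow_eq_one
  obtain ⟨i, hi⟩ : ∃ i, d i ≠ 0 := by
    by_contra hcon
    apply hd
    funext j
    by_contra hj
    exact hcon ⟨j, hj⟩
  obtain ⟨δ, hδ⟩ : ∃ δ : Vec, d ⬝ᵥ δ = d i := ⟨Pi.single i 1, by rw [dotProduct_single, mul_one]⟩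
  have hshift : ∑ v : Vec, lam ζ (v + δ) d = ∑ v : Vec, lam ζ v d :=
    Fintype.sum_equiv (Equiv.addRight δ) (fun v => lam ζ (v + δ) d) (fun v => lam ζ v d)
      (fun v => rfl)
  have hstep : ∀ v : Vec, lam ζ (v + δ) d = lam ζ v d * ζ ^ (d i).val := by
    intro v
    rw [lam_comm, lam_add h3, lam_comm d v]
    congr 1
    unfold lam
    rw [hδ]
  simp only [hstep] at hshift
  rw [← Finset.sum_mul] at hshift
  have hne : ζ ^ (d i).val ≠ 1 := fun h => hi ((e_eq_one_iff hζ _).mp h)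
  have h4 : (∑ v : Vec, lam ζ v d) * (1 - ζ ^ (d i).val) = 0 := by
    rw [mul_sub, mul_one, hshift, sub_self]
  rcases mul_eq_zero.mp h4 with h5 | h5
  · exact h5
  · exact absurd (sub_eq_zero.mp h5).symm hne

theorem sum_lam_orth (hζ : IsPrimitiveRoot ζ 3) (u w : Vec) :
    ∑ v : Vec, lam ζ u v * conj (lam ζ w v) = if u = w then 27 else 0 := by
  have h3 : ζ ^ 3 = 1 := hζ.pow_eq_one
  simp only [lam_sub h3]
  split_ifs with h
  · subst h
    simp only [sub_self, lam_zero_right]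
    rw [Finset.sum_const, Finset.card_univ, card_vec]
    simp
  · exact sum_lam_eq_zero hζ (u - w) (sub_ne_zero.mpr h)

/-- (B0) Fourier analysis on `Vec`. -/
theorem lam_facts (ζ : ℂ) (hζ : IsPrimitiveRoot ζ 3) :
    (∀ u v v' : Vec, lam ζ u (v + v') = lam ζ u v * lam ζ u v') ∧
    (∀ u : Vec, lam ζ u 0 = 1) ∧ (∀ v : Vec, lam ζ 0 v = 1) ∧
    (∀ σ u v : Vec, lam ζ (σ * u) v = lam ζ u (σ * v)) ∧
    (∀ u v : Vec, conj (lam ζ u v) = lam ζ u (-v)) ∧
    (∀ u w : Vec, ∑ v : Vec, lam ζ u v * conj (lam ζ w v) = if u = w then 27 else 0) ∧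
    (∀ v v' : Vec, ∑ u : Vec, lam ζ u v * conj (lam ζ u v') = if v = v' then 27 else 0) := by
  have h3 : ζ ^ 3 = 1 := hζ.pow_eq_one
  refine ⟨lam_add h3, lam_zero_right, lam_zero_left, lam_mul, lam_conj h3, sum_lam_orth hζ, ?_⟩
  intro v v'
  have := sum_lam_orth hζ v v'
  rw [← this]
  apply Finset.sum_congr rfl
  intro u _
  rw [lam_comm u v, lam_comm u v']

end Cfsg.Agent.Helper63.E27
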