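import Mathlib
import Cfsg.Agent.Helper3.E27Defs
import Cfsg.Agent.Helper51.E27A5
import Cfsg.Agent.Helper79.CharComplete

/-!
# S3701 (helper3's plan, board #6444): piece (B2), column orthogonality on `T` in coordinates
-/

set_option autoImplicit false

namespace Cfsg.Agent.Helper63.E27

open Cfsg Finset Cfsg.Agent.Helper3.E27
open scoped ComplexConjugate

universe u

theorem Vs_mul_mem : ∀ σ ∈ Vs, ∀ σ' ∈ Vs, σ * σ' ∈ Vs := by decide

theorem Vs_mul_self : ∀ σ ∈ Vs, σ * σ = 1 := by decide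

/-- the fibres of `σ ↦ σ * v` on `Vs` all have the size of the stabilizer -/
theorem card_filter_Vs (v v' : Vec) (σ0 : Vec) (hσ0 : σ0 ∈ Vs) (h0 : σ0 * v = v') :
    (Vs.filter (fun σ => σ * v = v')).card = (Vs.filter (fun σ => σ * v = v)).card := by
  apply Finset.card_nbij' (fun σ => σ0 * σ) (fun σ => σ0 * σ)
  · intro σ hσ
    rw [Finset.mem_coe, Finset.mem_filter] at hσ ⊢
    refine ⟨Vs_mul_mem σ0 hσ0 σ hσ.1, ?_⟩
    rw [mul_assoc, hσ.2, ← h0, ← mul_assoc, Vs_mul_self σ0 hσ0, one_mul]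
  · intro σ hσ
    rw [Finset.mem_coe, Finset.mem_filter] at hσ ⊢
    refine ⟨Vs_mul_mem σ0 hσ0 σ hσ.1, ?_⟩
    rw [mul_assoc, hσ.2, h0]
  · intro σ _
    show σ0 * (σ0 * σ) = σ
    rw [← mul_assoc, Vs_mul_self σ0 hσ0, one_mul]
  · intro σ _
    show σ0 * (σ0 * σ) = σ
    rw [← mul_assoc, Vs_mul_self σ0 hσ0, one_mul]

variable {G : Type u} [Group G] [Fintype G] {T : Subgroup G} {τ : Vec → G} {a b : G}

/-- (B2) column orthogonality on `T`, in coordinates. -/
theorem col_orth [Fintype (IrrCharacter G)] (h : HCfg T τ a b)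
    (hloc : ∀ t ∈ T, t ≠ 1 →
      Subgroup.centralizer ({t} : Set G) ≤ Subgroup.normalizer (T : Set G))
    (v v' : Vec) (hv : v ≠ 0) :
    ∑ χ : IrrCharacter G, (χ : G → ℂ) (τ v) * conj ((χ : G → ℂ) (τ v')) =
      27 * ((Vs.filter (fun σ => σ * v = v')).card : ℂ) := by
  classical
  have hco := Cfsg.Agent.Helper79.column_orthogonality (G := G) (τ v') (τ v)
  have hconj := congrArg (starRingEnd ℂ) hco
  rw [map_sum] at hconj
  simp only [map_mul, Complex.conj_conj] at hconj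
  have hL : ∑ χ : IrrCharacter G, (χ : G → ℂ) (τ v) * conj ((χ : G → ℂ) (τ v')) =
      ∑ χ : IrrCharacter G, conj ((χ : G → ℂ) (τ v')) * (χ : G → ℂ) (τ v) :=
    Finset.sum_congr rfl (fun χ _ => mul_comm _ _)
  rw [hL, hconj]
  have hA4 := Cfsg.Agent.Helper51.E27.fusion h hloc v v' hv
  have hA5 := Cfsg.Agent.Helper51.E27.card_centralizer h hloc v hv
  split_ifs with hc
  · obtain ⟨σ0, hσ0, h0⟩ := hA4.mp hc
    rw [card_filter_Vs v v' σ0 hσ0 h0, hA5, Complex.conj_natCast]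
    push_cast
    ring
  · have hempty : Vs.filter (fun σ => σ * v = v') = ∅ := by
      rw [Finset.filter_eq_empty_iff]
      intro σ hσ h0
      exact hc (hA4.mpr ⟨σ, hσ, h0⟩)
    rw [hempty]
    simp

end Cfsg.Agent.Helper63.E27
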