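import Mathlib
import Cfsg.Agent.Helper86.AltPro.S2

/-!
# (S10) of #8188 for helper86's S2222: the normalizer of the even part of `stdW ι K`

`normalizer_stdW_inf_alternating_of` takes the two fixed point facts (S9a), (S9b) on the Sylow
2-subgroup `K` as hypotheses.
-/

set_option autoImplicit false
set_option linter.unusedSectionVars false
set_option linter.unusedVariables false

namespace Cfsg.Agent.Helper63.AltPro

open Equiv Equiv.Perm Cfsg.Agent.Helper42 Cfsg.Agent.Helper42.MaxSyl Cfsg.Agent.Helper86.AltPro

variable {β γ : Type*} [DecidableEq β] [Fintype β] [DecidableEq γ] [Fintype γ]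

/-- transport of the data of a compatible permutation -/
theorem compat_congr {ι : β × ZMod 2 ↪ γ} {y : Perm γ} {σ σ' : Perm β} {f f' : β → ZMod 2}
    (h : Compat ι y σ f) (hσ : σ = σ') (hf : f = f') : Compat ι y σ' f' := by
  subst hσ; subst hf; exact h

/-- the lift of a fibre permutation -/
noncomputable def liftP (ι : β × ZMod 2 ↪ γ) (k : Perm β) : Perm γ :=
  (tr (0 : β → ZMod 2) * lf 2 k).viaEmbedding ι

theorem compat_liftP (ι : β × ZMod 2 ↪ γ) (k : Perm β) : Compat ι (liftP ι k) k 0 :=
  (compat_iff _ _ _ _).mpr rfl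

theorem liftP_mem (ι : β × ZMod 2 ↪ γ) (K : Subgroup (Perm β)) {k : Perm β} (hk : k ∈ K) :
    liftP ι k ∈ stdW ι K ⊓ alternatingGroup γ := by
  refine Subgroup.mem_inf.2 ⟨mem_stdW.mpr ⟨k, hk, 0, compat_liftP ι k⟩, ?_⟩
  rw [Perm.mem_alternatingGroup]
  exact sign_of_compat_zero (compat_liftP ι k)

theorem fibre_ne (ι : β × ZMod 2 ↪ γ) (i : β) : ι (i, 0) ≠ ι (i, 1) := by
  intro h
  have := ι.injective h
  rw [Prod.mk.injEq] at this
  exact zero_ne_one this.2

/-- products of two base swaps lie in the even part -/
theorem baseSwapPair_mem (ι : β × ZMod 2 ↪ γ) (K : Subgroup (Perm β)) (i j : β) :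
    swap (ι (i, 0)) (ι (i, 1)) * swap (ι (j, 0)) (ι (j, 1)) ∈ stdW ι K ⊓ alternatingGroup γ := by
  refine Subgroup.mem_inf.2 ⟨(stdW ι K).mul_mem (swap_mem_stdW ι K i) (swap_mem_stdW ι K j), ?_⟩
  rw [Perm.mem_alternatingGroup, Perm.sign_mul, Perm.sign_swap (fibre_ne ι i),
    Perm.sign_swap (fibre_ne ι j)]
  rfl

/-- elements of the normalizer -/
theorem conj_mem_of_mem_normalizer {G : Type*} [Group G] {H : Subgroup G} {g : G}
    (hg : g ∈ Subgroup.normalizer (H : Set G)) {h : G} (hh : h ∈ H) : g * h * g⁻¹ ∈ H :=
  (Subgroup.mem_normalizer_iff.1 hg h).1 hh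

theorem conj_mem_of_mem_normalizer' {G : Type*} [Group G] {H : Subgroup G} {g : G}
    (hg : g ∈ Subgroup.normalizer (H : Set G)) {h : G} (hh : h ∈ H) : g⁻¹ * h * g ∈ H := by
  have := conj_mem_of_mem_normalizer ((Subgroup.normalizer (H : Set G)).inv_mem hg) hh
  rwa [inv_inv] at this

/-- (Lemma C) an element of the normalizer commuting with `piI ι` lies in `stdW ι K` -/
theorem mem_stdW_of_commute_piI (ι : β × ZMod 2 ↪ γ)
    (hout : ∀ b b' : γ, b ∉ Set.range ι → b' ∉ Set.range ι → b = b')
    (K : Subgroup (Perm β)) (hK : Subgroup.normalizer (K : Set (Perm β)) = K) {g : Perm γ}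
    (hg : g ∈ Subgroup.normalizer ((stdW ι K ⊓ alternatingGroup γ : Subgroup (Perm γ)) :
      Set (Perm γ)))
    (hc : g * piI ι = piI ι * g) : g ∈ stdW ι K := by
  obtain ⟨σ, f, hgc⟩ := exists_compat_of_commute_piI ι hout hc
  have key : ∀ (g' : Perm γ) (σ' : Perm β) (f' : β → ZMod 2), Compat ι g' σ' f' →
      g' ∈ Subgroup.normalizer ((stdW ι K ⊓ alternatingGroup γ : Subgroup (Perm γ)) :
        Set (Perm γ)) → ∀ k ∈ K, σ' * k * σ'⁻¹ ∈ K := by
    intro g' σ' f' hc' hn k hk
    have h1 := (Subgroup.mem_inf.1 (conj_mem_of_mem_normalizer hn (liftP_mem ι K hk))).1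
    obtain ⟨k', hk', f1, hc1⟩ := mem_stdW.mp h1
    obtain ⟨f2, hc2⟩ := exists_compat_conj hc' (compat_liftP ι k)
    rw [(compat_unique hc2 hc1).1]
    exact hk'
  have h1 := key g σ f hgc hg
  have h2 := key g⁻¹ σ⁻¹ _ (compat_inv hgc) (Subgroup.inv_mem _ hg)
  have hσ : σ ∈ Subgroup.normalizer (K : Set (Perm β)) := by
    rw [Subgroup.mem_normalizer_iff]
    intro h
    constructor
    · exact h1 h
    · intro hh
      have := h2 _ hh
      rw [inv_inv] at this
      have e : σ⁻¹ * (σ * h * σ⁻¹) * σ = h := by group
      rwa [e] at this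
  rw [hK] at hσ
  exact mem_stdW.mpr ⟨σ, hσ, f, hgc⟩

/-- (Lemma D) a central element of `stdW ι K` in the even part, determined by the size of its
support among the `K`-invariant data, is centralized by the normalizer of the even part -/
theorem conj_eq_of_unique (ι : β × ZMod 2 ↪ γ) (K : Subgroup (Perm β))
    (h3 : 3 ≤ Fintype.card β) {z : Perm γ} {fs : β → ZMod 2} (hz : Compat ι z 1 fs)
    (hzs : Perm.sign z = 1) (hinv : ∀ k ∈ K, ∀ i, fs (k i) = fs i)
    (huniq : ∀ f' : β → ZMod 2, (∀ k ∈ K, ∀ i, f' (k i) = f' i) →
      (Finset.univ.filter (fun i => f' i = 1)).card = (Finset.univ.filter (fun i => fs i = 1)).card →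
      f' = fs)
    {g : Perm γ}
    (hg : g ∈ Subgroup.normalizer ((stdW ι K ⊓ alternatingGroup γ : Subgroup (Perm γ)) :
      Set (Perm γ))) : g * z * g⁻¹ = z := by
  have hzW : z ∈ stdW ι K := mem_stdW.mpr ⟨1, K.one_mem, fs, hz⟩
  have hzP : z ∈ stdW ι K ⊓ alternatingGroup γ :=
    Subgroup.mem_inf.2 ⟨hzW, by rw [Perm.mem_alternatingGroup]; exact hzs⟩
  -- `z` is central in `stdW ι K`
  have hzc : ∀ w ∈ stdW ι K, z * w = w * z := by
    intro w hw
    obtain ⟨k, hk, f', hc⟩ := mem_stdW.mp hw
    exact commute_of_f_invariant hz hc (hinv k hk)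
  set y : Perm γ := g * z * g⁻¹ with hy
  have hyP : y ∈ stdW ι K ⊓ alternatingGroup γ := conj_mem_of_mem_normalizer hg hzP
  -- `y` is central in the even part
  have hyc : ∀ w ∈ stdW ι K ⊓ alternatingGroup γ, y * w = w * y := by
    intro w hw
    have h1 := hzc _ (Subgroup.mem_inf.1 (conj_mem_of_mem_normalizer' hg hw)).1
    have e1 : y * w = g * (z * (g⁻¹ * w * g)) * g⁻¹ := by rw [hy]; group
    have e2 : w * y = g * ((g⁻¹ * w * g) * z) * g⁻¹ := by rw [hy]; group
    rw [e1, e2, h1]
  obtain ⟨σy, hσy, fy, hcy⟩ := mem_stdW.mp (Subgroup.mem_inf.1 hyP).1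
  have hσ1 : σy = 1 := by
    apply sigma_eq_one_of_commute_baseSwapPairs hcy h3
    intro i j _
    exact hyc _ (baseSwapPair_mem ι K i j)
  subst hσ1
  have hfinv : ∀ k ∈ K, ∀ i, fy (k i) = fy i := by
    intro k hk
    exact f_invariant_of_commute hcy (compat_liftP ι k) (hyc _ (liftP_mem ι K hk))
  have hcard : (Finset.univ.filter (fun i => fy i = 1)).card
      = (Finset.univ.filter (fun i => fs i = 1)).card := by
    have h1 := card_support_of_compat_one hcy
    have h2 := card_support_of_compat_one hz
    have h3' : y.support.card = z.support.card := by rw [hy]; exact Perm.card_support_conj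
    omega
  have hfy := huniq fy hfinv hcard
  rw [hfy] at hcy
  exact compat_ext hcy hz

/-- (S10) with (S9a) and (S9b) for `K` as hypotheses -/
theorem normalizer_stdW_inf_alternating_of (ι : β × ZMod 2 ↪ γ)
    (hout : ∀ b b' : γ, b ∉ Set.range ι → b' ∉ Set.range ι → b = b')
    (K : Subgroup (Perm β))
    (hK : Subgroup.normalizer (K : Set (Perm β)) = K)
    (h3 : 3 ≤ Fintype.card β)
    (h9a : ∀ i j : β, (∀ k ∈ K, k i = i) → (∀ k ∈ K, k j = j) → i = j)
    (h9b : Odd (Fintype.card β) → ∃ i, ∀ k ∈ K, k i = i) :
    Subgroup.normalizer ((stdW ι K ⊓ alternatingGroup γ : Subgroup (Perm γ)) : Set (Perm γ))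
      = stdW ι K := by
  apply le_antisymm
  · intro g hg
    rcases Nat.even_or_odd (Fintype.card β) with hev | hodd
    · -- even number of fibres: `z = piI ι`
      apply mem_stdW_of_commute_piI ι hout K hK hg
      have hsign : Perm.sign (piI ι) = 1 := by
        rw [sign_of_compat_one (compat_piI ι)]
        have : (Finset.univ.filter (fun i : β => (1 : ZMod 2) = 1)).card = Fintype.card β := by
          rw [Finset.filter_true_of_mem (fun _ _ => rfl), Finset.card_univ]
        rw [this]
        exact Even.neg_one_pow hev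
      have h1 := conj_eq_of_unique ι K h3 (compat_piI ι) hsign (fun _ _ _ => rfl)
        (by
          intro f' _ hcard
          have hc : (Finset.univ.filter (fun i : β => f' i = 1)).card
              = (Finset.univ : Finset β).card := by
            rw [hcard, Finset.filter_true_of_mem (fun _ _ => rfl)]
          have := Finset.eq_of_subset_of_card_le (Finset.filter_subset _ _) (le_of_eq hc.symm)
          funext i
          have hi : i ∈ Finset.univ.filter (fun i : β => f' i = 1) := by
            rw [this]; exact Finset.mem_univ i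
          exact (Finset.mem_filter.1 hi).2) hg
      calc g * piI ι = (g * piI ι * g⁻¹) * g := by group
        _ = piI ι * g := by rw [h1]
    · -- odd number of fibres
      obtain ⟨i0, hi0⟩ := h9b hodd
      set t0 : Perm γ := swap (ι (i0, 0)) (ι (i0, 1)) with ht0
      set fs : β → ZMod 2 := fun j => (Pi.single i0 1 : β → ZMod 2) j + 1 with hfs
      set z : Perm γ := piI ι * t0 with hzdef
      have hz : Compat ι z 1 fs := by
        refine compat_congr (compat_mul (compat_piI ι) (compat_baseSwap ι i0)) (mul_one _) ?_
        funext j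
        show (Pi.single i0 1 : β → ZMod 2) ((1 : Perm β)⁻¹ j) + 1
          = (Pi.single i0 1 : β → ZMod 2) j + 1
        rw [inv_one, Perm.one_apply]
      have hfs0 : fs i0 = 0 := by
        simp only [hfs, Pi.single_eq_same]
        exact one_add_one_zmod2
      have hfs1 : ∀ j, j ≠ i0 → fs j = 1 := by
        intro j hj
        simp only [hfs, Pi.single_eq_of_ne hj, zero_add]
      have hfs_iff : ∀ j, fs j = 1 ↔ j ≠ i0 := by
        intro j
        constructor
        · rintro h rfl
          rw [hfs0] at h
          exact zero_ne_one h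
        · exact hfs1 j
      have hfilter : Finset.univ.filter (fun i => fs i = 1) = Finset.univ.erase i0 := by
        ext j
        rw [Finset.mem_filter, Finset.mem_erase, hfs_iff]
        simp
      have hcardfs : (Finset.univ.filter (fun i => fs i = 1)).card = Fintype.card β - 1 := by
        rw [hfilter, Finset.card_erase_of_mem (Finset.mem_univ _), Finset.card_univ]
      have hsign : Perm.sign z = 1 := by
        rw [sign_of_compat_one hz, hcardfs]
        apply Even.neg_one_pow
        obtain ⟨m, hm⟩ := hodd
        exact ⟨m, by omega⟩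
      have hinv : ∀ k ∈ K, ∀ i, fs (k i) = fs i := by
        intro k hk i
        by_cases hi : i = i0
        · rw [hi, hi0 k hk]
        · have : k i ≠ i0 := by
            intro h
            apply hi
            apply k.injective
            rw [h, hi0 k hk]
          rw [hfs1 _ this, hfs1 _ hi]
      have huniq : ∀ f' : β → ZMod 2, (∀ k ∈ K, ∀ i, f' (k i) = f' i) →
          (Finset.univ.filter (fun i => f' i = 1)).card
            = (Finset.univ.filter (fun i => fs i = 1)).card → f' = fs := by
        intro f' hf'inv hcard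
        rw [hcardfs] at hcard
        -- exactly one `j` with `f' j ≠ 1`
        have hcompl : (Finset.univ.filter (fun i => ¬ f' i = 1)).card = 1 := by
          have := Finset.card_filter_add_card_filter_not (s := (Finset.univ : Finset β))
            (fun i => f' i = 1)
          rw [Finset.card_univ] at this
          have hpos : 0 < Fintype.card β := by omega
          omega
        obtain ⟨j, hj⟩ := Finset.card_eq_one.1 hcompl
        have hjmem : ∀ i, ¬ f' i = 1 ↔ i = j := by
          intro i
          have : i ∈ Finset.univ.filter (fun i => ¬ f' i = 1) ↔ i ∈ ({j} : Finset β) := by rw [hj]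
          rw [Finset.mem_filter, Finset.mem_singleton] at this
          simpa using this
        have hjfix : ∀ k ∈ K, k j = j := by
          intro k hk
          rw [← hjmem, hf'inv k hk, hjmem]
        have hj0 : j = i0 := h9a j i0 hjfix hi0
        funext i
        by_cases hi : i = i0
        · rw [hi, hfs0]
          have := (hjmem i0).2 hj0.symm
          rcases zmod2_cases (f' i0) with h | h
          · exact h
          · exact absurd h this
        · rw [hfs1 i hi]
          by_contra hne
          exact hi (((hjmem i).1 hne).trans hj0)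
      have hconj : g * z * g⁻¹ = z := conj_eq_of_unique ι K h3 hz hsign hinv huniq hg
      have hgz : g * z = z * g := by
        calc g * z = (g * z * g⁻¹) * g := by group
          _ = z * g := by rw [hconj]
      -- the fixed points of the even part are the points outside the range of `ι`
      have hgout : ∀ (g' : Perm γ), g' ∈ Subgroup.normalizer
          ((stdW ι K ⊓ alternatingGroup γ : Subgroup (Perm γ)) : Set (Perm γ)) →
          ∀ b, b ∉ Set.range ι → g' b ∉ Set.range ι := by
        intro g' hg' b hb
        rintro ⟨⟨i, s⟩, his⟩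
        -- pick `j ≠ i`
        obtain ⟨j, hj⟩ : ∃ j : β, j ≠ i := by
          by_contra hall
          push Not at hall
          have : Fintype.card β ≤ 1 := Fintype.card_le_one_iff.2 (fun a b => (hall a).trans (hall b).symm)
          omega
        have hw := conj_mem_of_mem_normalizer' hg' (baseSwapPair_mem ι K i j)
        obtain ⟨k, hk, f', hc⟩ := mem_stdW.mp (Subgroup.mem_inf.1 hw).1
        have h1 := hc.out b hb
        rw [Perm.mul_apply, Perm.mul_apply, ← his, Perm.mul_apply,
          baseSwap_apply, baseSwap_apply, Pi.single_eq_of_ne hj.symm, add_zero,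
          Pi.single_eq_same] at h1
        have h2 : ι (i, s + 1) = ι (i, s) := by
          have := congrArg g' h1
          rw [perm_apply_inv_self, ← his] at this
          exact this
        have := ι.injective h2
        rw [Prod.mk.injEq] at this
        exact zmod2_add_one_ne s this.2
      have hgfix : ∀ b, b ∉ Set.range ι → g b = b := fun b hb => hout _ _ (hgout g hg b hb) hb
      have hgrange : ∀ b, b ∈ Set.range ι → g b ∈ Set.range ι := by
        intro b hb
        by_contra hn
        have h1 := hgout g⁻¹ (Subgroup.inv_mem _ hg) _ hn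
        rw [perm_inv_apply_self] at h1
        exact h1 hb
      -- `g` preserves the fibre of `i0`
      have hfib : ∀ s, g (ι (i0, s)) = ι (i0, 0) ∨ g (ι (i0, s)) = ι (i0, 1) := by
        intro s
        obtain ⟨⟨i, s'⟩, his⟩ := hgrange _ ⟨(i0, s), rfl⟩
        have hzfix : z (ι (i0, s)) = ι (i0, s) := by
          rw [hz.app, Perm.one_apply, hfs0, add_zero]
        have h1 : z (g (ι (i0, s))) = g (ι (i0, s)) := by
          have := congrArg (fun p : Perm γ => p (ι (i0, s))) hgz
          simp only [Perm.mul_apply] at this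
          rw [← this, hzfix]
        rw [← his, hz.app, Perm.one_apply] at h1
        have h2 := ι.injective h1
        rw [Prod.mk.injEq] at h2
        have hi : i = i0 := by
          by_contra hne
          have h3' := h2.2
          rw [hfs1 i hne] at h3'
          exact zmod2_add_one_ne s' h3'
        rw [← his, hi]
        rcases zmod2_cases s' with h | h
        · left; rw [h]
        · right; rw [h]
      have hgt : g * t0 * g⁻¹ = t0 := by
        rw [ht0, ← swap_apply_apply]
        have hne : g (ι (i0, 0)) ≠ g (ι (i0, 1)) := fun h => fibre_ne ι i0 (g.injective h)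
        rcases hfib 0 with h0 | h0 <;> rcases hfib 1 with h1 | h1
        · exact absurd (h0.trans h1.symm) hne
        · rw [h0, h1]
        · rw [h0, h1, swap_comm]
        · exact absurd (h0.trans h1.symm) hne
      have hgt' : g * t0 = t0 * g := by
        calc g * t0 = (g * t0 * g⁻¹) * g := by group
          _ = t0 * g := by rw [hgt]
      have hpi : piI ι = z * t0 := by
        rw [hzdef, mul_assoc, ht0, swap_mul_self, mul_one]
      apply mem_stdW_of_commute_piI ι hout K hK hg
      have hfin : g * (z * t0) = (z * t0) * g :=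
        calc g * (z * t0) = (g * z) * t0 := (mul_assoc _ _ _).symm
          _ = (z * g) * t0 := by rw [hgz]
          _ = z * (g * t0) := mul_assoc _ _ _
          _ = z * (t0 * g) := by rw [hgt']
          _ = (z * t0) * g := (mul_assoc _ _ _).symm
      rw [hpi]
      exact hfin
  · -- `stdW ι K` normalizes its even part
    intro g hg
    rw [Subgroup.mem_normalizer_iff]
    intro h
    have hsign : Perm.sign (g * h * g⁻¹) = Perm.sign h := by
      rw [Perm.sign_mul, Perm.sign_mul, Perm.sign_inv, mul_comm, ← mul_assoc]
      simp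
    rw [Subgroup.mem_inf, Subgroup.mem_inf, Perm.mem_alternatingGroup, Perm.mem_alternatingGroup,
      hsign]
    constructor
    · rintro ⟨h1, h2⟩
      exact ⟨(stdW ι K).mul_mem ((stdW ι K).mul_mem hg h1) ((stdW ι K).inv_mem hg), h2⟩
    · rintro ⟨h1, h2⟩
      refine ⟨?_, h2⟩
      have := (stdW ι K).mul_mem ((stdW ι K).mul_mem ((stdW ι K).inv_mem hg) h1) hg
      have e : g⁻¹ * (g * h * g⁻¹) * g = h := by group
      rwa [e] at this

end Cfsg.Agent.Helper63.AltPro
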