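import Mathlib
import Cfsg.Agent.Helper63.AltProS10
import Cfsg.Agent.Helper72.AltProS9

/-!
# (S10) of #8188 for helper86's S2222: the normalizer of the even part of `stdW ι K` (final form)
-/

set_option autoImplicit false
set_option linter.unusedSectionVars false
set_option linter.unusedVariables false

namespace Cfsg.Agent.Helper63.AltPro

open Equiv Equiv.Perm Cfsg.Agent.Helper42 Cfsg.Agent.Helper42.MaxSyl

variable {β γ : Type*} [DecidableEq β] [Fintype β] [DecidableEq γ] [Fintype γ]

/-- (S10) the even part of `stdW ι K` has normalizer `stdW ι K`, for at least three fibres. -/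
theorem normalizer_stdW_inf_alternating (ι : β × ZMod 2 ↪ γ)
    (hout : ∀ b b' : γ, b ∉ Set.range ι → b' ∉ Set.range ι → b = b')
    (K : Sylow 2 (Perm β))
    (hK : Subgroup.normalizer ((K : Subgroup (Perm β)) : Set (Perm β)) = K)
    (h3 : 3 ≤ Fintype.card β) :
    Subgroup.normalizer ((stdW ι (K : Subgroup (Perm β)) ⊓ alternatingGroup γ :
      Subgroup (Perm γ)) : Set (Perm γ)) = stdW ι (K : Subgroup (Perm β)) :=
  normalizer_stdW_inf_alternating_of ι hout (K : Subgroup (Perm β)) hK h3
    (fun _ _ hi hj => Cfsg.Agent.Helper72.AltPro.sylow_two_fixedPoint_unique K hi hj)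
    (fun hodd => Cfsg.Agent.Helper72.AltPro.exists_fixedPoint_of_odd (K : Subgroup (Perm β))
      K.isPGroup' hodd)

end Cfsg.Agent.Helper63.AltPro
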