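import Cfsg.Agent.Helper31.PronAL.Defs
import Cfsg.Agent.Helper5.SLn

/-!
# S2225 block AL (helper31 #15201), piece (DG): the diagonal matrix `diag(D_i / D_{σ i})` lies in `X` as soon as `X`
contains the root subgroups of all pairs in a common `σ`-orbit.
-/

set_option autoImplicit false

namespace Cfsg.Agent.Helper63.Pron

open Matrix Cfsg.Agent.Helper42.DZ Cfsg.Agent.Helper84.PSLn Cfsg.Agent.Helper31.Pron

variable {n : ℕ} {F : Type*} [Field F]

/-- (HH), local copy: `h_ab(c)` is a product of root elements -/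
theorem DG_diag2n_mem {X : Subgroup (SLn n F)} {a b : Fin n} (h1 : RR X a b) (h2 : RR X b a)
    (c : F) (hc : c ≠ 0) : Matrix.SpecialLinearGroup.diag2n h1.1 c hc ∈ X := by
  obtain ⟨hab, h1⟩ := h1
  obtain ⟨hba, h2⟩ := h2
  rw [Cfsg.Agent.Helper5.diag2n_eq_prod_transvection hab c hc]
  exact X.mul_mem (X.mul_mem (X.mul_mem (X.mul_mem (X.mul_mem (h1 _) (h2 _)) (h1 _)) (h1 _))
    (h2 _)) (h1 _)

/-- (DG) with (HH) as a hypothesis -/
theorem DG_diag_quot_mem_of {X : Subgroup (SLn n F)} (σ : Equiv.Perm (Fin n))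
    (hHH : ∀ (a b : Fin n) (h1 : RR X a b) (h2 : RR X b a) (c : F) (hc : c ≠ 0),
      Matrix.SpecialLinearGroup.diag2n h1.1 c hc ∈ X)
    (hR : ∀ a b : Fin n, a ≠ b → σ.SameCycle a b → RR X a b) (D : Fin n → Fˣ) :
    ∃ t ∈ X, t.1 = Matrix.diagonal (fun i => ((D i / D (σ i) : Fˣ) : F)) := by
  classical
  let K : Subgroup (Fin n → Fˣ) :=
    { carrier := {E | ∃ t ∈ X, t.1 = Matrix.diagonal (fun i => (E i : F))}
      one_mem' := ⟨1, X.one_mem, by simp⟩
      mul_mem' := by
        rintro E1 E2 ⟨t1, h1, e1⟩ ⟨t2, h2, e2⟩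
        refine ⟨t1 * t2, X.mul_mem h1 h2, ?_⟩
        rw [Matrix.SpecialLinearGroup.coe_mul, e1, e2, Matrix.diagonal_mul_diagonal]
        rfl
      inv_mem' := by
        rintro E ⟨t, h, e⟩
        refine ⟨t⁻¹, X.inv_mem h, ?_⟩
        have h1 : t.1 * Matrix.diagonal (fun i => ((E⁻¹) i : F)) = 1 := by
          rw [e, Matrix.diagonal_mul_diagonal]
          simp
        calc (t⁻¹).1 = (t⁻¹).1 * (t.1 * Matrix.diagonal (fun i => ((E⁻¹) i : F))) := by
              rw [h1, mul_one]
          _ = ((t⁻¹ * t).1) * Matrix.diagonal (fun i => ((E⁻¹) i : F)) := by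
              rw [Matrix.SpecialLinearGroup.coe_mul, mul_assoc]
          _ = Matrix.diagonal (fun i => ((E⁻¹) i : F)) := by
              rw [inv_mul_cancel]
              simp }
  let φ : (Fin n → Fˣ) →* (Fin n → Fˣ) :=
    { toFun := fun E i => E i / E (σ i)
      map_one' := by funext i; simp
      map_mul' := by intro A B; funext i; simp [mul_div_mul_comm] }
  have key : ∀ (j : Fin n) (u : Fˣ), φ (Pi.mulSingle j u : Fin n → Fˣ) ∈ K := by
    intro j u
    by_cases hj : σ.symm j = j
    · have hσj : σ j = j := by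
        have := congrArg σ hj
        rw [Equiv.apply_symm_apply] at this
        exact this.symm
      have h1 : φ (Pi.mulSingle j u : Fin n → Fˣ) = 1 := by
        funext i
        change (Pi.mulSingle j u : Fin n → Fˣ) i / (Pi.mulSingle j u : Fin n → Fˣ) (σ i) = 1
        by_cases hi : i = j
        · subst hi
          rw [hσj, div_self']
        · have h2 : σ i ≠ j := by
            intro h
            apply hi
            apply σ.injective
            rw [h, hσj]
          rw [Pi.mulSingle_eq_of_ne hi, Pi.mulSingle_eq_of_ne h2, div_one]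
      rw [h1]
      exact K.one_mem
    · have hne : j ≠ σ.symm j := fun h => hj h.symm
      have hsc : σ.SameCycle j (σ.symm j) :=
        (Equiv.Perm.sameCycle_symm_apply_right (f := σ)).2 (Equiv.Perm.SameCycle.refl σ j)
      have r1 := hR j (σ.symm j) hne hsc
      have r2 := hR (σ.symm j) j hne.symm hsc.symm
      refine ⟨Matrix.SpecialLinearGroup.diag2n hne (u : F) u.ne_zero, hHH j (σ.symm j) r1 r2 _ _, ?_⟩
      rw [Matrix.SpecialLinearGroup.diag2n_coe]
      congr 1
      funext k
      change _ = (((Pi.mulSingle j u : Fin n → Fˣ) k / (Pi.mulSingle j u : Fin n → Fˣ) (σ k) : Fˣ) : F)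
      by_cases hk : k = j
      · subst hk
        have h2 : σ k ≠ k := by
          intro h
          apply hj
          rw [Equiv.symm_apply_eq]
          exact h.symm
        rw [if_pos rfl, Pi.mulSingle_eq_same, Pi.mulSingle_eq_of_ne h2, div_one]
      · by_cases hk' : k = σ.symm j
        · have h2 : σ k = j := by rw [hk', Equiv.apply_symm_apply]
          rw [if_neg hk, if_pos hk', Pi.mulSingle_eq_of_ne hk, h2, Pi.mulSingle_eq_same, one_div,
            Units.val_inv_eq_inv_val]
        · have h2 : σ k ≠ j := by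
            intro h
            apply hk'
            rw [Equiv.eq_symm_apply]
            exact h
          rw [if_neg hk, if_neg hk', Pi.mulSingle_eq_of_ne hk, Pi.mulSingle_eq_of_ne h2, div_one,
            Units.val_one]
  have hD : φ D ∈ K := by
    have h := Finset.univ_prod_mulSingle D
    rw [← h, map_prod]
    exact Subgroup.prod_mem K (fun j _ => key j (D j))
  obtain ⟨t, ht, e⟩ := hD
  exact ⟨t, ht, e⟩

/-- (DG) the diagonal matrix `diag(D_i / D_{σ i})` lies in `X` as soon as `X` contains the root subgroups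
of all pairs in a common `σ`-orbit -/
theorem diag_quot_mem {X : Subgroup (SLn n F)} (σ : Equiv.Perm (Fin n))
    (hR : ∀ a b : Fin n, a ≠ b → σ.SameCycle a b → RR X a b) (D : Fin n → Fˣ) :
    ∃ t ∈ X, t.1 = Matrix.diagonal (fun i => ((D i / D (σ i) : Fˣ) : F)) :=
  DG_diag_quot_mem_of σ (fun _ _ h1 h2 c hc => DG_diag2n_mem h1 h2 c hc) hR D

end Cfsg.Agent.Helper63.Pron
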