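import Mathlib.GroupTheory.Sylow
import Mathlib.GroupTheory.Nilpotent
import Mathlib.GroupTheory.Index
import Cfsg.Agent.Lib.Cores
import Cfsg.Agent.S0044
import Cfsg.Agent.Helper24.OddOmega
import Cfsg.Agent.Helper63.PrimePow

/-!
# Elements centralizing the prime order elements of `F(G)` (helper63)

`G` finite solvable with `|F(G)|` odd. Then the centralizer in `G` of the set of elements of
prime order of `F(G)` is contained in `F(G)`.
-/

set_option autoImplicit false

namespace Cfsg.Agent.Helper63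

variable {G : Type*} [Group G]

/-- The centralizer of the set of elements of prime order of `F(G)`. -/
def omegaCent (G : Type*) [Group G] : Subgroup G :=
  Subgroup.centralizer {x : G | x ∈ Cfsg.fittingSubgroup G ∧ (orderOf x).Prime}

theorem mem_omegaCent_iff {g : G} : g ∈ omegaCent G ↔
    ∀ x ∈ Cfsg.fittingSubgroup G, (orderOf x).Prime → g * x = x * g := by
  unfold omegaCent
  rw [Subgroup.mem_centralizer_iff]
  constructor
  · intro h x hx hxo
    exact (h x ⟨hx, hxo⟩).symm
  · rintro h x ⟨hx, hxo⟩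
    exact (h x hx hxo).symm

instance omegaCent_normal : (omegaCent G).Normal := by
  constructor
  intro n hn g
  rw [mem_omegaCent_iff] at hn ⊢
  intro x hx hxo
  have h1 : g⁻¹ * x * g ∈ Cfsg.fittingSubgroup G := by
    have := (Cfsg.Agent.Lib.fittingSubgroup_normal (G := G)).conj_mem x hx g⁻¹
    simpa using this
  have h2 : (orderOf (g⁻¹ * x * g)).Prime := by
    have hsc : SemiconjBy g⁻¹ x (g⁻¹ * x * g) := by
      unfold SemiconjBy; group
    rw [← hsc.orderOf_eq]; exact hxo
  have h3 := hn _ h1 h2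
  calc g * n * g⁻¹ * x = g * (n * (g⁻¹ * x * g)) * g⁻¹ := by group
    _ = g * ((g⁻¹ * x * g) * n) * g⁻¹ := by rw [h3]
    _ = x * (g * n * g⁻¹) := by group

/-- The product of the `O_p(G)` for the primes `p ≠ q`. -/
def coreCompl (q : ℕ) (G : Type*) [Group G] : Subgroup G :=
  ⨆ p : {p : ℕ // p.Prime ∧ p ≠ q}, Cfsg.pCore p.1 G

instance coreCompl_normal (q : ℕ) : (coreCompl q G).Normal := by
  unfold coreCompl
  exact Subgroup.iSup_normal _

theorem pCore_le_coreCompl {p q : ℕ} (hp : p.Prime) (hpq : p ≠ q) :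
    Cfsg.pCore p G ≤ coreCompl q G :=
  le_iSup (fun p : {p : ℕ // p.Prime ∧ p ≠ q} => Cfsg.pCore p.1 G) ⟨p, hp, hpq⟩

/-- The elements of `omegaCent G` centralizing `O_p(G)` for all primes `p ≠ q`. -/
def omegaCentQ (q : ℕ) (G : Type*) [Group G] : Subgroup G :=
  omegaCent G ⊓ Subgroup.centralizer (coreCompl q G : Set G)

instance omegaCentQ_normal (q : ℕ) : (omegaCentQ q G).Normal := by
  unfold omegaCentQ
  infer_instance

/-- `p'`-elements of `omegaCent G` centralize `O_p(G)`, when `|F(G)|` is odd. -/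
theorem commute_pCore_of_mem_omegaCent [Finite G]
    (hodd : Odd (Nat.card (Cfsg.fittingSubgroup G))) {y : G} (hy : y ∈ omegaCent G) {p : ℕ}
    [hp : Fact p.Prime] (hcop : (orderOf y).Coprime p) :
    ∀ x ∈ Cfsg.pCore p G, y * x = x * y := by
  have hle : Cfsg.pCore p G ≤ Cfsg.fittingSubgroup G := Cfsg.Agent.Lib.pCore_le_fittingSubgroup p
  by_cases hp2 : p = 2
  · -- `O_2(G)` is trivial
    subst hp2
    intro x hx
    have hdvd : Nat.card (Cfsg.pCore 2 G) ∣ Nat.card (Cfsg.fittingSubgroup G) :=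
      Subgroup.card_dvd_of_le hle
    obtain ⟨n, hn⟩ := (Cfsg.Agent.Lib.isPGroup_pCore (G := G) 2).exists_card_eq
    have hn0 : n = 0 := by
      by_contra hn0
      have h2 : 2 ∣ Nat.card (Cfsg.pCore 2 G) := by
        rw [hn]; exact dvd_pow_self 2 hn0
      have h3 : 2 ∣ Nat.card (Cfsg.fittingSubgroup G) := h2.trans hdvd
      exact (Nat.not_even_iff_odd.mpr hodd) (even_iff_two_dvd.mpr h3)
    rw [hn0, pow_zero] at hn
    have hbot : Cfsg.pCore 2 G = ⊥ := Subgroup.card_eq_one.mp hn
    rw [hbot, Subgroup.mem_bot] at hx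
    rw [hx, mul_one, one_mul]
  · refine Cfsg.Agent.Helper24.commute_of_commute_omega_odd hp2 hcop (Cfsg.pCore p G)
      (Cfsg.Agent.Lib.isPGroup_pCore p) ?_ ?_
    · rw [Subgroup.normalizer_eq_top]; exact Subgroup.mem_top y
    · intro x hx hxp
      by_cases hx1 : x = 1
      · rw [hx1, mul_one, one_mul]
      · have ho : orderOf x = p := orderOf_eq_prime hxp hx1
        exact (mem_omegaCent_iff.mp hy) x (hle hx) (ho ▸ hp.out)

/-- `q'`-elements of `omegaCentQ q G` are central in `omegaCentQ q G`. -/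
theorem commute_of_mem_omegaCentQ [Finite G] [Group.IsSolvable G]
    (hodd : Odd (Nat.card (Cfsg.fittingSubgroup G))) {q : ℕ} [hq : Fact q.Prime] {y : G}
    (hy : y ∈ omegaCentQ q G) (hcop : (orderOf y).Coprime q) {e : G}
    (he : e ∈ omegaCentQ q G) : e * y = y * e := by
  have hyC : y ∈ omegaCent G := hy.1
  -- `y` centralizes every `O_p(G)`
  have h1 : ∀ p : ℕ, p.Prime → ∀ x ∈ Cfsg.pCore p G, y * x = x * y := by
    intro p hp x hx
    by_cases hpq : p = q
    · subst hpq
      exact commute_pCore_of_mem_omegaCent hodd hyC hcop x hx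
    · have h2 : y ∈ Subgroup.centralizer (coreCompl q G : Set G) := hy.2
      rw [Subgroup.mem_centralizer_iff] at h2
      exact (h2 x (pCore_le_coreCompl hp hpq hx)).symm
  -- hence `y` centralizes `F(G)`
  have h2 : Cfsg.fittingSubgroup G ≤ Subgroup.centralizer ({y} : Set G) := by
    refine le_of_forall_primePow_mem ?_
    intro x hx p k hp hxo
    have : Fact p.Prime := ⟨hp⟩
    have hxp : x ∈ Cfsg.pCore p G :=
      mem_pCore_of_mem_fittingSubgroup (k := k) hx (by rw [← hxo]; exact pow_orderOf_eq_one x)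
    rw [Subgroup.mem_centralizer_iff]
    intro z hz
    rw [Set.mem_singleton_iff] at hz
    rw [hz]; exact h1 p hp x hxp
  have h3 : y ∈ Subgroup.centralizer (Cfsg.fittingSubgroup G : Set G) := by
    rw [Subgroup.mem_centralizer_iff]
    intro x hx
    have := h2 hx
    rw [Subgroup.mem_centralizer_iff] at this
    exact (this y rfl).symm
  have h4 : y ∈ Cfsg.fittingSubgroup G := Cfsg.Agent.S0044.result h3
  -- `y` lies in the product of the `O_p(G)`, `p ≠ q`
  have h5 : Subgroup.zpowers y ≤ coreCompl q G := by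
    refine le_of_forall_primePow_mem ?_
    intro x hx p k hp hxo
    have : Fact p.Prime := ⟨hp⟩
    have hxF : x ∈ Cfsg.fittingSubgroup G := by
      obtain ⟨n, rfl⟩ := Subgroup.mem_zpowers_iff.mp hx
      exact Subgroup.zpow_mem _ h4 n
    by_cases hk : k = 0
    · rw [hk, pow_zero, orderOf_eq_one_iff] at hxo
      rw [hxo]; exact Subgroup.one_mem _
    have hpq : p ≠ q := by
      rintro rfl
      have hdvd : orderOf x ∣ orderOf y := orderOf_dvd_of_mem_zpowers hx
      have hp1 : p ∣ orderOf y := (hxo ▸ dvd_pow_self p hk : p ∣ orderOf x).trans hdvd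
      have := Nat.Coprime.eq_one_of_dvd hcop.symm hp1
      exact hp.one_lt.ne' this
    have hxp : x ∈ Cfsg.pCore p G :=
      mem_pCore_of_mem_fittingSubgroup (k := k) hxF (by rw [← hxo]; exact pow_orderOf_eq_one x)
    exact pCore_le_coreCompl hp hpq hxp
  have h6 : y ∈ coreCompl q G := h5 (Subgroup.mem_zpowers y)
  have h7 : e ∈ Subgroup.centralizer (coreCompl q G : Set G) := he.2
  rw [Subgroup.mem_centralizer_iff] at h7
  exact (h7 y h6).symm

/-- `omegaCentQ q G` is nilpotent. -/
theorem isNilpotent_omegaCentQ [Finite G] [Group.IsSolvable G]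
    (hodd : Odd (Nat.card (Cfsg.fittingSubgroup G))) (q : ℕ) [hq : Fact q.Prime] :
    Group.IsNilpotent (omegaCentQ q G) := by
  apply Group.of_quotient_center_nilpotent
  have hP : IsPGroup q ((omegaCentQ q G) ⧸ Subgroup.center (omegaCentQ q G)) := by
    intro xbar
    obtain ⟨x, rfl⟩ := QuotientGroup.mk_surjective xbar
    set n := orderOf (x : G) with hn
    have hn0 : n ≠ 0 := (orderOf_pos (x : G)).ne'
    refine ⟨n.factorization q, ?_⟩
    rw [← QuotientGroup.mk_pow, QuotientGroup.eq_one_iff, Subgroup.mem_center_iff]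
    intro e
    have hy : ((x ^ (q ^ n.factorization q) : omegaCentQ q G) : G) ∈ omegaCentQ q G :=
      (x ^ (q ^ n.factorization q)).2
    have hcop : (orderOf ((x ^ (q ^ n.factorization q) : omegaCentQ q G) : G)).Coprime q := by
      rw [Subgroup.coe_pow, orderOf_pow_of_dvd (pow_ne_zero _ hq.out.ne_zero)
        (Nat.ordProj_dvd n q)]
      exact (Nat.coprime_ordCompl hq.out hn0).symm
    have := commute_of_mem_omegaCentQ hodd hy hcop e.2
    exact Subtype.ext this
  exact hP.isNilpotent

theorem omegaCentQ_le_fittingSubgroup [Finite G] [Group.IsSolvable G]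
    (hodd : Odd (Nat.card (Cfsg.fittingSubgroup G))) (q : ℕ) [hq : Fact q.Prime] :
    omegaCentQ q G ≤ Cfsg.fittingSubgroup G :=
  Cfsg.Agent.Lib.le_fittingSubgroup inferInstance (isNilpotent_omegaCentQ hodd q)

/-- The centralizer of the prime order elements of `F(G)` lies in `F(G)`. -/
theorem omegaCent_le_fittingSubgroup [Finite G] [Group.IsSolvable G]
    (hodd : Odd (Nat.card (Cfsg.fittingSubgroup G))) :
    omegaCent G ≤ Cfsg.fittingSubgroup G := by
  refine le_of_forall_primePow_mem ?_
  intro c hc q k hq hco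
  have : Fact q.Prime := ⟨hq⟩
  refine omegaCentQ_le_fittingSubgroup hodd q ⟨hc, ?_⟩
  show c ∈ Subgroup.centralizer (coreCompl q G : Set G)
  -- `c` centralizes `O_p(G)` for `p ≠ q`
  have h1 : coreCompl q G ≤ Subgroup.centralizer ({c} : Set G) := by
    unfold coreCompl
    refine iSup_le ?_
    rintro ⟨p, hp, hpq⟩ x hx
    have : Fact p.Prime := ⟨hp⟩
    have hcop : (orderOf c).Coprime p := by
      rw [hco]
      exact Nat.Coprime.pow_left k ((Nat.coprime_primes hq hp).mpr (Ne.symm hpq))
    rw [Subgroup.mem_centralizer_iff]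
    intro z hz
    rw [Set.mem_singleton_iff] at hz
    rw [hz]
    exact commute_pCore_of_mem_omegaCent hodd hc hcop x hx
  rw [Subgroup.mem_centralizer_iff]
  intro x hx
  have := h1 hx
  rw [Subgroup.mem_centralizer_iff] at this
  exact (this c rfl).symm

end Cfsg.Agent.Helper63
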