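-- helper63 for helper38 (S2500 part 5, index #12545): leaf (IT) `exists_ringHom_st`.
import Mathlib
import Cfsg.Agent.Helper38.Cov2P5.Defs

set_option autoImplicit false

namespace Cfsg.Agent.Helper63.P5

open Matrix Polynomial Module Cfsg.Agent.S2587 Cfsg.Agent.S2578 Cfsg.Agent.Helper45.GU
  Cfsg.Agent.Helper43.Cov2

variable {F : Type*} [Field F] [Fintype F] {q : ℕ}

omit [Fintype F] in
theorem st_zero_it (bar : F →+* F) : st bar (0 : Matrix (Fin 3) (Fin 3) F) = 0 := by
  ext i j
  simp only [st_apply, Matrix.zero_apply, map_zero]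

/-- (IT) the adjoint `st bar` preserves the image of a cubic extension generated by a unitary element
with irreducible characteristic polynomial -/
theorem exists_ringHom_st (hF : Fintype.card F = q ^ 2) (bar : F →+* F)
    (hbar : ∀ x, bar x = x ^ q) {E : Type*} [Field E] [Algebra F E] [Finite E]
    (hE : finrank F E = 3) (ψ : E →ₐ[F] Matrix (Fin 3) (Fin 3) F) (e₀ : E)
    (hU : st bar (ψ e₀) * ψ e₀ = 1) (hirr : Irreducible (ψ e₀).charpoly) :
    ∃ τ : E →+* E, ∀ z, ψ (τ z) = st bar (ψ z) := by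
  classical
  have _ := hF
  have _ := hbar
  have hinj : Function.Injective ψ := ψ.toRingHom.injective
  have hfd : FiniteDimensional F E := Module.finite_of_finrank_pos (by rw [hE]; norm_num)
  have hint : IsIntegral F e₀ := Algebra.IsIntegral.isIntegral e₀
  have hroot : aeval e₀ (ψ e₀).charpoly = 0 := by
    apply hinj
    rw [← Polynomial.aeval_algHom_apply, Matrix.aeval_self_charpoly, map_zero]
  have hdvd : minpoly F e₀ ∣ (ψ e₀).charpoly := minpoly.dvd F e₀ hroot
  have hassoc : Associated (minpoly F e₀) (ψ e₀).charpoly :=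
    (minpoly.irreducible hint).associated_of_dvd hirr hdvd
  have hdeg : (minpoly F e₀).natDegree = 3 := by
    rw [Polynomial.natDegree_eq_of_degree_eq (Polynomial.degree_eq_degree_of_associated hassoc),
      Matrix.charpoly_natDegree_eq_dim, Fintype.card_fin]
  have htop : IntermediateField.adjoin F {e₀} = ⊤ :=
    (Field.primitive_element_iff_minpoly_natDegree_eq F e₀).2 (by rw [hdeg, hE])
  have hsurj : ∀ z : E, ∃ r : F[X], aeval e₀ r = z := by
    intro z
    have h1 : z ∈ (IntermediateField.adjoin F {e₀}).toSubalgebra := by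
      rw [htop]
      trivial
    rw [IntermediateField.adjoin_simple_toSubalgebra_of_isAlgebraic hint.isAlgebraic,
      Algebra.adjoin_singleton_eq_range_aeval] at h1
    exact h1
  -- `e₀ ≠ 0` and `st bar (ψ e₀) = ψ e₀⁻¹`
  have he0 : e₀ ≠ 0 := by
    intro h
    rw [h, map_zero, Matrix.mul_zero] at hU
    exact zero_ne_one hU
  have hSinv : ψ e₀ * ψ e₀⁻¹ = 1 := by
    rw [← map_mul, mul_inv_cancel₀ he0, map_one]
  have hst : st bar (ψ e₀) = ψ e₀⁻¹ := by
    calc st bar (ψ e₀) = st bar (ψ e₀) * (ψ e₀ * ψ e₀⁻¹) := by rw [hSinv, Matrix.mul_one]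
      _ = ψ e₀⁻¹ := by rw [← Matrix.mul_assoc, hU, Matrix.one_mul]
  have hex : ∀ z : E, ∃ w : E, ψ w = st bar (ψ z) := by
    intro z
    obtain ⟨r, rfl⟩ := hsurj z
    refine ⟨aeval e₀⁻¹ (r.map bar), ?_⟩
    rw [← Polynomial.aeval_algHom_apply, ← Polynomial.aeval_algHom_apply, st_aeval, hst]
  choose τ hτ using hex
  refine ⟨{ toFun := τ, map_one' := ?_, map_mul' := ?_, map_zero' := ?_, map_add' := ?_ }, hτ⟩
  · apply hinj
    rw [hτ, map_one, st_one]
  · intro x y
    apply hinj
    rw [hτ, map_mul, st_mul, map_mul, hτ, hτ, ← hτ, ← hτ, ← map_mul, ← map_mul, mul_comm]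
  · apply hinj
    rw [hτ, map_zero, st_zero_it]
  · intro x y
    apply hinj
    rw [hτ, map_add, st_add, map_add, hτ, hτ]

end Cfsg.Agent.Helper63.P5
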