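-- helper63 for helper38 (S2500 part 5, index #12545): leaf (P2) `isUnit_pow_sub`.
import Mathlib
import Cfsg.Agent.Helper38.Cov2P5.Defs

set_option autoImplicit false

namespace Cfsg.Agent.Helper63.P5

open Matrix Polynomial Module Cfsg.Agent.S2587 Cfsg.Agent.S2578 Cfsg.Agent.Helper45.GU
  Cfsg.Agent.Helper43.Cov2

variable {F : Type*} [Field F] [Fintype F] {q : ℕ}

/-- (P2) `A ^ (q ^ 2) - A` is invertible for `A` with irreducible characteristic polynomial -/
theorem isUnit_pow_sub (hF : Fintype.card F = q ^ 2) (A : Matrix (Fin 3) (Fin 3) F)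
    (hirr : Irreducible A.charpoly) : IsUnit (A ^ (q ^ 2) - A).det := by
  have hnd : ¬ A.charpoly ∣ (X ^ (q ^ 2) - X : F[X]) := by
    intro h
    have h1 : A.charpoly ∣ (X ^ (Nat.card F) ^ 1 - X : F[X]) := by
      rw [pow_one, Nat.card_eq_fintype_card, hF]
      exact h
    have h2 := hirr.natDegree_dvd_of_dvd_X_pow_card_pow_sub_X h1
    rw [Matrix.charpoly_natDegree_eq_dim, Fintype.card_fin] at h2
    omega
  have hcop : IsCoprime A.charpoly (X ^ (q ^ 2) - X : F[X]) :=
    (hirr.coprime_iff_not_dvd).2 hnd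
  obtain ⟨u, v, huv⟩ := hcop
  have h3 := congrArg (aeval A) huv
  rw [map_add, map_mul, map_mul, Matrix.aeval_self_charpoly, mul_zero, zero_add, map_one,
    map_sub, map_pow, aeval_X] at h3
  exact Matrix.isUnit_det_of_left_inverse h3

end Cfsg.Agent.Helper63.P5
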