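import Cfsg.Agent.Helper63.FPPTx
import Cfsg.Agent.Helper88.FPGL

/-!
# (PT) of helper38's S2276 farm (#10151): partition into `p` invariant subsets of size `M`
(exact Skel statement; uses helper88's greedy lemma (GL)).
-/

set_option autoImplicit false

namespace Cfsg.Agent.Helper63.FP

open Equiv Cfsg.Agent.Helper38.FP

variable {α : Type} [Fintype α] [DecidableEq α] {p : ℕ}

/-- (PT) partition into `p` invariant subsets of size `M`. -/
theorem exists_partition [Fact p.Prime] (w : Perm α) (hw1 : w ≠ 1) (hpw : IsPEl p w) (M : ℕ)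
    (hM : M * p = Fintype.card α) (hord : orderOf w ∣ M) :
    ∃ D : ℕ → Finset α, (∀ j < p, (D j).card = M) ∧ (∀ j < p, ∀ a, w a ∈ D j ↔ a ∈ D j) ∧
      (∀ i < p, ∀ j < p, i ≠ j → Disjoint (D i) (D j)) ∧ ∃ a ∈ D 0, w a ≠ a :=
  exists_partition_of w
    (fun S hS x₀ hx₀ hmax T hT0 hT hTS =>
      Cfsg.Agent.Helper88.FP.exists_invariant_subset w hpw S hS x₀ hx₀ hmax T hT0 hT hTS)
    hw1 M hM hord

end Cfsg.Agent.Helper63.FP
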