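import Mathlib
import Cfsg.Agent.Helper43.EB.Defs

/-! # (L7) of helper43's WANTED #9542 (S5877): the group induced on an eigenspace of a non-scalar
`z ∈ Γ` with `z ^ r = 1` is again of symplectic type, and the eigenspace has dimension `dim V / r`. -/

set_option autoImplicit false

namespace Cfsg.Agent.Helper63.EBL7

open Cfsg.Agent.Helper43.EB Module Polynomial

variable {F : Type*} [Field F] {V : Type*} [AddCommGroup V] [Module F V]

/-- powers in a twisted commutation relation -/
theorem comm_pow {A B : Module.End F V} {c : F} (h : A * B = c • (B * A)) (t : ℕ) :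
    A * B ^ t = c ^ t • (B ^ t * A) := by
  induction t with
  | zero => simp
  | succ t ih =>
    rw [pow_succ, ← mul_assoc, ih, smul_mul_assoc, mul_assoc, h, mul_smul_comm, smul_smul,
      ← mul_assoc, pow_succ]

/-- a twisted commutation relation moves eigenspaces -/
theorem map_mem_eigenspace {A X : Module.End F V} {c μ : F} (h : A * X = c • (X * A)) {v : V}
    (hv : v ∈ Module.End.eigenspace A μ) : X v ∈ Module.End.eigenspace A (c * μ) := by
  rw [Module.End.mem_eigenspace_iff] at hv ⊢
  have h1 : A (X v) = (A * X) v := rfl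
  rw [h1, h, LinearMap.smul_apply, Module.End.mul_apply, hv, map_smul, smul_smul]

/-- the twisted commutation relation for the inverse -/
theorem comm_inv {A : Module.End F V} {x : (Module.End F V)ˣ} {c : F} (hc : c ≠ 0)
    (h : A * (x : Module.End F V) = c • ((x : Module.End F V) * A)) :
    A * ((x⁻¹ : (Module.End F V)ˣ) : Module.End F V) =
      c⁻¹ • (((x⁻¹ : (Module.End F V)ˣ) : Module.End F V) * A) := by
  have h1 : ((x⁻¹ : (Module.End F V)ˣ) : Module.End F V) * (x : Module.End F V) = 1 := by
    rw [← Units.val_mul, inv_mul_cancel, Units.val_one]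
  have h2 : (x : Module.End F V) * ((x⁻¹ : (Module.End F V)ˣ) : Module.End F V) = 1 := by
    rw [← Units.val_mul, mul_inv_cancel, Units.val_one]
  have h3 : ((x⁻¹ : (Module.End F V)ˣ) : Module.End F V) * (A * (x : Module.End F V)) *
      ((x⁻¹ : (Module.End F V)ˣ) : Module.End F V) =
      ((x⁻¹ : (Module.End F V)ˣ) : Module.End F V) * A := by
    rw [mul_assoc, mul_assoc, h2, mul_one]
  rw [h, mul_smul_comm, smul_mul_assoc, ← mul_assoc, h1, one_mul] at h3
  rw [← h3, smul_smul, inv_mul_cancel₀ hc, one_smul]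

/-- Part 0: an element `x ∈ Γ` with `z x = ω x z` -/
theorem exists_x {r : ℕ} (hr : r.Prime) {ω : F} (hω : IsPrimitiveRoot ω r)
    {Γ : Subgroup (Module.End F V)ˣ} (hΓ : SympType r ω Γ) {z : (Module.End F V)ˣ} (hz : z ∈ Γ)
    (hzns : ¬ IsScalar (z : Module.End F V)) :
    ∃ x ∈ Γ, (z : Module.End F V) * (x : Module.End F V) =
      ω • ((x : Module.End F V) * (z : Module.End F V)) := by
  have hb : ∃ b ∈ Γ, (z : Module.End F V) * (b : Module.End F V) ≠
      (b : Module.End F V) * (z : Module.End F V) := by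
    by_contra hcon
    push Not at hcon
    exact hzns (hΓ.schur _ (fun a ha => hcon a ha))
  obtain ⟨b, hb, hne⟩ := hb
  obtain ⟨k, hk⟩ := hΓ.comm z hz b hb
  have hk1 : ω ^ k ≠ 1 := fun h => hne (by rw [hk, h, one_smul])
  have hrk : ¬ r ∣ k := fun h => hk1 ((hω.pow_eq_one_iff_dvd k).2 h)
  have hcop : Nat.Coprime k r := ((Nat.Prime.coprime_iff_not_dvd hr).2 hrk).symm
  obtain ⟨t, -, ht⟩ := Nat.exists_mul_mod_eq_one_of_coprime hcop hr.one_lt
  refine ⟨b ^ t, Γ.pow_mem hb t, ?_⟩
  have h1 := comm_pow hk t
  rw [Units.val_pow_eq_pow_val, h1, ← pow_mul, pow_eq_pow_mod (k * t) hω.pow_eq_one, ht, pow_one]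

/-- kernel of a product of distinct linear factors evaluated at an endomorphism -/
theorem ker_aeval_prod {ι : Type*} (A : Module.End F V) (s : Finset ι) (μ : ι → F)
    (hinj : Set.InjOn μ s) :
    LinearMap.ker (aeval A (∏ i ∈ s, (X - C (μ i)))) = ⨆ i ∈ s, Module.End.eigenspace A (μ i) := by
  classical
  induction s using Finset.induction_on with
  | empty =>
    simp only [Finset.prod_empty, map_one, Finset.notMem_empty, iSup_false, iSup_bot]
    exact LinearMap.ker_id
  | insert a s ha ih =>
    have hinj' : Set.InjOn μ s := hinj.mono (by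
      intro i hi
      exact Finset.mem_insert_of_mem hi)
    have hcop : IsCoprime (X - C (μ a)) (∏ i ∈ s, (X - C (μ i))) := by
      refine IsCoprime.prod_right (fun i hi => ?_)
      refine Polynomial.isCoprime_X_sub_C_of_isUnit_sub (IsUnit.mk0 _ (sub_ne_zero.2 ?_))
      intro h
      have := hinj (Finset.mem_insert_self a s) (Finset.mem_insert_of_mem hi) h
      exact ha (this ▸ hi)
    rw [Finset.prod_insert ha, ← Polynomial.sup_ker_aeval_eq_ker_aeval_mul_of_coprime A hcop,
      ih hinj', Finset.iSup_insert]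
    congr 1
    rw [Module.End.eigenspace_def]
    congr 1
    simp [Algebra.algebraMap_eq_smul_one]

/-- the eigenspaces for the `r`-th roots of unity span `V` when `A ^ r = 1` -/
theorem iSup_eigenspace_eq_top {r : ℕ} (hr : 0 < r) {ω : F} (hω : IsPrimitiveRoot ω r)
    {A : Module.End F V} (hA : A ^ r = 1) :
    ⨆ i : Fin r, Module.End.eigenspace A (ω ^ (i : ℕ)) = ⊤ := by
  have h1 := ker_aeval_prod A (Finset.univ : Finset (Fin r)) (fun i => ω ^ (i : ℕ)) (by
    intro i _ j _ h
    exact Fin.ext (hω.pow_inj i.2 j.2 h))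
  have h2 : (∏ i : Fin r, (X - C (ω ^ (i : ℕ))) : F[X]) = X ^ r - C 1 := by
    rw [X_pow_sub_C_eq_prod hω hr (one_pow r), ← Fin.prod_univ_eq_prod_range]
    simp
  rw [h2] at h1
  have h3 : aeval A (X ^ r - C 1 : F[X]) = 0 := by
    simp [hA]
  rw [h3, LinearMap.ker_zero] at h1
  rw [h1]
  simp

theorem iSupIndep_eigenspace {r : ℕ} {ω : F} (hω : IsPrimitiveRoot ω r) (A : Module.End F V) :
    iSupIndep (fun i : Fin r => Module.End.eigenspace A (ω ^ (i : ℕ))) := by
  have h := Module.End.eigenspaces_iSupIndep A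
  exact h.comp (f := fun i : Fin r => ω ^ (i : ℕ)) (by
    intro i j hij
    exact Fin.ext (hω.pow_inj i.2 j.2 hij))

/-- the dimension formula -/
theorem finrank_eq_sum [FiniteDimensional F V] {r : ℕ} (hr : 0 < r) {ω : F}
    (hω : IsPrimitiveRoot ω r) {A : Module.End F V} (hA : A ^ r = 1) :
    finrank F V = ∑ i : Fin r, finrank F (Module.End.eigenspace A (ω ^ (i : ℕ))) := by
  classical
  have hint := DirectSum.isInternal_submodule_of_iSupIndep_of_iSup_eq_top
    (iSupIndep_eigenspace hω A) (iSup_eigenspace_eq_top hr hω hA)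
  let e := LinearEquiv.ofBijective (DirectSum.coeLinearMap
    (fun i : Fin r => Module.End.eigenspace A (ω ^ (i : ℕ)))) hint
  rw [← e.finrank_eq, Module.finrank_directSum]

theorem finrank_eigenspace_le [FiniteDimensional F V] {A : Module.End F V}
    {x : (Module.End F V)ˣ} {c : F}
    (h : A * (x : Module.End F V) = c • ((x : Module.End F V) * A)) (μ : F) :
    finrank F (Module.End.eigenspace A μ) ≤ finrank F (Module.End.eigenspace A (c * μ)) := by
  let f : Module.End.eigenspace A μ →ₗ[F] Module.End.eigenspace A (c * μ) :=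
    (x : Module.End F V).restrict (fun v hv => map_mem_eigenspace h hv)
  refine LinearMap.finrank_le_finrank_of_injective (f := f) ?_
  intro u v huv
  have h1 : (x : Module.End F V) (u : V) = (x : Module.End F V) (v : V) :=
    congrArg Subtype.val huv
  have h2 : ((x⁻¹ : (Module.End F V)ˣ) : Module.End F V) ((x : Module.End F V) (u : V)) = (u : V) := by
    have : (((x⁻¹ : (Module.End F V)ˣ) : Module.End F V) * (x : Module.End F V)) (u : V) = u := by
      rw [← Units.val_mul, inv_mul_cancel]; rfl
    exact this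
  have h3 : ((x⁻¹ : (Module.End F V)ˣ) : Module.End F V) ((x : Module.End F V) (v : V)) = (v : V) := by
    have : (((x⁻¹ : (Module.End F V)ˣ) : Module.End F V) * (x : Module.End F V)) (v : V) = v := by
      rw [← Units.val_mul, inv_mul_cancel]; rfl
    exact this
  apply Subtype.ext
  rw [← h2, ← h3, h1]

/-- all eigenspaces for the `r`-th roots of unity have the same dimension -/
theorem finrank_eigenspace_eq [FiniteDimensional F V] {r : ℕ} (hr : 0 < r) {ω : F}
    (hω : IsPrimitiveRoot ω r)
    {A : Module.End F V} {x : (Module.End F V)ˣ}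
    (h : A * (x : Module.End F V) = ω • ((x : Module.End F V) * A)) (i : ℕ) :
    finrank F (Module.End.eigenspace A (ω ^ i)) = finrank F (Module.End.eigenspace A (ω ^ 0)) := by
  set d : ℕ → ℕ := fun i => finrank F (Module.End.eigenspace A (ω ^ i)) with hd
  have hstep : ∀ i, d i ≤ d (i + 1) := by
    intro i
    have := finrank_eigenspace_le h (ω ^ i)
    rwa [← pow_succ'] at this
  have hmono : ∀ i t, d i ≤ d (i + t) := by
    intro i t
    induction t with
    | zero => exact le_rfl
    | succ t ih => exact le_trans ih (hstep (i + t))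
  have hper : ∀ i, d (i + r) = d i := by
    intro i
    simp only [hd]
    rw [pow_add, hω.pow_eq_one, mul_one]
  have heq : ∀ i, d i = d (i + 1) := by
    intro i
    apply le_antisymm (hstep i)
    have h1 := hmono (i + 1) (r - 1)
    have e : i + 1 + (r - 1) = i + r := by omega
    rw [e, hper] at h1
    exact h1
  have hall : ∀ i, d i = d 0 := by
    intro i
    induction i with
    | zero => rfl
    | succ i ih => rw [← heq i, ih]
  exact hall i

/-- an eigenspace and the span of the other eigenspaces are complementary (when the eigenspaces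
span) -/
theorem isCompl_eigenspace {A : Module.End F V} (hsup : ⨆ ν : F, Module.End.eigenspace A ν = ⊤)
    (μ : F) :
    IsCompl (Module.End.eigenspace A μ) (⨆ ν, ⨆ (_ : ν ≠ μ), Module.End.eigenspace A ν) := by
  refine ⟨(Module.End.eigenspaces_iSupIndep A) μ, ?_⟩
  rw [codisjoint_iff, ← iSup_split_single (fun ν => Module.End.eigenspace A ν) μ, hsup]

/-- characterisation of the projection -/
theorem proj_eq_of_sub_mem {E W : Submodule F V} (h : IsCompl E W) (w : V) (y : E)
    (hw : w - (y : V) ∈ W) : Submodule.projectionOnto E W h w = y := by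
  have h1 : Submodule.projectionOnto E W h (w - (y : V)) = 0 :=
    (Submodule.projectionOnto_apply_eq_zero_iff h).2 hw
  rw [map_sub, Submodule.projectionOnto_apply_left] at h1
  exact sub_eq_zero.1 h1

theorem sub_proj_mem {E W : Submodule F V} (h : IsCompl E W) (w : V) :
    w - ((Submodule.projectionOnto E W h w : E) : V) ∈ W := by
  rw [← Submodule.projectionOnto_apply_eq_zero_iff h, map_sub,
    Submodule.projectionOnto_apply_left, sub_self]

/-- the extension by zero of `M : End E` along a complement `W` -/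
noncomputable def extZ {E W : Submodule F V} (h : IsCompl E W) (M : Module.End F E) :
    Module.End F V :=
  E.subtype ∘ₗ M ∘ₗ Submodule.projectionOnto E W h

theorem extZ_apply_mem {E W : Submodule F V} (h : IsCompl E W) (M : Module.End F E) (y : E) :
    extZ h M (y : V) = ((M y : E) : V) := by
  simp [extZ]

theorem extZ_apply_of_mem {E W : Submodule F V} (h : IsCompl E W) (M : Module.End F E) {w : V}
    (hw : w ∈ W) : extZ h M w = 0 := by
  have : Submodule.projectionOnto E W h w = 0 :=
    (Submodule.projectionOnto_apply_eq_zero_iff h).2 hw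
  simp [extZ, this]

/-- `extZ h M` commutes with the elements of `Γ` stabilising `E` and `W` -/
theorem extZ_comm {Γ : Subgroup (Module.End F V)ˣ} {E W : Submodule F V} (h : IsCompl E W)
    (M : Module.End F E)
    (hM : ∀ u ∈ resGroup Γ E, M * (u : Module.End F E) = (u : Module.End F E) * M)
    (c : (Module.End F V)ˣ) (hc : c ∈ Γ) (hcE : ∀ v ∈ E, (c : Module.End F V) v ∈ E)
    (hcE' : ∀ v ∈ E, ((c⁻¹ : (Module.End F V)ˣ) : Module.End F V) v ∈ E)
    (hcW : ∀ v ∈ W, (c : Module.End F V) v ∈ W) :
    extZ h M * (c : Module.End F V) = (c : Module.End F V) * extZ h M := by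
  set u := resUnit E c hcE hcE' with hu
  have huΓ : u ∈ resGroup Γ E := ⟨c, hc, fun x => rfl⟩
  ext v
  rw [Module.End.mul_apply, Module.End.mul_apply]
  have hP : Submodule.projectionOnto E W h ((c : Module.End F V) v) =
      (u : Module.End F E) (Submodule.projectionOnto E W h v) := by
    apply proj_eq_of_sub_mem
    rw [hu, resUnit_apply, ← map_sub]
    exact hcW _ (sub_proj_mem h v)
  have h1 : extZ h M ((c : Module.End F V) v) =
      (((M * (u : Module.End F E)) (Submodule.projectionOnto E W h v) : E) : V) := by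
    simp only [extZ, LinearMap.comp_apply, hP, Module.End.mul_apply, Submodule.subtype_apply]
  rw [h1, hM u huΓ, Module.End.mul_apply, hu, resUnit_apply]
  simp [extZ]

theorem unit_pow_mul_inv_pow (x : (Module.End F V)ˣ) (i : ℕ) :
    (x : Module.End F V) ^ i * ((x⁻¹ : (Module.End F V)ˣ) : Module.End F V) ^ i = 1 := by
  rw [← Units.val_pow_eq_pow_val, ← Units.val_pow_eq_pow_val, ← Units.val_mul, inv_pow,
    mul_inv_cancel, Units.val_one]

theorem unit_inv_pow_mul_pow (x : (Module.End F V)ˣ) (i : ℕ) :
    ((x⁻¹ : (Module.End F V)ˣ) : Module.End F V) ^ i * (x : Module.End F V) ^ i = 1 := by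
  rw [← Units.val_pow_eq_pow_val, ← Units.val_pow_eq_pow_val, ← Units.val_mul, inv_pow,
    inv_mul_cancel, Units.val_one]

/-- elements commuting with `A` stabilise its eigenspaces -/
theorem comm_map_mem_eigenspace {A C : Module.End F V} (h : A * C = C * A) {ν : F} {v : V}
    (hv : v ∈ Module.End.eigenspace A ν) : C v ∈ Module.End.eigenspace A ν := by
  have h' : A * C = (1 : F) • (C * A) := by rw [one_smul, h]
  have := map_mem_eigenspace h' hv
  rwa [one_mul] at this

theorem comm_unit_inv {A : Module.End F V} {c : (Module.End F V)ˣ}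
    (h : A * (c : Module.End F V) = (c : Module.End F V) * A) :
    A * ((c⁻¹ : (Module.End F V)ˣ) : Module.End F V) =
      ((c⁻¹ : (Module.End F V)ˣ) : Module.End F V) * A := by
  have h' : A * (c : Module.End F V) = (1 : F) • ((c : Module.End F V) * A) := by rw [one_smul, h]
  have := comm_inv one_ne_zero h'
  rwa [inv_one, one_smul] at this

/-- the Schur property of the group induced on an eigenspace -/
theorem schur_res {r : ℕ} (hr : r.Prime) {ω : F} (hω : IsPrimitiveRoot ω r)
    {Γ : Subgroup (Module.End F V)ˣ} (hΓ : SympType r ω Γ) (Z : Module.End F V) (hZr : Z ^ r = 1)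
    (hZΓ : ∀ a ∈ Γ, ∃ k : ℕ, Z * (a : Module.End F V) = ω ^ k • ((a : Module.End F V) * Z))
    {x : (Module.End F V)ˣ} (hx : x ∈ Γ)
    (hzx : Z * (x : Module.End F V) = ω • ((x : Module.End F V) * Z))
    {μ : F} (hμ : μ ≠ 0) (M : Module.End F (Module.End.eigenspace Z μ))
    (hM : ∀ u ∈ resGroup Γ (Module.End.eigenspace Z μ),
      M * (u : Module.End F _) = (u : Module.End F _) * M) : IsScalar M := by
  have hω0 : ω ≠ 0 := hω.ne_zero hr.ne_zero
  have hsup : ⨆ ν : F, Module.End.eigenspace Z ν = ⊤ := by
    rw [eq_top_iff, ← iSup_eigenspace_eq_top hr.pos hω hZr]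
    exact iSup_le (fun i => le_iSup (fun ν => Module.End.eigenspace Z ν) (ω ^ (i : ℕ)))
  have h := isCompl_eigenspace hsup μ
  set X : Module.End F V := (x : Module.End F V) with hX
  set X' : Module.End F V := ((x⁻¹ : (Module.End F V)ˣ) : Module.End F V) with hX'
  set N := extZ h M with hN
  -- (K1)
  have K1 : ∀ c ∈ Γ, Z * (c : Module.End F V) = (c : Module.End F V) * Z →
      N * (c : Module.End F V) = (c : Module.End F V) * N := by
    intro c hc hcomm
    refine extZ_comm h M hM c hc (fun v hv => comm_map_mem_eigenspace hcomm hv)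
      (fun v hv => comm_map_mem_eigenspace (comm_unit_inv hcomm) hv) ?_
    intro v hv
    have hle : (⨆ ν, ⨆ (_ : ν ≠ μ), Module.End.eigenspace Z ν) ≤
        Submodule.comap (c : Module.End F V) (⨆ ν, ⨆ (_ : ν ≠ μ), Module.End.eigenspace Z ν) := by
      refine iSup₂_le (fun ν hν w hw => ?_)
      exact Submodule.mem_iSup_of_mem ν (Submodule.mem_iSup_of_mem hν
        (comm_map_mem_eigenspace hcomm hw))
    exact hle hv
  -- (K2)
  have K2 : ∀ i : ℕ, Z * X ^ i = ω ^ i • (X ^ i * Z) := comm_pow hzx
  have K2' : ∀ i : ℕ, Z * X' ^ i = ω⁻¹ ^ i • (X' ^ i * Z) := comm_pow (comm_inv hω0 hzx)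
  have hXX' : ∀ i : ℕ, X ^ i * X' ^ i = 1 := unit_pow_mul_inv_pow x
  have hX'X : ∀ i : ℕ, X' ^ i * X ^ i = 1 := unit_inv_pow_mul_pow x
  have hωi : ∀ i : ℕ, ω⁻¹ ^ i * ω ^ i = 1 := by
    intro i
    rw [← mul_pow, inv_mul_cancel₀ hω0, one_pow]
  -- (K3)
  set Mt : Module.End F V := ∑ i ∈ Finset.range r, X ^ i * N * X' ^ i with hMt
  -- (K4)
  have K4 : ∀ c ∈ Γ, Z * (c : Module.End F V) = (c : Module.End F V) * Z →
      Mt * (c : Module.End F V) = (c : Module.End F V) * Mt := by
    intro c hc hcomm
    rw [hMt, Finset.sum_mul, Finset.mul_sum]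
    refine Finset.sum_congr rfl (fun i _ => ?_)
    set ci : (Module.End F V)ˣ := x⁻¹ ^ i * c * x ^ i with hci
    have hciΓ : ci ∈ Γ := Γ.mul_mem (Γ.mul_mem (Γ.pow_mem (Γ.inv_mem hx) i) hc) (Γ.pow_mem hx i)
    have hcival : (ci : Module.End F V) = X' ^ i * (c : Module.End F V) * X ^ i := by
      rw [hci, Units.val_mul, Units.val_mul, Units.val_pow_eq_pow_val, Units.val_pow_eq_pow_val]
    have hcicomm : Z * (ci : Module.End F V) = (ci : Module.End F V) * Z := by
      rw [hcival]
      calc Z * (X' ^ i * (c : Module.End F V) * X ^ i)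
          = (Z * X' ^ i) * (c : Module.End F V) * X ^ i := by simp only [mul_assoc]
        _ = ω⁻¹ ^ i • (X' ^ i * (Z * (c : Module.End F V)) * X ^ i) := by
            rw [K2']; simp only [smul_mul_assoc, mul_assoc]
        _ = ω⁻¹ ^ i • (X' ^ i * (c : Module.End F V) * (Z * X ^ i)) := by
            rw [hcomm]; simp only [mul_assoc]
        _ = X' ^ i * (c : Module.End F V) * X ^ i * Z := by
            rw [K2, mul_smul_comm, smul_smul, hωi, one_smul]; simp only [mul_assoc]
    have h1 := K1 ci hciΓ hcicomm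
    have h2 : (c : Module.End F V) * X ^ i = X ^ i * (ci : Module.End F V) := by
      rw [hcival, ← mul_assoc, ← mul_assoc, hXX', one_mul]
    have h3 : (ci : Module.End F V) * X' ^ i = X' ^ i * (c : Module.End F V) := by
      rw [hcival, mul_assoc, hXX', mul_one]
    calc X ^ i * N * X' ^ i * (c : Module.End F V)
        = X ^ i * N * (X' ^ i * (c : Module.End F V)) := by simp only [mul_assoc]
      _ = X ^ i * (N * (ci : Module.End F V)) * X' ^ i := by rw [← h3]; simp only [mul_assoc]
      _ = (X ^ i * (ci : Module.End F V)) * N * X' ^ i := by rw [h1]; simp only [mul_assoc]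
      _ = (c : Module.End F V) * (X ^ i * N * X' ^ i) := by rw [← h2]; simp only [mul_assoc]
  -- (K5)
  have K5 : Mt * X = X * Mt := by
    have hxr : Z * ((x ^ r : (Module.End F V)ˣ) : Module.End F V) =
        ((x ^ r : (Module.End F V)ˣ) : Module.End F V) * Z := by
      rw [Units.val_pow_eq_pow_val, K2 r, hω.pow_eq_one, one_smul]
    have hNr : N * X ^ r = X ^ r * N := by
      have := K1 (x ^ r) (Γ.pow_mem hx r) hxr
      rwa [Units.val_pow_eq_pow_val] at this
    have hfr : X ^ r * N * X' ^ r = N := by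
      rw [← hNr, mul_assoc, hXX', mul_one]
    have hshift : ∑ i ∈ Finset.range r, X ^ (i + 1) * N * X' ^ (i + 1) = Mt := by
      have e1 := Finset.sum_range_succ' (fun i => X ^ i * N * X' ^ i) r
      have e2 := Finset.sum_range_succ (fun i => X ^ i * N * X' ^ i) r
      rw [e2] at e1
      simp only [pow_zero, one_mul, mul_one] at e1
      rw [hfr] at e1
      rw [hMt]
      exact (add_right_cancel e1).symm
    have hterm : ∀ i : ℕ, X * (X ^ i * N * X' ^ i) = X ^ (i + 1) * N * X' ^ (i + 1) * X := by
      intro i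
      have e : X' ^ (i + 1) * X = X' ^ i := by
        rw [pow_succ, mul_assoc]
        have : X' * X = 1 := by
          have := hX'X 1
          simpa using this
        rw [this, mul_one]
      rw [mul_assoc (X ^ (i + 1) * N), e, pow_succ']
      simp only [mul_assoc]
    rw [show X * Mt = ∑ i ∈ Finset.range r, X * (X ^ i * N * X' ^ i) by rw [hMt, Finset.mul_sum]]
    rw [Finset.sum_congr rfl (fun i _ => hterm i), ← Finset.sum_mul, hshift]
  -- (K6)
  have K6 : ∀ a ∈ Γ, Mt * (a : Module.End F V) = (a : Module.End F V) * Mt := by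
    intro a ha
    obtain ⟨k, hk⟩ := hZΓ a ha
    set c : (Module.End F V)ˣ := a * x⁻¹ ^ k with hc
    have hcΓ : c ∈ Γ := Γ.mul_mem ha (Γ.pow_mem (Γ.inv_mem hx) k)
    have hcval : (c : Module.End F V) = (a : Module.End F V) * X' ^ k := by
      rw [hc, Units.val_mul, Units.val_pow_eq_pow_val]
    have hccomm : Z * (c : Module.End F V) = (c : Module.End F V) * Z := by
      rw [hcval, ← mul_assoc, hk, smul_mul_assoc, mul_assoc, K2', mul_smul_comm, smul_smul,
        mul_comm, hωi, one_smul, mul_assoc]
    have h1 := K4 c hcΓ hccomm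
    have h2 : (a : Module.End F V) = (c : Module.End F V) * X ^ k := by
      rw [hcval, mul_assoc, hX'X, mul_one]
    have h3 : Mt * X ^ k = X ^ k * Mt := (Commute.pow_right (show Commute Mt X from K5) k)
    rw [h2, ← mul_assoc, h1, mul_assoc, h3, mul_assoc]
  -- (K7)
  obtain ⟨lam, hlam⟩ := hΓ.schur Mt K6
  -- (K8)
  have K8 : ∀ y : Module.End.eigenspace Z μ, Mt (y : V) = ((M y : _) : V) := by
    intro y
    rw [hMt, LinearMap.sum_apply, Finset.sum_eq_single 0]
    · simp only [pow_zero, one_mul, mul_one]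
      exact extZ_apply_mem h M y
    · intro i hi hi0
      have hir : i < r := Finset.mem_range.1 hi
      rw [Module.End.mul_apply, Module.End.mul_apply]
      have hmem : (X' ^ i) (y : V) ∈ Module.End.eigenspace Z (ω⁻¹ ^ i * μ) :=
        map_mem_eigenspace (K2' i) y.2
      have hne : ω⁻¹ ^ i * μ ≠ μ := by
        intro he
        have h1 : ω⁻¹ ^ i = 1 := by
          have : ω⁻¹ ^ i * μ = 1 * μ := by rw [he, one_mul]
          exact mul_right_cancel₀ hμ this
        have h2 : ω ^ i = 1 := by
          have := hωi i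
          rw [h1, one_mul] at this
          exact this
        have h3 := (hω.pow_eq_one_iff_dvd i).1 h2
        have := Nat.le_of_dvd (Nat.pos_of_ne_zero hi0) h3
        omega
      have hW : (X' ^ i) (y : V) ∈ (⨆ ν, ⨆ (_ : ν ≠ μ), Module.End.eigenspace Z ν) :=
        Submodule.mem_iSup_of_mem _ (Submodule.mem_iSup_of_mem hne hmem)
      rw [extZ_apply_of_mem h M hW, map_zero]
    · intro h0
      exact absurd (Finset.mem_range.2 hr.pos) h0
  refine ⟨lam, ?_⟩
  ext y
  have := K8 y
  rw [hlam] at this
  simp only [LinearMap.smul_apply, Module.End.one_apply] at this ⊢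
  simp only [Submodule.coe_smul]
  exact this.symm

/-- (L7) the group induced on an eigenspace of a non-scalar `z ∈ Γ` with `z ^ r = 1` is again of
symplectic type, and the eigenspace has dimension `dim V / r` -/
theorem sympType_res [FiniteDimensional F V] {r : ℕ} (hr : r.Prime) {ω : F}
    (hω : IsPrimitiveRoot ω r) {Γ : Subgroup (Module.End F V)ˣ} (hΓ : SympType r ω Γ)
    {z : (Module.End F V)ˣ} (hz : z ∈ Γ) (hzr : z ^ r = 1) (hzns : ¬ IsScalar (z : Module.End F V))
    (j : ℕ) :
    SympType r ω (resGroup Γ (Module.End.eigenspace (z : Module.End F V) (ω ^ j))) ∧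
      r * finrank F (Module.End.eigenspace (z : Module.End F V) (ω ^ j)) = finrank F V := by
  obtain ⟨x, hx, hzx⟩ := exists_x hr hω hΓ hz hzns
  have hZr : (z : Module.End F V) ^ r = 1 := by
    rw [← Units.val_pow_eq_pow_val, hzr, Units.val_one]
  have hω0 : ω ≠ 0 := hω.ne_zero hr.ne_zero
  refine ⟨⟨?_, ?_, ?_⟩, ?_⟩
  · intro c
    exact ⟨sc c, hΓ.scalar_mem c, fun y => by simp⟩
  · rintro u ⟨a, ha, hua⟩ v ⟨b, hb, hvb⟩
    obtain ⟨k, hk⟩ := hΓ.comm a ha b hb
    refine ⟨k, ?_⟩
    ext y
    have h1 : (((↑u * ↑v : Module.End F (Module.End.eigenspace (z : Module.End F V) (ω ^ j))) y :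
        Module.End.eigenspace (z : Module.End F V) (ω ^ j)) : V) =
        ((a : Module.End F V) * (b : Module.End F V)) (y : V) := by
      rw [Module.End.mul_apply, hua, hvb, Module.End.mul_apply]
    have h2 : (((↑v * ↑u : Module.End F (Module.End.eigenspace (z : Module.End F V) (ω ^ j))) y :
        Module.End.eigenspace (z : Module.End F V) (ω ^ j)) : V) =
        ((b : Module.End F V) * (a : Module.End F V)) (y : V) := by
      rw [Module.End.mul_apply, hvb, hua, Module.End.mul_apply]
    rw [h1, hk, LinearMap.smul_apply, LinearMap.smul_apply, Submodule.coe_smul, h2]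
  · intro M hM
    exact schur_res hr hω hΓ (z : Module.End F V) hZr (fun a ha => hΓ.comm z hz a ha) hx hzx
      (pow_ne_zero j hω0) M hM
  · rw [finrank_eq_sum hr.pos hω hZr]
    have h1 : ∀ i : Fin r, finrank F (Module.End.eigenspace (z : Module.End F V) (ω ^ (i : ℕ))) =
        finrank F (Module.End.eigenspace (z : Module.End F V) (ω ^ j)) := fun i => by
      rw [finrank_eigenspace_eq hr.pos hω hzx i, finrank_eigenspace_eq hr.pos hω hzx j]
    rw [Finset.sum_congr rfl (fun i _ => h1 i), Finset.sum_const, Finset.card_univ,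
      Fintype.card_fin, smul_eq_mul]

end Cfsg.Agent.Helper63.EBL7
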