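import Mathlib

/-!
# S2647 (helper43's plan, board #6842): leaf (O7-L12), an `A₇`-invariant subgroup of `(ℤˣ)⁷`
containing a nontrivial vector of product one contains all vectors of product one
-/

set_option autoImplicit false

namespace Cfsg.Agent.Helper63.O7

open Equiv

/-- the action of permutations on sign vectors -/
def act (σ : Perm (Fin 7)) (ε : Fin 7 → ℤˣ) : Fin 7 → ℤˣ := fun i => ε (σ⁻¹ i)

theorem act_mul (σ τ : Perm (Fin 7)) (ε : Fin 7 → ℤˣ) : act (σ * τ) ε = act σ (act τ ε) := by
  funext i
  simp [act, mul_inv_rev, Perm.mul_apply]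

/-- the vector with `-1` exactly at `a` and `b` (for `a ≠ b`) -/
def e2 (a b : Fin 7) : Fin 7 → ℤˣ := fun m => (if m = a then -1 else 1) * (if m = b then -1 else 1)

theorem e2_comm (a b : Fin 7) : e2 a b = e2 b a := by
  funext m
  simp only [e2]
  exact mul_comm _ _

theorem act_e2 (σ : Perm (Fin 7)) (a b : Fin 7) : act σ (e2 a b) = e2 (σ a) (σ b) := by
  funext m
  have h1 : (σ⁻¹ m = a) ↔ (m = σ a) := Perm.inv_eq_iff_eq
  have h2 : (σ⁻¹ m = b) ↔ (m = σ b) := Perm.inv_eq_iff_eq
  simp only [act, e2, h1, h2]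

theorem e2_mul_self (a b : Fin 7) : e2 a b * e2 a b = 1 := by
  funext m
  simp only [Pi.mul_apply, Pi.one_apply]
  exact Int.units_mul_self _

theorem prod_e2 (a b : Fin 7) (_hab : a ≠ b) : ∏ m, e2 a b m = 1 := by
  simp only [e2]
  rw [Finset.prod_mul_distrib, Finset.prod_ite_eq' Finset.univ a, Finset.prod_ite_eq' Finset.univ b]
  simp

theorem act_swap_of_eq (ε : Fin 7 → ℤˣ) (k l : Fin 7) (h : ε k = ε l) :
    act (swap k l) ε = ε := by
  funext m
  simp only [act, swap_inv]
  rw [swap_apply_def]
  split_ifs with h1 h2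
  · rw [h1, h]
  · rw [h2, h]
  · rfl

theorem mul_act_swap (ε : Fin 7 → ℤˣ) (i j : Fin 7) (hi : ε i = -1) (hj : ε j = 1) :
    ε * act (swap i j) ε = e2 i j := by
  have hij : i ≠ j := by
    rintro rfl
    rw [hi] at hj
    exact absurd hj (by decide)
  funext m
  simp only [Pi.mul_apply, act, swap_inv, e2]
  by_cases h1 : m = i
  · subst h1
    rw [swap_apply_left, hi, hj, if_pos rfl, if_neg hij]
  · by_cases h2 : m = j
    · subst h2
      rw [swap_apply_right, hi, hj, if_neg h1, if_pos rfl]
    · rw [swap_apply_of_ne_of_ne h1 h2, if_neg h1, if_neg h2, Int.units_mul_self]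
      rfl

/-- L12 -/
theorem even_weight_gen (X : Subgroup (Fin 7 → ℤˣ))
    (hX : ∀ ε ∈ X, ∀ π : Equiv.Perm (Fin 7), Equiv.Perm.sign π = 1 → (fun i => ε (π⁻¹ i)) ∈ X)
    (hne : ∃ ε ∈ X, ε ≠ 1 ∧ ∏ i, ε i = 1) : ∀ ε : Fin 7 → ℤˣ, ∏ i, ε i = 1 → ε ∈ X := by
  have hX' : ∀ ε ∈ X, ∀ π : Perm (Fin 7), Perm.sign π = 1 → act π ε ∈ X := hX
  obtain ⟨ε0, hε0, hne1, hprod⟩ := hne
  obtain ⟨i, hi⟩ : ∃ i, ε0 i = -1 := by
    by_contra hcon
    apply hne1
    funext m
    rcases Int.units_eq_one_or (ε0 m) with h | h
    · exact h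
    · exact absurd ⟨m, h⟩ hcon
  obtain ⟨j, hj⟩ : ∃ j, ε0 j = 1 := by
    by_contra hcon
    have hall : ∀ m, ε0 m = -1 := fun m =>
      (Int.units_eq_one_or _).resolve_left (fun h => hcon ⟨m, h⟩)
    have h7 : ∏ m, ε0 m = -1 := by
      simp only [hall, Finset.prod_const, Finset.card_univ, Fintype.card_fin]
      decide
    rw [h7] at hprod
    exact absurd hprod (by decide)
  have hij : i ≠ j := by
    rintro rfl
    rw [hi] at hj
    exact absurd hj (by decide)
  obtain ⟨k, l, hkl, hkl'⟩ : ∃ k l : Fin 7, k ≠ l ∧ ε0 k = ε0 l := by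
    rcases Int.units_eq_one_or (ε0 0) with h0 | h0 <;>
      rcases Int.units_eq_one_or (ε0 1) with h1 | h1 <;>
      rcases Int.units_eq_one_or (ε0 2) with h2 | h2
    · exact ⟨0, 1, by decide, by rw [h0, h1]⟩
    · exact ⟨0, 1, by decide, by rw [h0, h1]⟩
    · exact ⟨0, 2, by decide, by rw [h0, h2]⟩
    · exact ⟨1, 2, by decide, by rw [h1, h2]⟩
    · exact ⟨1, 2, by decide, by rw [h1, h2]⟩
    · exact ⟨0, 2, by decide, by rw [h0, h2]⟩
    · exact ⟨0, 1, by decide, by rw [h0, h1]⟩
    · exact ⟨0, 1, by decide, by rw [h0, h1]⟩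
  -- a vector of weight two
  have he : e2 i j ∈ X := by
    have h1 : act (swap i j * swap k l) ε0 ∈ X :=
      hX' ε0 hε0 _ (by rw [Perm.sign_mul, Perm.sign_swap hij, Perm.sign_swap hkl]; rfl)
    rw [act_mul, act_swap_of_eq ε0 k l hkl'] at h1
    have h2 := X.mul_mem hε0 h1
    rwa [mul_act_swap ε0 i j hi hj] at h2
  -- all vectors of weight two
  have hall : ∀ a b : Fin 7, a ≠ b → e2 a b ∈ X := by
    intro a b hab
    obtain ⟨σ, hσi, hσj⟩ : ∃ σ : Perm (Fin 7), σ i = a ∧ σ j = b := by
      refine ⟨swap (swap i a j) b * swap i a, ?_, ?_⟩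
      · rw [Perm.mul_apply, swap_apply_left]
        apply swap_apply_of_ne_of_ne
        · intro h
          apply hij
          have h3 := congrArg (swap i a) h
          rw [swap_apply_right, swap_apply_self] at h3
          exact h3
        · exact hab
      · rw [Perm.mul_apply, swap_apply_left]
    rcases Int.units_eq_one_or (Perm.sign σ) with hs | hs
    · have h1 := hX' _ he σ hs
      rwa [act_e2, hσi, hσj] at h1
    · have h1 := hX' _ he (σ * swap i j)
        (by rw [Perm.sign_mul, hs, Perm.sign_swap hij]; rfl)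
      rw [act_mul, act_e2 (swap i j), swap_apply_left, swap_apply_right, e2_comm, act_e2,
        hσi, hσj] at h1
      exact h1
  -- generation, by induction on the weight
  have hgen : ∀ n : ℕ, ∀ ε : Fin 7 → ℤˣ,
      (Finset.univ.filter (fun m => ε m = -1)).card = n → ∏ m, ε m = 1 → ε ∈ X := by
    intro n
    induction n using Nat.strong_induction_on with
    | _ n ih =>
      intro ε hcard hp
      by_cases hex : ∃ a, ε a = -1
      · obtain ⟨a, ha⟩ := hex
        obtain ⟨b, hba, hb⟩ : ∃ b, b ≠ a ∧ ε b = -1 := by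
          by_contra hcon
          have h1 : ∀ x, x ≠ a → ε x = 1 := by
            intro x hx
            rcases Int.units_eq_one_or (ε x) with h | h
            · exact h
            · exact absurd ⟨x, hx, h⟩ hcon
          rw [Fintype.prod_eq_single a h1, ha] at hp
          exact absurd hp (by decide)
        have hab : a ≠ b := fun h => hba h.symm
        have hval : ∀ m, (ε * e2 a b) m =
            ε m * ((if m = a then -1 else 1) * (if m = b then -1 else 1)) := fun m => rfl
        have hsub : Finset.univ.filter (fun m => (ε * e2 a b) m = -1) ⊂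
            Finset.univ.filter (fun m => ε m = -1) := by
          rw [Finset.ssubset_iff_of_subset]
          · refine ⟨a, ?_, ?_⟩
            · rw [Finset.mem_filter]
              exact ⟨Finset.mem_univ _, ha⟩
            · rw [Finset.mem_filter, not_and]
              intro _
              rw [hval, ha, if_pos rfl, if_neg hab]
              decide
          · intro m hm
            rw [Finset.mem_filter] at hm ⊢
            refine ⟨Finset.mem_univ _, ?_⟩
            have hm2 := hm.2
            rw [hval] at hm2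
            by_cases h1 : m = a
            · rw [h1]; exact ha
            · by_cases h2 : m = b
              · rw [h2]; exact hb
              · rw [if_neg h1, if_neg h2] at hm2
                simpa using hm2
        have hlt := Finset.card_lt_card hsub
        rw [hcard] at hlt
        have hp' : ∏ m, (ε * e2 a b) m = 1 := by
          simp only [Pi.mul_apply]
          rw [Finset.prod_mul_distrib, hp, prod_e2 a b hab, one_mul]
        have h3 := ih _ hlt (ε * e2 a b) rfl hp'
        have h4 := X.mul_mem h3 (hall a b hab)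
        rwa [mul_assoc, e2_mul_self, mul_one] at h4
      · have h1 : ε = 1 := by
          funext m
          rcases Int.units_eq_one_or (ε m) with h | h
          · exact h
          · exact absurd ⟨m, h⟩ hex
        rw [h1]
        exact X.one_mem
  intro ε hp
  exact hgen _ ε rfl hp

end Cfsg.Agent.Helper63.O7
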