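import Mathlib
import Cfsg.Agent.Helper43.XS.Defs
import Cfsg.Agent.Helper13.Symp

/-!
# (L3) of #8578 for helper43's S6002: a matrix conjugating a symplectic frame to a symplectic
frame is a similitude

`exists_multiplier_of` takes (L1c) `scalar_of_commute_frame` for the frame `S` as a hypothesis.
-/

set_option autoImplicit false
set_option linter.unusedSectionVars false
set_option linter.unusedVariables false

namespace Cfsg.Agent.Helper63.XS

open Matrix Cfsg Cfsg.Geo Cfsg.Agent.Helper43.XS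

variable {F : Type*} [Field F]

local notation "Mat" => Matrix (Fin 2 ⊕ Fin 2) (Fin 2 ⊕ Fin 2) F
local notation "GLn" => GL (Fin 2 ⊕ Fin 2) F
local notation "Vec" => (Fin 2 ⊕ Fin 2 → F)

/-- an element of `spGL` satisfies `Aᵀ J A = J` -/
theorem transpose_J_mul_of_mem {A : GLn} (hA : A ∈ Cfsg.spGL 2 F) :
    (A : Mat)ᵀ * Matrix.J (Fin 2) F * (A : Mat) = Matrix.J (Fin 2) F := by
  apply Cfsg.Agent.Helper13.matrix_eq_of_dotProduct_mulVec
  intro u v
  rw [← Cfsg.Agent.Helper13.sympForm_mulVec, ← Cfsg.Agent.Helper13.sympForm_def]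
  exact (Cfsg.Agent.Helper13.mem_spGL_iff A).1 hA u v

/-- (L3) with (L1c) for `S` as a hypothesis -/
theorem exists_multiplier_of {S S' : Fin 4 → GLn}
    (hsc : ∀ M : Mat, (∀ i, M * (S i : Mat) = (S i : Mat) * M) → ∃ c : F, M = c • (1 : Mat))
    (hSp : ∀ i, S i ∈ Cfsg.spGL 2 F) (hSp' : ∀ i, S' i ∈ Cfsg.spGL 2 F) (g : GLn)
    (hg : ∀ i, g * S i * g⁻¹ = S' i) :
    ∃ c : F, c ≠ 0 ∧ ∀ u v : Vec,
      Cfsg.sympForm 2 F ((g : Mat) *ᵥ u) ((g : Mat) *ᵥ v) = c * Cfsg.sympForm 2 F u v := by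
  set J : Mat := Matrix.J (Fin 2) F with hJ
  set G : Mat := (g : Mat) with hG
  set N : Mat := Gᵀ * J * G with hN
  have hJJ : J * J = -1 := Matrix.J_squared (Fin 2) F
  have hJnJ : J * (-J) = 1 := by rw [mul_neg, hJJ, neg_neg]
  have hnJJ : (-J) * J = 1 := by rw [neg_mul, hJJ, neg_neg]
  -- `G S = S' G`
  have hGS : ∀ i, G * (S i : Mat) = (S' i : Mat) * G := by
    intro i
    have h1 : g * S i = S' i * g := by rw [← hg i]; group
    have := congrArg (fun x : GLn => (x : Mat)) h1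
    simpa [Units.val_mul] using this
  -- each `S i` preserves `N`
  have hSN : ∀ i, (S i : Mat)ᵀ * N * (S i : Mat) = N := by
    intro i
    have h1 := transpose_J_mul_of_mem (hSp' i)
    calc (S i : Mat)ᵀ * N * (S i : Mat)
        = (G * (S i : Mat))ᵀ * J * (G * (S i : Mat)) := by
          rw [hN, Matrix.transpose_mul]; simp only [Matrix.mul_assoc]
      _ = ((S' i : Mat) * G)ᵀ * J * ((S' i : Mat) * G) := by rw [hGS i]
      _ = Gᵀ * ((S' i : Mat)ᵀ * J * (S' i : Mat)) * G := by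
          rw [Matrix.transpose_mul]; simp only [Matrix.mul_assoc]
      _ = N := by rw [h1]
  -- `S (-J) Sᵀ = -J`
  have hSJ : ∀ i, (S i : Mat) * (-J) * (S i : Mat)ᵀ = -J := by
    intro i
    have h1 := transpose_J_mul_of_mem (hSp i)
    have h2 : (S i : Mat)ᵀ * (J * (S i : Mat) * (-J)) = 1 := by
      calc (S i : Mat)ᵀ * (J * (S i : Mat) * (-J))
          = ((S i : Mat)ᵀ * J * (S i : Mat)) * (-J) := by simp only [Matrix.mul_assoc]
        _ = 1 := by rw [h1, hJnJ]
    have h3 : (J * (S i : Mat) * (-J)) * (S i : Mat)ᵀ = 1 := mul_eq_one_comm.1 h2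
    calc (S i : Mat) * (-J) * (S i : Mat)ᵀ
        = ((-J) * J) * ((S i : Mat) * (-J) * (S i : Mat)ᵀ) := by rw [hnJJ, Matrix.one_mul]
      _ = (-J) * ((J * (S i : Mat) * (-J)) * (S i : Mat)ᵀ) := by simp only [Matrix.mul_assoc]
      _ = -J := by rw [h3, Matrix.mul_one]
  -- `M = -J N` commutes with the frame
  obtain ⟨c, hc⟩ := hsc ((-J) * N) (by
    intro i
    calc (-J) * N * (S i : Mat)
        = ((S i : Mat) * (-J) * (S i : Mat)ᵀ) * N * (S i : Mat) := by rw [hSJ i]
      _ = (S i : Mat) * (-J) * ((S i : Mat)ᵀ * N * (S i : Mat)) := by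
          simp only [Matrix.mul_assoc]
      _ = (S i : Mat) * ((-J) * N) := by rw [hSN i, Matrix.mul_assoc])
  have hNc : N = c • J := by
    calc N = (J * (-J)) * N := by rw [hJnJ, Matrix.one_mul]
      _ = J * ((-J) * N) := Matrix.mul_assoc _ _ _
      _ = c • J := by rw [hc, Matrix.mul_smul, Matrix.mul_one]
  refine ⟨c, ?_, ?_⟩
  · rintro rfl
    rw [zero_smul] at hNc
    -- `Gᵀ J G = 0` is impossible
    have hGu : IsUnit G := ⟨g, rfl⟩
    have hGt : IsUnit Gᵀ := by
      rw [Matrix.isUnit_iff_isUnit_det, Matrix.det_transpose, ← Matrix.isUnit_iff_isUnit_det]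
      exact hGu
    have h1 : Gᵀ * (J * G) = Gᵀ * 0 := by rw [Matrix.mul_zero, ← Matrix.mul_assoc, ← hN, hNc]
    have h2 : J * G = 0 := hGt.mul_left_cancel h1
    have h3 : J * G = 0 * G := by rw [h2, Matrix.zero_mul]
    have h4 : J = 0 := hGu.mul_right_cancel h3
    rw [h4, Matrix.zero_mul] at hJJ
    have : (1 : Mat) = 0 := by
      have := congrArg (fun x : Mat => -x) hJJ
      simpa using this.symm
    exact one_ne_zero this
  · intro u v
    rw [Cfsg.Agent.Helper13.sympForm_mulVec, ← hN, hNc, Matrix.smul_mulVec,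
      dotProduct_smul, smul_eq_mul, Cfsg.Agent.Helper13.sympForm_def]

end Cfsg.Agent.Helper63.XS
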