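import Mathlib

/-!
# (KE) of #8070 for helper45's S5980: the eigenvalue bound for a Kronecker product

`fix_le_of_kronecker_of` takes the diagonalisation lemma (KD) as a hypothesis.
-/

set_option autoImplicit false

namespace Cfsg.Agent.Helper63.Tsp

open Matrix Polynomial
open scoped Kronecker

universe u

/-- the combinatorial core: eigenvalues `α s * β t`, all values `≠ 1` simple, `α`, `β` not
constant: the value `1` is taken at most `min a b` times -/
theorem fix_le_core {K : Type*} [Field K] {a b : ℕ} (α : Fin a → K) (β : Fin b → K)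
    (hα : ¬ ∃ c, ∀ s, α s = c) (hβ : ¬ ∃ c, ∀ t, β t = c)
    {G : K[X]} (hG : G.Separable) (hG1 : G.eval 1 ≠ 0) (e : ℕ)
    (hch : ∏ st : Fin a × Fin b, (X - C (α st.1 * β st.2)) = G * (X - 1) ^ e) :
    e ≤ a ∧ e ≤ b := by
  classical
  set γ : Fin a × Fin b → K := fun st => α st.1 * β st.2 with hγ
  have hG0 : G ≠ 0 := hG.ne_zero
  have hX1 : (X - 1 : K[X]) = X - C 1 := by simp
  have hne : G * (X - 1) ^ e ≠ 0 :=
    mul_ne_zero hG0 (pow_ne_zero _ (by rw [hX1]; exact X_sub_C_ne_zero 1))
  -- roots of both sides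
  have hL : (∏ st : Fin a × Fin b, (X - C (γ st))).roots = Finset.univ.val.map γ := by
    have : (∏ st : Fin a × Fin b, (X - C (γ st)))
        = (Multiset.map (fun c => X - C c) (Finset.univ.val.map γ)).prod := by
      rw [Multiset.map_map]
      rfl
    rw [this, roots_multiset_prod_X_sub_C]
  have hR : (G * (X - 1) ^ e).roots = G.roots + e • ({1} : Multiset K) := by
    rw [roots_mul hne, roots_pow, hX1, roots_X_sub_C]
  have hcount : ∀ v : K, (Finset.univ.filter (fun st => γ st = v)).card
      = Multiset.count v G.roots + e * (if v = 1 then 1 else 0) := by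
    intro v
    have h1 : Multiset.count v (Finset.univ.val.map γ)
        = Multiset.count v (G.roots + e • ({1} : Multiset K)) := by
      rw [← hL, ← hR]
      exact congrArg (fun p : K[X] => Multiset.count v p.roots) hch
    rw [Multiset.count_map, Multiset.count_add, Multiset.count_nsmul,
      Multiset.count_singleton] at h1
    rw [← h1, Finset.card_def, Finset.filter_val]
    congr 1
    apply Multiset.filter_congr
    intro x _
    exact eq_comm
  have hnodup := nodup_roots hG
  have hN1 : (Finset.univ.filter (fun st => γ st = (1 : K))).card = e := by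
    rw [hcount 1, if_pos rfl, mul_one]
    have : Multiset.count (1 : K) G.roots = 0 := by
      rw [Multiset.count_eq_zero, mem_roots hG0]
      exact hG1
    omega
  have hNv : ∀ v : K, v ≠ 1 → (Finset.univ.filter (fun st => γ st = v)).card ≤ 1 := by
    intro v hv
    rw [hcount v, if_neg hv, mul_zero, add_zero]
    exact Multiset.nodup_iff_count_le_one.1 hnodup v
  -- two different index pairs with the same value: the value is `1`
  have htwo : ∀ p q : Fin a × Fin b, p ≠ q → γ p = γ q → γ p = 1 := by
    intro p q hpq hv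
    by_contra h1
    have hcard := hNv (γ p) h1
    have hsub : ({p, q} : Finset (Fin a × Fin b)) ⊆ Finset.univ.filter (fun st => γ st = γ p) := by
      intro z hz
      rw [Finset.mem_insert, Finset.mem_singleton] at hz
      rw [Finset.mem_filter]
      rcases hz with rfl | rfl
      · exact ⟨Finset.mem_univ _, rfl⟩
      · exact ⟨Finset.mem_univ _, hv.symm⟩
    have := Finset.card_le_card hsub
    rw [Finset.card_pair hpq] at this
    omega
  have hβinj : Function.Injective β := by
    intro t t' htt
    by_contra hne'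
    apply hα
    refine ⟨(β t)⁻¹, fun s => ?_⟩
    have h1 : γ (s, t) = 1 := by
      apply htwo (s, t) (s, t')
      · intro h
        exact hne' (congrArg Prod.snd h)
      · simp only [hγ]
        rw [htt]
    exact eq_inv_of_mul_eq_one_left h1
  have hαinj : Function.Injective α := by
    intro s s' hss
    by_contra hne'
    apply hβ
    refine ⟨(α s)⁻¹, fun t => ?_⟩
    have h1 : γ (s, t) = 1 := by
      apply htwo (s, t) (s', t)
      · intro h
        exact hne' (congrArg Prod.fst h)
      · simp only [hγ]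
        rw [hss]
    exact eq_inv_of_mul_eq_one_right h1
  constructor
  · rw [← hN1]
    calc (Finset.univ.filter (fun st => γ st = (1 : K))).card
        ≤ (Finset.univ : Finset (Fin a)).card := by
          apply Finset.card_le_card_of_injOn Prod.fst (fun _ _ => Finset.mem_univ _)
          intro p hp q hq hpq
          have hp' : α p.1 * β p.2 = 1 := (Finset.mem_filter.1 hp).2
          have hq' : α q.1 * β q.2 = 1 := (Finset.mem_filter.1 hq).2
          have hpq' : p.1 = q.1 := hpq
          rw [← hpq'] at hq'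
          have h0 : α p.1 ≠ 0 := left_ne_zero_of_mul_eq_one hp'
          have : β p.2 = β q.2 := mul_left_cancel₀ h0 (hp'.trans hq'.symm)
          exact Prod.ext hpq' (hβinj this)
      _ = a := by simp
  · rw [← hN1]
    calc (Finset.univ.filter (fun st => γ st = (1 : K))).card
        ≤ (Finset.univ : Finset (Fin b)).card := by
          apply Finset.card_le_card_of_injOn Prod.snd (fun _ _ => Finset.mem_univ _)
          intro p hp q hq hpq
          have hp' : α p.1 * β p.2 = 1 := (Finset.mem_filter.1 hp).2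
          have hq' : α q.1 * β q.2 = 1 := (Finset.mem_filter.1 hq).2
          have hpq' : p.2 = q.2 := hpq
          rw [← hpq'] at hq'
          have h0 : β p.2 ≠ 0 := right_ne_zero_of_mul_eq_one hp'
          have : α p.1 = α q.1 := mul_right_cancel₀ h0 (hp'.trans hq'.symm)
          exact Prod.ext (hαinj this) hpq'
      _ = b := by simp

/-- a matrix over `F` that becomes scalar over an extension field is scalar -/
theorem scalar_of_map_scalar {F K : Type*} [Field F] [Field K] (φ : F →+* K) {a : ℕ}
    (A : Matrix (Fin a) (Fin a) F) (c : K)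
    (h : A.map φ = c • (1 : Matrix (Fin a) (Fin a) K)) :
    ∃ α : F, A = α • (1 : Matrix (Fin a) (Fin a) F) := by
  rcases Nat.eq_zero_or_pos a with h0 | hpos
  · subst h0
    exact ⟨0, Subsingleton.elim _ _⟩
  · let i₀ : Fin a := ⟨0, hpos⟩
    refine ⟨A i₀ i₀, ?_⟩
    ext i j
    have hij := congrFun (congrFun h i) j
    have h00 := congrFun (congrFun h i₀) i₀
    rw [Matrix.map_apply, Matrix.smul_apply, Matrix.one_apply, smul_eq_mul] at hij h00
    rw [Matrix.smul_apply, Matrix.one_apply, smul_eq_mul]
    rw [if_pos rfl, mul_one] at h00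
    by_cases he : i = j
    · subst he
      rw [if_pos rfl, mul_one] at hij ⊢
      exact φ.injective (hij.trans h00.symm)
    · rw [if_neg he, mul_zero] at hij ⊢
      exact φ.injective (hij.trans (map_zero φ).symm)

/-- (KE) with the diagonalisation lemma (KD) over the algebraic closure as a hypothesis -/
theorem fix_le_of_kronecker_of {F : Type u} [Field F] {a b : ℕ}
    (hKD : ∀ (n : ℕ) (M : Matrix (Fin n) (Fin n) (AlgebraicClosure F)) (r : ℕ),
      (r : AlgebraicClosure F) ≠ 0 → ∀ s : AlgebraicClosure F, s ≠ 0 →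
      M ^ r = s • (1 : Matrix (Fin n) (Fin n) (AlgebraicClosure F)) →
      ∃ (P : GL (Fin n) (AlgebraicClosure F)) (α : Fin n → AlgebraicClosure F),
        M = (P : Matrix (Fin n) (Fin n) (AlgebraicClosure F)) * Matrix.diagonal α
          * ((P⁻¹ : GL (Fin n) (AlgebraicClosure F)) : Matrix (Fin n) (Fin n) (AlgebraicClosure F)))
    (A : Matrix (Fin a) (Fin a) F) (B : Matrix (Fin b) (Fin b) F) (r : ℕ)
    (hr : (r : F) ≠ 0) {s t : F} (hs : s ≠ 0) (ht : t ≠ 0)
    (hA : A ^ r = s • (1 : Matrix (Fin a) (Fin a) F))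
    (hB : B ^ r = t • (1 : Matrix (Fin b) (Fin b) F))
    (hAns : ∀ α : F, A ≠ α • (1 : Matrix (Fin a) (Fin a) F))
    (hBns : ∀ β : F, B ≠ β • (1 : Matrix (Fin b) (Fin b) F))
    {G : F[X]} (hG : G.Separable) (hG1 : G.eval 1 ≠ 0) (e : ℕ)
    (hch : (A ⊗ₖ B).charpoly = G * (X - 1) ^ e) : e ≤ a ∧ e ≤ b := by
  classical
  let K := AlgebraicClosure F
  let φ : F →+* K := algebraMap F K
  have hφ : Function.Injective φ := φ.injective
  have hrK : (r : K) ≠ 0 := by
    have : (r : K) = φ (r : F) := (map_natCast φ r).symm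
    rw [this]
    exact fun h => hr (hφ (h.trans (map_zero φ).symm))
  have hpowA : (A.map φ) ^ r = φ s • (1 : Matrix (Fin a) (Fin a) K) := by
    have h1 : φ.mapMatrix (A ^ r) = (φ.mapMatrix A) ^ r := map_pow φ.mapMatrix A r
    rw [RingHom.mapMatrix_apply, RingHom.mapMatrix_apply] at h1
    rw [← h1, hA]
    ext i j
    simp [Matrix.map_apply, Matrix.one_apply, apply_ite φ]
  have hpowB : (B.map φ) ^ r = φ t • (1 : Matrix (Fin b) (Fin b) K) := by
    have h1 : φ.mapMatrix (B ^ r) = (φ.mapMatrix B) ^ r := map_pow φ.mapMatrix B r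
    rw [RingHom.mapMatrix_apply, RingHom.mapMatrix_apply] at h1
    rw [← h1, hB]
    ext i j
    simp [Matrix.map_apply, Matrix.one_apply, apply_ite φ]
  have hsK : φ s ≠ 0 := fun h => hs (hφ (h.trans (map_zero φ).symm))
  have htK : φ t ≠ 0 := fun h => ht (hφ (h.trans (map_zero φ).symm))
  obtain ⟨P, α, hPA⟩ := hKD a (A.map φ) r hrK (φ s) hsK hpowA
  obtain ⟨Q, β, hQB⟩ := hKD b (B.map φ) r hrK (φ t) htK hpowB
  -- `α`, `β` are not constant
  have hα : ¬ ∃ c, ∀ s, α s = c := by
    rintro ⟨c, hc⟩
    have hd : Matrix.diagonal α = c • (1 : Matrix (Fin a) (Fin a) K) := by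
      ext i j
      simp [Matrix.diagonal_apply, Matrix.one_apply, hc]
    have : A.map φ = c • (1 : Matrix (Fin a) (Fin a) K) := by
      rw [hPA, hd, Matrix.mul_smul, Matrix.mul_one, Matrix.smul_mul, ← Units.val_mul,
        mul_inv_cancel, Units.val_one]
    obtain ⟨α₀, hα₀⟩ := scalar_of_map_scalar φ A c this
    exact hAns α₀ hα₀
  have hβ : ¬ ∃ c, ∀ t, β t = c := by
    rintro ⟨c, hc⟩
    have hd : Matrix.diagonal β = c • (1 : Matrix (Fin b) (Fin b) K) := by
      ext i j
      simp [Matrix.diagonal_apply, Matrix.one_apply, hc]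
    have : B.map φ = c • (1 : Matrix (Fin b) (Fin b) K) := by
      rw [hQB, hd, Matrix.mul_smul, Matrix.mul_one, Matrix.smul_mul, ← Units.val_mul,
        mul_inv_cancel, Units.val_one]
    obtain ⟨β₀, hβ₀⟩ := scalar_of_map_scalar φ B c this
    exact hBns β₀ hβ₀
  -- the characteristic polynomial over `K`
  have hmapk : (A ⊗ₖ B).map φ = (A.map φ) ⊗ₖ (B.map φ) := by
    ext ⟨i, k⟩ ⟨j, l⟩
    simp [Matrix.kroneckerMap_apply, Matrix.map_apply]
  let U : (Matrix (Fin a × Fin b) (Fin a × Fin b) K)ˣ :=
    ⟨(P : Matrix (Fin a) (Fin a) K) ⊗ₖ (Q : Matrix (Fin b) (Fin b) K),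
      ((P⁻¹ : GL (Fin a) K) : Matrix (Fin a) (Fin a) K) ⊗ₖ
        ((Q⁻¹ : GL (Fin b) K) : Matrix (Fin b) (Fin b) K),
      by rw [← Matrix.mul_kronecker_mul, ← Units.val_mul, ← Units.val_mul, mul_inv_cancel,
        mul_inv_cancel, Units.val_one, Units.val_one, Matrix.one_kronecker_one],
      by rw [← Matrix.mul_kronecker_mul, ← Units.val_mul, ← Units.val_mul, inv_mul_cancel,
        inv_mul_cancel, Units.val_one, Units.val_one, Matrix.one_kronecker_one]⟩
  have hconj : (A.map φ) ⊗ₖ (B.map φ)
      = (U : Matrix (Fin a × Fin b) (Fin a × Fin b) K)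
        * Matrix.diagonal (fun st : Fin a × Fin b => α st.1 * β st.2)
        * ((U⁻¹ : (Matrix (Fin a × Fin b) (Fin a × Fin b) K)ˣ) :
            Matrix (Fin a × Fin b) (Fin a × Fin b) K) := by
    rw [hPA, hQB, Matrix.mul_kronecker_mul, Matrix.mul_kronecker_mul,
      Matrix.diagonal_kronecker_diagonal]
    rfl
  have hchK : ∏ st : Fin a × Fin b, (X - C (α st.1 * β st.2))
      = G.map φ * (X - 1) ^ e := by
    have h1 : ((A ⊗ₖ B).map φ).charpoly = (G * (X - 1) ^ e).map φ := by
      rw [Matrix.charpoly_map, hch]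
    rw [hmapk, hconj] at h1
    have h2 := Matrix.charpoly_units_conj U
      (Matrix.diagonal (fun st : Fin a × Fin b => α st.1 * β st.2))
    rw [Matrix.coe_units_inv] at h1
    rw [h2, Matrix.charpoly_diagonal] at h1
    rw [h1]
    simp
  have hG1K : (G.map φ).eval 1 ≠ 0 := by
    rw [Polynomial.eval_one_map]
    exact fun h => hG1 (hφ (h.trans (map_zero φ).symm))
  exact fix_le_core α β hα hβ (hG.map (f := φ)) hG1K e hchK

end Cfsg.Agent.Helper63.Tsp
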