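import Mathlib
import Cfsg.Agent.Helper63.TspKE
import Cfsg.Agent.Helper81.TspKD

/-!
# (KE) of #8070 for helper45's S5980: the eigenvalue bound for a Kronecker product (final form)
-/

set_option autoImplicit false

namespace Cfsg.Agent.Helper63.Tsp

open Matrix Polynomial
open scoped Kronecker

universe u

variable {F : Type u} [Field F] {a b : ℕ}

/-- (KE) the eigenvalue bound: if all eigenvalues `≠ 1` of `A ⊗ B` are simple and `A`, `B` are not
scalar, the eigenvalue `1` has multiplicity at most `min a b` -/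
theorem fix_le_of_kronecker (A : Matrix (Fin a) (Fin a) F) (B : Matrix (Fin b) (Fin b) F) (r : ℕ)
    (hr : (r : F) ≠ 0) {s t : F} (hs : s ≠ 0) (ht : t ≠ 0)
    (hA : A ^ r = s • (1 : Matrix (Fin a) (Fin a) F))
    (hB : B ^ r = t • (1 : Matrix (Fin b) (Fin b) F))
    (hAns : ∀ α : F, A ≠ α • (1 : Matrix (Fin a) (Fin a) F))
    (hBns : ∀ β : F, B ≠ β • (1 : Matrix (Fin b) (Fin b) F))
    {G : F[X]} (hG : G.Separable) (hG1 : G.eval 1 ≠ 0) (e : ℕ)
    (hch : (A ⊗ₖ B).charpoly = G * (X - 1) ^ e) : e ≤ a ∧ e ≤ b :=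
  fix_le_of_kronecker_of
    (fun _ M r hr _ hs hM => Cfsg.Agent.Helper81.Tsp.exists_diagonal_of_pow_eq_smul M r hr hs hM)
    A B r hr hs ht hA hB hAns hBns hG hG1 e hch

end Cfsg.Agent.Helper63.Tsp
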