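import Mathlib

/-!
# Counting involutions in a `2`-group with Frattini subgroup of order `2` (helper63)

A character sum computation: if `Φ ≤ Z(G)` has order `2` and contains all squares and all
commutators, then with `χ x = 1` if `x ^ 2 = 1` and `χ x = -1` otherwise,
`(∑ χ) ^ 2 = |G| * ∑_{u ∈ Z(G)} χ u`, and the last sum is `0` or `|Z(G)|`.
-/

set_option autoImplicit false

namespace Cfsg.Agent.Helper63

open scoped commutatorElement

section Sign

variable {G : Type*} [Group G] [DecidableEq G]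

/-- The sign of an element: `1` on the identity and `-1` elsewhere. -/
def sgnOne (a : G) : ℤ := if a = 1 then 1 else -1

theorem sgnOne_one : sgnOne (1 : G) = 1 := if_pos rfl

theorem sgnOne_of_eq {a : G} (h : a = 1) : sgnOne a = 1 := if_pos h

theorem sgnOne_of_ne {a : G} (h : a ≠ 1) : sgnOne a = -1 := if_neg h

theorem sgnOne_mul_self (a : G) : sgnOne a * sgnOne a = 1 := by
  unfold sgnOne; split_ifs <;> norm_num

/-- `sgnOne` is multiplicative on a subgroup of order `2`. -/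
theorem sgnOne_mul {Φ : Subgroup G} (hΦ : Nat.card Φ = 2) {a b : G} (ha : a ∈ Φ) (hb : b ∈ Φ) :
    sgnOne (a * b) = sgnOne a * sgnOne b := by
  by_cases ha1 : a = 1
  · rw [ha1, one_mul, sgnOne_one, one_mul]
  by_cases hb1 : b = 1
  · rw [hb1, mul_one, sgnOne_one, mul_one]
  obtain ⟨z, -, huniq⟩ := (Nat.card_eq_two_iff' (1 : Φ)).mp hΦ
  have haz : (⟨a, ha⟩ : Φ) = z := huniq _ (fun h => ha1 (congrArg Subtype.val h))
  have hbz : (⟨b, hb⟩ : Φ) = z := huniq _ (fun h => hb1 (congrArg Subtype.val h))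
  have hab : a = b := congrArg Subtype.val (haz.trans hbz.symm)
  have hz2 : a * a = 1 := by
    by_contra h
    have h2 : (⟨a * a, Φ.mul_mem ha ha⟩ : Φ) = z :=
      huniq _ (fun h' => h (congrArg Subtype.val h'))
    have h3 : a * a = a * 1 := by
      rw [mul_one]; exact congrArg Subtype.val (h2.trans haz.symm)
    exact ha1 (mul_left_cancel h3)
  rw [← hab, hz2, sgnOne_one, sgnOne_of_ne ha1]; norm_num

end Sign

section Count

variable {G : Type*} [Group G] [DecidableEq G] [Fintype G]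

omit [Fintype G] in
theorem sgnOne_sq_mul {Φ : Subgroup G} (hΦ : Nat.card Φ = 2) (hsq : ∀ x : G, x ^ 2 ∈ Φ)
    (hcomm : ∀ x y : G, ⁅x, y⁆ ∈ Φ) (x u : G) :
    sgnOne ((x * u) ^ 2) = sgnOne (x ^ 2) * sgnOne ⁅x⁻¹, u⁆ * sgnOne (u ^ 2) := by
  have h : (x * u) ^ 2 = x ^ 2 * ⁅x⁻¹, u⁆ * u ^ 2 := by
    rw [commutatorElement_def, pow_two, pow_two, pow_two]; group
  rw [h, sgnOne_mul hΦ (Φ.mul_mem (hsq x) (hcomm _ _)) (hsq u), sgnOne_mul hΦ (hsq x) (hcomm _ _)]

theorem sum_sgnOne_comm {Φ : Subgroup G} (hΦ : Nat.card Φ = 2) (hΦc : Φ ≤ Subgroup.center G)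
    (hcomm : ∀ x y : G, ⁅x, y⁆ ∈ Φ) (u : G) :
    ∑ x : G, sgnOne ⁅x⁻¹, u⁆ = if u ∈ Subgroup.center G then (Fintype.card G : ℤ) else 0 := by
  split_ifs with hu
  · have h1 : ∀ x : G, sgnOne ⁅x⁻¹, u⁆ = 1 := by
      intro x
      apply sgnOne_of_eq
      rw [commutatorElement_eq_one_iff_commute]
      exact (Subgroup.mem_center_iff.mp hu x⁻¹)
    simp [h1]
  · have hex : ∃ x₀ : G, ⁅x₀⁻¹, u⁆ ≠ 1 := by
      by_contra h
      push Not at h
      apply hu
      rw [Subgroup.mem_center_iff]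
      intro g
      have := h g⁻¹
      rw [inv_inv, commutatorElement_eq_one_iff_commute] at this
      exact this.eq
    obtain ⟨x₀, hx₀⟩ := hex
    have key : ∀ x : G, sgnOne ⁅(x₀ * x)⁻¹, u⁆ = - sgnOne ⁅x⁻¹, u⁆ := by
      intro x
      have h1 : ⁅(x₀ * x)⁻¹, u⁆ = (x⁻¹ * ⁅x₀⁻¹, u⁆ * x) * ⁅x⁻¹, u⁆ := by
        simp only [commutatorElement_def]; group
      have h2 : x⁻¹ * ⁅x₀⁻¹, u⁆ * x = ⁅x₀⁻¹, u⁆ := by
        have hc := hΦc (hcomm x₀⁻¹ u)
        rw [Subgroup.mem_center_iff] at hc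
        rw [mul_assoc, ← hc x, ← mul_assoc, inv_mul_cancel, one_mul]
      rw [h1, h2, sgnOne_mul hΦ (hcomm _ _) (hcomm _ _), sgnOne_of_ne hx₀]; ring
    have hsum : ∑ x : G, sgnOne ⁅(x₀ * x)⁻¹, u⁆ = ∑ x : G, sgnOne ⁅x⁻¹, u⁆ :=
      Fintype.sum_equiv (Equiv.mulLeft x₀) (fun x => sgnOne ⁅(x₀ * x)⁻¹, u⁆)
        (fun x => sgnOne ⁅x⁻¹, u⁆) (fun x => rfl)
    rw [Finset.sum_congr rfl (fun x _ => key x), Finset.sum_neg_distrib] at hsum
    linarith

/-- The square of the character sum. -/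
theorem sq_sum_sgnOne {Φ : Subgroup G} (hΦ : Nat.card Φ = 2) (hΦc : Φ ≤ Subgroup.center G)
    (hsq : ∀ x : G, x ^ 2 ∈ Φ) (hcomm : ∀ x y : G, ⁅x, y⁆ ∈ Φ) :
    (∑ x : G, sgnOne (x ^ 2)) ^ 2 =
      (Fintype.card G : ℤ) * ∑ u : G, (if u ∈ Subgroup.center G then sgnOne (u ^ 2) else 0) := by
  rw [sq, Finset.sum_mul_sum]
  have h1 : ∀ x : G, ∑ y : G, sgnOne (x ^ 2) * sgnOne (y ^ 2) =
      ∑ u : G, sgnOne ⁅x⁻¹, u⁆ * sgnOne (u ^ 2) := by
    intro x
    rw [← Fintype.sum_equiv (Equiv.mulLeft x) (fun u => sgnOne (x ^ 2) * sgnOne ((x * u) ^ 2))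
      (fun y => sgnOne (x ^ 2) * sgnOne (y ^ 2)) (fun u => rfl)]
    refine Finset.sum_congr rfl (fun u _ => ?_)
    rw [sgnOne_sq_mul hΦ hsq hcomm]
    have := sgnOne_mul_self (x ^ 2)
    calc sgnOne (x ^ 2) * (sgnOne (x ^ 2) * sgnOne ⁅x⁻¹, u⁆ * sgnOne (u ^ 2))
        = (sgnOne (x ^ 2) * sgnOne (x ^ 2)) * sgnOne ⁅x⁻¹, u⁆ * sgnOne (u ^ 2) := by ring
      _ = sgnOne ⁅x⁻¹, u⁆ * sgnOne (u ^ 2) := by rw [this, one_mul]
  rw [Finset.sum_congr rfl (fun x _ => h1 x), Finset.sum_comm, Finset.mul_sum]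
  refine Finset.sum_congr rfl (fun u _ => ?_)
  rw [← Finset.sum_mul, sum_sgnOne_comm hΦ hΦc hcomm]
  split_ifs <;> simp

/-- The sum over the centre is `0` or `|Z(G)|`; in the latter case `Z(G)` has exponent `2`. -/
theorem sum_center_sgnOne {Φ : Subgroup G} (hΦ : Nat.card Φ = 2) (hsq : ∀ x : G, x ^ 2 ∈ Φ) :
    (∑ u : G, (if u ∈ Subgroup.center G then sgnOne (u ^ 2) else 0)) = 0 ∨
    ((∑ u : G, (if u ∈ Subgroup.center G then sgnOne (u ^ 2) else 0)) =
        (Nat.card (Subgroup.center G) : ℤ) ∧ ∀ u ∈ Subgroup.center G, u ^ 2 = 1) := by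
  by_cases hex : ∀ u ∈ Subgroup.center G, u ^ 2 = 1
  · right
    refine ⟨?_, hex⟩
    have h1 : ∀ u : G, (if u ∈ Subgroup.center G then sgnOne (u ^ 2) else 0) =
        if u ∈ Subgroup.center G then (1 : ℤ) else 0 := by
      intro u
      split_ifs with hu
      · exact sgnOne_of_eq (hex u hu)
      · rfl
    rw [Finset.sum_congr rfl (fun u _ => h1 u), Finset.sum_boole, Nat.card_eq_fintype_card,
      Fintype.card_subtype]
  · left
    push Not at hex
    obtain ⟨u₀, hu₀, hu₀2⟩ := hex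
    have key : ∀ u : G, (if u₀ * u ∈ Subgroup.center G then sgnOne ((u₀ * u) ^ 2) else 0) =
        - (if u ∈ Subgroup.center G then sgnOne (u ^ 2) else 0) := by
      intro u
      have hiff : u₀ * u ∈ Subgroup.center G ↔ u ∈ Subgroup.center G := by
        constructor
        · intro h
          have := (Subgroup.center G).mul_mem ((Subgroup.center G).inv_mem hu₀) h
          rwa [inv_mul_cancel_left] at this
        · exact fun h => (Subgroup.center G).mul_mem hu₀ h
      by_cases hu : u ∈ Subgroup.center G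
      · rw [if_pos (hiff.mpr hu), if_pos hu]
        have h1 : (u₀ * u) ^ 2 = u₀ ^ 2 * u ^ 2 := by
          have hc := Subgroup.mem_center_iff.mp hu₀ u
          rw [pow_two, pow_two, pow_two]
          calc u₀ * u * (u₀ * u) = u₀ * (u * u₀) * u := by group
            _ = u₀ * (u₀ * u) * u := by rw [hc]
            _ = u₀ * u₀ * (u * u) := by group
        rw [h1, sgnOne_mul hΦ (hsq _) (hsq _), sgnOne_of_ne hu₀2]; ring
      · rw [if_neg (fun h => hu (hiff.mp h)), if_neg hu]; simp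
    have hsum : ∑ u : G, (if u₀ * u ∈ Subgroup.center G then sgnOne ((u₀ * u) ^ 2) else 0) =
        ∑ u : G, (if u ∈ Subgroup.center G then sgnOne (u ^ 2) else 0) :=
      Fintype.sum_equiv (Equiv.mulLeft u₀)
        (fun u => (if u₀ * u ∈ Subgroup.center G then sgnOne ((u₀ * u) ^ 2) else 0))
        (fun u => (if u ∈ Subgroup.center G then sgnOne (u ^ 2) else 0)) (fun x => rfl)
    rw [Finset.sum_congr rfl (fun x _ => key x), Finset.sum_neg_distrib] at hsum
    linarith

/-- The character sum in terms of the number of solutions of `x ^ 2 = 1`. -/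
theorem sum_sgnOne_sq_eq :
    (∑ x : G, sgnOne (x ^ 2)) =
      2 * (Nat.card {x : G // x ^ 2 = 1} : ℤ) - (Fintype.card G : ℤ) := by
  have h1 : (∑ x : G, sgnOne (x ^ 2)) =
      ((Finset.univ.filter (fun x : G => x ^ 2 = 1)).card : ℤ) -
        ((Finset.univ.filter (fun x : G => ¬ x ^ 2 = 1)).card : ℤ) := by
    unfold sgnOne
    rw [Finset.sum_ite]
    simp
    ring
  have h2 : (Finset.univ.filter (fun x : G => x ^ 2 = 1)).card +
      (Finset.univ.filter (fun x : G => ¬ x ^ 2 = 1)).card = Fintype.card G := by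
    rw [Finset.card_filter_add_card_filter_not]
    rfl
  have h3 : Nat.card {x : G // x ^ 2 = 1} = (Finset.univ.filter (fun x : G => x ^ 2 = 1)).card := by
    rw [Nat.card_eq_fintype_card, Fintype.card_subtype]
  rw [h1, h3, ← h2]
  push_cast
  ring

end Count

/-- A finite group of exponent `2` has trivial Frattini subgroup. -/
theorem frattini_eq_bot_of_sq_eq_one {G : Type*} [Group G] [Finite G] (h : ∀ x : G, x ^ 2 = 1) :
    frattini G = ⊥ := by
  have hcomm : ∀ a b : G, a * b = b * a := by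
    intro a b
    have h1 := h (a * b)
    have ha := h a
    have hb := h b
    calc a * b = b * b * (a * b) * (a * a) := by
          rw [← pow_two, ← pow_two, ha, hb, one_mul, mul_one]
      _ = b * ((b * a) * (b * a)) * a := by group
      _ = b * (b * a) ^ 2 * a := by rw [pow_two]
      _ = b * a := by rw [h, mul_one]
  rw [eq_bot_iff]
  intro x₀ hx₀
  rw [Subgroup.mem_bot]
  by_contra hx1
  -- a subgroup maximal among those not containing `x₀`
  have hfin : {H : Subgroup G | x₀ ∉ H}.Finite := Set.toFinite _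
  have hne : {H : Subgroup G | x₀ ∉ H}.Nonempty := ⟨⊥, by
    show x₀ ∉ (⊥ : Subgroup G)
    rw [Subgroup.mem_bot]; exact hx1⟩
  obtain ⟨M, hM⟩ := hfin.exists_maximal hne
  have hxM : x₀ ∉ M := hM.prop
  have hcoatom : IsCoatom M := by
    refine ⟨fun htop => hxM (htop ▸ Subgroup.mem_top x₀), ?_⟩
    intro K hMK
    have hxK : x₀ ∈ K := by
      by_contra hxK
      exact (lt_irrefl M) (lt_of_lt_of_le hMK (hM.le_of_ge hxK hMK.le))
    rw [eq_top_iff]
    intro y _
    by_cases hyM : y ∈ M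
    · exact hMK.le hyM
    -- `x₀ ∈ M ⊔ ⟨y⟩`
    have hnorm : (Subgroup.zpowers y).Normal := by
      constructor
      intro n hn g
      have : g * n * g⁻¹ = n := by rw [hcomm g n, mul_assoc, mul_inv_cancel, mul_one]
      rw [this]; exact hn
    have hlt : M < M ⊔ Subgroup.zpowers y := by
      refine lt_of_le_of_ne le_sup_left ?_
      intro heq
      apply hyM
      rw [heq]
      exact (le_sup_right : Subgroup.zpowers y ≤ _) (Subgroup.mem_zpowers y)
    have hx_sup : x₀ ∈ M ⊔ Subgroup.zpowers y := by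
      by_contra hx
      exact (lt_irrefl M) (lt_of_lt_of_le hlt (hM.le_of_ge hx hlt.le))
    obtain ⟨m, hm, w, hw, hmw⟩ := Subgroup.mem_sup_of_normal_right.mp hx_sup
    obtain ⟨i, rfl⟩ := Subgroup.mem_zpowers_iff.mp hw
    -- `y ^ i` is `1` or `y`
    have hyi : y ^ i = 1 ∨ y ^ i = y := by
      rcases Int.even_or_odd' i with ⟨k, hk | hk⟩
      · left
        rw [hk, zpow_mul, zpow_ofNat, h, one_zpow]
      · right
        rw [hk, zpow_add, zpow_mul, zpow_ofNat, h, one_zpow, one_mul, zpow_one]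
    rcases hyi with h1 | h1
    · rw [h1, mul_one] at hmw
      exact absurd (hmw ▸ hm) hxM
    · rw [h1] at hmw
      have : y = m⁻¹ * x₀ := by rw [← hmw]; group
      rw [this]
      exact K.mul_mem (K.inv_mem (hMK.le hm)) hxK
  have : frattini G ≤ M := by
    unfold frattini Order.radical
    exact iInf₂_le M hcoatom
  exact hxM (this hx₀)

end Cfsg.Agent.Helper63
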