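import Mathlib

/-!
# Characters of elementary abelian `2`-groups (helper63)

For a finite group `W` of exponent `2`:
* `exists_hom_sep`: a subgroup `H` and `w ∉ H` are separated by a homomorphism `W →* ℤˣ`;
* `sum_hom_apply`: orthogonality `∑_μ μ w = |W|` if `w = 1` and `0` otherwise;
* `card_hom`: `|Hom(W, ℤˣ)| = |W|`.
-/

set_option autoImplicit false

namespace Cfsg.Agent.Helper63

open Classical

variable {W : Type*} [Group W]

theorem comm_of_sq_eq_one (h : ∀ x : W, x ^ 2 = 1) (a b : W) : a * b = b * a := by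
  have ha := h a
  have hb := h b
  calc a * b = b * b * (a * b) * (a * a) := by
        rw [← pow_two, ← pow_two, ha, hb, one_mul, mul_one]
    _ = b * ((b * a) * (b * a)) * a := by group
    _ = b * (b * a) ^ 2 * a := by rw [pow_two]
    _ = b * a := by rw [h, mul_one]

/-- Separation of a subgroup and an element outside it by a character. -/
theorem exists_hom_sep [Finite W] (h : ∀ x : W, x ^ 2 = 1) (H : Subgroup W) {w : W}
    (hw : w ∉ H) : ∃ μ : W →* ℤˣ, μ w = -1 ∧ ∀ x ∈ H, μ x = 1 := by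
  classical
  have hcomm := comm_of_sq_eq_one h
  -- a subgroup maximal among those containing `H` and not containing `w`
  have hfin : {M : Subgroup W | H ≤ M ∧ w ∉ M}.Finite := Set.toFinite _
  have hne : {M : Subgroup W | H ≤ M ∧ w ∉ M}.Nonempty := ⟨H, le_rfl, hw⟩
  obtain ⟨M, hM⟩ := hfin.exists_maximal hne
  have hHM : H ≤ M := hM.prop.1
  have hwM : w ∉ M := hM.prop.2
  -- every element lies in `M` or in `w M`
  have hcover : ∀ y : W, y ∉ M → w * y ∈ M := by
    intro y hyM
    have hnorm : (Subgroup.zpowers y).Normal := by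
      constructor
      intro n hn g
      have : g * n * g⁻¹ = n := by rw [hcomm g n, mul_assoc, mul_inv_cancel, mul_one]
      rw [this]; exact hn
    have hlt : M < M ⊔ Subgroup.zpowers y := by
      refine lt_of_le_of_ne le_sup_left ?_
      intro heq
      apply hyM
      rw [heq]
      exact (le_sup_right : Subgroup.zpowers y ≤ _) (Subgroup.mem_zpowers y)
    have hx_sup : w ∈ M ⊔ Subgroup.zpowers y := by
      by_contra hx
      exact (lt_irrefl M) (lt_of_lt_of_le hlt (hM.le_of_ge ⟨hHM.trans hlt.le, hx⟩ hlt.le))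
    obtain ⟨m, hm, v, hv, hmv⟩ := Subgroup.mem_sup_of_normal_right.mp hx_sup
    obtain ⟨i, rfl⟩ := Subgroup.mem_zpowers_iff.mp hv
    have hyi : y ^ i = 1 ∨ y ^ i = y := by
      rcases Int.even_or_odd' i with ⟨k, hk | hk⟩
      · left
        rw [hk, zpow_mul, zpow_ofNat, h, one_zpow]
      · right
        rw [hk, zpow_add, zpow_mul, zpow_ofNat, h, one_zpow, one_mul, zpow_one]
    rcases hyi with h1 | h1
    · rw [h1, mul_one] at hmv
      exact absurd (hmv ▸ hm) hwM
    · rw [h1] at hmv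
      have : w * y = m := by
        rw [← hmv, mul_assoc, ← pow_two, h, mul_one]
      rw [this]; exact hm
  -- the character
  let f : W → ℤˣ := fun y => if y ∈ M then 1 else -1
  have hf_mul : ∀ a b : W, f (a * b) = f a * f b := by
    intro a b
    by_cases ha : a ∈ M
    · by_cases hb : b ∈ M
      · simp only [f, if_pos ha, if_pos hb, if_pos (M.mul_mem ha hb), mul_one]
      · have hab : a * b ∉ M := fun hab => hb (by
          have := M.mul_mem (M.inv_mem ha) hab
          rwa [inv_mul_cancel_left] at this)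
        simp only [f, if_pos ha, if_neg hb, if_neg hab, one_mul]
    · by_cases hb : b ∈ M
      · have hab : a * b ∉ M := fun hab => ha (by
          have := M.mul_mem hab (M.inv_mem hb)
          rwa [mul_inv_cancel_right] at this)
        simp only [f, if_neg ha, if_pos hb, if_neg hab, mul_one]
      · have h1 := hcover a ha
        have h2 := hcover b hb
        have hab : a * b ∈ M := by
          have h3 := M.mul_mem h1 h2
          have : w * a * (w * b) = a * b := by
            rw [hcomm w a, mul_assoc, ← mul_assoc w w b, ← pow_two, h, one_mul]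
          rwa [this] at h3
        simp only [f, if_neg ha, if_neg hb, if_pos hab]
        norm_num
  refine ⟨MonoidHom.mk' f hf_mul, ?_, ?_⟩
  · show f w = -1
    simp only [f, if_neg hwM]
  · intro x hx
    show f x = 1
    simp only [f, if_pos (hHM hx)]

theorem exists_hom_eq_neg_one [Finite W] (h : ∀ x : W, x ^ 2 = 1) {w : W} (hw : w ≠ 1) :
    ∃ μ : W →* ℤˣ, μ w = -1 := by
  obtain ⟨μ, hμ, -⟩ := exists_hom_sep h ⊥ (w := w) (by rwa [Subgroup.mem_bot])
  exact ⟨μ, hμ⟩

/-- Orthogonality: the sum of the values at `w` of all characters. -/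
theorem sum_hom_apply [Finite W] [Fintype (W →* ℤˣ)] (h : ∀ x : W, x ^ 2 = 1) (w : W) :
    ∑ μ : W →* ℤˣ, ((μ w : ℤˣ) : ℤ) = if w = 1 then (Fintype.card (W →* ℤˣ) : ℤ) else 0 := by
  split_ifs with hw
  · subst hw
    simp
  · obtain ⟨ν, hν⟩ := exists_hom_eq_neg_one h hw
    have hsum : ∑ μ : W →* ℤˣ, (((ν * μ) w : ℤˣ) : ℤ) = ∑ μ : W →* ℤˣ, ((μ w : ℤˣ) : ℤ) :=
      Fintype.sum_equiv (Equiv.mulLeft ν) (fun μ => (((ν * μ) w : ℤˣ) : ℤ))
        (fun μ => ((μ w : ℤˣ) : ℤ)) (fun μ => rfl)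
    have key : ∀ μ : W →* ℤˣ, (((ν * μ) w : ℤˣ) : ℤ) = - ((μ w : ℤˣ) : ℤ) := by
      intro μ
      rw [MonoidHom.mul_apply, hν]
      simp
    rw [Finset.sum_congr rfl (fun μ _ => key μ), Finset.sum_neg_distrib] at hsum
    linarith

/-- Orthogonality: the sum of the values of a character. -/
theorem sum_apply_hom [Fintype W] (μ : W →* ℤˣ) :
    ∑ w : W, ((μ w : ℤˣ) : ℤ) = if μ = 1 then (Fintype.card W : ℤ) else 0 := by
  split_ifs with hμ
  · subst hμ
    simp
  · have hex : ∃ w₀ : W, μ w₀ ≠ 1 := by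
      by_contra hne
      push Not at hne
      exact hμ (MonoidHom.ext fun w => by rw [hne w]; rfl)
    obtain ⟨w₀, hw₀⟩ := hex
    have hw₀' : μ w₀ = -1 := (Int.units_eq_one_or (μ w₀)).resolve_left hw₀
    have hsum : ∑ w : W, ((μ (w₀ * w) : ℤˣ) : ℤ) = ∑ w : W, ((μ w : ℤˣ) : ℤ) :=
      Fintype.sum_equiv (Equiv.mulLeft w₀) (fun w => ((μ (w₀ * w) : ℤˣ) : ℤ))
        (fun w => ((μ w : ℤˣ) : ℤ)) (fun w => rfl)
    have key : ∀ w : W, ((μ (w₀ * w) : ℤˣ) : ℤ) = - ((μ w : ℤˣ) : ℤ) := by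
      intro w
      rw [map_mul, hw₀']
      simp
    rw [Finset.sum_congr rfl (fun w _ => key w), Finset.sum_neg_distrib] at hsum
    linarith

/-- The dual of a finite group of exponent `2` has the same order. -/
theorem card_hom [Fintype W] [Fintype (W →* ℤˣ)] (h : ∀ x : W, x ^ 2 = 1) :
    Fintype.card (W →* ℤˣ) = Fintype.card W := by
  classical
  have h1 : ∑ μ : W →* ℤˣ, ∑ w : W, ((μ w : ℤˣ) : ℤ) = (Fintype.card W : ℤ) := by
    rw [Finset.sum_congr rfl (fun μ _ => sum_apply_hom μ), Finset.sum_ite_eq']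
    simp
  have h2 : ∑ μ : W →* ℤˣ, ∑ w : W, ((μ w : ℤˣ) : ℤ) = (Fintype.card (W →* ℤˣ) : ℤ) := by
    rw [Finset.sum_comm, Finset.sum_congr rfl (fun w _ => sum_hom_apply h w), Finset.sum_ite_eq']
    simp
  have := h1.symm.trans h2
  exact_mod_cast this.symm

theorem sum_hom_apply_of_ne [Finite W] [Fintype (W →* ℤˣ)] (h : ∀ x : W, x ^ 2 = 1) {w : W}
    (hw : w ≠ 1) : ∑ μ : W →* ℤˣ, ((μ w : ℤˣ) : ℤ) = 0 := by
  rw [sum_hom_apply h w, if_neg hw]

theorem sum_hom_apply_one [Fintype (W →* ℤˣ)] :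
    ∑ μ : W →* ℤˣ, ((μ 1 : ℤˣ) : ℤ) = (Fintype.card (W →* ℤˣ) : ℤ) := by
  simp

end Cfsg.Agent.Helper63
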