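import Mathlib

/-!
# Twisted character sums over a group with a central subgroup containing squares and
commutators (helper63)

`Φ ≤ Z(G)` contains all squares and commutators of the finite group `G`, and `ℓ : G → ℤ` is
multiplicative with values `±1` on `Φ`. Then
`(∑ x, ℓ (x ^ 2)) ^ 2 = |G| * T` where `T = 0` or `T = |Z_ℓ|`, `Z_ℓ` the subgroup of all `u` with
`ℓ ⁅x⁻¹, u⁆ = 1` for all `x` (it contains the centre).
-/

set_option autoImplicit false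

namespace Cfsg.Agent.Helper63

open Classical
open scoped commutatorElement

variable {G : Type*} [Group G]

/-- The hypotheses on `(Φ, ℓ)`. -/
structure IsTwist (Φ : Subgroup G) (ℓ : G → ℤ) : Prop where
  central : Φ ≤ Subgroup.center G
  sq_mem : ∀ x : G, x ^ 2 ∈ Φ
  comm_mem : ∀ x y : G, ⁅x, y⁆ ∈ Φ
  map_mul : ∀ a ∈ Φ, ∀ b ∈ Φ, ℓ (a * b) = ℓ a * ℓ b
  sq_one : ∀ a ∈ Φ, ℓ a * ℓ a = 1

namespace IsTwist

variable {Φ : Subgroup G} {ℓ : G → ℤ}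

theorem map_one (h : IsTwist Φ ℓ) : ℓ 1 = 1 := by
  have h1 := h.map_mul 1 Φ.one_mem 1 Φ.one_mem
  have h2 := h.sq_one 1 Φ.one_mem
  rw [mul_one] at h1
  rw [h1]; exact h2

theorem eq_one_or (h : IsTwist Φ ℓ) {a : G} (ha : a ∈ Φ) : ℓ a = 1 ∨ ℓ a = -1 := by
  have := h.sq_one a ha
  have h2 : (ℓ a - 1) * (ℓ a + 1) = 0 := by ring_nf; linarith
  rcases mul_eq_zero.mp h2 with h3 | h3
  · left; linarith
  · right; linarith

theorem map_inv (h : IsTwist Φ ℓ) {a : G} (ha : a ∈ Φ) : ℓ a⁻¹ = ℓ a := by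
  have h1 := h.map_mul a ha a⁻¹ (Φ.inv_mem ha)
  rw [mul_inv_cancel, h.map_one] at h1
  have h2 := h.sq_one a ha
  calc ℓ a⁻¹ = (ℓ a * ℓ a) * ℓ a⁻¹ := by rw [h2, one_mul]
    _ = ℓ a * (ℓ a * ℓ a⁻¹) := by ring
    _ = ℓ a := by rw [← h1, mul_one]

/-- Elements of `Φ` are central. -/
theorem conj_eq (h : IsTwist Φ ℓ) {c : G} (hc : c ∈ Φ) (u : G) : u * c * u⁻¹ = c := by
  have := Subgroup.mem_center_iff.mp (h.central hc) u
  rw [this, mul_assoc, mul_inv_cancel, mul_one]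

/-- The subgroup `Z_ℓ`. -/
def twistCenter (h : IsTwist Φ ℓ) : Subgroup G where
  carrier := {u | ∀ x : G, ℓ ⁅x⁻¹, u⁆ = 1}
  one_mem' := by
    intro x
    have : ⁅x⁻¹, (1 : G)⁆ = 1 := by rw [commutatorElement_def]; group
    rw [this]; exact h.map_one
  mul_mem' := by
    intro u v hu hv x
    have h1 : ⁅x⁻¹, u * v⁆ = ⁅x⁻¹, u⁆ * (u * ⁅x⁻¹, v⁆ * u⁻¹) := by
      simp only [commutatorElement_def]; group
    rw [h1, h.conj_eq (h.comm_mem _ _), h.map_mul _ (h.comm_mem _ _) _ (h.comm_mem _ _), hu x,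
      hv x, mul_one]
  inv_mem' := by
    intro u hu x
    have h1 : ⁅x⁻¹, u⁻¹⁆ = u⁻¹ * ⁅x⁻¹, u⁆⁻¹ * u⁻¹⁻¹ := by
      simp only [commutatorElement_def]; group
    rw [h1, h.conj_eq (Φ.inv_mem (h.comm_mem _ _)), h.map_inv (h.comm_mem _ _), hu x]

theorem mem_twistCenter (h : IsTwist Φ ℓ) {u : G} :
    u ∈ h.twistCenter ↔ ∀ x : G, ℓ ⁅x⁻¹, u⁆ = 1 := Iff.rfl

theorem center_le_twistCenter (h : IsTwist Φ ℓ) : Subgroup.center G ≤ h.twistCenter := by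
  intro u hu x
  have : ⁅x⁻¹, u⁆ = 1 := by
    rw [commutatorElement_eq_one_iff_commute]
    exact (Subgroup.mem_center_iff.mp hu x⁻¹)
  rw [this]; exact h.map_one

theorem sq_mul (h : IsTwist Φ ℓ) (x u : G) :
    ℓ ((x * u) ^ 2) = ℓ (x ^ 2) * ℓ ⁅x⁻¹, u⁆ * ℓ (u ^ 2) := by
  have h1 : (x * u) ^ 2 = x ^ 2 * ⁅x⁻¹, u⁆ * u ^ 2 := by
    rw [commutatorElement_def, pow_two, pow_two, pow_two]; group
  rw [h1, h.map_mul _ (Φ.mul_mem (h.sq_mem x) (h.comm_mem _ _)) _ (h.sq_mem u),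
    h.map_mul _ (h.sq_mem x) _ (h.comm_mem _ _)]

variable [Fintype G]

theorem sum_comm (h : IsTwist Φ ℓ) (u : G) :
    ∑ x : G, ℓ ⁅x⁻¹, u⁆ = if u ∈ h.twistCenter then (Fintype.card G : ℤ) else 0 := by
  split_ifs with hu
  · have h1 : ∀ x : G, ℓ ⁅x⁻¹, u⁆ = 1 := hu
    simp [h1]
  · have hex : ∃ x₀ : G, ℓ ⁅x₀⁻¹, u⁆ ≠ 1 := by
      by_contra hne
      push Not at hne
      exact hu hne
    obtain ⟨x₀, hx₀⟩ := hex
    have hx₀' : ℓ ⁅x₀⁻¹, u⁆ = -1 := (h.eq_one_or (h.comm_mem _ _)).resolve_left hx₀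
    have key : ∀ x : G, ℓ ⁅(x₀ * x)⁻¹, u⁆ = - ℓ ⁅x⁻¹, u⁆ := by
      intro x
      have h1 : ⁅(x₀ * x)⁻¹, u⁆ = (x⁻¹ * ⁅x₀⁻¹, u⁆ * x⁻¹⁻¹) * ⁅x⁻¹, u⁆ := by
        simp only [commutatorElement_def]; group
      rw [h1, h.conj_eq (h.comm_mem _ _), h.map_mul _ (h.comm_mem _ _) _ (h.comm_mem _ _), hx₀']
      ring
    have hsum : ∑ x : G, ℓ ⁅(x₀ * x)⁻¹, u⁆ = ∑ x : G, ℓ ⁅x⁻¹, u⁆ :=
      Fintype.sum_equiv (Equiv.mulLeft x₀) (fun x => ℓ ⁅(x₀ * x)⁻¹, u⁆)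
        (fun x => ℓ ⁅x⁻¹, u⁆) (fun x => rfl)
    rw [Finset.sum_congr rfl (fun x _ => key x), Finset.sum_neg_distrib] at hsum
    linarith

theorem sq_sum (h : IsTwist Φ ℓ) :
    (∑ x : G, ℓ (x ^ 2)) ^ 2 =
      (Fintype.card G : ℤ) * ∑ u : G, (if u ∈ h.twistCenter then ℓ (u ^ 2) else 0) := by
  rw [sq, Finset.sum_mul_sum]
  have h1 : ∀ x : G, ∑ y : G, ℓ (x ^ 2) * ℓ (y ^ 2) = ∑ u : G, ℓ ⁅x⁻¹, u⁆ * ℓ (u ^ 2) := by
    intro x
    rw [← Fintype.sum_equiv (Equiv.mulLeft x) (fun u => ℓ (x ^ 2) * ℓ ((x * u) ^ 2))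
      (fun y => ℓ (x ^ 2) * ℓ (y ^ 2)) (fun u => rfl)]
    refine Finset.sum_congr rfl (fun u _ => ?_)
    rw [h.sq_mul]
    have := h.sq_one (x ^ 2) (h.sq_mem x)
    calc ℓ (x ^ 2) * (ℓ (x ^ 2) * ℓ ⁅x⁻¹, u⁆ * ℓ (u ^ 2))
        = (ℓ (x ^ 2) * ℓ (x ^ 2)) * ℓ ⁅x⁻¹, u⁆ * ℓ (u ^ 2) := by ring
      _ = ℓ ⁅x⁻¹, u⁆ * ℓ (u ^ 2) := by rw [this, one_mul]
  rw [Finset.sum_congr rfl (fun x _ => h1 x), Finset.sum_comm, Finset.mul_sum]
  refine Finset.sum_congr rfl (fun u _ => ?_)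
  rw [← Finset.sum_mul, h.sum_comm]
  split_ifs <;> simp

theorem sum_twistCenter (h : IsTwist Φ ℓ) :
    (∑ u : G, (if u ∈ h.twistCenter then ℓ (u ^ 2) else 0)) = 0 ∨
    (∑ u : G, (if u ∈ h.twistCenter then ℓ (u ^ 2) else 0)) =
        (Nat.card h.twistCenter : ℤ) := by
  by_cases hex : ∀ u ∈ h.twistCenter, ℓ (u ^ 2) = 1
  · right
    have h1 : ∀ u : G, (if u ∈ h.twistCenter then ℓ (u ^ 2) else 0) =
        if u ∈ h.twistCenter then (1 : ℤ) else 0 := by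
      intro u
      split_ifs with hu
      · exact hex u hu
      · rfl
    rw [Finset.sum_congr rfl (fun u _ => h1 u), Finset.sum_boole, Nat.card_eq_fintype_card,
      Fintype.card_subtype]
  · left
    push Not at hex
    obtain ⟨u₀, hu₀, hu₀2⟩ := hex
    have hu₀2' : ℓ (u₀ ^ 2) = -1 := (h.eq_one_or (h.sq_mem _)).resolve_left hu₀2
    have key : ∀ u : G, (if u₀ * u ∈ h.twistCenter then ℓ ((u₀ * u) ^ 2) else 0) =
        - (if u ∈ h.twistCenter then ℓ (u ^ 2) else 0) := by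
      intro u
      have hiff : u₀ * u ∈ h.twistCenter ↔ u ∈ h.twistCenter := by
        constructor
        · intro hm
          have := h.twistCenter.mul_mem (h.twistCenter.inv_mem hu₀) hm
          rwa [inv_mul_cancel_left] at this
        · exact fun hm => h.twistCenter.mul_mem hu₀ hm
      by_cases hu : u ∈ h.twistCenter
      · rw [if_pos (hiff.mpr hu), if_pos hu, h.sq_mul, hu u₀, hu₀2']; ring
      · rw [if_neg (fun hm => hu (hiff.mp hm)), if_neg hu]; simp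
    have hsum : ∑ u : G, (if u₀ * u ∈ h.twistCenter then ℓ ((u₀ * u) ^ 2) else 0) =
        ∑ u : G, (if u ∈ h.twistCenter then ℓ (u ^ 2) else 0) :=
      Fintype.sum_equiv (Equiv.mulLeft u₀)
        (fun u => (if u₀ * u ∈ h.twistCenter then ℓ ((u₀ * u) ^ 2) else 0))
        (fun u => (if u ∈ h.twistCenter then ℓ (u ^ 2) else 0)) (fun x => rfl)
    rw [Finset.sum_congr rfl (fun x _ => key x), Finset.sum_neg_distrib] at hsum
    linarith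

/-- Summary: the square of the twisted sum is `0` or `|G| |Z_ℓ|`. -/
theorem sq_sum_eq (h : IsTwist Φ ℓ) :
    (∑ x : G, ℓ (x ^ 2)) ^ 2 = 0 ∨
    (∑ x : G, ℓ (x ^ 2)) ^ 2 = (Fintype.card G : ℤ) * (Nat.card h.twistCenter : ℤ) := by
  rcases h.sum_twistCenter with h0 | h1
  · left; rw [h.sq_sum, h0, mul_zero]
  · right; rw [h.sq_sum, h1]

end IsTwist

end Cfsg.Agent.Helper63
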