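import Mathlib
import Cfsg.Agent.Helper63.Dual2
import Cfsg.Agent.Helper63.TwistedSum

/-!
# A Chevalley–Warning type bound for `2`-groups (helper63)

`G` a finite `2`-group, `Φ ≤ Z(G)` of exponent `2` containing all squares and commutators.
If `|G| = 2 ^ g`, `|Z(G)| = 2 ^ z'`, `|Φ| = 2 ^ z` and the number of solutions of `x ^ 2 = 1` is
`2 ^ n`, then `g + z' ≤ 2 n + 2 z`.
-/

set_option autoImplicit false

namespace Cfsg.Agent.Helper63

open Classical
open scoped commutatorElement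

variable {G : Type*} [Group G]

/-- If `m ^ 2 = 2 ^ k` then `k = 2 * i` and `m = 2 ^ i`. -/
theorem sq_eq_two_pow' {m k : ℕ} (h : m ^ 2 = 2 ^ k) : ∃ i, k = 2 * i ∧ m = 2 ^ i := by
  have hdvd : m ∣ 2 ^ k := by rw [← h]; exact dvd_pow_self m (by norm_num)
  obtain ⟨i, -, hi⟩ := (Nat.dvd_prime_pow Nat.prime_two).mp hdvd
  refine ⟨i, ?_, hi⟩
  rw [hi, ← pow_mul] at h
  have := Nat.pow_right_injective (le_refl 2) h
  omega

/-- The function on `G` attached to a character of `Φ`. -/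
noncomputable def charExt (Φ : Subgroup G) (μ : Φ →* ℤˣ) : G → ℤ :=
  fun g => if h : g ∈ Φ then ((μ ⟨g, h⟩ : ℤˣ) : ℤ) else 0

theorem charExt_of_mem {Φ : Subgroup G} (μ : Φ →* ℤˣ) {g : G} (h : g ∈ Φ) :
    charExt Φ μ g = ((μ ⟨g, h⟩ : ℤˣ) : ℤ) := by
  unfold charExt; rw [dif_pos h]

theorem isTwist_charExt {Φ : Subgroup G} (hΦc : Φ ≤ Subgroup.center G)
    (hsq : ∀ x : G, x ^ 2 ∈ Φ) (hcomm : ∀ x y : G, ⁅x, y⁆ ∈ Φ) (μ : Φ →* ℤˣ) :
    IsTwist Φ (charExt Φ μ) where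
  central := hΦc
  sq_mem := hsq
  comm_mem := hcomm
  map_mul := by
    intro a ha b hb
    rw [charExt_of_mem μ ha, charExt_of_mem μ hb, charExt_of_mem μ (Φ.mul_mem ha hb)]
    have : (⟨a * b, Φ.mul_mem ha hb⟩ : Φ) = ⟨a, ha⟩ * ⟨b, hb⟩ := rfl
    rw [this, map_mul, Units.val_mul]
  sq_one := by
    intro a ha
    rw [charExt_of_mem μ ha, ← Units.val_mul, Int.units_mul_self, Units.val_one]

/-- The key bound. -/
theorem key_bound [Finite G] (hG : IsPGroup 2 G) {Φ : Subgroup G}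
    (hΦc : Φ ≤ Subgroup.center G) (hΦ2 : ∀ a ∈ Φ, a ^ 2 = 1) (hsq : ∀ x : G, x ^ 2 ∈ Φ)
    (hcomm : ∀ x y : G, ⁅x, y⁆ ∈ Φ) {g z' z n : ℕ} (hg : Nat.card G = 2 ^ g)
    (hz' : Nat.card (Subgroup.center G) = 2 ^ z') (hz : Nat.card Φ = 2 ^ z)
    (hn : Nat.card {x : G // x ^ 2 = 1} = 2 ^ n) : g + z' ≤ 2 * n + 2 * z := by
  have hfinG : Fintype G := Fintype.ofFinite G
  have hfinΛ : Fintype (Φ →* ℤˣ) := Fintype.ofFinite _
  have hfinΦ : Fintype Φ := Fintype.ofFinite _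
  have hp2 : Fact (Nat.Prime 2) := ⟨Nat.prime_two⟩
  have hW : ∀ w : Φ, w ^ 2 = 1 := by
    intro w
    ext
    simpa using hΦ2 w.1 w.2
  have hcardG : (Fintype.card G : ℤ) = 2 ^ g := by
    rw [← Nat.card_eq_fintype_card, hg]; push_cast; rfl
  have hz'g : z' ≤ g := by
    have h1 : Nat.card (Subgroup.center G) ∣ Nat.card G := Subgroup.card_subgroup_dvd_card _
    rw [hz', hg] at h1
    exact (Nat.pow_dvd_pow_iff_le_right (le_refl 2)).mp h1
  set e := (g + z' + 1) / 2 with he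
  -- every twisted sum is divisible by `2 ^ e`
  have hdiv : ∀ μ : Φ →* ℤˣ, (2 : ℤ) ^ e ∣ ∑ x : G, charExt Φ μ (x ^ 2) := by
    intro μ
    have ht := isTwist_charExt hΦc hsq hcomm μ
    set S := ∑ x : G, charExt Φ μ (x ^ 2) with hS
    rcases ht.sq_sum_eq with h0 | h1
    · have : S = 0 := by
        have := pow_eq_zero_iff (two_ne_zero) |>.mp h0
        exact this
      rw [this]; exact dvd_zero _
    · obtain ⟨c, hc⟩ := (hG.to_subgroup ht.twistCenter).exists_card_eq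
      have hzc : z' ≤ c := by
        have h2 : Nat.card (Subgroup.center G) ∣ Nat.card ht.twistCenter :=
          Subgroup.card_dvd_of_le ht.center_le_twistCenter
        rw [hz', hc] at h2
        exact (Nat.pow_dvd_pow_iff_le_right (le_refl 2)).mp h2
      rw [hcardG, hc] at h1
      have h3 : S.natAbs ^ 2 = 2 ^ (g + c) := by
        have : ((S.natAbs ^ 2 : ℕ) : ℤ) = ((2 ^ (g + c) : ℕ) : ℤ) := by
          push_cast
          rw [sq_abs, h1, pow_add]
          push_cast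
          rfl
        exact_mod_cast this
      obtain ⟨i, hi1, hi2⟩ := sq_eq_two_pow' h3
      have hei : e ≤ i := by omega
      have h4 : (2 : ℤ) ^ i ∣ S := by
        have : ((2 ^ i : ℕ) : ℤ) ∣ S := by
          rw [← hi2]; exact Int.natAbs_dvd.mpr dvd_rfl
        simpa using this
      exact (pow_dvd_pow 2 hei).trans h4
  -- the sum over all characters
  have htotal : ∑ μ : Φ →* ℤˣ, ∑ x : G, charExt Φ μ (x ^ 2) = (2 : ℤ) ^ (z + n) := by
    rw [Finset.sum_comm]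
    have h1 : ∀ x : G, ∑ μ : Φ →* ℤˣ, charExt Φ μ (x ^ 2) =
        if x ^ 2 = 1 then (2 : ℤ) ^ z else 0 := by
      intro x
      have h2 : ∀ μ : Φ →* ℤˣ, charExt Φ μ (x ^ 2) = ((μ ⟨x ^ 2, hsq x⟩ : ℤˣ) : ℤ) :=
        fun μ => charExt_of_mem μ (hsq x)
      rw [Finset.sum_congr rfl (fun μ _ => h2 μ)]
      split_ifs with hx
      · have h3 : (⟨x ^ 2, hsq x⟩ : Φ) = 1 := Subtype.ext hx
        rw [h3, sum_hom_apply_one, card_hom hW, ← Nat.card_eq_fintype_card, hz]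
        push_cast; rfl
      · have h3 : (⟨x ^ 2, hsq x⟩ : Φ) ≠ 1 := fun h => hx (congrArg Subtype.val h)
        exact sum_hom_apply_of_ne hW h3
    rw [Finset.sum_congr rfl (fun x _ => h1 x), Finset.sum_ite, Finset.sum_const_zero, add_zero,
      Finset.sum_const, nsmul_eq_mul]
    have h4 : (Finset.univ.filter (fun x : G => x ^ 2 = 1)).card = 2 ^ n := by
      rw [← hn, Nat.card_eq_fintype_card, Fintype.card_subtype]
    rw [h4, pow_add]
    push_cast
    ring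
  have hD : (2 : ℤ) ^ e ∣ (2 : ℤ) ^ (z + n) := by
    rw [← htotal]
    exact Finset.dvd_sum (fun μ _ => hdiv μ)
  have hle : e ≤ z + n := by
    have : (2 : ℕ) ^ e ∣ 2 ^ (z + n) := by
      have h5 : (((2 : ℕ) ^ e : ℕ) : ℤ) ∣ (((2 : ℕ) ^ (z + n) : ℕ) : ℤ) := by
        push_cast; exact hD
      exact Int.natCast_dvd_natCast.mp h5
    exact (Nat.pow_dvd_pow_iff_le_right (le_refl 2)).mp this
  omega

end Cfsg.Agent.Helper63
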