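import Mathlib
import Cfsg.Agent.Helper24.OddOmega
import Cfsg.Agent.Helper63.KeyBound
import Cfsg.Agent.Helper63.Frattini
import Cfsg.Agent.Helper63.InvCount
import Cfsg.Prelude.Def_Transfer

/-!
# `2`-groups of class at most `2` and exponent dividing `4` (helper63)
-/

set_option autoImplicit false

namespace Cfsg.Agent.Helper63

open scoped commutatorElement

variable {G : Type*} [Group G]

/-- Class at most two: commutators are central. -/
theorem comm_mem_center_of_class_two (hcl : (⊤ : Subgroup G).lowerCentralSeries 2 = ⊥) (x y : G) :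
    ⁅x, y⁆ ∈ Subgroup.center G := by
  rw [Subgroup.mem_center_iff]
  intro z
  have h1 : ⁅⁅x, y⁆, z⁆ ∈ (⊤ : Subgroup G).lowerCentralSeries 2 := by
    show ⁅⁅x, y⁆, z⁆ ∈ ⁅⁅(⊤ : Subgroup G), (⊤ : Subgroup G)⁆, (⊤ : Subgroup G)⁆
    exact Subgroup.commutator_mem_commutator
      (Subgroup.commutator_mem_commutator (Subgroup.mem_top x) (Subgroup.mem_top y))
      (Subgroup.mem_top z)
  rw [hcl, Subgroup.mem_bot, commutatorElement_eq_one_iff_commute] at h1
  exact h1.eq.symm

/-- In a group of class at most two and exponent dividing `4`, commutators square to `1`. -/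
theorem comm_sq_eq_one_of_class_two (hcl : (⊤ : Subgroup G).lowerCentralSeries 2 = ⊥)
    (hexp : ∀ x : G, x ^ 4 = 1) (v u : G) : ⁅v, u⁆ ^ 2 = 1 := by
  have hc := comm_mem_center_of_class_two hcl v u
  rw [Subgroup.mem_center_iff] at hc
  have h : v * u = ⁅v, u⁆ * u * v := by rw [commutatorElement_def]; group
  have hcu : Commute ⁅v, u⁆ u := (hc u).symm
  have hcv : Commute ⁅v, u⁆ v := (hc v).symm
  have h4 := Cfsg.Agent.Helper24.mul_pow_of_central h hcu hcv 4
  have hsum : ∑ i ∈ Finset.range 4, i = 6 := by decide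
  rw [hexp, hexp, hexp, hsum, one_mul, one_mul] at h4
  have h6 : ⁅v, u⁆ ^ 6 = ⁅v, u⁆ ^ 4 * ⁅v, u⁆ ^ 2 := by rw [← pow_add]
  rw [h6, hexp, one_mul] at h4
  exact h4.symm

/-- `(u v)^2 = u^2 v^2 [v,u]` in class two. -/
theorem mul_sq_of_class_two (hcl : (⊤ : Subgroup G).lowerCentralSeries 2 = ⊥) (u v : G) :
    (u * v) ^ 2 = u ^ 2 * v ^ 2 * ⁅v, u⁆ := by
  have hc := comm_mem_center_of_class_two hcl v u
  rw [Subgroup.mem_center_iff] at hc
  have h : v * u = ⁅v, u⁆ * u * v := by rw [commutatorElement_def]; group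
  have h2 := Cfsg.Agent.Helper24.mul_pow_of_central h (hc u).symm (hc v).symm 2
  have hsum : ∑ i ∈ Finset.range 2, i = 1 := by decide
  rw [hsum, pow_one] at h2
  exact h2

/-- Squares are central in a group of class at most two and exponent dividing `4`. -/
theorem sq_mem_center_of_class_two (hcl : (⊤ : Subgroup G).lowerCentralSeries 2 = ⊥)
    (hexp : ∀ x : G, x ^ 4 = 1) (x : G) : x ^ 2 ∈ Subgroup.center G := by
  rw [Subgroup.mem_center_iff]
  intro y
  have hc := comm_mem_center_of_class_two hcl x y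
  rw [Subgroup.mem_center_iff] at hc
  have h : x * y = ⁅x, y⁆ * y * x := by rw [commutatorElement_def]; group
  have h2 := Cfsg.Agent.Helper24.pow_mul_of_central h (hc x).symm 2
  rw [comm_sq_eq_one_of_class_two hcl hexp, one_mul] at h2
  exact h2.symm

/-- The central elements of order dividing `2`. -/
def centerOmega (G : Type*) [Group G] : Subgroup G where
  carrier := {a | a ∈ Subgroup.center G ∧ a ^ 2 = 1}
  one_mem' := ⟨Subgroup.one_mem _, one_pow 2⟩
  mul_mem' := by
    rintro a b ⟨ha, ha2⟩ ⟨hb, hb2⟩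
    refine ⟨Subgroup.mul_mem _ ha hb, ?_⟩
    have hab : Commute a b := (Subgroup.mem_center_iff.mp ha b).symm
    rw [hab.mul_pow, ha2, hb2, one_mul]
  inv_mem' := by
    rintro a ⟨ha, ha2⟩
    exact ⟨Subgroup.inv_mem _ ha, by rw [inv_pow, ha2, inv_one]⟩

theorem centerOmega_le_center : centerOmega G ≤ Subgroup.center G := fun _ h => h.1

theorem sq_eq_one_of_mem_centerOmega {a : G} (h : a ∈ centerOmega G) : a ^ 2 = 1 := h.2

/-- The subgroup of elements of order dividing `2`, when they form a subgroup. -/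
def omegaTwo (hN : ∀ x y : G, x ^ 2 = 1 → y ^ 2 = 1 → (x * y) ^ 2 = 1) : Subgroup G where
  carrier := {x | x ^ 2 = 1}
  one_mem' := one_pow 2
  mul_mem' := fun {a b} ha hb => hN a b ha hb
  inv_mem' := fun {a} ha => by
    show (a⁻¹) ^ 2 = 1
    rw [inv_pow, ha, inv_one]

theorem mem_omegaTwo (hN : ∀ x y : G, x ^ 2 = 1 → y ^ 2 = 1 → (x * y) ^ 2 = 1) {x : G} :
    x ∈ omegaTwo hN ↔ x ^ 2 = 1 := Iff.rfl

theorem card_omegaTwo (hN : ∀ x y : G, x ^ 2 = 1 → y ^ 2 = 1 → (x * y) ^ 2 = 1) :
    Nat.card (omegaTwo hN) = Nat.card {x : G // x ^ 2 = 1} := rfl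

theorem centerOmega_le_omegaTwo (hN : ∀ x y : G, x ^ 2 = 1 → y ^ 2 = 1 → (x * y) ^ 2 = 1) :
    centerOmega G ≤ omegaTwo hN := fun _ h => h.2

/-- The numerical data of a `2`-group of class at most two and exponent dividing `4` whose
involutions form a subgroup. -/
theorem exists_data_of_class_two [Finite G] (hG : IsPGroup 2 G)
    (hcl : (⊤ : Subgroup G).lowerCentralSeries 2 = ⊥) (hexp : ∀ x : G, x ^ 4 = 1)
    (hN : ∀ x y : G, x ^ 2 = 1 → y ^ 2 = 1 → (x * y) ^ 2 = 1) :
    ∃ g n z z' : ℕ, Nat.card G = 2 ^ g ∧ Nat.card {x : G // x ^ 2 = 1} = 2 ^ n ∧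
      Nat.card (centerOmega G) = 2 ^ z ∧ Nat.card (Subgroup.center G) = 2 ^ z' ∧ z ≤ n ∧ z ≤ z' ∧
      g + z' ≤ 2 * n + 2 * z := by
  have hp2 : Fact (Nat.Prime 2) := ⟨Nat.prime_two⟩
  obtain ⟨g, hg⟩ := hG.exists_card_eq
  obtain ⟨n, hn⟩ := (hG.to_subgroup (omegaTwo hN)).exists_card_eq
  obtain ⟨z, hz⟩ := (hG.to_subgroup (centerOmega G)).exists_card_eq
  obtain ⟨z', hz'⟩ := (hG.to_subgroup (Subgroup.center G)).exists_card_eq
  rw [card_omegaTwo] at hn
  have hzn : z ≤ n := by
    have h1 : Nat.card (centerOmega G) ∣ Nat.card (omegaTwo hN) :=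
      Subgroup.card_dvd_of_le (centerOmega_le_omegaTwo hN)
    rw [card_omegaTwo, hz, hn] at h1
    exact (Nat.pow_dvd_pow_iff_le_right (le_refl 2)).mp h1
  have hzz' : z ≤ z' := by
    have h1 : Nat.card (centerOmega G) ∣ Nat.card (Subgroup.center G) :=
      Subgroup.card_dvd_of_le centerOmega_le_center
    rw [hz, hz'] at h1
    exact (Nat.pow_dvd_pow_iff_le_right (le_refl 2)).mp h1
  refine ⟨g, n, z, z', hg, hn, hz, hz', hzn, hzz', ?_⟩
  refine key_bound hG (Φ := centerOmega G) centerOmega_le_center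
    (fun a ha => sq_eq_one_of_mem_centerOmega ha) ?_ ?_ hg hz' hz hn
  · intro x
    refine ⟨sq_mem_center_of_class_two hcl hexp x, ?_⟩
    rw [← pow_mul]; exact hexp x
  · intro x y
    exact ⟨comm_mem_center_of_class_two hcl x y, comm_sq_eq_one_of_class_two hcl hexp x y⟩

/-- The commutator subgroup lies in the Frattini subgroup of a finite `2`-group. -/
theorem commutator_le_frattini_of_isPGroup_two [Finite G] (hG : IsPGroup 2 G) :
    commutator G ≤ frattini G := by
  have hp2 : Fact (Nat.Prime 2) := ⟨Nat.prime_two⟩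
  have hΦn : (frattini G).Normal := inferInstance
  have hsq : ∀ x : G, x ^ 2 ∈ frattini G := pow_prime_mem_frattini hG
  rw [commutator_eq_closure, Subgroup.closure_le]
  rintro _ ⟨a, b, rfl⟩
  have h1 : ⁅a, b⁆ = (a * b) ^ 2 * (b⁻¹ * (a⁻¹) ^ 2 * b⁻¹⁻¹) * (b⁻¹) ^ 2 := by
    rw [commutatorElement_def]; simp only [pow_two]; group
  rw [h1]
  exact mul_mem (mul_mem (hsq _) (hΦn.conj_mem _ (hsq a⁻¹) b⁻¹)) (hsq _)

/-- The equality case: `G` is special. -/
theorem isSpecial_of_card_ge [Finite G] (hG : IsPGroup 2 G)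
    (hcl : (⊤ : Subgroup G).lowerCentralSeries 2 = ⊥) (hexp : ∀ x : G, x ^ 4 = 1)
    (hN : ∀ x y : G, x ^ 2 = 1 → y ^ 2 = 1 → (x * y) ^ 2 = 1)
    (hge : Nat.card {x : G // x ^ 2 = 1} ^ 3 ≤ Nat.card G) : Cfsg.IsSpecial 2 G := by
  classical
  have hp2 : Fact (Nat.Prime 2) := ⟨Nat.prime_two⟩
  obtain ⟨g, n, z, z', hg, hn, hz, hz', hzn, hzz', hkey⟩ := exists_data_of_class_two hG hcl hexp hN
  have h3n : 3 * n ≤ g := by
    rw [hg, hn, ← pow_mul] at hge
    have := (Nat.pow_le_pow_iff_right (le_refl 2)).mp hge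
    omega
  have hz_n : z = n := by omega
  have hz'_n : z' = n := by omega
  have hg3 : g = 3 * n := by omega
  -- `Z(G) = Ω(Z(G)) = N`
  have hZ₀Z : centerOmega G = Subgroup.center G :=
    Subgroup.eq_of_le_of_card_ge centerOmega_le_center (by rw [hz, hz', hz_n, hz'_n])
  have hcenter_sq : ∀ a ∈ Subgroup.center G, a ^ 2 = 1 := by
    intro a ha
    rw [← hZ₀Z] at ha
    exact ha.2
  have hZ₀N : centerOmega G = omegaTwo hN :=
    Subgroup.eq_of_le_of_card_ge (centerOmega_le_omegaTwo hN)
      (by rw [card_omegaTwo, hz, hn, hz_n])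
  have hsq_center : ∀ a : G, a ^ 2 = 1 → a ∈ Subgroup.center G := by
    intro a ha
    rw [← hZ₀Z, hZ₀N]
    exact ha
  have hcomle : commutator G ≤ Subgroup.center G := by
    rw [commutator_eq_closure, Subgroup.closure_le]
    rintro _ ⟨a, b, rfl⟩
    exact comm_mem_center_of_class_two hcl a b
  -- the derived subgroup is the whole centre
  have hcomZ : commutator G = Subgroup.center G := by
    by_contra hne
    obtain ⟨w, hwZ, hwc⟩ := SetLike.exists_of_lt (lt_of_le_of_ne hcomle hne)
    -- a character of the centre, trivial on the derived subgroup, nontrivial at `w`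
    have hW : ∀ a : Subgroup.center G, a ^ 2 = 1 := by
      intro a
      ext
      simpa using hcenter_sq a.1 a.2
    have hw' : (⟨w, hwZ⟩ : Subgroup.center G) ∉ (commutator G).subgroupOf (Subgroup.center G) := by
      rw [Subgroup.mem_subgroupOf]; exact hwc
    obtain ⟨μ, hμw, hμc⟩ := exists_hom_sep hW _ hw'
    have hμcomm : ∀ a b : G, μ ⟨⁅a, b⁆, comm_mem_center_of_class_two hcl a b⟩ = 1 := by
      intro a b
      apply hμc
      rw [Subgroup.mem_subgroupOf]
      exact Subgroup.commutator_mem_commutator (Subgroup.mem_top a) (Subgroup.mem_top b)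
    -- the homomorphism `x ↦ μ (x ^ 2)`
    let θ : G →* ℤˣ := MonoidHom.mk'
      (fun x => μ ⟨x ^ 2, sq_mem_center_of_class_two hcl hexp x⟩) (by
        intro a b
        have h1 : (⟨(a * b) ^ 2, sq_mem_center_of_class_two hcl hexp (a * b)⟩ : Subgroup.center G) =
            ⟨a ^ 2, sq_mem_center_of_class_two hcl hexp a⟩ *
              ⟨b ^ 2, sq_mem_center_of_class_two hcl hexp b⟩ *
              ⟨⁅b, a⁆, comm_mem_center_of_class_two hcl b a⟩ :=
          Subtype.ext (mul_sq_of_class_two hcl a b)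
        show μ _ = μ _ * μ _
        rw [h1, map_mul, map_mul, hμcomm, mul_one])
    have hθ : ∀ x : G, θ x = μ ⟨x ^ 2, sq_mem_center_of_class_two hcl hexp x⟩ := fun x => rfl
    set K := θ.ker with hK
    have hZK : Subgroup.center G ≤ K := by
      intro a ha
      rw [hK, MonoidHom.mem_ker, hθ]
      have : (⟨a ^ 2, sq_mem_center_of_class_two hcl hexp a⟩ : Subgroup.center G) = 1 :=
        Subtype.ext (hcenter_sq a ha)
      rw [this, map_one]
    have hKidx : K.index ≤ 2 := by
      rw [hK, Subgroup.index_ker]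
      calc Nat.card θ.range ≤ Nat.card ℤˣ := Subgroup.card_le_card_group _
        _ = 2 := by rw [Nat.card_eq_fintype_card]; exact Fintype.card_units_int
    -- the kernel of `μ`, inside `G`
    set H := μ.ker.map (Subgroup.center G).subtype with hH
    have hHZ : H ≤ Subgroup.center G := Subgroup.map_subtype_le _
    have hmemH : ∀ (a : G) (ha : a ∈ Subgroup.center G), μ ⟨a, ha⟩ = 1 → a ∈ H := by
      intro a ha h1
      exact ⟨⟨a, ha⟩, MonoidHom.mem_ker.mpr h1, rfl⟩
    have hwH : w ∉ H := by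
      rintro ⟨a, ha, haw⟩
      have : a = ⟨w, hwZ⟩ := Subtype.ext haw
      rw [this, SetLike.mem_coe, MonoidHom.mem_ker, hμw] at ha
      exact absurd ha (by decide)
    have hcommH : ∀ a b : G, ⁅a, b⁆ ∈ H := fun a b => hmemH _ _ (hμcomm a b)
    have hsqH : ∀ x ∈ K, x ^ 2 ∈ H := by
      intro x hx
      rw [hK, MonoidHom.mem_ker, hθ] at hx
      exact hmemH _ _ hx
    -- numerical data of `K`
    obtain ⟨gK, hgK⟩ := (hG.to_subgroup K).exists_card_eq
    obtain ⟨zK', hzK'⟩ := ((hG.to_subgroup K).to_subgroup (Subgroup.center K)).exists_card_eq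
    obtain ⟨zK, hzK⟩ := (hG.to_subgroup H).exists_card_eq
    have hgK_ge : 3 * n ≤ gK + 1 := by
      have h1 := Subgroup.card_mul_index K
      rw [hgK, hg, hg3] at h1
      have h2 : 2 ^ (3 * n) ≤ 2 ^ gK * 2 := by
        rw [← h1]; exact Nat.mul_le_mul_left _ hKidx
      rw [← pow_succ] at h2
      exact (Nat.pow_le_pow_iff_right (le_refl 2)).mp h2
    have hzK_lt : zK < n := by
      have h1 : Nat.card H < Nat.card (Subgroup.center G) := by
        have hlt : H < Subgroup.center G := lt_of_le_of_ne hHZ (fun h => hwH (h ▸ hwZ))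
        have hss : (H : Set G) ⊂ (Subgroup.center G : Set G) := SetLike.coe_ssubset_coe.mpr hlt
        have := Set.ncard_lt_ncard hss (Set.toFinite _)
        rw [← Nat.card_coe_set_eq, ← Nat.card_coe_set_eq] at this
        exact this
      rw [hzK, hz', hz'_n] at h1
      exact (Nat.pow_lt_pow_iff_right (le_refl 2)).mp h1
    have hzK'_ge : n ≤ zK' := by
      have h1 : (Subgroup.center G).subgroupOf K ≤ Subgroup.center K := by
        intro a ha
        rw [Subgroup.mem_subgroupOf] at ha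
        rw [Subgroup.mem_center_iff]
        intro k
        exact Subtype.ext (Subgroup.mem_center_iff.mp ha k.1)
      have h2 : Nat.card ((Subgroup.center G).subgroupOf K) = 2 ^ n := by
        rw [Nat.card_congr (Subgroup.subgroupOfEquivOfLe hZK).toEquiv, hz', hz'_n]
      have h3 := Subgroup.card_dvd_of_le h1
      rw [h2, hzK'] at h3
      exact (Nat.pow_dvd_pow_iff_le_right (le_refl 2)).mp h3
    have hΦK : Nat.card (H.subgroupOf K) = 2 ^ zK := by
      rw [Nat.card_congr (Subgroup.subgroupOfEquivOfLe (hHZ.trans hZK)).toEquiv, hzK]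
    have hjK : Nat.card {x : K // x ^ 2 = 1} = 2 ^ n := by
      rw [← hn]
      refine Nat.card_congr ⟨fun x => ⟨x.1.1, by
          have := congrArg Subtype.val x.2
          simpa using this⟩,
        fun x => ⟨⟨x.1, hZK (hsq_center x.1 x.2)⟩, Subtype.ext (by simpa using x.2)⟩, ?_, ?_⟩
      · intro x; rfl
      · intro x; rfl
    have hbound := key_bound (G := K) (hG.to_subgroup K) (Φ := H.subgroupOf K) ?_ ?_ ?_ ?_ hgK hzK'
      hΦK hjK
    · omega
    · intro a ha
      rw [Subgroup.mem_subgroupOf] at ha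
      rw [Subgroup.mem_center_iff]
      intro k
      exact Subtype.ext (Subgroup.mem_center_iff.mp (hHZ ha) k.1)
    · intro a ha
      rw [Subgroup.mem_subgroupOf] at ha
      exact Subtype.ext (by simpa using hcenter_sq _ (hHZ ha))
    · intro x
      rw [Subgroup.mem_subgroupOf]
      simpa using hsqH x.1 x.2
    · intro x y
      rw [Subgroup.mem_subgroupOf]
      have : ((⁅x, y⁆ : K) : G) = ⁅(x : G), (y : G)⁆ := by
        simp [commutatorElement_def]
      rw [this]
      exact hcommH _ _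
  -- the Frattini subgroup
  have hfrat : frattini G = Subgroup.center G := by
    apply le_antisymm
    · have hquot : ∀ q : G ⧸ Subgroup.center G, q ^ 2 = 1 := by
        intro q
        obtain ⟨x, rfl⟩ := QuotientGroup.mk_surjective q
        rw [← QuotientGroup.mk_pow, QuotientGroup.eq_one_iff]
        exact sq_mem_center_of_class_two hcl hexp x
      have h1 := frattini_eq_bot_of_sq_eq_one hquot
      have h2 := frattini_le_comap_frattini_of_surjective
        (QuotientGroup.mk'_surjective (Subgroup.center G))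
      rw [h1] at h2
      intro x hx
      have := h2 hx
      rwa [Subgroup.mem_comap, Subgroup.mem_bot, QuotientGroup.mk'_apply,
        QuotientGroup.eq_one_iff] at this
    · rw [← hcomZ]
      exact commutator_le_frattini_of_isPGroup_two hG
  exact ⟨hG, hfrat, hcomZ⟩

end Cfsg.Agent.Helper63
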