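import Mathlib
import Cfsg.Agent.Helper54.SCG.Defs

set_option autoImplicit false

/-!
# S3921 farm (helper54), leaf (CI): the subgroup generated by the involutions, when they all lie in `S`.
-/

namespace Cfsg.Agent.Helper63.SCG

open Cfsg.Agent.Helper54.SCG

theorem CI_conj_mem {C : Type*} [Group C] (n : C)
    (hn : n ∈ Subgroup.closure {x : C | orderOf x = 2}) (g : C) :
    g * n * g⁻¹ ∈ Subgroup.closure {x : C | orderOf x = 2} := by
  induction hn using Subgroup.closure_induction with
  | mem x hx =>
    apply Subgroup.subset_closure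
    have h : orderOf (g * x * g⁻¹) = orderOf x := by
      have := orderOf_injective (MulAut.conj g).toMonoidHom (MulAut.conj g).injective x
      simpa using this
    show orderOf (g * x * g⁻¹) = 2
    rw [h]
    exact hx
  | one =>
    rw [mul_one, mul_inv_cancel]
    exact Subgroup.one_mem _
  | mul x y _ _ hx hy =>
    have : g * (x * y) * g⁻¹ = (g * x * g⁻¹) * (g * y * g⁻¹) := by group
    rw [this]
    exact Subgroup.mul_mem _ hx hy
  | inv x _ hx =>
    have : g * x⁻¹ * g⁻¹ = (g * x * g⁻¹)⁻¹ := by group
    rw [this]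
    exact Subgroup.inv_mem _ hx

/-- (CI) the subgroup generated by the involutions, when they all lie in `S`. -/
theorem CI_closure_invs {C : Type*} [Group C] (S : Subgroup C)
    (hinv : ∀ b : C, orderOf b = 2 → b ∈ S) :
    (Subgroup.closure {x : C | orderOf x = 2}).Normal ∧
    Subgroup.closure {x : C | orderOf x = 2} ≤ S ∧
    Nonempty (↥(Subgroup.closure {x : C | orderOf x = 2}) ≃*
      ↥(Subgroup.closure {x : ↥S | orderOf x = 2})) := by
  refine ⟨⟨fun n hn g => CI_conj_mem n hn g⟩, (Subgroup.closure_le S).2 hinv, ?_⟩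
  have himg : S.subtype '' {x : ↥S | orderOf x = 2} = {x : C | orderOf x = 2} := by
    ext x
    constructor
    · rintro ⟨y, hy, rfl⟩
      show orderOf (S.subtype y) = 2
      rw [Subgroup.coe_subtype, Subgroup.orderOf_coe]
      exact hy
    · intro hx
      refine ⟨⟨x, hinv x hx⟩, ?_, rfl⟩
      show orderOf (⟨x, hinv x hx⟩ : ↥S) = 2
      rw [← Subgroup.orderOf_coe]
      exact hx
  have hmap : (Subgroup.closure {x : ↥S | orderOf x = 2}).map S.subtype =
      Subgroup.closure {x : C | orderOf x = 2} := by
    rw [MonoidHom.map_closure, himg]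
  have e1 : ↥(Subgroup.closure {x : ↥S | orderOf x = 2}) ≃*
      ↥((Subgroup.closure {x : ↥S | orderOf x = 2}).map S.subtype) :=
    Subgroup.equivMapOfInjective _ S.subtype S.subtype_injective
  exact ⟨((e1.trans (MulEquiv.subgroupCongr hmap)).symm)⟩

end Cfsg.Agent.Helper63.SCG
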