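import Cfsg.Agent.Helper6.SzChar0
import Cfsg.Agent.Helper6.SzCl3

/-!
# [CE] of helper6's S4775 farm (#11435): the class number of the Suzuki group
-/

set_option autoImplicit false

namespace Cfsg.Agent.Helper63.Szc

open Cfsg Cfsg.Agent.Helper6

universe u

variable {F : Type u} [Field F] [Fintype F] {m : ℕ}

/-- the trace of a conjugacy class -/
noncomputable def CE_tr : ConjClasses (Cfsg.Sz F m) → F :=
  Quotient.lift szTr (by
    intro a b hab
    obtain ⟨c, hc⟩ := isConj_iff.mp (show IsConj a b from hab)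
    rw [← hc, szTr_conj])

theorem CE_tr_mk (g : Cfsg.Sz F m) : CE_tr (ConjClasses.mk g) = szTr g := rfl

theorem CE_mk_eq_of_isCj {g g' : Cfsg.Sz F m} (h : IsCj g g') :
    ConjClasses.mk g = ConjClasses.mk g' := by
  obtain ⟨k, hk⟩ := h
  exact ConjClasses.mk_eq_mk_iff_isConj.mpr (isConj_iff.mpr ⟨k, hk⟩)

/-- the classes of non-zero trace -/
theorem CE_card_ne (hm : 1 ≤ m) (hF : Fintype.card F = 2 ^ (2 * m + 1)) :
    Nat.card {c : ConjClasses (Cfsg.Sz F m) // CE_tr c ≠ 0} = Fintype.card F - 1 := by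
  classical
  have hbij : Function.Bijective
      (fun c : {c : ConjClasses (Cfsg.Sz F m) // CE_tr c ≠ 0} =>
        (⟨CE_tr c.1, c.2⟩ : {x : F // x ≠ 0})) := by
    constructor
    · rintro ⟨c, hc⟩ ⟨c', hc'⟩ h
      have h' : CE_tr c = CE_tr c' := congrArg Subtype.val h
      apply Subtype.ext
      obtain ⟨g, rfl⟩ := ConjClasses.mk_surjective c
      obtain ⟨g', rfl⟩ := ConjClasses.mk_surjective c'
      rw [CE_tr_mk] at hc h'
      rw [CE_tr_mk] at h'
      exact CE_mk_eq_of_isCj (isCj_of_szTr_eq hm hF hc h')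
    · rintro ⟨x, hx⟩
      obtain ⟨b, hb⟩ := exists_szTr_eq hF x
      refine ⟨⟨ConjClasses.mk (sU hF 0 b * sW hF), ?_⟩, ?_⟩
      · rw [CE_tr_mk, hb]; exact hx
      · apply Subtype.ext
        exact hb
  rw [Nat.card_eq_of_bijective _ hbij, Nat.card_eq_fintype_card]
  have h1 := Fintype.card_subtype_compl (fun x : F => x = 0)
  rw [Fintype.card_subtype_eq] at h1
  exact h1

/-- the classes of trace zero -/
theorem CE_card_eq (hm : 1 ≤ m) (hF : Fintype.card F = 2 ^ (2 * m + 1)) :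
    Nat.card {c : ConjClasses (Cfsg.Sz F m) // ¬ CE_tr c ≠ 0} = 4 := by
  classical
  have hfin : Finite (Cfsg.Sz F m) := inferInstance
  -- the representatives
  have hu2 : orderOf (sU hF (0 : F) 1) = 2 :=
    (orderOf_sU_eq_two_iff hm hF 0 1).2 ⟨rfl, one_ne_zero⟩
  have hρ4 : orderOf (sU hF (1 : F) 0) = 4 := (orderOf_sU_eq_four_iff hm hF 1 0).2 one_ne_zero
  have hρi4 : orderOf (sU hF (1 : F) 0)⁻¹ = 4 := by rw [orderOf_inv, hρ4]
  have hnr : ¬ IsConj (sU hF (1 : F) 0) (sU hF (1 : F) 0)⁻¹ := by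
    intro h
    have h2 := (szU_real_iff hm hF (a := (1 : F)) (b := 0) (fun h0 => one_ne_zero h0.1)).1 h
    have h4 : orderOf (⟨szU F m 1 0, szU_mem hF 1 0⟩ : Cfsg.Sz F m) = 4 := hρ4
    rw [h4] at h2
    norm_num at h2
  have hord : ∀ {g g' : Cfsg.Sz F m}, ConjClasses.mk g = ConjClasses.mk g' →
      orderOf g = orderOf g' := by
    intro g g' h
    obtain ⟨k, hk⟩ := isConj_iff.mp (ConjClasses.mk_eq_mk_iff_isConj.mp h)
    rw [← hk, orderOf_conj']
  have hset : {c : ConjClasses (Cfsg.Sz F m) | ¬ CE_tr c ≠ 0} =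
      {ConjClasses.mk 1, ConjClasses.mk (sU hF (0 : F) 1), ConjClasses.mk (sU hF (1 : F) 0),
        ConjClasses.mk (sU hF (1 : F) 0)⁻¹} := by
    ext c
    obtain ⟨g, rfl⟩ := ConjClasses.mk_surjective c
    simp only [Set.mem_ofPred_eq, Set.mem_insert_iff, Set.mem_singleton_iff, not_not, CE_tr_mk]
    constructor
    · intro h0
      by_cases hg1 : g = 1
      · left; rw [hg1]
      · have hQ : ConjInto (szQ hm hF) g := by
          by_contra hQ
          exact (szTr_classify hm hF).1 g hg1 hQ h0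
        rcases orderOf_of_conjInto_szQ hm hF hQ with h2 | h4
        · right; left
          obtain ⟨k, hk⟩ := invol_conj hm hF hu2 h2
          exact CE_mk_eq_of_isCj ⟨k, hk⟩
        · right; right
          obtain ⟨k, hk | hk⟩ := four_conj hm hF hρ4 h4
          · left; exact CE_mk_eq_of_isCj ⟨k, hk⟩
          · right; exact CE_mk_eq_of_isCj ⟨k, hk⟩
    · rintro (h | h | h | h)
      · rw [← CE_tr_mk g, h, CE_tr_mk]; exact szTr_one hm hF
      · rw [← CE_tr_mk g, h, CE_tr_mk]; exact szTr_sU hF 0 1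
      · rw [← CE_tr_mk g, h, CE_tr_mk]; exact szTr_sU hF 1 0
      · rw [← CE_tr_mk g, h, CE_tr_mk, sU_inv hm hF]; exact szTr_sU hF _ _
  have hcard : Nat.card {c : ConjClasses (Cfsg.Sz F m) // ¬ CE_tr c ≠ 0} =
      Set.ncard {c : ConjClasses (Cfsg.Sz F m) | ¬ CE_tr c ≠ 0} :=
    Nat.card_coe_set_eq {c : ConjClasses (Cfsg.Sz F m) | ¬ CE_tr c ≠ 0}
  rw [hcard, hset]
  have d1 : orderOf (1 : Cfsg.Sz F m) = 1 := orderOf_one
  rw [Set.ncard_insert_of_notMem, Set.ncard_insert_of_notMem, Set.ncard_pair]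
  · intro h
    exact hnr (ConjClasses.mk_eq_mk_iff_isConj.mp h)
  · simp only [Set.mem_insert_iff, Set.mem_singleton_iff, not_or]
    constructor
    · intro h; have := hord h; rw [hu2, hρ4] at this; omega
    · intro h; have := hord h; rw [hu2, hρi4] at this; omega
  · simp only [Set.mem_insert_iff, Set.mem_singleton_iff, not_or]
    refine ⟨?_, ?_, ?_⟩
    · intro h; have := hord h; rw [d1, hu2] at this; omega
    · intro h; have := hord h; rw [d1, hρ4] at this; omega
    · intro h; have := hord h; rw [d1, hρi4] at this; omega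

/-- CE: the class number of `Sz(q)` -/
theorem szc_conc_classesG (hm : 1 ≤ m) (hF : Fintype.card F = 2 ^ (2 * m + 1)) :
    Nat.card (ConjClasses (Cfsg.Sz F m)) = 2 * (2 ^ m) ^ 2 + 3 := by
  classical
  have hfin : Finite (Cfsg.Sz F m) := inferInstance
  have hsplit := Nat.card_congr
    (Equiv.sumCompl (fun c : ConjClasses (Cfsg.Sz F m) => CE_tr c ≠ 0)).symm
  rw [Nat.card_sum, CE_card_ne hm hF, CE_card_eq hm hF, hF] at hsplit
  rw [hsplit]
  have e1 : 2 ^ (2 * m + 1) = 2 * (2 ^ m) ^ 2 := by ring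
  have hpos : 0 < 2 * (2 ^ m) ^ 2 := by positivity
  rw [e1]
  omega

end Cfsg.Agent.Helper63.Szc
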