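import Cfsg.Agent.Helper6.SzChar0
import Cfsg.Agent.Helper6.SzCl3

/-!
# [CF] of helper6's S4775 farm (#11435): the two tori of the Suzuki group
-/

set_option autoImplicit false

namespace Cfsg.Agent.Helper63.Szc

open Cfsg Cfsg.Agent.Helper6

universe u

variable {F : Type u} [Field F] [Fintype F] {m : ℕ}

/-- the properties of one torus `K = C(x)` -/
theorem CF_torus (hm : 1 ≤ m) (hF : Fintype.card F = 2 ^ (2 * m + 1)) {p : ℕ} (hp : p.Prime)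
    (hq : p ∣ (Fintype.card F) ^ 2 + 1) {x : Cfsg.Sz F m} (hx : orderOf x = p)
    (hN : Nat.card (Subgroup.normalizer ((Subgroup.centralizer {x} : Subgroup (Cfsg.Sz F m)) :
        Set (Cfsg.Sz F m))) = 4 * Nat.card (Subgroup.centralizer ({x} : Set (Cfsg.Sz F m)))) :
    (∀ k ∈ Subgroup.centralizer ({x} : Set (Cfsg.Sz F m)), k ≠ 1 →
      Subgroup.centralizer ({k} : Set (Cfsg.Sz F m)) ≤ Subgroup.centralizer {x}) ∧
    (∀ a ∈ Subgroup.centralizer ({x} : Set (Cfsg.Sz F m)),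
      ∀ b ∈ Subgroup.centralizer ({x} : Set (Cfsg.Sz F m)), a * b = b * a) ∧
    (∀ g : Cfsg.Sz F m, g ∉ Subgroup.normalizer
        ((Subgroup.centralizer {x} : Subgroup (Cfsg.Sz F m)) : Set (Cfsg.Sz F m)) →
      ∀ k ∈ Subgroup.centralizer ({x} : Set (Cfsg.Sz F m)),
        g * k * g⁻¹ ∈ Subgroup.centralizer ({x} : Set (Cfsg.Sz F m)) → k = 1) ∧
    ((Subgroup.centralizer ({x} : Set (Cfsg.Sz F m))).subgroupOf (Subgroup.normalizer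
        ((Subgroup.centralizer {x} : Subgroup (Cfsg.Sz F m)) : Set (Cfsg.Sz F m)))).index = 4 ∧
    (∀ k ∈ Subgroup.centralizer ({x} : Set (Cfsg.Sz F m)), k ≠ 1 →
      ∀ g : Cfsg.Sz F m, g * k * g⁻¹ ∉ szB F m) := by
  have hfin : Finite (Cfsg.Sz F m) := inferInstance
  refine ⟨?_, ?_, ?_, ?_, ?_⟩
  · intro k hk hk1
    exact (cent_eq hm hF hp hq hx hk hk1).le
  · intro a ha b hb
    exact cent_comm hm hF hp hq hx ha hb
  · intro g hg k hk hgk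
    by_contra hk1
    exact hg (cent_TI hm hF hp hq hx g k hk hk1 hgk)
  · have hle : Subgroup.centralizer ({x} : Set (Cfsg.Sz F m)) ≤ Subgroup.normalizer
        ((Subgroup.centralizer {x} : Subgroup (Cfsg.Sz F m)) : Set (Cfsg.Sz F m)) :=
      Subgroup.le_normalizer
    have h1 := Subgroup.index_mul_card ((Subgroup.centralizer ({x} : Set (Cfsg.Sz F m))).subgroupOf
      (Subgroup.normalizer
        ((Subgroup.centralizer {x} : Subgroup (Cfsg.Sz F m)) : Set (Cfsg.Sz F m))))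
    rw [Nat.card_congr (Subgroup.subgroupOfEquivOfLe hle).toEquiv, hN] at h1
    have hpos : 0 < Nat.card (Subgroup.centralizer ({x} : Set (Cfsg.Sz F m))) := Nat.card_pos
    exact Nat.eq_of_mul_eq_mul_right hpos h1
  · intro k hk hk1 g hmem
    have hf := cent_isFpf hm hF hp hq hx hk hk1
    apply isFpf_not_mem_conj_szB hm hF hf g⁻¹
    rw [mem_conjSub_iff, inv_inv]
    exact hmem

/-- CF: the two tori -/
theorem szc_conc_tori (hm : 1 ≤ m) (hF : Fintype.card F = 2 ^ (2 * m + 1)) :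
    ∃ K₁ K₂ : Subgroup (Cfsg.Sz F m),
      (∀ k ∈ K₁, k ≠ 1 → Subgroup.centralizer ({k} : Set (Cfsg.Sz F m)) ≤ K₁) ∧
      (∀ a ∈ K₁, ∀ b ∈ K₁, a * b = b * a) ∧
      (∀ g : Cfsg.Sz F m, g ∉ Subgroup.normalizer (K₁ : Set (Cfsg.Sz F m)) →
        ∀ k ∈ K₁, g * k * g⁻¹ ∈ K₁ → k = 1) ∧
      Nat.card K₁ = 2 * (2 ^ m) ^ 2 + 2 * 2 ^ m + 1 ∧
      (K₁.subgroupOf (Subgroup.normalizer (K₁ : Set (Cfsg.Sz F m)))).index = 4 ∧
      (∀ k ∈ K₁, k ≠ 1 → ∀ g : Cfsg.Sz F m, g * k * g⁻¹ ∉ szB F m) ∧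
      (∀ k ∈ K₂, k ≠ 1 → Subgroup.centralizer ({k} : Set (Cfsg.Sz F m)) ≤ K₂) ∧
      (∀ a ∈ K₂, ∀ b ∈ K₂, a * b = b * a) ∧
      (∀ g : Cfsg.Sz F m, g ∉ Subgroup.normalizer (K₂ : Set (Cfsg.Sz F m)) →
        ∀ k ∈ K₂, g * k * g⁻¹ ∈ K₂ → k = 1) ∧
      Nat.card K₂ = 2 * (2 ^ m) ^ 2 - 2 * 2 ^ m + 1 ∧
      (K₂.subgroupOf (Subgroup.normalizer (K₂ : Set (Cfsg.Sz F m)))).index = 4 ∧
      (∀ k ∈ K₂, k ≠ 1 → ∀ g : Cfsg.Sz F m, g * k * g⁻¹ ∉ szB F m) ∧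
      (∀ k ∈ K₁, k ≠ 1 → ∀ g : Cfsg.Sz F m, g * k * g⁻¹ ∉ K₂) := by
  obtain ⟨p₁, p₂, x₁, x₂, hp₁, hq₁, hx₁, hp₂, hq₂, hx₂, hc₁, hc₂, hN₁, hN₂, -, hdisj⟩ :=
    sz_tori hm hF
  obtain ⟨a1, a2, a3, a4, a5⟩ := CF_torus hm hF hp₁ hq₁ hx₁ hN₁
  obtain ⟨b1, b2, b3, b4, b5⟩ := CF_torus hm hF hp₂ hq₂ hx₂ hN₂
  have e1 : 2 ^ (2 * m + 1) = 2 * (2 ^ m) ^ 2 := by ring
  have e2 : 2 ^ (m + 1) = 2 * 2 ^ m := by ring
  refine ⟨Subgroup.centralizer {x₁}, Subgroup.centralizer {x₂}, a1, a2, a3, ?_, a4, a5,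
    b1, b2, b3, ?_, b4, b5, ?_⟩
  · rw [hc₁, e1, e2]
  · rw [hc₂, e1, e2]
  · intro k hk hk1 g hmem
    apply hdisj k ⟨hk1, 1, by simpa using hk⟩
    exact ⟨hk1, g, hmem⟩

end Cfsg.Agent.Helper63.Szc
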