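/-
helper63: piece (T2) of board #4683 (helper61, S4221 = M. Hall's theorem): the Brauer-Wielandt formula for a
four-group `⟨s, t⟩` normalizing a subgroup `X` of odd order, by Wielandt's counting argument
(no solvability of `X` is used).
-/
import Mathlib

set_option autoImplicit false

namespace Cfsg.Agent.Helper63.HallBW

open Subgroup

variable {Γ : Type*} [Group Γ]

theorem inv_eq_self_of_mul_self {g : Γ} (hg : g * g = 1) : g⁻¹ = g :=
  inv_eq_of_mul_eq_one_left hg

/-- the elements `a` of the coset `g Y` with `a * a = 1` -/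
def invSet (g : Γ) (Y : Subgroup Γ) : Set Γ := {a | a * a = 1 ∧ g⁻¹ * a ∈ Y}

theorem conj_mem_invSet {g : Γ} (hg : g * g = 1) {Y : Subgroup Γ}
    (hn : ∀ y ∈ Y, g * y * g⁻¹ ∈ Y) {j : Γ} (hj : j ∈ Y) : j * g * j⁻¹ ∈ invSet g Y := by
  have hgi := inv_eq_self_of_mul_self hg
  constructor
  · calc j * g * j⁻¹ * (j * g * j⁻¹) = j * (g * g) * j⁻¹ := by group
      _ = 1 := by rw [hg]; group
  · have h1 : g⁻¹ * (j * g * j⁻¹) = (g * j * g⁻¹) * j⁻¹ := by
      calc g⁻¹ * (j * g * j⁻¹) = g * (j * g * j⁻¹) := by rw [hgi]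
        _ = (g * j * g) * j⁻¹ := by group
        _ = (g * j * g⁻¹) * j⁻¹ := by rw [hgi]
    rw [h1]
    exact Y.mul_mem (hn j hj) (Y.inv_mem hj)

theorem exists_conj_of_mem_invSet {g : Γ} (hg : g * g = 1) {Y : Subgroup Γ} [Finite Y]
    (hodd : Odd (Nat.card Y)) {a : Γ} (ha : a ∈ invSet g Y) : ∃ j ∈ Y, a = j * g * j⁻¹ := by
  have hgi := inv_eq_self_of_mul_self hg
  obtain ⟨ha2, hi⟩ := ha
  obtain ⟨i, hidef⟩ : ∃ i, i = g⁻¹ * a := ⟨_, rfl⟩
  rw [← hidef] at hi
  have hai : a = g * i := by rw [hidef]; group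
  have hinv : g * i * g = i⁻¹ := by
    have h1 : g * i * (g * i) = 1 := by rw [← hai]; exact ha2
    have h2 : g * i * g * i = 1 := by rw [← h1]; group
    exact eq_inv_of_mul_eq_one_left h2
  have ho : Odd (orderOf i) := by
    have h1 : orderOf i ∣ Nat.card Y := by
      have h2 := orderOf_dvd_natCard (⟨i, hi⟩ : Y)
      rwa [Subgroup.orderOf_mk] at h2
    exact hodd.of_dvd_nat h1
  obtain ⟨n, hn⟩ := ho
  obtain ⟨j₀, hj₀⟩ : ∃ j₀, j₀ = i ^ (n + 1) := ⟨_, rfl⟩
  have hj₀2 : j₀ * j₀ = i := by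
    rw [hj₀, ← pow_add]
    have h1 : n + 1 + (n + 1) = orderOf i + 1 := by omega
    rw [h1, pow_succ, pow_orderOf_eq_one, one_mul]
  have hj₀Y : j₀ ∈ Y := by rw [hj₀]; exact Y.pow_mem hi _
  have hj₀inv : g * j₀ * g = j₀⁻¹ := by
    have h1 : g * j₀ * g⁻¹ = (g * i * g⁻¹) ^ (n + 1) := by rw [conj_pow, hj₀]
    rw [hgi] at h1
    rw [h1, hinv, inv_pow, hj₀]
  refine ⟨j₀⁻¹, Y.inv_mem hj₀Y, ?_⟩
  have h4 : j₀⁻¹ * g = g * j₀ := by
    calc j₀⁻¹ * g = (g * j₀ * g) * g := by rw [hj₀inv]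
      _ = g * j₀ * (g * g) := by group
      _ = g * j₀ := by rw [hg, mul_one]
  rw [inv_inv, hai, ← hj₀2, h4]
  group

theorem card_invSet_mul {g : Γ} (hg : g * g = 1) {Y : Subgroup Γ} [Finite Y]
    (hodd : Odd (Nat.card Y)) (hn : ∀ y ∈ Y, g * y * g⁻¹ ∈ Y) :
    (invSet g Y).ncard * Nat.card (Y ⊓ centralizer {g} : Subgroup Γ) = Nat.card Y := by
  classical
  obtain ⟨C, hC⟩ : ∃ C : Subgroup Γ, C = Y ⊓ centralizer {g} := ⟨_, rfl⟩
  obtain ⟨C', hC'⟩ : ∃ C' : Subgroup Y, C' = C.subgroupOf Y := ⟨_, rfl⟩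
  have hmemC' : ∀ c : Y, c ∈ C' ↔ (c : Γ) * g = g * (c : Γ) := by
    intro c
    rw [hC', Subgroup.mem_subgroupOf, hC, Subgroup.mem_inf, Subgroup.mem_centralizer_singleton_iff]
    exact ⟨fun h => h.2, fun h => ⟨c.2, h⟩⟩
  have hwd : ∀ j j' : Y, (j⁻¹ * j' ∈ C') ↔ (j : Γ) * g * (j : Γ)⁻¹ = (j' : Γ) * g * (j' : Γ)⁻¹ := by
    intro j j'
    rw [hmemC']
    have e1 : ((j⁻¹ * j' : Y) : Γ) = (j : Γ)⁻¹ * (j' : Γ) := rfl
    rw [e1]
    constructor
    · intro h
      calc (j : Γ) * g * (j : Γ)⁻¹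
          = (j : Γ) * (g * ((j : Γ)⁻¹ * (j' : Γ))) * (j' : Γ)⁻¹ := by group
        _ = (j : Γ) * (((j : Γ)⁻¹ * (j' : Γ)) * g) * (j' : Γ)⁻¹ := by rw [h]
        _ = (j' : Γ) * g * (j' : Γ)⁻¹ := by group
    · intro h
      calc (j : Γ)⁻¹ * (j' : Γ) * g
          = (j : Γ)⁻¹ * ((j' : Γ) * g * (j' : Γ)⁻¹) * (j' : Γ) := by group
        _ = (j : Γ)⁻¹ * ((j : Γ) * g * (j : Γ)⁻¹) * (j' : Γ) := by rw [h]
        _ = g * ((j : Γ)⁻¹ * (j' : Γ)) := by group
  let f : Y ⧸ C' → Γ := Quotient.lift (fun j : Y => (j : Γ) * g * (j : Γ)⁻¹) (by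
    intro j j' h
    exact (hwd j j').1 (QuotientGroup.leftRel_apply.mp h))
  have hf : ∀ j : Y, f (QuotientGroup.mk j) = (j : Γ) * g * (j : Γ)⁻¹ := fun j => rfl
  have hinj : Function.Injective f := by
    intro q q'
    induction q using QuotientGroup.induction_on with
    | H j =>
      induction q' using QuotientGroup.induction_on with
      | H j' =>
        intro h
        rw [hf, hf] at h
        exact QuotientGroup.eq.2 ((hwd j j').2 h)
  have hrange : Set.range f = invSet g Y := by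
    ext a
    constructor
    · rintro ⟨q, rfl⟩
      induction q using QuotientGroup.induction_on with
      | H j =>
        rw [hf]
        exact conj_mem_invSet hg hn j.2
    · intro ha
      obtain ⟨j, hj, rfl⟩ := exists_conj_of_mem_invSet hg hodd ha
      exact ⟨QuotientGroup.mk ⟨j, hj⟩, rfl⟩
  have h1 : (invSet g Y).ncard = C'.index := by
    rw [← hrange, ← Set.image_univ, Set.ncard_image_of_injective _ hinj, Set.ncard_univ,
      Subgroup.index_eq_card]
  have h2 : Nat.card C' = Nat.card C := by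
    rw [hC']
    exact Nat.card_congr (Subgroup.subgroupOfEquivOfLe (by rw [hC]; exact inf_le_left)).toEquiv
  rw [h1, ← hC, ← h2]
  exact Subgroup.index_mul_card C'


/-- products of the `s`-coset and the `t`-coset land in the `s t`-coset -/
theorem mul_mem_coset {s t : Γ} (ht : t * t = 1) {Z : Subgroup Γ}
    (htZ : ∀ z ∈ Z, t * z * t⁻¹ ∈ Z) {a b : Γ} (ha : s⁻¹ * a ∈ Z) (hb : t⁻¹ * b ∈ Z) :
    (s * t)⁻¹ * (a * b) ∈ Z := by
  have hti := inv_eq_self_of_mul_self ht
  have h1 : (s * t)⁻¹ * (a * b) = (t * (s⁻¹ * a) * t⁻¹) * (t⁻¹ * b) := by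
    calc (s * t)⁻¹ * (a * b) = (t⁻¹ * (s⁻¹ * a) * t) * (t⁻¹ * b) := by group
      _ = (t * (s⁻¹ * a) * t⁻¹) * (t⁻¹ * b) := by rw [hti]
  rw [h1]
  exact Z.mul_mem (htZ _ ha) hb

/-- the "involution part" of the product `a * b` -/
noncomputable def pi (a b : Γ) : Γ := (a * b) ^ orderOf ((a * b) * (a * b))

theorem pi_conj (k a b : Γ) : pi (k * a * k⁻¹) (k * b * k⁻¹) = k * pi a b * k⁻¹ := by
  unfold pi
  have h1 : k * a * k⁻¹ * (k * b * k⁻¹) = k * (a * b) * k⁻¹ := by group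
  have h2 : k * (a * b) * k⁻¹ * (k * (a * b) * k⁻¹) = MulAut.conj k ((a * b) * (a * b)) := by
    rw [MulAut.conj_apply]; group
  rw [h1, h2, MulEquiv.orderOf_eq, conj_pow]

section piFacts

variable {u a b : Γ} {Z : Subgroup Γ}

/-- with `w = a * b ∈ u Z`: `w * w ∈ Z` -/
theorem sq_mem (huu : u * u = 1) (huZ : ∀ z ∈ Z, u * z * u⁻¹ ∈ Z) (hz : u⁻¹ * (a * b) ∈ Z) :
    (a * b) * (a * b) ∈ Z := by
  have hui := inv_eq_self_of_mul_self huu
  have h1 : (a * b) * (a * b) = (u * (u⁻¹ * (a * b)) * u⁻¹) * (u⁻¹ * (a * b)) := by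
    calc (a * b) * (a * b) = (u * (u⁻¹ * (a * b)) * u) * (u⁻¹ * (a * b)) := by group
      _ = (u * (u⁻¹ * (a * b)) * u⁻¹) * (u⁻¹ * (a * b)) := by rw [hui]
  rw [h1]
  exact Z.mul_mem (huZ _ hz) hz

theorem odd_orderOf_sq (hodd : Odd (Nat.card Z)) (huu : u * u = 1)
    (huZ : ∀ z ∈ Z, u * z * u⁻¹ ∈ Z) (hz : u⁻¹ * (a * b) ∈ Z) :
    Odd (orderOf ((a * b) * (a * b))) := by
  have h1 : orderOf ((a * b) * (a * b)) ∣ Nat.card Z := by
    have h2 := orderOf_dvd_natCard (⟨_, sq_mem huu huZ hz⟩ : Z)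
    rwa [Subgroup.orderOf_mk] at h2
  exact hodd.of_dvd_nat h1

theorem pi_mul_self : pi a b * pi a b = 1 := by
  unfold pi
  rw [← pow_add, ← two_mul, pow_mul, pow_two, pow_orderOf_eq_one]

theorem pi_mem_coset (hodd : Odd (Nat.card Z)) (huu : u * u = 1)
    (huZ : ∀ z ∈ Z, u * z * u⁻¹ ∈ Z) (hz : u⁻¹ * (a * b) ∈ Z) : u⁻¹ * pi a b ∈ Z := by
  obtain ⟨n, hn⟩ := odd_orderOf_sq hodd huu huZ hz
  unfold pi
  rw [hn]
  have h1 : (a * b) ^ (2 * n + 1) = (a * b) * ((a * b) * (a * b)) ^ n := by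
    rw [← pow_two, ← pow_mul, ← pow_succ']
  rw [h1, ← mul_assoc]
  exact Z.mul_mem hz (Z.pow_mem (sq_mem huu huZ hz) n)

theorem pi_mem_invSet (hodd : Odd (Nat.card Z)) (huu : u * u = 1)
    (huZ : ∀ z ∈ Z, u * z * u⁻¹ ∈ Z) (hz : u⁻¹ * (a * b) ∈ Z) : pi a b ∈ invSet u Z :=
  ⟨pi_mul_self, pi_mem_coset hodd huu huZ hz⟩

end piFacts

/-- `a` commutes with `pi a b` -/
theorem left_comm_pi {a b : Γ} (ha : a * a = 1) (hb : b * b = 1) : a * pi a b = pi a b * a := by
  have hai := inv_eq_self_of_mul_self ha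
  have hbi := inv_eq_self_of_mul_self hb
  have h1 : a * (a * b) * a⁻¹ = (a * b)⁻¹ := by
    calc a * (a * b) * a⁻¹ = (a * a) * b * a⁻¹ := by group
      _ = b * a := by rw [ha, one_mul, hai]
      _ = b⁻¹ * a⁻¹ := by rw [hai, hbi]
      _ = (a * b)⁻¹ := by group
  have h2 : a * pi a b * a⁻¹ = (pi a b)⁻¹ := by
    unfold pi
    rw [← conj_pow, h1, inv_pow]
  have h3 : (pi a b)⁻¹ = pi a b := inv_eq_self_of_mul_self pi_mul_self
  rw [h3] at h2
  calc a * pi a b = (a * pi a b * a⁻¹) * a := by group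
    _ = pi a b * a := by rw [h2]

/-- `b` commutes with `pi a b` -/
theorem right_comm_pi {a b : Γ} (ha : a * a = 1) (hb : b * b = 1) : b * pi a b = pi a b * b := by
  have hai := inv_eq_self_of_mul_self ha
  have h1 : b = a * (a * b) := by
    calc b = (a * a) * b := by rw [ha, one_mul]
      _ = a * (a * b) := by group
  have h2 : (a * b) * pi a b = pi a b * (a * b) := by
    unfold pi
    exact (Commute.self_pow (a * b) _).eq
  calc b * pi a b = a * (a * b) * pi a b := by rw [← h1]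
    _ = a * ((a * b) * pi a b) := by group
    _ = a * (pi a b * (a * b)) := by rw [h2]
    _ = (a * pi a b) * (a * b) := by group
    _ = (pi a b * a) * (a * b) := by rw [left_comm_pi ha hb]
    _ = pi a b * (a * (a * b)) := by group
    _ = pi a b * b := by rw [← h1]

/-- if `a * b = u * z` with `z` of odd order commuting with `u`, `u * u = 1`, then `pi a b = u` -/
theorem pi_eq_of_comm {u z a b : Γ} (huu : u * u = 1) (hab : a * b = u * z) (hzu : z * u = u * z)
    (hzodd : Odd (orderOf z)) : pi a b = u := by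
  unfold pi
  have hc : Commute u z := hzu.symm
  have h1 : (a * b) * (a * b) = z * z := by
    rw [hab]
    calc u * z * (u * z) = u * (z * u) * z := by group
      _ = u * (u * z) * z := by rw [hzu]
      _ = (u * u) * (z * z) := by group
      _ = z * z := by rw [huu, one_mul]
  rw [h1, hab]
  obtain ⟨o, ho⟩ : ∃ o, o = orderOf (z * z) := ⟨_, rfl⟩
  rw [← ho]
  have hzo : z ^ o = 1 := by
    have h2 : (z * z) ^ o = 1 := by rw [ho]; exact pow_orderOf_eq_one _
    rw [← pow_two, ← pow_mul] at h2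
    have h3 : orderOf z ∣ 2 * o := orderOf_dvd_of_pow_eq_one h2
    have h4 : Nat.Coprime (orderOf z) 2 := Nat.Coprime.symm (Nat.coprime_two_left.2 hzodd)
    exact orderOf_dvd_iff_pow_eq_one.1 (h4.dvd_of_dvd_mul_left h3)
  have hoodd : Odd o := by
    have h5 : orderOf (z * z) ∣ orderOf z := by
      apply orderOf_dvd_of_pow_eq_one
      rw [← pow_two, ← pow_mul, mul_comm, pow_mul, pow_orderOf_eq_one, one_pow]
    rw [ho]
    exact hzodd.of_dvd_nat h5
  obtain ⟨n, hn⟩ := hoodd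
  have huo : u ^ o = u := by
    rw [hn, pow_succ, pow_mul, pow_two, huu, one_pow, one_mul]
  rw [hc.mul_pow, hzo, huo, mul_one]


/-- conjugating an element of `invSet s X` by an element of `X` -/
theorem conj_mem_invSet_of_mem {s : Γ} (hs : s * s = 1) {X : Subgroup Γ}
    (hsX : ∀ g ∈ X, s * g * s⁻¹ ∈ X) {a k : Γ} (ha : a ∈ invSet s X) (hk : k ∈ X) :
    k * a * k⁻¹ ∈ invSet s X := by
  have hsi := inv_eq_self_of_mul_self hs
  obtain ⟨ha2, ha3⟩ := ha
  constructor
  · calc k * a * k⁻¹ * (k * a * k⁻¹) = k * (a * a) * k⁻¹ := by group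
      _ = 1 := by rw [ha2]; group
  · have h1 : s⁻¹ * (k * a * k⁻¹) = (s * k * s⁻¹) * (s⁻¹ * a) * k⁻¹ := by
      calc s⁻¹ * (k * a * k⁻¹) = (s⁻¹ * k * s) * (s⁻¹ * a) * k⁻¹ := by group
        _ = (s * k * s⁻¹) * (s⁻¹ * a) * k⁻¹ := by
          have e : s⁻¹ * k * s = s * k * s⁻¹ := by
            calc s⁻¹ * k * s = s * k * s := by rw [hsi]
              _ = s * k * s⁻¹ := by rw [hsi]
          rw [e]
    rw [h1]
    exact X.mul_mem (X.mul_mem (hsX k hk) ha3) (X.inv_mem hk)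

/-- **Brauer-Wielandt** for a four-group acting on a group of odd order (T2 of board #4683). -/
theorem brauer_wielandt {Γ : Type*} [Group Γ] (X : Subgroup Γ) (hodd : Odd (Nat.card X))
    {s t : Γ} (hs : s * s = 1) (ht : t * t = 1) (hst : s * t = t * s)
    (hsX : ∀ g ∈ X, s * g * s⁻¹ ∈ X) (htX : ∀ g ∈ X, t * g * t⁻¹ ∈ X) :
    Nat.card X *
        Nat.card (X ⊓ Subgroup.centralizer {s} ⊓ Subgroup.centralizer {t} : Subgroup Γ) ^ 2 =
      Nat.card (X ⊓ Subgroup.centralizer {s} : Subgroup Γ) *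
        Nat.card (X ⊓ Subgroup.centralizer {t} : Subgroup Γ) *
        Nat.card (X ⊓ Subgroup.centralizer {s * t} : Subgroup Γ) := by
  classical
  have : Finite X := by
    apply Nat.finite_of_card_ne_zero
    intro h
    rw [h] at hodd
    exact absurd hodd (by decide)
  obtain ⟨u, hu⟩ : ∃ u, u = s * t := ⟨_, rfl⟩
  rw [← hu]
  have hsi := inv_eq_self_of_mul_self hs
  have hti := inv_eq_self_of_mul_self ht
  have huu : u * u = 1 := by
    rw [hu]
    calc s * t * (s * t) = s * (t * s) * t := by group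
      _ = s * (s * t) * t := by rw [hst]
      _ = (s * s) * (t * t) := by group
      _ = 1 := by rw [hs, ht, one_mul]
  have hui := inv_eq_self_of_mul_self huu
  have hsu : s * u = u * s := by
    rw [hu]
    calc s * (s * t) = s * (t * s) := by rw [hst]
      _ = s * t * s := by group
  have htu : t * u = u * t := by
    rw [hu]
    calc t * (s * t) = (t * s) * t := by group
      _ = s * t * t := by rw [hst]
  have hsut : s * u = t := by
    rw [hu]
    calc s * (s * t) = (s * s) * t := by group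
      _ = t := by rw [hs, one_mul]
  have huX : ∀ g ∈ X, u * g * u⁻¹ ∈ X := by
    intro g hg
    have h1 : u * g * u⁻¹ = s * (t * g * t⁻¹) * s⁻¹ := by rw [hu]; group
    rw [h1]
    exact hsX _ (htX g hg)
  obtain ⟨Y, hY⟩ : ∃ Y : Subgroup Γ, Y = X ⊓ centralizer {u} := ⟨_, rfl⟩
  have hYX : Y ≤ X := by rw [hY]; exact inf_le_left
  have hmemY : ∀ y, y ∈ Y ↔ y ∈ X ∧ y * u = u * y := by
    intro y
    rw [hY, Subgroup.mem_inf, Subgroup.mem_centralizer_singleton_iff]
  have : Finite Y := Finite.of_injective (Subgroup.inclusion hYX) (Subgroup.inclusion_injective hYX)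
  have hYodd : Odd (Nat.card Y) := hodd.of_dvd_nat (Subgroup.card_dvd_of_le hYX)
  -- conjugation by an element commuting with `u` preserves commuting with `u`
  have hconjY : ∀ g : Γ, g * u = u * g → (∀ x ∈ X, g * x * g⁻¹ ∈ X) →
      ∀ y ∈ Y, g * y * g⁻¹ ∈ Y := by
    intro g hgu hgX y hy
    obtain ⟨hy1, hy2⟩ := (hmemY y).1 hy
    refine (hmemY _).2 ⟨hgX y hy1, ?_⟩
    have hgu' : g⁻¹ * u = u * g⁻¹ := by
      calc g⁻¹ * u = g⁻¹ * (u * g) * g⁻¹ := by group
        _ = g⁻¹ * (g * u) * g⁻¹ := by rw [hgu]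
        _ = u * g⁻¹ := by group
    calc g * y * g⁻¹ * u = g * y * (g⁻¹ * u) := by group
      _ = g * y * (u * g⁻¹) := by rw [hgu']
      _ = g * (y * u) * g⁻¹ := by group
      _ = g * (u * y) * g⁻¹ := by rw [hy2]
      _ = (g * u) * y * g⁻¹ := by group
      _ = (u * g) * y * g⁻¹ := by rw [hgu]
      _ = u * (g * y * g⁻¹) := by group
  have hsY := hconjY s hsu hsX
  have htY := hconjY t htu htX
  have k1 := card_invSet_mul hs hodd hsX
  have k2 := card_invSet_mul ht hodd htX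
  have k3 := card_invSet_mul huu hodd huX
  have k4 := card_invSet_mul hs hYodd hsY
  have k5 := card_invSet_mul ht hYodd htY
  rw [← hY] at k3
  have e1 : Y ⊓ centralizer {s} = X ⊓ centralizer {s} ⊓ centralizer {t} := by
    ext x
    simp only [hmemY, Subgroup.mem_inf, Subgroup.mem_centralizer_singleton_iff]
    constructor
    · rintro ⟨⟨hx, hxu⟩, hxs⟩
      refine ⟨⟨hx, hxs⟩, ?_⟩
      calc x * t = x * (s * u) := by rw [hsut]
        _ = (x * s) * u := by group
        _ = (s * x) * u := by rw [hxs]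
        _ = s * (x * u) := by group
        _ = s * (u * x) := by rw [hxu]
        _ = (s * u) * x := by group
        _ = t * x := by rw [hsut]
    · rintro ⟨⟨hx, hxs⟩, hxt⟩
      refine ⟨⟨hx, ?_⟩, hxs⟩
      rw [hu]
      calc x * (s * t) = (x * s) * t := by group
        _ = (s * x) * t := by rw [hxs]
        _ = s * (x * t) := by group
        _ = s * (t * x) := by rw [hxt]
        _ = s * t * x := by group
  have e2 : Y ⊓ centralizer {t} = X ⊓ centralizer {s} ⊓ centralizer {t} := by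
    ext x
    simp only [hmemY, Subgroup.mem_inf, Subgroup.mem_centralizer_singleton_iff]
    have htus : t * u = s := by
      rw [hu]
      calc t * (s * t) = (t * s) * t := by group
        _ = s * (t * t) := by rw [← hst]; group
        _ = s := by rw [ht, mul_one]
    constructor
    · rintro ⟨⟨hx, hxu⟩, hxt⟩
      refine ⟨⟨hx, ?_⟩, hxt⟩
      calc x * s = x * (t * u) := by rw [htus]
        _ = (x * t) * u := by group
        _ = (t * x) * u := by rw [hxt]
        _ = t * (x * u) := by group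
        _ = t * (u * x) := by rw [hxu]
        _ = (t * u) * x := by group
        _ = s * x := by rw [htus]
    · rintro ⟨⟨hx, hxs⟩, hxt⟩
      refine ⟨⟨hx, ?_⟩, hxt⟩
      rw [hu]
      calc x * (s * t) = (x * s) * t := by group
        _ = (s * x) * t := by rw [hxs]
        _ = s * (x * t) := by group
        _ = s * (t * x) := by rw [hxt]
        _ = s * t * x := by group
  rw [e1] at k4
  rw [e2] at k5
  -- the bijection
  have key : (invSet s X).ncard * (invSet t X).ncard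
      = (invSet u X).ncard * ((invSet s Y).ncard * (invSet t Y).ncard) := by
    have hchoose : ∀ w : Γ, ∃ k : Γ, w ∈ invSet u X → (k ∈ X ∧ w = k * u * k⁻¹) := by
      intro w
      by_cases hw : w ∈ invSet u X
      · obtain ⟨k, hk, hwk⟩ := exists_conj_of_mem_invSet huu hodd hw
        exact ⟨k, fun _ => ⟨hk, hwk⟩⟩
      · exact ⟨1, fun h => absurd h hw⟩
    choose kk hkk using hchoose
    let Φ : Γ × Γ → Γ × Γ × Γ := fun p =>
      (pi p.1 p.2, (kk (pi p.1 p.2))⁻¹ * p.1 * kk (pi p.1 p.2),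
        (kk (pi p.1 p.2))⁻¹ * p.2 * kk (pi p.1 p.2))
    have hcos : ∀ a b, a ∈ invSet s X → b ∈ invSet t X → u⁻¹ * (a * b) ∈ X := by
      intro a b ha hb
      rw [hu]
      exact mul_mem_coset ht htX ha.2 hb.2
    have hcosY : ∀ a b, a ∈ invSet s Y → b ∈ invSet t Y → u⁻¹ * (a * b) ∈ Y := by
      intro a b ha hb
      rw [hu]
      exact mul_mem_coset ht htY ha.2 hb.2
    -- membership in `invSet s Y` from commuting with `u`
    have hmemSY : ∀ (g : Γ), g * u = u * g → ∀ a, a ∈ invSet g X → a * u = u * a →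
        a ∈ invSet g Y := by
      intro g hgu a ha hau
      refine ⟨ha.1, (hmemY _).2 ⟨ha.2, ?_⟩⟩
      have hgu' : g⁻¹ * u = u * g⁻¹ := by
        calc g⁻¹ * u = g⁻¹ * (u * g) * g⁻¹ := by group
          _ = g⁻¹ * (g * u) * g⁻¹ := by rw [hgu]
          _ = u * g⁻¹ := by group
      calc g⁻¹ * a * u = g⁻¹ * (a * u) := by group
        _ = g⁻¹ * (u * a) := by rw [hau]
        _ = (g⁻¹ * u) * a := by group
        _ = (u * g⁻¹) * a := by rw [hgu']
        _ = u * (g⁻¹ * a) := by group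
    have hsubSY : ∀ (g : Γ) a, a ∈ invSet g Y → a ∈ invSet g X :=
      fun g a ha => ⟨ha.1, hYX ha.2⟩
    have hbij : Set.BijOn Φ (invSet s X ×ˢ invSet t X)
        (invSet u X ×ˢ (invSet s Y ×ˢ invSet t Y)) := by
      refine ⟨?_, ?_, ?_⟩
      · -- maps to
        rintro ⟨a, b⟩ ⟨ha, hb⟩
        have ha' : a ∈ invSet s X := ha
        have hb' : b ∈ invSet t X := hb
        have hpiU : pi a b ∈ invSet u X := pi_mem_invSet hodd huu huX (hcos a b ha' hb')
        obtain ⟨hkX, hkw⟩ := hkk (pi a b) hpiU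
        obtain ⟨k, hk⟩ : ∃ k, k = kk (pi a b) := ⟨_, rfl⟩
        rw [← hk] at hkX hkw
        have hkiX : k⁻¹ ∈ X := X.inv_mem hkX
        -- `k⁻¹ * x * k` commutes with `u` when `x` commutes with `pi a b`
        have hcomm : ∀ x : Γ, x * pi a b = pi a b * x → (k⁻¹ * x * k) * u = u * (k⁻¹ * x * k) := by
          intro x hx
          calc k⁻¹ * x * k * u = k⁻¹ * (x * (k * u * k⁻¹)) * k := by group
            _ = k⁻¹ * (x * pi a b) * k := by rw [← hkw]
            _ = k⁻¹ * (pi a b * x) * k := by rw [hx]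
            _ = k⁻¹ * ((k * u * k⁻¹) * x) * k := by rw [← hkw]
            _ = u * (k⁻¹ * x * k) := by group
        have h1 : k⁻¹ * a * k ∈ invSet s X := by
          have := conj_mem_invSet_of_mem hs hsX ha' hkiX
          rwa [inv_inv] at this
        have h2 : k⁻¹ * b * k ∈ invSet t X := by
          have := conj_mem_invSet_of_mem ht htX hb' hkiX
          rwa [inv_inv] at this
        refine ⟨hpiU, ?_, ?_⟩
        · show (kk (pi a b))⁻¹ * a * kk (pi a b) ∈ invSet s Y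
          rw [← hk]
          exact hmemSY s hsu _ h1 (hcomm a (left_comm_pi ha'.1 hb'.1))
        · show (kk (pi a b))⁻¹ * b * kk (pi a b) ∈ invSet t Y
          rw [← hk]
          exact hmemSY t htu _ h2 (hcomm b (right_comm_pi ha'.1 hb'.1))
      · -- injective
        rintro ⟨a, b⟩ _ ⟨a', b'⟩ _ h
        have h0 : pi a b = pi a' b' := congrArg Prod.fst h
        have h1 : (kk (pi a b))⁻¹ * a * kk (pi a b) = (kk (pi a' b'))⁻¹ * a' * kk (pi a' b') :=
          congrArg (fun q => q.2.1) h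
        have h2 : (kk (pi a b))⁻¹ * b * kk (pi a b) = (kk (pi a' b'))⁻¹ * b' * kk (pi a' b') :=
          congrArg (fun q => q.2.2) h
        rw [← h0] at h1 h2
        have ea : a = a' := by
          have := mul_left_cancel (mul_right_cancel h1)
          exact this
        have eb : b = b' := by
          have := mul_left_cancel (mul_right_cancel h2)
          exact this
        rw [ea, eb]
      · -- surjective
        rintro ⟨w, a', b'⟩ ⟨hw, ha, hb⟩
        have hw' : w ∈ invSet u X := hw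
        have ha' : a' ∈ invSet s Y := ha
        have hb' : b' ∈ invSet t Y := hb
        obtain ⟨hkX, hkw⟩ := hkk w hw'
        obtain ⟨k, hk⟩ : ∃ k, k = kk w := ⟨_, rfl⟩
        rw [← hk] at hkX hkw
        -- `pi a' b' = u`
        have hz := hcosY a' b' ha' hb'
        obtain ⟨hzX, hzu⟩ := (hmemY _).1 hz
        have hzodd : Odd (orderOf (u⁻¹ * (a' * b'))) := by
          have h1 : orderOf (u⁻¹ * (a' * b')) ∣ Nat.card X := by
            have h2 := orderOf_dvd_natCard (⟨_, hzX⟩ : X)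
            rwa [Subgroup.orderOf_mk] at h2
          exact hodd.of_dvd_nat h1
        have hpi : pi a' b' = u :=
          pi_eq_of_comm huu (by group : a' * b' = u * (u⁻¹ * (a' * b'))) hzu hzodd
        have hpi2 : pi (k * a' * k⁻¹) (k * b' * k⁻¹) = w := by
          rw [pi_conj, hpi, ← hkw]
        refine ⟨(k * a' * k⁻¹, k * b' * k⁻¹), ⟨?_, ?_⟩, ?_⟩
        · exact conj_mem_invSet_of_mem hs hsX (hsubSY s a' ha') hkX
        · exact conj_mem_invSet_of_mem ht htX (hsubSY t b' hb') hkX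
        · show (pi (k * a' * k⁻¹) (k * b' * k⁻¹),
            (kk (pi (k * a' * k⁻¹) (k * b' * k⁻¹)))⁻¹ * (k * a' * k⁻¹)
              * kk (pi (k * a' * k⁻¹) (k * b' * k⁻¹)),
            (kk (pi (k * a' * k⁻¹) (k * b' * k⁻¹)))⁻¹ * (k * b' * k⁻¹)
              * kk (pi (k * a' * k⁻¹) (k * b' * k⁻¹))) = (w, a', b')
          rw [hpi2, ← hk]
          congr 1
          congr 1 <;> group
    have h1 := hbij.image_eq
    have h2 := Set.InjOn.ncard_image hbij.injOn
    rw [h1] at h2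
    rw [← Set.ncard_prod, ← Set.ncard_prod, ← Set.ncard_prod]
    exact h2.symm
  -- arithmetic
  obtain ⟨x, hx⟩ : ∃ x, x = Nat.card X := ⟨_, rfl⟩
  obtain ⟨cs, hcs⟩ : ∃ c, c = Nat.card (X ⊓ centralizer {s} : Subgroup Γ) := ⟨_, rfl⟩
  obtain ⟨ct, hct⟩ : ∃ c, c = Nat.card (X ⊓ centralizer {t} : Subgroup Γ) := ⟨_, rfl⟩
  obtain ⟨cu, hcu⟩ : ∃ c, c = Nat.card Y := ⟨_, rfl⟩
  obtain ⟨cv, hcv⟩ : ∃ c, c = Nat.card (X ⊓ centralizer {s} ⊓ centralizer {t} : Subgroup Γ) :=
    ⟨_, rfl⟩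
  rw [← hY, ← hx, ← hcs, ← hct, ← hcu, ← hcv]
  rw [← hx, ← hcs] at k1
  rw [← hx, ← hct] at k2
  rw [← hx, ← hcu] at k3
  rw [← hcu, ← hcv] at k4 k5
  have hxpos : 0 < x := by rw [hx]; exact Nat.card_pos
  have hfin : x * (x * cv ^ 2) = x * (cs * ct * cu) := by
    calc x * (x * cv ^ 2)
        = ((invSet s X).ncard * cs) * (((invSet t X).ncard * ct) * cv ^ 2) := by rw [k1, k2]
      _ = ((invSet s X).ncard * (invSet t X).ncard) * cs * ct * cv ^ 2 := by ring
      _ = ((invSet u X).ncard * ((invSet s Y).ncard * (invSet t Y).ncard)) * cs * ct * cv ^ 2 := by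
          rw [key]
      _ = (invSet u X).ncard * ((invSet s Y).ncard * cv) * ((invSet t Y).ncard * cv) * cs * ct := by
          ring
      _ = (invSet u X).ncard * cu * cu * cs * ct := by rw [k4, k5]
      _ = ((invSet u X).ncard * cu) * (cs * ct * cu) := by ring
      _ = x * (cs * ct * cu) := by rw [k3]
  exact Nat.eq_of_mul_eq_mul_left hxpos hfin

end Cfsg.Agent.Helper63.HallBW
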