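import Mathlib

/-!
# S4707 (helper61's plan, board #6148): pieces (A1) and (B1)
-/

set_option autoImplicit false

namespace Cfsg.Agent.Helper63.TwoP

/-- (A1) -/
theorem card_sylow_of_card_normalizer {G : Type*} [Group G] [Finite G] {p : ℕ} [Fact p.Prime]
    (hp : 2 < p) (P : Sylow p G)
    (hN : Nat.card (Subgroup.normalizer ((P : Subgroup G) : Set G)) = 2 * p) :
    Nat.card (P : Subgroup G) = p := by
  have hpp : p.Prime := Fact.out
  obtain ⟨n, hn⟩ := IsPGroup.iff_card.mp P.isPGroup'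
  have hle : (P : Subgroup G) ≤ Subgroup.normalizer ((P : Subgroup G) : Set G) :=
    Subgroup.le_normalizer
  have hdvd : p ^ n ∣ 2 * p := by
    rw [← hn, ← hN]; exact Subgroup.card_dvd_of_le hle
  have hcop : Nat.Coprime (p ^ n) 2 :=
    Nat.Coprime.pow_left n ((Nat.coprime_primes hpp Nat.prime_two).mpr (by omega))
  have hdvd' : p ^ n ∣ p ^ 1 := by
    rw [pow_one]; exact hcop.dvd_of_dvd_mul_left hdvd
  have hn1 : n ≤ 1 := (Nat.pow_dvd_pow_iff_le_right hpp.one_lt).mp hdvd'
  rcases Nat.eq_zero_or_pos n with h0 | h0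
  · exfalso
    rw [h0, pow_zero] at hn
    have hbot : (P : Subgroup G) = ⊥ := Subgroup.card_eq_one.mp hn
    have htop : Subgroup.normalizer ((P : Subgroup G) : Set G) = ⊤ := by
      rw [eq_top_iff]
      intro g _
      rw [Subgroup.mem_normalizer_iff, hbot]
      intro y
      simp only [Subgroup.mem_bot]
      constructor
      · rintro rfl; simp
      · intro hy
        have : y = g⁻¹ * (g * y * g⁻¹) * g := by group
        rw [this, hy]; group
    have hG : Nat.card G = 2 * p := by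
      rw [← hN, htop, Subgroup.card_top]
    have h1 : p ∣ Nat.card G := by rw [hG]; exact dvd_mul_left p 2
    have h2 := P.dvd_card_of_dvd_card h1
    rw [hn] at h2
    exact hpp.one_lt.ne' (Nat.dvd_one.mp h2)
  · have h1 : n = 1 := by omega
    rw [hn, h1, pow_one]

/-- (B1) `p`-singular elements are conjugate into `P ∖ {1}`; in particular they have order `p`. -/
theorem exists_conj_mem_of_dvd {G : Type*} [Group G] [Finite G] {p : ℕ} [Fact p.Prime]
    (P : Sylow p G) (hP : Nat.card (P : Subgroup G) = p)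
    (hC : Subgroup.centralizer ((P : Subgroup G) : Set G) = P) (g : G) (hg : p ∣ orderOf g) :
    (∃ x : G, x * g * x⁻¹ ∈ (P : Subgroup G) ∧ x * g * x⁻¹ ≠ 1) ∧ orderOf g = p := by
  have hpp : p.Prime := Fact.out
  obtain ⟨k, hk⟩ := hg
  have hopos : 0 < orderOf g := orderOf_pos g
  have hkpos : 0 < k := by
    rcases Nat.eq_zero_or_pos k with h0 | h0
    · rw [h0, mul_zero] at hk; omega
    · exact h0
  have hu : orderOf (g ^ k) = p := by
    rw [orderOf_pow_of_dvd hkpos.ne' (Dvd.intro_left p hk.symm), hk, Nat.mul_div_cancel _ hkpos]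
  have hZ : IsPGroup p (Subgroup.zpowers (g ^ k)) := by
    apply IsPGroup.of_card (n := 1)
    rw [Nat.card_zpowers, hu, pow_one]
  obtain ⟨Q, hQ⟩ := hZ.exists_le_sylow
  obtain ⟨c, hc⟩ := MulAction.exists_smul_eq G Q P
  have hy : c * g ^ k * c⁻¹ ∈ (P : Subgroup G) := by
    rw [← hc, Sylow.coe_subgroup_smul, Subgroup.mem_pointwise_smul_iff_inv_smul_mem]
    simp only [MulAut.smul_def, MulAut.conj_inv_apply]
    have : c⁻¹ * (c * g ^ k * c⁻¹) * c = g ^ k := by group
    rw [this]
    exact hQ (Subgroup.mem_zpowers _)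
  have hyo : orderOf (c * g ^ k * c⁻¹) = p := by
    have : c * g ^ k * c⁻¹ = MulAut.conj c (g ^ k) := rfl
    rw [this, MulEquiv.orderOf_eq]; exact hu
  have hypow : c * g ^ k * c⁻¹ = (c * g * c⁻¹) ^ k := by rw [conj_pow]
  have hPz : (P : Subgroup G) = Subgroup.zpowers (c * g ^ k * c⁻¹) := by
    symm
    apply Subgroup.eq_of_le_of_card_ge
    · rw [Subgroup.zpowers_le]; exact hy
    · rw [Nat.card_zpowers, hyo, hP]
  have hmem : c * g * c⁻¹ ∈ (P : Subgroup G) := by
    rw [← hC, Subgroup.mem_centralizer_iff]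
    intro z hz
    rw [SetLike.mem_coe, hPz, Subgroup.mem_zpowers_iff] at hz
    obtain ⟨i, rfl⟩ := hz
    rw [hypow]
    exact (((Commute.refl (c * g * c⁻¹)).pow_left k).zpow_left i).eq
  have hne : c * g * c⁻¹ ≠ 1 := by
    intro h1
    have h2 : g = 1 := by
      have : g = c⁻¹ * (c * g * c⁻¹) * c := by group
      rw [this, h1]; group
    rw [h2, orderOf_one] at hk
    exact hpp.one_lt.ne' (Nat.eq_one_of_mul_eq_one_right hk.symm)
  refine ⟨⟨c, hmem, hne⟩, ?_⟩
  have ho : orderOf (c * g * c⁻¹) = orderOf g := by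
    have : c * g * c⁻¹ = MulAut.conj c g := rfl
    rw [this, MulEquiv.orderOf_eq]
  have hd : orderOf (c * g * c⁻¹) ∣ p := by
    rw [← hP]
    exact Subgroup.orderOf_dvd_natCard _ hmem
  rw [ho] at hd
  exact Nat.dvd_antisymm hd ⟨k, hk⟩

end Cfsg.Agent.Helper63.TwoP
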