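import Cfsg.Agent.Helper61.TwoPDefs

/-!
# S4707 (helper61's plan, board #6295): piece (R0), involutions fix `0` or `2` points
-/

set_option autoImplicit false
set_option linter.unusedSectionVars false
set_option linter.unusedVariables false

namespace Cfsg.Agent.Helper63.TwoP

open Cfsg MulAction Cfsg.Agent.Helper66.PD2 Cfsg.Agent.Helper61.TwoP

/-- the number of fixed points is a class function -/
theorem card_fixedBy_conj {G : Type*} [Group G] {α : Type*} [MulAction G α] (c t : G) :
    Nat.card (fixedBy α (c * t * c⁻¹)) = Nat.card (fixedBy α t) := by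
  apply Nat.card_congr
  exact
    { toFun := fun a => ⟨c⁻¹ • (a : α), by
        have h := a.2
        rw [MulAction.mem_fixedBy] at h ⊢
        calc t • c⁻¹ • (a : α) = c⁻¹ • ((c * t * c⁻¹) • (a : α)) := by simp [mul_smul]
          _ = c⁻¹ • (a : α) := by rw [h]⟩
      invFun := fun a => ⟨c • (a : α), by
        have h := a.2
        rw [MulAction.mem_fixedBy] at h ⊢
        calc (c * t * c⁻¹) • c • (a : α) = c • (t • (a : α)) := by simp [mul_smul]
          _ = c • (a : α) := by rw [h]⟩
      left_inv := fun a => by simp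
      right_inv := fun a => by simp }

/-- an involution normalizing a semiregular self-centralizing Sylow `p`-subgroup of order `p`
of a group of degree `2 p` fixes `0` or `2` points -/
theorem card_fixedBy_invol_of_mem_normalizer {G : Type*} [Group G] [Finite G] {α : Type*}
    [Fintype α] [MulAction G α] {p : ℕ} [Fact p.Prime] (hp5 : 5 ≤ p)
    (hα : Fintype.card α = 2 * p) (P : Sylow p G) (hP : Nat.card (P : Subgroup G) = p)
    (hC : Subgroup.centralizer ((P : Subgroup G) : Set G) = P)
    (hsemi : ∀ g : G, p ∣ orderOf g → Nat.card (fixedBy α g) = 0)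
    (t0 : G) (ht0 : orderOf t0 = 2)
    (ht0N : t0 ∈ Subgroup.normalizer ((P : Subgroup G) : Set G)) :
    Nat.card (fixedBy α t0) = 0 ∨ Nat.card (fixedBy α t0) = 2 := by
  have hpp : p.Prime := Fact.out
  have hord : ∀ w ∈ (P : Subgroup G), w ≠ 1 → orderOf w = p := by
    intro w hw hw1
    have hd : orderOf w ∣ p := by rw [← hP]; exact Subgroup.orderOf_dvd_natCard _ hw
    rcases (Nat.dvd_prime hpp).mp hd with h1 | h1
    · exact absurd (orderOf_eq_one_iff.mp h1) hw1
    · exact h1
  -- `P` is semiregular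
  have hsr : ∀ w ∈ (P : Subgroup G), ∀ a : α, w • a = a → w = 1 := by
    intro w hw a hwa
    by_contra hw1
    have h0 := hsemi w (by rw [hord w hw hw1])
    have hne : Nonempty (fixedBy α w) := ⟨⟨a, hwa⟩⟩
    have hpos : 0 < Nat.card (fixedBy α w) := Nat.card_pos
    omega
  -- elements of `P` commuting with `t0` are trivial
  have hcomm : ∀ z ∈ (P : Subgroup G), z * t0 = t0 * z → z = 1 := by
    intro z hz hzt
    by_contra hz1
    have hzo : orderOf z = p := hord z hz hz1
    have hPz : (P : Subgroup G) = Subgroup.zpowers z := by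
      symm
      apply Subgroup.eq_of_le_of_card_ge
      · rw [Subgroup.zpowers_le]; exact hz
      · rw [Nat.card_zpowers, hzo, hP]
    have ht0C : t0 ∈ Subgroup.centralizer ((P : Subgroup G) : Set G) := by
      rw [Subgroup.mem_centralizer_iff]
      intro w hw
      rw [SetLike.mem_coe, hPz, Subgroup.mem_zpowers_iff] at hw
      obtain ⟨i, rfl⟩ := hw
      exact (Commute.zpow_left (show Commute z t0 from hzt) i).eq
    rw [hC] at ht0C
    have hd : orderOf t0 ∣ p := by rw [← hP]; exact Subgroup.orderOf_dvd_natCard _ ht0C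
    rw [ht0] at hd
    have := (Nat.prime_dvd_prime_iff_eq Nat.prime_two hpp).mp hd
    omega
  -- the injective map `F × P → α`
  have hf : Function.Injective
      (fun x : fixedBy α t0 × (P : Subgroup G) => ((x.2 : G) • (x.1 : α) : α)) := by
    rintro ⟨⟨a, ha⟩, ⟨y, hy⟩⟩ ⟨⟨a', ha'⟩, ⟨y', hy'⟩⟩ h
    have h : y • a = y' • a' := h
    have ha0 : t0 • a = a := ha
    have ha0' : t0 • a' = a' := ha'
    have hzP : y'⁻¹ * y ∈ (P : Subgroup G) := mul_mem (inv_mem hy') hy
    have hza : (y'⁻¹ * y) • a = a' := by rw [mul_smul, h, inv_smul_smul]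
    have hconjP : t0 * (y'⁻¹ * y) * t0⁻¹ ∈ (P : Subgroup G) :=
      (Subgroup.mem_normalizer_iff.mp ht0N _).mp hzP
    have hza2 : (t0 * (y'⁻¹ * y) * t0⁻¹) • a = a' := by
      have h1 : t0⁻¹ • a = a := by rw [inv_smul_eq_iff, ha0]
      rw [mul_smul, mul_smul, h1, hza, ha0']
    have hw : ((y'⁻¹ * y)⁻¹ * (t0 * (y'⁻¹ * y) * t0⁻¹)) • a = a := by
      rw [mul_smul, hza2, ← hza, inv_smul_smul]
    have h1 := hsr _ (mul_mem (inv_mem hzP) hconjP) a hw
    have h2 : t0 * (y'⁻¹ * y) * t0⁻¹ = y'⁻¹ * y := by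
      have := inv_mul_eq_one.mp h1
      exact this.symm
    have hzt : (y'⁻¹ * y) * t0 = t0 * (y'⁻¹ * y) := by
      calc (y'⁻¹ * y) * t0 = (t0 * (y'⁻¹ * y) * t0⁻¹) * t0 := by rw [h2]
        _ = t0 * (y'⁻¹ * y) := by group
    have hz1 := hcomm _ hzP hzt
    have hyy : y' = y := inv_mul_eq_one.mp hz1
    have haa : a = a' := by rw [← hza, hz1, one_smul]
    subst hyy; subst haa; rfl
  have hle : Nat.card (fixedBy α t0) * p ≤ 2 * p := by
    have h1 := Nat.card_le_card_of_injective _ hf
    rw [Nat.card_prod, hP, Nat.card_eq_fintype_card (α := α), hα] at h1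
    exact h1
  have hle2 : Nat.card (fixedBy α t0) ≤ 2 := Nat.le_of_mul_le_mul_right hle hpp.pos
  -- parity
  have hpar : Nat.card (fixedBy α t0) % 2 = 0 := by
    have : Fact (Nat.Prime 2) := ⟨Nat.prime_two⟩
    have hZ : IsPGroup 2 (Subgroup.zpowers t0) := by
      apply IsPGroup.of_card (n := 1)
      rw [Nat.card_zpowers, ht0, pow_one]
    have h1 := hZ.card_modEq_card_fixedPoints α
    have hfix : (fixedPoints (Subgroup.zpowers t0) α : Set α) = fixedBy α t0 := by
      ext a
      constructor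
      · intro ha
        exact ha ⟨t0, Subgroup.mem_zpowers t0⟩
      · intro ha z
        have hle : Subgroup.zpowers t0 ≤ stabilizer G a := by
          rw [Subgroup.zpowers_le]; exact ha
        exact hle z.2
    rw [hfix, Nat.card_eq_fintype_card (α := α), hα] at h1
    have h2 : (2 * p) % 2 = Nat.card (fixedBy α t0) % 2 := h1
    omega
  omega

/-- (R0) involutions fix `0` or `2` points. -/
theorem fx_invol {G : Type*} [Group G] [Fintype G] {α : Type*} [Fintype α] [DecidableEq α]
    [MulAction G α] {p : ℕ} [Fact p.Prime] {P : Sylow p G}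
    (S : Setup G α p P) (hsemi : ∀ g : G, p ∣ orderOf g → fx α g = 0)
    (hconj : ∀ s1 s2 : G, orderOf s1 = 2 → orderOf s2 = 2 → IsConj s1 s2)
    (t : G) (ht : orderOf t = 2) : fx α t = 0 ∨ fx α t = 2 := by
  have hN2 : 2 ∣ Nat.card (Subgroup.normalizer ((P : Subgroup G) : Set G)) := by
    rw [S.cardN]; exact dvd_mul_right 2 p
  have : Fact (Nat.Prime 2) := ⟨Nat.prime_two⟩
  obtain ⟨t0, ht0⟩ := exists_prime_orderOf_dvd_card'
    (G := Subgroup.normalizer ((P : Subgroup G) : Set G)) 2 hN2
  have ht0' : orderOf (t0 : G) = 2 := by rw [Subgroup.orderOf_coe]; exact ht0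
  have hc := hconj (t0 : G) t ht0' ht
  rw [isConj_iff] at hc
  obtain ⟨c, hc⟩ := hc
  unfold fx
  rw [← hc, card_fixedBy_conj]
  exact card_fixedBy_invol_of_mem_normalizer S.hp5 S.hα P S.cardP S.cent
    (fun g hg => hsemi g hg) (t0 : G) ht0' t0.2

end Cfsg.Agent.Helper63.TwoP
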