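import Cfsg.Agent.Helper61.TwoPDefs
import Cfsg.Agent.Helper5.ConjCard
import Cfsg.Agent.Helper63.TwoPR0

/-!
# S4707 (helper61's plan, board #6295): piece (R2), the number of involutions of a point
stabilizer is `p - 2`
-/

set_option autoImplicit false
set_option linter.unusedSectionVars false
set_option linter.unusedVariables false

namespace Cfsg.Agent.Helper63.TwoP

open Cfsg MulAction Cfsg.Agent.Helper66.PD2 Cfsg.Agent.Helper61.TwoP

theorem sum_ite_eq_natCard {X : Type*} [Fintype X] (q : X → Prop) [DecidablePred q] :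
    ∑ x : X, (if q x then 1 else 0) = Nat.card {x : X // q x} := by
  rw [Nat.card_eq_fintype_card, Fintype.card_subtype, Finset.card_filter]

/-- the involutions fixing `g • a` are the conjugates of those fixing `a` -/
theorem card_invol_fix_smul {G : Type*} [Group G] {α : Type*} [MulAction G α] (g : G) (a : α) :
    Nat.card {s : G // orderOf s = 2 ∧ s • (g • a) = g • a} =
      Nat.card {s : G // orderOf s = 2 ∧ s • a = a} := by
  apply Nat.card_congr
  exact
    { toFun := fun s => ⟨g⁻¹ * s.1 * g, by
        have h := s.2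
        constructor
        · have : g⁻¹ * s.1 * g = MulAut.conj g⁻¹ s.1 := by simp
          rw [this, MulEquiv.orderOf_eq]; exact h.1
        · rw [mul_smul, mul_smul, h.2, inv_smul_smul]⟩
      invFun := fun s => ⟨g * s.1 * g⁻¹, by
        have h := s.2
        constructor
        · have : g * s.1 * g⁻¹ = MulAut.conj g s.1 := by simp [MulAut.conj_apply]
          rw [this, MulEquiv.orderOf_eq]; exact h.1
        · rw [mul_smul, mul_smul, inv_smul_smul, h.2]⟩
      left_inv := fun s => by apply Subtype.ext; simp [mul_assoc]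
      right_inv := fun s => by apply Subtype.ext; simp [mul_assoc] }

/-- the involutions of the stabilizer -/
theorem card_invol_stabilizer_eq {G : Type*} [Group G] {α : Type*} [MulAction G α] (a : α) :
    Nat.card {s : stabilizer G a // orderOf s = 2} =
      Nat.card {s : G // orderOf s = 2 ∧ s • a = a} := by
  apply Nat.card_congr
  exact
    { toFun := fun s => ⟨(s.1 : G), by rw [Subgroup.orderOf_coe]; exact s.2, s.1.2⟩
      invFun := fun s => ⟨⟨s.1, s.2.2⟩, by rw [← Subgroup.orderOf_coe]; exact s.2.1⟩
      left_inv := fun s => rfl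
      right_inv := fun s => rfl }

/-- (R2) the number of involutions in a point stabilizer is `p - 2`. -/
theorem card_invol_stabilizer {G : Type*} [Group G] [Fintype G] {α : Type*} [Fintype α]
    [DecidableEq α] [MulAction G α] {p : ℕ} [Fact p.Prime] {P : Sylow p G}
    (S : Setup G α p P) (n : ℕ) (hn : 3 ≤ n) (hpn : p = 2 ^ n + 1)
    (hG : Nat.card G = p * (p - 1) * (p - 2))
    (hconj : ∀ s1 s2 : G, orderOf s1 = 2 → orderOf s2 = 2 → IsConj s1 s2)
    (hfx : ∀ t : G, orderOf t = 2 → fx α t = 0 ∨ fx α t = 2)
    (hcls : ∀ t : G, orderOf t = 2 →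
      Nat.card (Subgroup.centralizer ({t} : Set G)) ^ 2 * p * (p - 2) = Nat.card G * (p - 1))
    (a : α) : Nat.card {s : stabilizer G a // orderOf s = 2} = p - 2 := by
  classical
  have hpp : p.Prime := Fact.out
  have h2n : 8 ≤ 2 ^ n := by
    calc 8 = 2 ^ 3 := by norm_num
      _ ≤ 2 ^ n := Nat.pow_le_pow_right (by norm_num) hn
  have hp1 : p - 1 = 2 ^ n := by omega
  have hp2 : p - 2 = 2 ^ n - 1 := by omega
  have hp9 : 9 ≤ p := by omega
  have : IsPretransitive G α := S.prim.toIsPretransitive
  -- order of the stabilizer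
  have hstab : Nat.card (stabilizer G a) * (2 * p) = p * (p - 1) * (p - 2) := by
    have h1 := Subgroup.card_mul_index (stabilizer G a)
    rw [MulAction.index_stabilizer_of_transitive, Nat.card_eq_fintype_card (α := α), S.hα, hG] at h1
    exact h1
  have hstab2 : Nat.card (stabilizer G a) = 2 ^ (n - 1) * (p - 2) := by
    have h2 : 2 ^ n = 2 * 2 ^ (n - 1) := by
      rw [← pow_succ']; congr 1; omega
    have h3 : Nat.card (stabilizer G a) * (2 * p) = (2 ^ (n - 1) * (p - 2)) * (2 * p) := by
      rw [hstab, hp1, h2]; ring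
    exact Nat.eq_of_mul_eq_mul_right (by omega) h3
  have h2stab : 2 ∣ Nat.card (stabilizer G a) := by
    rw [hstab2]
    apply Dvd.dvd.mul_right
    exact dvd_pow_self 2 (by omega)
  have : Fact (Nat.Prime 2) := ⟨Nat.prime_two⟩
  obtain ⟨t1, ht1⟩ := exists_prime_orderOf_dvd_card' (G := stabilizer G a) 2 h2stab
  have ht : orderOf (t1 : G) = 2 := by rw [Subgroup.orderOf_coe]; exact ht1
  -- the centralizer of an involution has order `p - 1`
  have hcent : Nat.card (Subgroup.centralizer ({(t1 : G)} : Set G)) = p - 1 := by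
    have h1 := hcls (t1 : G) ht
    rw [hG] at h1
    have h2 : Nat.card (Subgroup.centralizer ({(t1 : G)} : Set G)) ^ 2 * (p * (p - 2)) =
        (p - 1) ^ 2 * (p * (p - 2)) := by
      calc Nat.card (Subgroup.centralizer ({(t1 : G)} : Set G)) ^ 2 * (p * (p - 2))
          = Nat.card (Subgroup.centralizer ({(t1 : G)} : Set G)) ^ 2 * p * (p - 2) := by ring
        _ = p * (p - 1) * (p - 2) * (p - 1) := h1
        _ = (p - 1) ^ 2 * (p * (p - 2)) := by ring
    have h3 : 0 < p * (p - 2) := Nat.mul_pos (by omega) (by omega)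
    have h4 := Nat.eq_of_mul_eq_mul_right h3 h2
    exact Nat.pow_left_injective (n := 2) (by norm_num) h4
  -- the number of involutions
  have hcls2 : (conjugatesOf (t1 : G)).ncard = p * (p - 2) := by
    have h1 := Cfsg.Agent.Helper5.ConjCard.ncard_conjugatesOf_mul_card_centralizer (t1 : G)
    rw [hcent, hG] at h1
    have h2 : (conjugatesOf (t1 : G)).ncard * (p - 1) = (p * (p - 2)) * (p - 1) := by
      rw [h1]; ring
    exact Nat.eq_of_mul_eq_mul_right (by omega) h2
  have hI : Nat.card {s : G // orderOf s = 2} = p * (p - 2) := by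
    rw [← hcls2, ← Nat.card_coe_set_eq]
    apply Nat.card_congr
    apply Equiv.subtypeEquivRight
    intro s
    show orderOf s = 2 ↔ IsConj (t1 : G) s
    constructor
    · intro hs
      exact hconj _ _ ht hs
    · intro hs
      rw [isConj_iff] at hs
      obtain ⟨c, rfl⟩ := hs
      have : c * (t1 : G) * c⁻¹ = MulAut.conj c (t1 : G) := by simp [MulAut.conj_apply]
      rw [this, MulEquiv.orderOf_eq]; exact ht
  -- all involutions have the same number `f` of fixed points
  have hfconst : ∀ s : G, orderOf s = 2 → fx α s = fx α (t1 : G) := by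
    intro s hs
    have hc := hconj (t1 : G) s ht hs
    rw [isConj_iff] at hc
    obtain ⟨c, rfl⟩ := hc
    unfold fx
    exact card_fixedBy_conj c (t1 : G)
  -- double counting
  have key : ∑ s : G, ∑ b : α, (if orderOf s = 2 ∧ s • b = b then 1 else 0) =
      ∑ b : α, ∑ s : G, (if orderOf s = 2 ∧ s • b = b then 1 else 0) := Finset.sum_comm
  have hL : ∀ s : G, ∑ b : α, (if orderOf s = 2 ∧ s • b = b then 1 else 0) =
      if orderOf s = 2 then fx α (t1 : G) else 0 := by
    intro s
    split_ifs with hs
    · rw [← hfconst s hs]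
      simp only [hs, true_and]
      rw [sum_ite_eq_natCard]
      rfl
    · simp [hs]
  have hR : ∀ b : α, ∑ s : G, (if orderOf s = 2 ∧ s • b = b then 1 else 0) =
      Nat.card {s : stabilizer G a // orderOf s = 2} := by
    intro b
    rw [sum_ite_eq_natCard, card_invol_stabilizer_eq]
    obtain ⟨g, rfl⟩ := MulAction.exists_smul_eq G a b
    exact card_invol_fix_smul g a
  simp only [hL, hR] at key
  have hLsum : ∑ s : G, (if orderOf s = 2 then fx α (t1 : G) else 0) =
      Nat.card {s : G // orderOf s = 2} * fx α (t1 : G) := by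
    rw [← sum_ite_eq_natCard, Finset.sum_mul]
    apply Finset.sum_congr rfl
    intro s _
    split_ifs <;> simp
  rw [hLsum, Finset.sum_const, Finset.card_univ, S.hα, smul_eq_mul, hI] at key
  -- `p (p - 2) f = 2 p m`
  have hm : 0 < Nat.card {s : stabilizer G a // orderOf s = 2} := by
    have : Nonempty {s : stabilizer G a // orderOf s = 2} := ⟨⟨t1, ht1⟩⟩
    exact Nat.card_pos
  have hf2 : fx α (t1 : G) = 2 := by
    rcases hfx (t1 : G) ht with h0 | h0
    · exfalso
      rw [h0, mul_zero] at key
      have : 0 < 2 * p * Nat.card {s : stabilizer G a // orderOf s = 2} :=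
        Nat.mul_pos (by omega) hm
      omega
    · exact h0
  rw [hf2] at key
  have h5 : (2 * p) * (p - 2) = (2 * p) * Nat.card {s : stabilizer G a // orderOf s = 2} := by
    rw [← key]; ring
  exact (Nat.eq_of_mul_eq_mul_left (by omega) h5).symm

end Cfsg.Agent.Helper63.TwoP
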