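-- helper63 for helper62 (S2444 Ore farm #12939): piece (EPS) `exists_eps`.
import Mathlib
import Cfsg.Agent.Helper62.Ore.Defs

set_option autoImplicit false

namespace Cfsg.Agent.Helper63.Ore

open Polynomial Module Cfsg.Agent.Helper62.Ore

variable {F : Type*} [Field F] {V : Type*} [AddCommGroup V] [Module F V]

/-- (EPS) choice of the hyperplane. -/
theorem exists_eps (A : V ≃ₗ[F] V) (z : V) (hz : ∀ c : F, A z ≠ c • z) (s : F) (hs : s ≠ 0) :
    ∃ ε : Module.Dual F V, ε z = 0 ∧ ε (A.symm z) = s ∧ ε (A z) ≠ 0 := by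
  classical
  have hz0 : z ≠ 0 := by
    intro h
    apply hz 0
    rw [h, map_zero, smul_zero]
  -- `A z` and `A⁻¹ z` are not in `F z`
  have hb : A z ∉ Submodule.span F {z} := by
    intro h
    obtain ⟨c, hc⟩ := Submodule.mem_span_singleton.1 h
    exact hz c hc.symm
  have ha : A.symm z ∉ Submodule.span F {z} := by
    intro h
    obtain ⟨c, hc⟩ := Submodule.mem_span_singleton.1 h
    have h1 : z = c • A z := by
      have := congrArg A hc
      rw [map_smul, LinearEquiv.apply_symm_apply] at this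
      exact this.symm
    have hc0 : c ≠ 0 := by
      intro h0
      rw [h0, zero_smul] at h1
      exact hz0 h1
    apply hz c⁻¹
    calc A z = c⁻¹ • (c • A z) := by rw [smul_smul, inv_mul_cancel₀ hc0, one_smul]
      _ = c⁻¹ • z := by rw [← h1]
  obtain ⟨f₁, hf₁, hk₁⟩ := Submodule.exists_le_ker_of_notMem ha
  obtain ⟨f₂, hf₂, hk₂⟩ := Submodule.exists_le_ker_of_notMem hb
  have hzmem : z ∈ Submodule.span F {z} := Submodule.mem_span_singleton_self z
  have h1z : f₁ z = 0 := LinearMap.mem_ker.1 (hk₁ hzmem)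
  have h2z : f₂ z = 0 := LinearMap.mem_ker.1 (hk₂ hzmem)
  -- a functional `φ` with `φ z = 0`, `φ (A⁻¹ z) ≠ 0`, `φ (A z) ≠ 0`
  obtain ⟨φ, hφz, hφa, hφb⟩ : ∃ φ : V →ₗ[F] F, φ z = 0 ∧ φ (A.symm z) ≠ 0 ∧ φ (A z) ≠ 0 := by
    by_cases h1 : f₁ (A z) = 0
    · by_cases h2 : f₂ (A.symm z) = 0
      · refine ⟨f₁ + f₂, ?_, ?_, ?_⟩
        · rw [LinearMap.add_apply, h1z, h2z, add_zero]
        · rw [LinearMap.add_apply, h2, add_zero]
          exact hf₁
        · rw [LinearMap.add_apply, h1, zero_add]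
          exact hf₂
      · exact ⟨f₂, h2z, h2, hf₂⟩
    · exact ⟨f₁, h1z, hf₁, h1⟩
  refine ⟨(s / φ (A.symm z)) • φ, ?_, ?_, ?_⟩
  · rw [LinearMap.smul_apply, hφz, smul_zero]
  · rw [LinearMap.smul_apply, smul_eq_mul, div_mul_cancel₀ s hφa]
  · rw [LinearMap.smul_apply, smul_eq_mul]
    exact mul_ne_zero (div_ne_zero hs hφa) hφb

end Cfsg.Agent.Helper63.Ore
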