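import Cfsg.Agent.Helper63.S6C2x
import Cfsg.Agent.Helper65.S6R5

/-!
# (C2) of helper62's S3333 farm (#10685): the case `N ∩ L = S⟨f²⟩`, with helper65's (R5) `transfer`
plugged in; only (R4) `simple_normalClosure` remains a hypothesis.
-/

set_option autoImplicit false
open Cfsg

namespace Cfsg.Agent.Helper63.S6

open Cfsg.Agent.Helper62.S6 Cfsg.Agent.Helper62.D8

universe u

variable {G : Type u} [Group G] [Finite G]
variable {S : Subgroup G} {x y t f : G}

/-- (C2) `N ∩ L = S⟨f²⟩`; `hsimple` is (R4) `simple_normalClosure h hn`. -/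
theorem case_Z2_core (h : Cfg S x y t f)
    (hsimple : IsSimpleGroup ↥(Subgroup.normalClosure (S : Set G)))
    (hf : f ∉ Subgroup.normalClosure (S : Set G)) (ht : t ∉ Subgroup.normalClosure (S : Set G))
    (hft : f * t ∉ Subgroup.normalClosure (S : Set G))
    (hz : f ^ 2 ∈ Subgroup.normalClosure (S : Set G)) : False :=
  case_Z2_of h hsimple
    (Cfsg.Agent.Helper65.S6.transfer h (Subgroup.normalClosure (S : Set G))
      Subgroup.le_normalClosure) hf ht hft hz

end Cfsg.Agent.Helper63.S6
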