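import Mathlib
import Cfsg.Agent.Helper21.A6Defs
import Cfsg.Agent.Helper63.A6_GA4

set_option autoImplicit false
set_option linter.unusedSectionVars false

namespace Cfsg.Agent.Helper63.A6GA5b

open Cfsg.Agent.Helper21.A6
open Cfsg.Agent.Helper63.A6GA4

universe u
variable {G : Type u} [Group G] [Finite G]

/-- if `N / T` has order `4` and `j ^ 2 ∉ T` then `N = T ∪ T j ∪ T j² ∪ T j³` and `j ^ 4 ∈ T` -/
theorem coset_decomp (T : Subgroup G)
    (hidx : (T.subgroupOf (Subgroup.normalizer (T : Set G))).index = 4)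
    (j : G) (hj : j ∈ Subgroup.normalizer (T : Set G)) (hj2 : j ^ 2 ∉ T) :
    j ^ 4 ∈ T ∧ ∀ n ∈ Subgroup.normalizer (T : Set G),
      ∃ t ∈ T, n = t ∨ n = t * j ∨ n = t * j ^ 2 ∨ n = t * j ^ 3 := by
  have : (T.subgroupOf (Subgroup.normalizer (T : Set G))).Normal := Subgroup.normal_in_normalizer
  set N := Subgroup.normalizer (T : Set G) with hNdef
  set H := T.subgroupOf N with hH
  have hcard : Nat.card (N ⧸ H) = 4 := by
    rw [← Subgroup.index_eq_card]; exact hidx
  set q : N ⧸ H := QuotientGroup.mk (⟨j, hj⟩ : N) with hq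
  have hmem : ∀ (n : N), (QuotientGroup.mk n : N ⧸ H) = 1 ↔ (n : G) ∈ T := by
    intro n
    rw [QuotientGroup.eq_one_iff, hH, Subgroup.mem_subgroupOf]
  have hq4 : q ^ 4 = 1 := by
    rw [← hcard]; exact pow_card_eq_one'
  have hq2 : q ^ 2 ≠ 1 := by
    intro h
    rw [hq, ← QuotientGroup.mk_pow, hmem] at h
    exact hj2 h
  have hoq : orderOf q = 4 := by
    have hd : orderOf q ∣ 2 ^ 2 := orderOf_dvd_of_pow_eq_one hq4
    obtain ⟨k, hk, hk'⟩ := (Nat.dvd_prime_pow Nat.prime_two).1 hd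
    interval_cases k
    · exfalso; apply hq2
      have h1 : q = 1 := orderOf_eq_one_iff.1 (by simpa using hk')
      rw [h1, one_pow]
    · exfalso; apply hq2; rw [← (show orderOf q = 2 by simpa using hk')]; exact pow_orderOf_eq_one q
    · simpa using hk'
  have htop : Subgroup.zpowers q = ⊤ := by
    apply Subgroup.eq_top_of_card_eq
    rw [Nat.card_zpowers, hoq, hcard]
  constructor
  · have : (QuotientGroup.mk ((⟨j, hj⟩ : N) ^ 4) : N ⧸ H) = 1 := by
      rw [QuotientGroup.mk_pow]; exact hq4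
    rw [hmem] at this
    exact this
  · intro n hn
    have h1 : (QuotientGroup.mk (⟨n, hn⟩ : N) : N ⧸ H) ∈ Subgroup.zpowers q := by
      rw [htop]; exact Subgroup.mem_top _
    rw [← mem_powers_iff_mem_zpowers] at h1
    obtain ⟨k, hk⟩ := h1
    have hk2 : q ^ (k % 4) = QuotientGroup.mk (⟨n, hn⟩ : N) := by
      rw [← hk, ← hoq, pow_mod_orderOf]
    have key : ∀ m : ℕ, q ^ m = QuotientGroup.mk (⟨n, hn⟩ : N) → n * (j ^ m)⁻¹ ∈ T := by
      intro m hm
      have : (QuotientGroup.mk ((⟨n, hn⟩ : N) * ((⟨j, hj⟩ : N) ^ m)⁻¹) : N ⧸ H) = 1 := by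
        rw [QuotientGroup.mk_mul, QuotientGroup.mk_inv, QuotientGroup.mk_pow, ← hq, hm,
          mul_inv_cancel]
      rw [hmem] at this
      exact this
    have hlt : k % 4 < 4 := Nat.mod_lt _ (by norm_num)
    refine ⟨n * (j ^ (k % 4))⁻¹, key _ hk2, ?_⟩
    interval_cases k % 4
    · left; simp
    · right; left; simp
    · right; right; left; simp
    · right; right; right; simp

/-- (GA5b) -/
theorem exists_ndata4 (T : Subgroup G) (hT : Hyp T) (hb : BasisStmt T)
    (hN : Nat.card (Subgroup.normalizer (T : Set G)) = 36)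
    (j : G) (hj : j ∈ Subgroup.normalizer (T : Set G)) (hj2 : j ^ 2 ∉ T) :
    ∃ x y : G, NData4 T x y j := by
  have hidx : (T.subgroupOf (Subgroup.normalizer (T : Set G))).index = 4 :=
    index_subgroupOf_normalizer T 9 4 hT.cardT (by norm_num) hN
  obtain ⟨hj4, memN⟩ := coset_decomp T hidx j hj hj2
  have hj2N : j ^ 2 ∈ Subgroup.normalizer (T : Set G) := Subgroup.pow_mem _ hj 2
  have hinv := hT.inverts_of_sq_mem hj2N hj2 (by rw [← pow_mul]; exact hj4)
  obtain ⟨x, hx, hx1⟩ : ∃ x ∈ T, x ≠ 1 := by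
    obtain ⟨x, _, hx, _, hx1, _⟩ := exists_basis T hT
    exact ⟨x, hx, hx1⟩
  have hx3 := hT.expT x hx
  set y := j * x * j⁻¹ with hy
  have hyT : y ∈ T := (Subgroup.mem_normalizer_iff.mp hj x).mp hx
  have hjy : j * y * j⁻¹ = x⁻¹ := by
    rw [← hinv x hx, hy, pow_two, mul_inv_rev]
    simp only [mul_assoc]
  have hconj_pow : ∀ i : ℕ, j * x ^ i * j⁻¹ = y ^ i := by
    intro i; rw [hy, conj_pow]
  have hyx : ∀ i : ℕ, y ≠ x ^ i := by
    intro i h
    -- `x⁻¹ = x ^ (i * i)`
    have h1 : x⁻¹ = x ^ (i * i) := by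
      rw [← hjy, h, hconj_pow, h, ← pow_mul]
    rw [pow_eq_pow_mod (i * i) hx3] at h1
    rw [pow_eq_pow_mod i hx3] at h
    have hlt : i % 3 < 3 := Nat.mod_lt _ (by norm_num)
    have hx2 : x⁻¹ ≠ x := by
      intro h2
      apply hx1
      have : x * x = 1 := by
        calc x * x = x⁻¹ * x := by rw [h2]
          _ = 1 := inv_mul_cancel x
      calc x = x ^ 3 * (x * x)⁻¹ := by rw [pow_succ, pow_two]; group
        _ = 1 := by rw [hx3, this]; simp
    rw [Nat.mul_mod] at h1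
    interval_cases i % 3
    · -- `y = 1`
      rw [pow_zero] at h
      apply hx1
      have : j * x * j⁻¹ = 1 := hy ▸ h
      calc x = j⁻¹ * (j * x * j⁻¹) * j := by group
        _ = 1 := by rw [this]; group
    · apply hx2; simpa using h1
    · apply hx2; simpa using h1
  obtain ⟨indep, memT⟩ := hb x hx hx1 y hyT hyx
  have hy1 : y ≠ 1 := by simpa using hyx 0
  exact ⟨x, y, hx3, hT.expT y hyT, hx1, hy1, hT.commT x hx y hyT, hT.commT, hx, hyT, indep, memT,
    hj, rfl, hjy, memN⟩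

end Cfsg.Agent.Helper63.A6GA5b
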