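import Mathlib
import Cfsg.Agent.Helper63.PGroup
import Cfsg.Agent.Helper63.CountP

/-!
# Groups with an abelian subgroup of prime index (helper63)

For a nonabelian group `S` with an abelian normal subgroup `A` of prime index `p`:
* `center_le_of_abelian_index_prime`: `Z(S) ≤ A`;
* `commHomS`: the homomorphism `a ↦ [a, s]` of `A`;
* `index_center_eq`: `[S : Z(S)] = p * |S'|`.
-/

set_option autoImplicit false

namespace Cfsg.Agent.Helper63

section

variable {S : Type*} [Group S]

/-- A subgroup of prime index is maximal. -/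
theorem eq_top_of_index_prime_of_not_le {A B : Subgroup S} {p : ℕ} (hp : p.Prime)
    (hAi : A.index = p) (hAB : A ≤ B) (hne : ¬ B ≤ A) : B = ⊤ := by
  have hdvd : B.index ∣ p := hAi ▸ Subgroup.index_dvd_of_le hAB
  rcases (Nat.dvd_prime hp).mp hdvd with h | h
  · exact Subgroup.index_eq_one.mp h
  · exfalso
    have hmul := Subgroup.relIndex_mul_index hAB
    rw [hAi, h] at hmul
    have h1 : A.relIndex B = 1 :=
      Nat.eq_of_mul_eq_mul_right hp.pos (by rw [hmul, one_mul])
    exact hne (Subgroup.relIndex_eq_one.mp h1)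

/-- A subgroup containing a subgroup `A` of prime index and an element outside `A` is `⊤`. -/
theorem eq_top_of_le_of_mem {A K : Subgroup S} {p : ℕ} (hp : p.Prime) (hAi : A.index = p)
    {s : S} (hs : s ∉ A) (hAK : A ≤ K) (hsK : s ∈ K) : K = ⊤ :=
  eq_top_of_index_prime_of_not_le hp hAi hAK (fun h => hs (h hsK))

theorem comm_of_mem_of_isMulCommutative {A : Subgroup S} (hA : IsMulCommutative ↥A) {a b : S}
    (ha : a ∈ A) (hb : b ∈ A) : a * b = b * a :=
  congrArg Subtype.val (hA.is_comm.comm ⟨a, ha⟩ ⟨b, hb⟩)

/-- If `S` is not abelian and `A` is an abelian subgroup of prime index then `Z(S) ≤ A`. -/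
theorem center_le_of_abelian_index_prime {A : Subgroup S} (hA : IsMulCommutative ↥A) {p : ℕ}
    (hp : p.Prime) (hAi : A.index = p) (hna : ¬ IsMulCommutative S) : Subgroup.center S ≤ A := by
  intro z hz
  by_contra hzA
  apply hna
  have hzc : ∀ g : S, g * z = z * g := fun g => (Subgroup.mem_center_iff.mp hz g)
  have h1 : A ≤ Subgroup.center S := by
    intro a ha
    have h2 : Subgroup.centralizer ({a} : Set S) = ⊤ := by
      refine eq_top_of_le_of_mem hp hAi hzA ?_ ?_
      · intro b hb
        rw [Subgroup.mem_centralizer_iff]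
        intro x hx
        rw [Set.mem_singleton_iff] at hx
        subst hx
        exact comm_of_mem_of_isMulCommutative hA ha hb
      · rw [Subgroup.mem_centralizer_iff]
        intro x hx
        rw [Set.mem_singleton_iff] at hx
        subst hx
        exact hzc x
    rw [Subgroup.mem_center_iff]
    intro g
    have hg : g ∈ Subgroup.centralizer ({a} : Set S) := by rw [h2]; exact Subgroup.mem_top g
    rw [Subgroup.mem_centralizer_iff] at hg
    exact (hg a rfl).symm
  have h3 : Subgroup.center S = ⊤ := eq_top_of_le_of_mem hp hAi hzA h1 hz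
  refine ⟨⟨fun a b => ?_⟩⟩
  have ha : a ∈ Subgroup.center S := by rw [h3]; exact Subgroup.mem_top a
  exact ((Subgroup.mem_center_iff.mp ha) b).symm

/-- The commutator map `a ↦ [a, s]` on an abelian normal subgroup `A`. -/
def commHomS (A : Subgroup S) [hn : A.Normal] (hA : IsMulCommutative ↥A) (s : S) : A →* A where
  toFun a := ⟨(a : S) * s * (a : S)⁻¹ * s⁻¹, by
    have h : (a : S) * s * (a : S)⁻¹ * s⁻¹ = a * (s * (a : S)⁻¹ * s⁻¹) := by group
    rw [h]
    exact A.mul_mem a.2 (hn.conj_mem _ (A.inv_mem a.2) s)⟩
  map_one' := by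
    apply Subtype.ext
    simp
  map_mul' a b := by
    apply Subtype.ext
    have ha' : s * (a : S)⁻¹ * s⁻¹ ∈ A := hn.conj_mem _ (A.inv_mem a.2) s
    have hb' : s * (b : S)⁻¹ * s⁻¹ ∈ A := hn.conj_mem _ (A.inv_mem b.2) s
    have hc : ((b : S) * (s * (b : S)⁻¹ * s⁻¹)) * (s * (a : S)⁻¹ * s⁻¹) =
        (s * (a : S)⁻¹ * s⁻¹) * ((b : S) * (s * (b : S)⁻¹ * s⁻¹)) :=
      comm_of_mem_of_isMulCommutative hA (A.mul_mem b.2 hb') ha'
    show ((a * b : A) : S) * s * ((a * b : A) : S)⁻¹ * s⁻¹ =
      ((a : S) * s * (a : S)⁻¹ * s⁻¹) * ((b : S) * s * (b : S)⁻¹ * s⁻¹)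
    rw [Subgroup.coe_mul]
    calc (a : S) * b * s * ((a : S) * b)⁻¹ * s⁻¹
        = a * (((b : S) * (s * (b : S)⁻¹ * s⁻¹)) * (s * (a : S)⁻¹ * s⁻¹)) := by group
      _ = a * ((s * (a : S)⁻¹ * s⁻¹) * ((b : S) * (s * (b : S)⁻¹ * s⁻¹))) := by rw [hc]
      _ = ((a : S) * s * (a : S)⁻¹ * s⁻¹) * ((b : S) * s * (b : S)⁻¹ * s⁻¹) := by group

theorem commHomS_apply_coe (A : Subgroup S) [A.Normal] (hA : IsMulCommutative ↥A) (s : S)
    (a : A) : ((commHomS A hA s a : A) : S) = (a : S) * s * (a : S)⁻¹ * s⁻¹ := rfl

/-- The kernel of `a ↦ [a, s]` is `Z(S) ∩ A` when `s ∉ A` and `A` has prime index. -/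
theorem ker_commHomS (A : Subgroup S) [A.Normal] (hA : IsMulCommutative ↥A) {p : ℕ}
    (hp : p.Prime) (hAi : A.index = p) {s : S} (hs : s ∉ A) :
    (commHomS A hA s).ker = (Subgroup.center S).subgroupOf A := by
  ext a
  rw [MonoidHom.mem_ker, Subgroup.mem_subgroupOf, Subtype.ext_iff, commHomS_apply_coe,
    Subgroup.coe_one]
  constructor
  · intro h
    have has : (a : S) * s = s * a := by
      calc (a : S) * s = ((a : S) * s * (a : S)⁻¹ * s⁻¹) * (s * a) := by group
        _ = s * a := by rw [h, one_mul]
    have h2 : Subgroup.centralizer ({(a : S)} : Set S) = ⊤ := by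
      refine eq_top_of_le_of_mem hp hAi hs ?_ ?_
      · intro b hb
        rw [Subgroup.mem_centralizer_iff]
        intro x hx
        rw [Set.mem_singleton_iff] at hx
        subst hx
        exact comm_of_mem_of_isMulCommutative hA a.2 hb
      · rw [Subgroup.mem_centralizer_iff]
        intro x hx
        rw [Set.mem_singleton_iff] at hx
        subst hx
        exact has
    rw [Subgroup.mem_center_iff]
    intro g
    have hg : g ∈ Subgroup.centralizer ({(a : S)} : Set S) := by
      rw [h2]; exact Subgroup.mem_top g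
    rw [Subgroup.mem_centralizer_iff] at hg
    exact (hg a rfl).symm
  · intro h
    have := Subgroup.mem_center_iff.mp h s
    calc (a : S) * s * (a : S)⁻¹ * s⁻¹ = (s * (a : S)) * (a : S)⁻¹ * s⁻¹ := by rw [this]
      _ = 1 := by group

/-- The image of `a ↦ [a, s]` is the derived subgroup when `s ∉ A` and `A` has prime index. -/
theorem map_range_commHomS (A : Subgroup S) [hn : A.Normal] (hA : IsMulCommutative ↥A) {p : ℕ}
    (hp : p.Prime) (hAi : A.index = p) {s : S} (hs : s ∉ A) :
    (commHomS A hA s).range.map A.subtype = commutator S := by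
  set I := (commHomS A hA s).range.map A.subtype with hI
  have hmemI : ∀ a ∈ A, a * s * a⁻¹ * s⁻¹ ∈ I := by
    intro a ha
    exact ⟨commHomS A hA s ⟨a, ha⟩, ⟨⟨a, ha⟩, rfl⟩, rfl⟩
  have hIA : I ≤ A := by
    rintro _ ⟨x, _, rfl⟩
    exact x.2
  have hIform : ∀ x ∈ I, ∃ a ∈ A, x = a * s * a⁻¹ * s⁻¹ := by
    rintro _ ⟨_, ⟨a, rfl⟩, rfl⟩
    exact ⟨a, a.2, rfl⟩
  apply le_antisymm
  · rintro _ ⟨_, ⟨a, rfl⟩, rfl⟩
    rw [commutator_def]
    exact Subgroup.commutator_mem_commutator (Subgroup.mem_top (a : S)) (Subgroup.mem_top s)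
  · -- `I` is normal
    have hnorm : Subgroup.normalizer (I : Set S) = ⊤ := by
      refine eq_top_of_le_of_mem hp hAi hs ?_ ?_
      · intro b hb
        rw [Subgroup.mem_normalizer_iff]
        intro x
        constructor
        · intro hx
          have : b * x * b⁻¹ = x := by
            have hc := comm_of_mem_of_isMulCommutative hA hb (hIA hx)
            calc b * x * b⁻¹ = (x * b) * b⁻¹ := by rw [hc]
              _ = x := by group
          rw [this]; exact hx
        · intro hx
          have hx' : b * x * b⁻¹ ∈ A := hIA hx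
          have hxA : x ∈ A := by
            have := hn.conj_mem _ hx' b⁻¹
            have h2 : b⁻¹ * (b * x * b⁻¹) * b⁻¹⁻¹ = x := by group
            rwa [h2] at this
          have : b * x * b⁻¹ = x := by
            have hc := comm_of_mem_of_isMulCommutative hA hb hxA
            calc b * x * b⁻¹ = (x * b) * b⁻¹ := by rw [hc]
              _ = x := by group
          rwa [this] at hx
      · rw [Subgroup.mem_normalizer_iff]
        intro x
        constructor
        · intro hx
          obtain ⟨a, ha, rfl⟩ := hIform x hx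
          have : s * (a * s * a⁻¹ * s⁻¹) * s⁻¹ =
              (s * a * s⁻¹) * s * (s * a * s⁻¹)⁻¹ * s⁻¹ := by group
          rw [this]
          exact hmemI _ (hn.conj_mem _ ha s)
        · intro hx
          obtain ⟨a, ha, hxa⟩ := hIform _ hx
          have : x = (s⁻¹ * a * s) * s * (s⁻¹ * a * s)⁻¹ * s⁻¹ := by
            calc x = s⁻¹ * (s * x * s⁻¹) * s := by group
              _ = s⁻¹ * (a * s * a⁻¹ * s⁻¹) * s := by rw [hxa]
              _ = (s⁻¹ * a * s) * s * (s⁻¹ * a * s)⁻¹ * s⁻¹ := by group
          rw [this]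
          have h2 : s⁻¹ * a * s ∈ A := by
            have := hn.conj_mem _ ha s⁻¹
            rwa [inv_inv] at this
          exact hmemI _ h2
    have hIn : I.Normal := Subgroup.normalizer_eq_top_iff.mp hnorm
    -- the quotient is commutative
    have hsc : Subgroup.comap (QuotientGroup.mk' I)
        (Subgroup.centralizer {QuotientGroup.mk' I s}) = ⊤ := by
      refine eq_top_of_le_of_mem hp hAi hs ?_ ?_
      · intro a ha
        rw [Subgroup.mem_comap, Subgroup.mem_centralizer_iff]
        intro x hx
        rw [Set.mem_singleton_iff] at hx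
        subst hx
        -- mk s * mk a = mk a * mk s
        have h1 : (QuotientGroup.mk' I) (a * s * a⁻¹ * s⁻¹) = 1 :=
          (QuotientGroup.eq_one_iff _).mpr (hmemI a ha)
        rw [map_mul, map_mul, map_mul, map_inv, map_inv] at h1
        have h2 : (QuotientGroup.mk' I) a * (QuotientGroup.mk' I) s =
            (QuotientGroup.mk' I) s * (QuotientGroup.mk' I) a := by
          calc (QuotientGroup.mk' I) a * (QuotientGroup.mk' I) s
              = ((QuotientGroup.mk' I) a * (QuotientGroup.mk' I) s * ((QuotientGroup.mk' I) a)⁻¹ *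
                  ((QuotientGroup.mk' I) s)⁻¹) * ((QuotientGroup.mk' I) s * (QuotientGroup.mk' I) a) := by
                group
            _ = (QuotientGroup.mk' I) s * (QuotientGroup.mk' I) a := by rw [h1, one_mul]
        exact h2.symm
      · rw [Subgroup.mem_comap, Subgroup.mem_centralizer_iff]
        intro x hx
        rw [Set.mem_singleton_iff] at hx
        subst hx
        rfl
    have hcen : Subgroup.comap (QuotientGroup.mk' I) (Subgroup.center (S ⧸ I)) = ⊤ := by
      refine eq_top_of_le_of_mem hp hAi hs ?_ ?_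
      · intro a ha
        rw [Subgroup.mem_comap, Subgroup.mem_center_iff]
        intro y
        obtain ⟨g, rfl⟩ := QuotientGroup.mk'_surjective I y
        -- the centralizer of mk a contains A and s
        have h3 : Subgroup.comap (QuotientGroup.mk' I)
            (Subgroup.centralizer {QuotientGroup.mk' I a}) = ⊤ := by
          refine eq_top_of_le_of_mem hp hAi hs ?_ ?_
          · intro b hb
            rw [Subgroup.mem_comap, Subgroup.mem_centralizer_iff]
            intro x hx
            rw [Set.mem_singleton_iff] at hx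
            subst hx
            rw [← map_mul, ← map_mul, comm_of_mem_of_isMulCommutative hA ha hb]
          · rw [Subgroup.mem_comap, Subgroup.mem_centralizer_iff]
            intro x hx
            rw [Set.mem_singleton_iff] at hx
            subst hx
            have hmem : a ∈ Subgroup.comap (QuotientGroup.mk' I)
                (Subgroup.centralizer {QuotientGroup.mk' I s}) := by
              rw [hsc]; exact Subgroup.mem_top a
            rw [Subgroup.mem_comap, Subgroup.mem_centralizer_iff] at hmem
            exact (hmem _ rfl).symm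
        have hg : g ∈ Subgroup.comap (QuotientGroup.mk' I)
            (Subgroup.centralizer {QuotientGroup.mk' I a}) := by
          rw [h3]; exact Subgroup.mem_top g
        rw [Subgroup.mem_comap, Subgroup.mem_centralizer_iff] at hg
        exact (hg _ rfl).symm
      · rw [Subgroup.mem_comap, Subgroup.mem_center_iff]
        intro y
        obtain ⟨g, rfl⟩ := QuotientGroup.mk'_surjective I y
        have hg : g ∈ Subgroup.comap (QuotientGroup.mk' I)
            (Subgroup.centralizer {QuotientGroup.mk' I s}) := by
          rw [hsc]; exact Subgroup.mem_top g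
        rw [Subgroup.mem_comap, Subgroup.mem_centralizer_iff] at hg
        exact (hg _ rfl).symm
    rw [commutator_def, Subgroup.commutator_le]
    intro g _ h _
    rw [← QuotientGroup.eq_one_iff, ← QuotientGroup.mk'_apply, map_commutatorElement,
      commutatorElement_eq_one_iff_commute]
    have hg : g ∈ Subgroup.comap (QuotientGroup.mk' I) (Subgroup.center (S ⧸ I)) := by
      rw [hcen]; exact Subgroup.mem_top g
    rw [Subgroup.mem_comap, Subgroup.mem_center_iff] at hg
    exact (hg _).symm

/-- `[S : Z(S)] = p * |S'|` for a nonabelian group with an abelian normal subgroup of prime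
index `p`. -/
theorem index_center_eq (A : Subgroup S) [A.Normal] (hA : IsMulCommutative ↥A) {p : ℕ}
    (hp : p.Prime) (hAi : A.index = p) (hna : ¬ IsMulCommutative S) :
    (Subgroup.center S).index = p * Nat.card (commutator S) := by
  obtain ⟨s, hs⟩ : ∃ s : S, s ∉ A := by
    by_contra h
    push Not at h
    have : A = ⊤ := eq_top_iff.mpr fun x _ => h x
    rw [this, Subgroup.index_top] at hAi
    exact hp.one_lt.ne hAi
  have hZA : Subgroup.center S ≤ A := center_le_of_abelian_index_prime hA hp hAi hna
  have h1 := Subgroup.relIndex_mul_index hZA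
  rw [hAi] at h1
  have h2 : (Subgroup.center S).relIndex A = Nat.card (commutator S) := by
    rw [Subgroup.relIndex, ← ker_commHomS A hA hp hAi hs, Subgroup.index_ker,
      ← map_range_commHomS A hA hp hAi hs]
    exact (Subgroup.card_map_of_injective A.subtype_injective).symm
  rw [← h1, h2, mul_comm]

end

end Cfsg.Agent.Helper63
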