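import Mathlib
import Cfsg.Agent.Helper71.Alp.Defs
import Cfsg.Agent.Lib.Cores
import Cfsg.Agent.S3779

/-!
# (T1) of #7728 for helper71's S3782 (Alperin): the `p'`-core has derived length at most `h(p)`
-/

set_option autoImplicit false

namespace Cfsg.Agent.Helper63.Alp

open Cfsg.Agent.Helper71.Alp

universe u

/-- the relative derived series is the image of the derived series of the subgroup -/
theorem map_derivedSeries_subtype_aux {G : Type*} [Group G] (H : Subgroup G) (k : ℕ) :
    (derivedSeries H k).map H.subtype = dser H k := by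
  induction k with
  | zero =>
    rw [derivedSeries_zero, dser_zero, ← MonoidHom.range_eq_map, Subgroup.range_subtype]
  | succ k ih =>
    rw [derivedSeries_succ, dser_succ, Subgroup.map_commutator, ih]

/-- powers of the restriction of an automorphism -/
theorem resAut_pow_coe {G : Type*} [Group G] (φ : MulAut G) (H : Subgroup G) (hH : Inv φ H)
    (j : ℕ) (x : H) : (((resAut φ H hH) ^ j) x : G) = (φ ^ j) (x : G) := by
  induction j generalizing x with
  | zero => simp
  | succ j ih =>
    rw [pow_succ, pow_succ, MulAut.mul_apply, MulAut.mul_apply, ih, resAut_coe]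

/-- a characteristic subgroup is invariant -/
theorem inv_of_characteristic_aux {G : Type*} [Group G] (φ : MulAut G) (H : Subgroup G)
    [hH : H.Characteristic] : Inv φ H := by
  intro x
  have h1 := hH.fixed φ
  constructor
  · intro hx
    have h2 : x ∈ H.comap φ.toMonoidHom := by rw [h1]; exact hx
    exact h2
  · intro hx
    have h2 : x ∈ H.comap φ.toMonoidHom := hx
    rw [h1] at h2
    exact h2

theorem dser_pPrimeCore_eq_bot {G : Type u} [Group G] [Finite G] {p n : ℕ} (hp : p.Prime)
    (φ : MulAut G) (hφ : orderOf φ = p) (hfix : Nat.card {g : G // φ g = g} = p ^ n) :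
    dser (Cfsg.pPrimeCore p G) (hc p) = ⊥ := by
  have : Fact p.Prime := ⟨hp⟩
  set K : Subgroup G := Cfsg.pPrimeCore p G with hKdef
  have : K.Characteristic := Cfsg.Agent.Lib.pPrimeCore_characteristic p
  have hcop : (Nat.card K).Coprime p := Cfsg.Agent.Lib.card_pPrimeCore_coprime p
  have hK : Inv φ K := inv_of_characteristic_aux φ K
  set ψ : MulAut K := resAut φ K hK with hψ
  have hψp : ψ ^ p = 1 := by
    ext x
    rw [resAut_pow_coe, ← hφ, pow_orderOf_eq_one]
    rfl
  -- `ψ` is fixed-point-free
  have hfpf : ∀ x : K, ψ x = x → x = 1 := by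
    intro x hx
    -- the fixed points of `φ` form a subgroup of order `p ^ n`
    let F : Subgroup G := (φ.toMonoidHom).eqLocus (MonoidHom.id G)
    have hF : Nat.card F = p ^ n := by
      rw [← hfix]
      exact Nat.card_congr (Equiv.subtypeEquivRight (fun g => Iff.rfl))
    have hxF : (x : G) ∈ F := by
      show φ (x : G) = (x : G)
      exact congrArg (fun y : K => (y : G)) hx
    have h1 : orderOf (x : G) ∣ p ^ n := by
      have := orderOf_dvd_natCard (⟨(x : G), hxF⟩ : F)
      rw [hF] at this
      rwa [← Subgroup.orderOf_coe] at this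
    have h2 : orderOf (x : G) ∣ Nat.card K := by
      rw [Subgroup.orderOf_coe]; exact orderOf_dvd_natCard x
    have h3 : orderOf (x : G) = 1 :=
      Nat.eq_one_of_dvd_coprimes (Nat.Coprime.pow_right n hcop) h2 h1
    exact Subtype.ext (orderOf_eq_one_iff.1 h3)
  have hord : orderOf ψ ∣ p := orderOf_dvd_of_pow_eq_one hψp
  rcases (Nat.dvd_prime hp).1 hord with h1 | h1
  · -- `ψ = 1`: every element is fixed, so `K = ⊥`
    have hψ1 : ψ = 1 := orderOf_eq_one_iff.1 h1
    have hbot : K = ⊥ := by
      rw [Subgroup.eq_bot_iff_forall]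
      intro x hx
      have := hfpf ⟨x, hx⟩ (by rw [hψ1]; rfl)
      exact congrArg (fun y : K => (y : G)) this
    rw [hbot]
    have : ∀ k, dser (⊥ : Subgroup G) k = ⊥ := by
      intro k
      induction k with
      | zero => rfl
      | succ k ih => rw [dser_succ, ih, Subgroup.commutator_bot_left]
    exact this _
  · have h3 := (Cfsg.Agent.S3779.result hp ψ h1 hfpf).2.2
    have h4 : derivedSeries K (hc p) = ⊥ := by
      rw [eq_bot_iff]
      have h5 := Subgroup.derived_le_lower_central (G := K) (hc p)
      have h6 : hc p = Finset.sum (Finset.range (2 ^ (p - 1) - 1)) (fun i => (p - 1) ^ i) := rfl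
      rw [h6, h3] at h5
      rw [h6]
      exact h5
    rw [← map_derivedSeries_subtype_aux, h4, Subgroup.map_bot]

end Cfsg.Agent.Helper63.Alp
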