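import Mathlib
import Cfsg.Agent.Helper71.Alp.Defs
import Cfsg.Agent.Helper54.BG36Frat
import Cfsg.Agent.Helper70.Regular
import Cfsg.Agent.Helper63.Frattini

/-!
# (T2a) of #7729 for helper71's S3782 (Alperin): the kernel of the action on the Frattini quotient
of `O_p(G)` lies in `O_p(G)` when `G` is solvable with `O_{p'}(G) = 1`
-/

set_option autoImplicit false

namespace Cfsg.Agent.Helper63.Alp

open Cfsg.Agent.Helper71.Alp
open scoped commutatorElement

/-- the image in `G` of the Frattini subgroup of a characteristic subgroup is characteristic -/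
theorem frattini_map_characteristic {G : Type*} [Group G] (P : Subgroup G) [P.Characteristic] :
    ((frattini ↥P).map P.subtype).Characteristic := by
  rw [Subgroup.characteristic_iff_map_le]
  intro φ
  rintro _ ⟨_, ⟨y, hy, rfl⟩, rfl⟩
  have hP : P.map φ.toMonoidHom = P := (Subgroup.characteristic_iff_map_eq.1 inferInstance) φ
  -- the restriction of `φ` to `P`
  let ψ : ↥P ≃* ↥P := (φ.subgroupMap P).trans (MulEquiv.subgroupCongr hP)
  have hψ : ∀ z : ↥P, ((ψ z : ↥P) : G) = φ (z : G) := fun z => rfl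
  have hmem : ψ y ∈ frattini ↥P := by
    have h1 := (Subgroup.characteristic_iff_map_le.1 (frattini_characteristic (G := ↥P))) ψ
    exact h1 ⟨y, hy, rfl⟩
  exact ⟨ψ y, hmem, hψ y⟩

theorem commutator_le_frattini_map {G : Type*} [Group G] [Finite G] {p : ℕ} [Fact p.Prime]
    (P : Subgroup G) (hP : IsPGroup p P) : ⁅P, P⁆ ≤ (frattini ↥P).map P.subtype := by
  have h1 : commutator ↥P ≤ frattini ↥P := Cfsg.Agent.Helper70.commutator_le_frattini hP
  have h2 := Subgroup.map_mono (f := P.subtype) h1
  rw [commutator_def, Subgroup.map_commutator, ← MonoidHom.range_eq_map, Subgroup.range_subtype]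
    at h2
  exact h2

theorem pow_mem_frattini_map {G : Type*} [Group G] [Finite G] {p : ℕ} [Fact p.Prime]
    (P : Subgroup G) (hP : IsPGroup p P) : ∀ x ∈ P, x ^ p ∈ (frattini ↥P).map P.subtype := by
  intro x hx
  exact ⟨(⟨x, hx⟩ : ↥P) ^ p, Cfsg.Agent.Helper63.pow_prime_mem_frattini hP ⟨x, hx⟩, rfl⟩

theorem exists_normal_le_pCore {G : Type*} [Group G] [Finite G] [Group.IsSolvable G] {p : ℕ}
    [Fact p.Prime] (hK : Cfsg.pPrimeCore p G = ⊥) :
    ∃ C : Subgroup G, C.Normal ∧ C ≤ Cfsg.pCore p G ∧
      C.index ≤ (((frattini ↥(Cfsg.pCore p G)).map (Cfsg.pCore p G).subtype).relIndex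
        (Cfsg.pCore p G)).factorial := by
  classical
  set P : Subgroup G := Cfsg.pCore p G with hPdef
  have : P.Characteristic := Cfsg.Agent.Lib.pCore_characteristic p
  have hPn : P.Normal := inferInstance
  set Φ : Subgroup G := (frattini ↥P).map P.subtype with hΦdef
  have : Φ.Characteristic := frattini_map_characteristic P
  have hΦn : Φ.Normal := inferInstance
  set Pb : Subgroup (G ⧸ Φ) := P.map (QuotientGroup.mk' Φ) with hPb
  have hPbn : Pb.Normal := hPn.map _ (QuotientGroup.mk'_surjective Φ)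
  -- the conjugation action of `G` on `P / Φ`
  let f : G →* MulAut ↥Pb := (MulAut.conjNormal (H := Pb)).comp (QuotientGroup.mk' Φ)
  have hker : ∀ a : G, a ∈ f.ker ↔
      QuotientGroup.mk' Φ a ∈ Subgroup.centralizer ((Pb : Subgroup (G ⧸ Φ)) : Set (G ⧸ Φ)) := by
    intro a
    rw [MonoidHom.mem_ker, Subgroup.mem_centralizer_iff]
    constructor
    · intro h x hx
      have h1 := congrArg (fun e : MulAut ↥Pb => ((e ⟨x, hx⟩ : ↥Pb) : G ⧸ Φ)) h
      simp only [f, MonoidHom.comp_apply, MulAut.conjNormal_apply, MulAut.one_apply] at h1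
      calc x * QuotientGroup.mk' Φ a = (QuotientGroup.mk' Φ a * x * (QuotientGroup.mk' Φ a)⁻¹) *
            QuotientGroup.mk' Φ a := by rw [h1]
        _ = QuotientGroup.mk' Φ a * x := by group
    · intro h
      ext ⟨x, hx⟩
      simp only [f, MonoidHom.comp_apply, MulAut.conjNormal_apply, MulAut.one_apply]
      rw [← h x hx]
      group
  refine ⟨f.ker, inferInstance, ?_, ?_⟩
  · -- `ker f` is a normal `p`-subgroup
    apply Cfsg.Agent.Lib.le_pCore inferInstance
    apply Cfsg.Agent.Helper55.isPGroup_of_forall_coprime_eq_one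
    intro a hcop
    have h1 : ((a : ↥f.ker) : G) = 1 := by
      apply Cfsg.Agent.Helper54.BG36P.eq_one_of_coprime_of_centralizes_mod_frattini hK Φ rfl
      · rw [Subgroup.orderOf_coe]; exact hcop
      · exact (hker _).1 a.2
    exact Subtype.ext h1
  · -- the index is at most `|P / Φ|!`
    rw [Subgroup.index_ker]
    have h1 : Nat.card ↥f.range ≤ Nat.card (MulAut ↥Pb) := Finite.card_subtype_le _
    have h2 : Nat.card (MulAut ↥Pb) ≤ Nat.card (Equiv.Perm ↥Pb) :=
      Nat.card_le_card_of_injective (MulAut.toPerm ↥Pb) (fun a b h => MulEquiv.toEquiv_injective h)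
    have h3 : Nat.card ↥Pb = Φ.relIndex P := by
      rw [hPb, ← Subgroup.relIndex_ker, QuotientGroup.ker_mk']
    rw [Nat.card_perm, h3] at h2
    exact h1.trans h2

end Cfsg.Agent.Helper63.Alp
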