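import Mathlib
import Cfsg.Agent.Helper71.Alp.Defs
import Cfsg.Agent.Lib.Cores
import Cfsg.Agent.Helper29.AlpD
import Cfsg.Agent.Helper53.AlpA1
import Cfsg.Agent.Helper59.AlpB1
import Cfsg.Agent.Helper63.AlpT1
import Cfsg.Agent.Helper63.AlpT2a

/-!
# (T2) of #7730 for helper71's S3782 (Alperin): the case `O_{p'}(G) = 1`, with (B1) and (P) as
explicit hypotheses
-/

set_option autoImplicit false

namespace Cfsg.Agent.Helper63.Alp

open Cfsg.Agent.Helper71.Alp

universe u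

/-- (T2) with the section bound (B1) and the `p`-group theorem (P) as explicit hypotheses. -/
theorem derivedSeries_eq_bot_of_pPrimeCore_eq_bot_of {G : Type u} [Group G] [Finite G] {p n : ℕ}
    (hp : p.Prime) [Group.IsSolvable G] (φ : MulAut G) (hφ : φ ^ p = 1) (hfix : FixLE φ (p ^ n))
    (hK : Cfsg.pPrimeCore p G = ⊥)
    (hB1 : ∀ X Y : Subgroup G, Y ≤ X → Inv φ X → Inv φ Y → ⁅X, X⁆ ≤ Y → (∀ x ∈ X, x ^ p ∈ Y) →
      Y.relIndex X ≤ p ^ (p * n))
    (hP : ∀ H : Subgroup G, IsPGroup p H → ∀ ψ : MulAut H, ψ ^ p = 1 → FixLE ψ (p ^ n) →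
      derivedSeries H (pBound p n) = ⊥) :
    derivedSeries G ((p ^ (p * n)).factorial + pBound p n) = ⊥ := by
  have : Fact p.Prime := ⟨hp⟩
  set P : Subgroup G := Cfsg.pCore p G with hPdef
  have hPc : P.Characteristic := Cfsg.Agent.Lib.pCore_characteristic p
  have hPp : IsPGroup p P := Cfsg.Agent.Lib.isPGroup_pCore p
  set Φ : Subgroup G := (frattini ↥P).map P.subtype with hΦdef
  have hΦc : Φ.Characteristic := frattini_map_characteristic P
  have hΦP : Φ ≤ P := by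
    rintro _ ⟨y, -, rfl⟩
    exact y.2
  have hInvP : Inv φ P := inv_of_characteristic_aux φ P
  have hInvΦ : Inv φ Φ := inv_of_characteristic_aux φ Φ
  have h1 : Φ.relIndex P ≤ p ^ (p * n) :=
    hB1 P Φ hΦP hInvP hInvΦ (commutator_le_frattini_map P hPp) (pow_mem_frattini_map P hPp)
  obtain ⟨C, hCn, hCP, hCi⟩ := exists_normal_le_pCore (G := G) (p := p) hK
  have hCi' : C.index ≤ (p ^ (p * n)).factorial := hCi.trans (Nat.factorial_le h1)
  have h2 : dser (⊤ : Subgroup G) ((p ^ (p * n)).factorial) ≤ P :=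
    (Cfsg.Agent.Helper29.Alp.dser_top_le_of_index_le C hCi').trans hCP
  -- the `p`-group theorem on `P`
  have hψp : (resAut φ P hInvP) ^ p = 1 := by
    ext x
    rw [resAut_pow_coe, hφ]
    rfl
  have h3 : derivedSeries P (pBound p n) = ⊥ :=
    hP P hPp (resAut φ P hInvP) hψp
      (Cfsg.Agent.Helper53.Alp.fixLE_resAut φ P hInvP (p ^ n) hfix)
  have h4 : dser P (pBound p n) = ⊥ := by
    rw [← Cfsg.Agent.Helper29.Alp.map_derivedSeries_subtype, h3, Subgroup.map_bot]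
  rw [← Cfsg.Agent.Helper29.Alp.dser_top, ← Cfsg.Agent.Helper29.Alp.dser_add, eq_bot_iff, ← h4]
  exact Cfsg.Agent.Helper29.Alp.dser_mono h2 _

/-- (T2) with only the `p`-group theorem (P) as an explicit hypothesis. -/
theorem derivedSeries_eq_bot_of_pPrimeCore_eq_bot_of_P {G : Type u} [Group G] [Finite G]
    {p n : ℕ} (hp : p.Prime) [Group.IsSolvable G] (φ : MulAut G) (hφ : φ ^ p = 1)
    (hfix : FixLE φ (p ^ n)) (hK : Cfsg.pPrimeCore p G = ⊥)
    (hP : ∀ H : Subgroup G, IsPGroup p H → ∀ ψ : MulAut H, ψ ^ p = 1 → FixLE ψ (p ^ n) →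
      derivedSeries H (pBound p n) = ⊥) :
    derivedSeries G ((p ^ (p * n)).factorial + pBound p n) = ⊥ :=
  derivedSeries_eq_bot_of_pPrimeCore_eq_bot_of hp φ hφ hfix hK
    (fun X Y hYX hX hY hab hexp =>
      Cfsg.Agent.Helper59.Alp.relIndex_le_of_exp hp φ hφ hfix X Y hYX hX hY hab hexp) hP

end Cfsg.Agent.Helper63.Alp
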