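import Mathlib

/-!
# Generators of an abelian `p`-group with an automorphism of order `p` (helper63)

* `exists_finset_closure_eq_top_of_card`: a finite `p`-group of order `p ^ n` is generated by at
  most `n` elements.
* `eq_top_of_sup_range_div`: `V` a finite abelian `p`-group, `α` an automorphism with `α ^ p = 1`,
  `U` an `α`-invariant subgroup with `U · [V, α] = V`; then `U = V`.
* `exists_generators_of_aut`: `V` is generated by `p * n` elements if `|C_V(α)| = p ^ n`.
-/

set_option autoImplicit false

namespace Cfsg.Agent.Helper63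

/-- A finite `p`-group of order `p ^ n` is generated by at most `n` elements. -/
theorem exists_finset_closure_eq_top_of_card {Q : Type*} [Group Q] [Finite Q] {p : ℕ}
    [hp : Fact p.Prime] (hQ : IsPGroup p Q) {n : ℕ} (hn : Nat.card Q = p ^ n) :
    ∃ S : Finset Q, S.card ≤ n ∧ Subgroup.closure (S : Set Q) = ⊤ := by
  classical
  have key : ∀ k : ℕ, ∃ S : Finset Q, S.card ≤ k ∧
      (Subgroup.closure (S : Set Q) = ⊤ ∨ p ^ k ≤ Nat.card (Subgroup.closure (S : Set Q))) := by
    intro k
    induction k with
    | zero =>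
      refine ⟨∅, le_rfl, Or.inr ?_⟩
      rw [pow_zero]
      exact Nat.one_le_iff_ne_zero.mpr Nat.card_pos.ne'
    | succ k ih =>
      obtain ⟨S, hS, h⟩ := ih
      rcases h with h | h
      · exact ⟨S, hS.trans (Nat.le_succ k), Or.inl h⟩
      · by_cases htop : Subgroup.closure (S : Set Q) = ⊤
        · exact ⟨S, hS.trans (Nat.le_succ k), Or.inl htop⟩
        · obtain ⟨x, hx⟩ : ∃ x : Q, x ∉ Subgroup.closure (S : Set Q) := by
            by_contra hne
            push Not at hne
            exact htop (eq_top_iff.mpr fun y _ => hne y)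
          refine ⟨insert x S, (Finset.card_insert_le x S).trans (Nat.succ_le_succ hS), Or.inr ?_⟩
          have hle : Subgroup.closure (S : Set Q) ≤ Subgroup.closure ((insert x S : Finset Q) : Set Q) := by
            apply Subgroup.closure_mono
            intro y hy
            exact Finset.mem_insert_of_mem hy
          have hxmem : x ∈ Subgroup.closure ((insert x S : Finset Q) : Set Q) :=
            Subgroup.subset_closure (Finset.mem_insert_self x S)
          set H := Subgroup.closure (S : Set Q) with hH
          set K := Subgroup.closure ((insert x S : Finset Q) : Set Q) with hK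
          obtain ⟨a, ha⟩ := (hQ.to_subgroup H).exists_card_eq
          obtain ⟨b, hb⟩ := (hQ.to_subgroup K).exists_card_eq
          have hdvd : Nat.card H ∣ Nat.card K := Subgroup.card_dvd_of_le hle
          have hne : Nat.card H ≠ Nat.card K := by
            intro heq
            have : H = K := Subgroup.eq_of_le_of_card_ge hle heq.ge
            exact hx (this ▸ hxmem)
          rw [ha, hb] at hdvd hne
          have hab : a ≤ b := (Nat.pow_dvd_pow_iff_le_right hp.out.one_lt).mp hdvd
          have hab' : a < b := lt_of_le_of_ne hab (fun h => hne (by rw [h]))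
          rw [ha] at h
          rw [hb]
          calc p ^ (k + 1) = p ^ k * p := pow_succ p k
            _ ≤ p ^ a * p := Nat.mul_le_mul_right p h
            _ = p ^ (a + 1) := (pow_succ p a).symm
            _ ≤ p ^ b := Nat.pow_le_pow_right hp.out.pos hab'
  obtain ⟨S, hS, h⟩ := key n
  refine ⟨S, hS, ?_⟩
  rcases h with h | h
  · exact h
  · apply Subgroup.eq_top_of_card_eq
    apply le_antisymm (Subgroup.card_le_card_group _)
    rw [hn]; exact h

section Aut

variable {V : Type*} [CommGroup V] [Finite V] {p : ℕ} [hp : Fact p.Prime]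

/-- The endomorphism `v ↦ α v / v` of an abelian group. -/
def autDiv (α : MulAut V) : V →* V := α.toMonoidHom / MonoidHom.id V

omit [Finite V] in
theorem autDiv_apply (α : MulAut V) (v : V) : autDiv α v = α v / v := rfl

omit [Finite V] in
theorem mem_ker_autDiv (α : MulAut V) (v : V) : v ∈ (autDiv α).ker ↔ α v = v := by
  rw [MonoidHom.mem_ker, autDiv_apply, div_eq_one]

/-- `|V / [V, α]| = |C_V(α)|`. -/
theorem index_range_autDiv (α : MulAut V) :
    (autDiv α).range.index = Nat.card {v : V // α v = v} := by
  have h1 : Nat.card (autDiv α).ker = Nat.card {v : V // α v = v} :=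
    Nat.card_congr (Equiv.subtypeEquivRight (mem_ker_autDiv α))
  have h2 : Nat.card (autDiv α).range = (autDiv α).ker.index := by
    rw [Subgroup.index_eq_card]
    exact Nat.card_congr (QuotientGroup.quotientKerEquivRange (autDiv α)).symm.toEquiv
  have h3 := Subgroup.card_mul_index (autDiv α).ker
  have h4 := Subgroup.card_mul_index (autDiv α).range
  rw [← h2] at h3
  have h5 : Nat.card (autDiv α).range * (autDiv α).range.index =
      Nat.card (autDiv α).range * Nat.card (autDiv α).ker := by
    rw [h4, mul_comm, h3]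
  rw [← h1]
  exact Nat.eq_of_mul_eq_mul_left Nat.card_pos h5

/-- `V` a finite abelian `p`-group, `α` an automorphism with `α ^ p = 1`, `U` an `α`-invariant
subgroup with `U · [V, α] = V`; then `U = V`. -/
theorem eq_top_of_sup_range_autDiv (hV : IsPGroup p V) (α : MulAut V) (hα : α ^ p = 1)
    (U : Subgroup V) (hU : ∀ u ∈ U, α u ∈ U) (hsup : U ⊔ (autDiv α).range = ⊤) : U = ⊤ := by
  classical
  by_contra hne
  have hmap : U.map α.toMonoidHom = U := by
    apply Subgroup.eq_of_le_of_card_ge
    · rintro _ ⟨u, hu, rfl⟩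
      exact hU u hu
    · rw [Subgroup.card_map_of_injective α.injective]
  -- the induced automorphism of `V ⧸ U`
  let e : V ⧸ U ≃* V ⧸ U := QuotientGroup.congr U U α hmap
  have he : ∀ v : V, e (v : V ⧸ U) = ((α v : V) : V ⧸ U) := fun v => rfl
  let σ : Equiv.Perm (V ⧸ U) := e.toEquiv
  have hσ : ∀ (k : ℕ) (v : V), (σ ^ k) (v : V ⧸ U) = (((α ^ k) v : V) : V ⧸ U) := by
    intro k
    induction k with
    | zero => intro v; rfl
    | succ k ih =>
      intro v
      rw [pow_succ', Equiv.Perm.mul_apply, ih, pow_succ', MulAut.mul_apply]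
      rfl
  have hσp : σ ^ p ^ 1 = 1 := by
    rw [pow_one]
    ext q
    obtain ⟨v, rfl⟩ := QuotientGroup.mk_surjective q
    rw [hσ, hα]
    rfl
  have hfin : Fintype (V ⧸ U) := Fintype.ofFinite _
  have hdvd : p ∣ Fintype.card (V ⧸ U) := by
    rw [← Nat.card_eq_fintype_card, ← Subgroup.index_eq_card]
    obtain ⟨k, hk⟩ := hV.index U
    rw [hk]
    have hk0 : k ≠ 0 := by
      rintro rfl
      rw [pow_zero, Subgroup.index_eq_one] at hk
      exact hne hk
    exact dvd_pow_self p hk0
  have h1 : σ ((1 : V) : V ⧸ U) = ((1 : V) : V ⧸ U) := by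
    have := hσ 1 1
    rw [pow_one, pow_one, map_one] at this
    exact this
  obtain ⟨q, hq1, hq2⟩ := Equiv.Perm.exists_fixed_point_of_prime' hdvd hσp h1
  obtain ⟨v, rfl⟩ := QuotientGroup.mk_surjective q
  have hvU : v ∉ U := by
    intro hv
    apply hq2
    rw [QuotientGroup.mk_one, QuotientGroup.eq_one_iff]
    exact hv
  have hfix : autDiv α v ∈ U := by
    have h2 : ((α v : V) : V ⧸ U) = (v : V ⧸ U) := hq1
    rw [autDiv_apply, div_eq_mul_inv, ← QuotientGroup.eq_one_iff, QuotientGroup.mk_mul,
      QuotientGroup.mk_inv, h2, mul_inv_cancel]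
  -- the map induced by `autDiv α` on `V ⧸ U` is surjective, hence injective
  have hUd : U ≤ U.comap (autDiv α) := by
    intro u hu
    rw [Subgroup.mem_comap, autDiv_apply]
    exact U.div_mem (hU u hu) hu
  let d : V ⧸ U →* V ⧸ U := QuotientGroup.map U U (autDiv α) hUd
  have hd : ∀ w : V, d (w : V ⧸ U) = ((autDiv α w : V) : V ⧸ U) := fun w => rfl
  have hsurj : Function.Surjective d := by
    intro q
    obtain ⟨w, rfl⟩ := QuotientGroup.mk_surjective q
    have hw : w ∈ U ⊔ (autDiv α).range := by rw [hsup]; exact Subgroup.mem_top w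
    obtain ⟨u, hu, r, ⟨w', rfl⟩, rfl⟩ := Subgroup.mem_sup.mp hw
    refine ⟨(w' : V ⧸ U), ?_⟩
    rw [hd, QuotientGroup.mk_mul, (QuotientGroup.eq_one_iff u).mpr hu, one_mul]
  have hinj : Function.Injective d := Finite.injective_iff_surjective.mpr hsurj
  have h3 : d (v : V ⧸ U) = d ((1 : V) : V ⧸ U) := by
    rw [hd, hd, map_one, (QuotientGroup.eq_one_iff _).mpr hfix]
    rfl
  have h4 := hinj h3
  rw [QuotientGroup.mk_one, QuotientGroup.eq_one_iff] at h4
  exact hvU h4

/-- `V` a finite abelian `p`-group, `α` an automorphism with `α ^ p = 1` and `|C_V(α)| = p ^ n`.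
Then `V` is generated by `p * n` elements. -/
theorem exists_generators_of_aut (hV : IsPGroup p V) (α : MulAut V) (hα : α ^ p = 1) (n : ℕ)
    (hfix : Nat.card {v : V // α v = v} = p ^ n) :
    ∃ S : Finset V, S.card ≤ p * n ∧ Subgroup.closure (S : Set V) = ⊤ := by
  classical
  set R := (autDiv α).range with hR
  have hQcard : Nat.card (V ⧸ R) = p ^ n := by
    rw [← Subgroup.index_eq_card, hR, index_range_autDiv, hfix]
  have hQp : IsPGroup p (V ⧸ R) := hV.to_quotient R
  obtain ⟨Sbar, hSbar, hclos⟩ := exists_finset_closure_eq_top_of_card hQp hQcard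
  have hsurj : Function.Surjective (QuotientGroup.mk' R) := QuotientGroup.mk'_surjective R
  let s : V ⧸ R → V := Function.surjInv hsurj
  have hs : ∀ q, QuotientGroup.mk' R (s q) = q := Function.surjInv_eq hsurj
  let S₀ : Finset V := Sbar.image s
  have hS₀ : S₀.card ≤ n := Finset.card_image_le.trans hSbar
  let S : Finset V := (Finset.range p).biUnion (fun i => S₀.image (fun v => (α ^ i) v))
  have hScard : S.card ≤ p * n := by
    calc S.card ≤ ∑ i ∈ Finset.range p, (S₀.image (fun v => (α ^ i) v)).card :=
          Finset.card_biUnion_le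
      _ ≤ ∑ _i ∈ Finset.range p, n :=
          Finset.sum_le_sum (fun i _ => Finset.card_image_le.trans hS₀)
      _ = p * n := by rw [Finset.sum_const, Finset.card_range, smul_eq_mul]
  have hmemS : ∀ v : V, v ∈ S ↔ ∃ i < p, ∃ s₀ ∈ S₀, (α ^ i) s₀ = v := by
    intro v
    simp only [S, Finset.mem_biUnion, Finset.mem_range, Finset.mem_image]
  refine ⟨S, hScard, ?_⟩
  set U := Subgroup.closure (S : Set V) with hUdef
  -- `U` is `α`-invariant
  have hUinv : ∀ u ∈ U, α u ∈ U := by
    have : U.map α.toMonoidHom ≤ U := by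
      rw [hUdef, MonoidHom.map_closure, Subgroup.closure_le]
      rintro _ ⟨v, hv, rfl⟩
      obtain ⟨i, hi, s₀, hs₀, rfl⟩ := (hmemS v).mp hv
      apply Subgroup.subset_closure
      apply (hmemS _).mpr
      by_cases hip : i + 1 < p
      · refine ⟨i + 1, hip, s₀, hs₀, ?_⟩
        rw [pow_succ', MulAut.mul_apply]
        rfl
      · have hip' : i + 1 = p := by omega
        refine ⟨0, hp.out.pos, s₀, hs₀, ?_⟩
        have : α ((α ^ i) s₀) = (α ^ (i + 1)) s₀ := by
          rw [pow_succ', MulAut.mul_apply]
        show (α ^ 0) s₀ = α ((α ^ i) s₀)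
        rw [this, hip', hα, pow_zero]
    intro u hu
    exact this (Subgroup.mem_map_of_mem _ hu)
  -- `U R = V`
  have hsup : U ⊔ R = ⊤ := by
    have h1 : U.map (QuotientGroup.mk' R) = ⊤ := by
      rw [eq_top_iff, ← hclos, hUdef, MonoidHom.map_closure, Subgroup.closure_le]
      intro q hq
      apply Subgroup.subset_closure
      refine ⟨s q, ?_, hs q⟩
      apply (hmemS _).mpr
      exact ⟨0, hp.out.pos, s q, Finset.mem_image_of_mem s hq, by rw [pow_zero]; rfl⟩
    have h2 := congrArg (Subgroup.comap (QuotientGroup.mk' R)) h1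
    rw [Subgroup.comap_map_eq, QuotientGroup.ker_mk', Subgroup.comap_top] at h2
    exact h2
  exact eq_top_of_sup_range_autDiv hV α hα U hUinv hsup

end Aut

end Cfsg.Agent.Helper63
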