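import Mathlib
import Cfsg.Prelude.Def_OddOrderLocal
import Cfsg.Agent.S1414
import Cfsg.Agent.Helper23.BG13D
import Cfsg.Agent.Helper63.BG13C

/-!
# Lemma C in the shape of `Helper23.BG13.LemmaC`

`lemmaC_of`: `Helper23.BG13.LemmaC G` from `Hyp1217` for all maximal subgroups (S1414 is used
directly, it is landed).
-/

set_option autoImplicit false
set_option linter.unusedSectionVars false

namespace Cfsg.Agent.Helper63.BG13C

open Cfsg Cfsg.Agent.Helper29.BG10 Cfsg.Agent.Helper64.BG1218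

variable {G : Type*} [Group G] [Finite G]

/-- The normal `p`-complement clause of S1414. -/
theorem h1414_npc (hG : Cfsg.IsMinSimpleOddOrder G) {H : Subgroup G} (hH : IsCoatom H) :
    ∀ q : ℕ, q.Prime → q ∣ Nat.card ↥H → q ∉ Cfsg.beta H →
      Cfsg.HasNormalPComplement q ↥⁅H, H⁆ :=
  fun q hq hqH hqβ => ((Cfsg.Agent.S1414.result hG H hH).2.2.2.2 q hq hqH hqβ).1

/-- **Lemma C** in helper23's statement shape. -/
theorem lemmaC_of (hG : Cfsg.IsMinSimpleOddOrder G) (hU : UniquenessThm G)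
    (h17 : ∀ M : Subgroup G, IsCoatom M → Hyp1217 M) : Cfsg.Agent.Helper23.BG13.LemmaC G := by
  intro M H hM hH _ p _ hp hpH Y hY1 hYσ hYH'
  exact (lemma_13_1c_sigma hG hU (h17 M hM) hp hH hpH (h1414_npc hG hH) hY1 hYσ hYH').1

end Cfsg.Agent.Helper63.BG13C
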