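import Mathlib

set_option autoImplicit false

namespace Cfsg.Agent.Helper63

open Subgroup

/-- If all commutators `[b, x]`, `b ∈ B`, are central, then `b ↦ [b, x]` is a homomorphism `B → Z(G)` with
kernel `C_B(x)`; hence `|B| ≤ |C_B(x)| · |Z(G)|`. -/
theorem card_le_of_commutator_central {G : Type*} [Group G] [Finite G] (B : Subgroup G) (x : G)
    (hc : ∀ b ∈ B, b * x * b⁻¹ * x⁻¹ ∈ Subgroup.center G) :
    Nat.card B ≤ Nat.card ↥(B ⊓ Subgroup.centralizer {x}) * Nat.card (Subgroup.center G) := by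
  let ψ : B →* Subgroup.center G :=
    { toFun := fun b => ⟨(b : G) * x * (b : G)⁻¹ * x⁻¹, hc b b.2⟩
      map_one' := by apply Subtype.ext; simp
      map_mul' := by
        intro g h
        apply Subtype.ext
        show (g : G) * h * x * ((g : G) * h)⁻¹ * x⁻¹
          = ((g : G) * x * (g : G)⁻¹ * x⁻¹) * ((h : G) * x * (h : G)⁻¹ * x⁻¹)
        have hcen := Subgroup.mem_center_iff.mp (hc h h.2)
        calc (g : G) * h * x * ((g : G) * h)⁻¹ * x⁻¹
            = (g : G) * ((h : G) * x * (h : G)⁻¹ * x⁻¹) * (x * (g : G)⁻¹ * x⁻¹) := by group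
          _ = ((h : G) * x * (h : G)⁻¹ * x⁻¹) * (g : G) * (x * (g : G)⁻¹ * x⁻¹) := by rw [hcen (g : G)]
          _ = ((h : G) * x * (h : G)⁻¹ * x⁻¹) * ((g : G) * x * (g : G)⁻¹ * x⁻¹) := by group
          _ = ((g : G) * x * (g : G)⁻¹ * x⁻¹) * ((h : G) * x * (h : G)⁻¹ * x⁻¹) := by
              rw [← hcen ((g : G) * x * (g : G)⁻¹ * x⁻¹)] }
  have hker : ψ.ker = (Subgroup.centralizer ({x} : Set G)).subgroupOf B := by
    ext b
    rw [MonoidHom.mem_ker, Subgroup.mem_subgroupOf, Subgroup.mem_centralizer_iff]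
    constructor
    · intro h y hy
      rw [Set.mem_singleton_iff] at hy
      subst hy
      have h1 : (b : G) * y * (b : G)⁻¹ * y⁻¹ = 1 := congrArg Subtype.val h
      calc y * (b : G) = ((b : G) * y * (b : G)⁻¹ * y⁻¹)⁻¹ * ((b : G) * y) := by group
        _ = (b : G) * y := by rw [h1, inv_one, one_mul]
    · intro h
      apply Subtype.ext
      show (b : G) * x * (b : G)⁻¹ * x⁻¹ = 1
      have := h x rfl
      rw [← this]; group
  have h1 : ψ.ker.index = Nat.card ψ.range := Subgroup.index_ker ψ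
  have h2 : Nat.card ψ.range ≤ Nat.card (Subgroup.center G) := Subgroup.card_le_card_group ψ.range
  have h3 := Subgroup.card_mul_index ψ.ker
  rw [h1] at h3
  have h4 : Nat.card ψ.ker = Nat.card ↥(B ⊓ Subgroup.centralizer {x}) := by
    rw [hker, inf_comm, ← Subgroup.card_map_of_injective (Subgroup.subtype_injective B),
      Subgroup.subgroupOf_map_subtype]
  rw [← h3, h4]
  exact Nat.mul_le_mul_left _ h2

end Cfsg.Agent.Helper63
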