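import Mathlib
import Cfsg.Agent.Helper63.PLenQuot
import Cfsg.Agent.S0043
import Cfsg.Agent.Lib.Hall

/-!
# Hall–Higman bound on the derived length (helper63)

For a finite solvable group `G`, primes `q i` covering the prime divisors of `|G|`, with the
Sylow `q i`-subgroups of derived length at most `d i` and `G` of `q i`-length at most `l i`:
`G` has derived length at most `∑ d i * l i`.
-/

set_option autoImplicit false

namespace Cfsg.Agent.Helper63

open Cfsg Cfsg.Agent.Lib Cfsg.Agent.Helper11 Cfsg.Agent.S0044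

universe u

/-- The hypotheses. -/
structure DLData {r : ℕ} (q : Fin r → ℕ) (d l : Fin r → ℕ) (G : Type u) [Group G] : Prop where
  cover : ∀ s : ℕ, s.Prime → s ∣ Nat.card G → ∃ i, q i = s
  sylow : ∀ i, ∀ S : Sylow (q i) G, dser (S : Subgroup G) (d i) = ⊥
  plen : ∀ i, PLengthLE (q i) (l i) G

theorem DLData.cover_quotient {r : ℕ} {q : Fin r → ℕ} {d l : Fin r → ℕ} {G : Type u} [Group G]
    [Finite G] (h : DLData q d l G) (N : Subgroup G) [N.Normal] :
    ∀ s : ℕ, s.Prime → s ∣ Nat.card (G ⧸ N) → ∃ i, q i = s :=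
  fun s hs hdvd => h.cover s hs (hdvd.trans (Subgroup.card_quotient_dvd_card N))

theorem DLData.sylow_quotient {r : ℕ} {q : Fin r → ℕ} (hq : ∀ i, (q i).Prime) {d l : Fin r → ℕ}
    {G : Type u} [Group G] [Finite G] (h : DLData q d l G) (N : Subgroup G) [N.Normal] :
    ∀ i, ∀ S : Sylow (q i) (G ⧸ N), dser (S : Subgroup (G ⧸ N)) (d i) = ⊥ := by
  intro i S'
  have : Fact (q i).Prime := ⟨hq i⟩
  obtain ⟨S, hS⟩ := Sylow.mapSurjective_surjective (QuotientGroup.mk'_surjective N) (q i) S'
  have h1 : (S' : Subgroup (G ⧸ N)) = (S : Subgroup G).map (QuotientGroup.mk' N) := by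
    rw [← hS]; rfl
  rw [h1, ← map_dser, h.sylow i S, Subgroup.map_bot]

/-- If the derived series of `G ⧸ N` vanishes at `D`, then `G^(D) ≤ N`. -/
theorem derivedSeries_le_of_quotient {G : Type u} [Group G] (N : Subgroup G) [N.Normal] {D : ℕ}
    (h : derivedSeries (G ⧸ N) D = ⊥) : derivedSeries G D ≤ N := by
  have h1 := map_derivedSeries_eq (QuotientGroup.mk'_surjective N) D
  rw [h] at h1
  intro x hx
  have : QuotientGroup.mk' N x ∈ (derivedSeries G D).map (QuotientGroup.mk' N) :=
    Subgroup.mem_map_of_mem _ hx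
  rw [h1, Subgroup.mem_bot, QuotientGroup.mk'_apply, QuotientGroup.eq_one_iff] at this
  exact this

theorem card_quotient_lt {G : Type u} [Group G] [Finite G] (N : Subgroup G) [N.Normal]
    (hN : N ≠ ⊥) : Nat.card (G ⧸ N) < Nat.card G := by
  rw [Subgroup.card_eq_card_quotient_mul_card_subgroup N]
  have h1 : 1 < Nat.card N := by
    rcases Nat.lt_or_ge 1 (Nat.card N) with h | h
    · exact h
    · exfalso
      have h2 : Nat.card N = 1 := le_antisymm h Nat.card_pos
      exact hN (Subgroup.card_eq_one.mp h2)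
  calc Nat.card (G ⧸ N) = Nat.card (G ⧸ N) * 1 := (mul_one _).symm
    _ < Nat.card (G ⧸ N) * Nat.card N := Nat.mul_lt_mul_of_pos_left h1 Nat.card_pos

theorem derivedSeries_eq_bot_of_data {r : ℕ} (q : Fin r → ℕ) (hq : ∀ i, (q i).Prime)
    (d : Fin r → ℕ) :
    ∀ (n : ℕ) (G : Type u) [Group G] [Finite G], Nat.card G = n → Group.IsSolvable G →
      ∀ l : Fin r → ℕ, DLData q d l G → derivedSeries G (∑ i, d i * l i) = ⊥ := by
  intro n
  induction n using Nat.strong_induction_on with
  | _ n ih => ?_
  intro G _ _ hcard hsolv l hdata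
  by_cases htriv : Subsingleton G
  · rw [eq_bot_iff]
    intro x _
    rw [Subgroup.mem_bot]
    exact Subsingleton.elim x 1
  have hnt : Nontrivial G := not_subsingleton_iff_nontrivial.mp htriv
  obtain ⟨N, hNn, hNne, hmin⟩ := exists_minimal_normal (G := G)
  set D := ∑ i, d i * l i with hD
  by_cases hcase : ∃ N' : Subgroup G, N'.Normal ∧ N' ≠ ⊥ ∧ N ⊓ N' = ⊥
  · -- two independent minimal normal subgroups
    obtain ⟨N', hN'n, hN'ne, hNN'⟩ := hcase
    have h1 : derivedSeries G D ≤ N := by
      apply derivedSeries_le_of_quotient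
      exact ih _ (hcard ▸ card_quotient_lt N hNne) (G ⧸ N) rfl inferInstance l
        ⟨hdata.cover_quotient N, hdata.sylow_quotient hq N, fun i => pLengthLE_quotient N (hdata.plen i)⟩
    have h2 : derivedSeries G D ≤ N' := by
      apply derivedSeries_le_of_quotient
      exact ih _ (hcard ▸ card_quotient_lt N' hN'ne) (G ⧸ N') rfl inferInstance l
        ⟨hdata.cover_quotient N', hdata.sylow_quotient hq N',
          fun i => pLengthLE_quotient N' (hdata.plen i)⟩
    rw [eq_bot_iff, ← hNN']
    exact le_inf h1 h2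
  · -- `N` is the unique minimal normal subgroup
    push Not at hcase
    have hNle : ∀ N' : Subgroup G, N'.Normal → N' ≠ ⊥ → N ≤ N' := by
      intro N' hN'n hN'ne
      have h1 : (N ⊓ N').Normal := inferInstance
      rcases hmin (N ⊓ N') h1 inf_le_left with h | h
      · exact absurd h (hcase N' hN'n hN'ne)
      · rw [← h]; exact inf_le_right
    obtain ⟨-, p, hp, hNp⟩ := Cfsg.Agent.S0043.result N hNne hmin
    have hpf : Fact p.Prime := ⟨hp⟩
    have hNpg : IsPGroup p N := by
      intro x
      refine ⟨1, ?_⟩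
      ext
      simpa using hNp x.1 x.2
    have hpN : p ∣ Nat.card N := by
      obtain ⟨k, hk⟩ := hNpg.exists_card_eq
      have hk0 : k ≠ 0 := by
        rintro rfl
        rw [pow_zero] at hk
        exact hNne (Subgroup.card_eq_one.mp hk)
      rw [hk]; exact dvd_pow_self p hk0
    obtain ⟨i₀, hi₀⟩ := hdata.cover p hp (hpN.trans (Subgroup.card_subgroup_dvd_card N))
    subst hi₀
    -- `O_{p'}(G) = 1`
    have hOp' : pPrimeCore (q i₀) G = ⊥ := by
      by_contra hne
      have h1 := hNle _ inferInstance hne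
      have h2 : Nat.card N ∣ Nat.card (pPrimeCore (q i₀) G) := Subgroup.card_dvd_of_le h1
      have h3 := card_pPrimeCore_coprime (G := G) (q i₀)
      have h4 : q i₀ ∣ Nat.card (pPrimeCore (q i₀) G) := hpN.trans h2
      have := Nat.Coprime.eq_one_of_dvd h3.symm h4
      exact hp.one_lt.ne' this
    set U₁ := (upperPSeries (q i₀) G 1).1 with hU₁
    set U₂ := (upperPSeries (q i₀) G 2).1 with hU₂
    have hU0card : Nat.card (upperPSeries (q i₀) G 0).1 = 1 := by
      rw [upperPSeries_zero]; exact Subgroup.card_bot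
    have hU1 : U₁ = ⊥ := by
      have h1 : (Nat.card U₁).Coprime (q i₀) := by
        rw [hU₁, show (1 : ℕ) = 0 + 1 from rfl, upperPSeries_succ_even (q i₀) 0 (by decide),
          card_comap_mk', hU0card, one_mul]
        exact card_pPrimeCore_coprime _
      have h2 : U₁ ≤ pPrimeCore (q i₀) G := le_pPrimeCore inferInstance h1
      rw [hOp'] at h2
      exact le_bot_iff.mp h2
    have hU1card : Nat.card U₁ = 1 := by rw [hU1]; exact Subgroup.card_bot
    have hU2eq : U₂ = (pCore (q i₀) (G ⧸ U₁)).comap (QuotientGroup.mk' U₁) := by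
      rw [hU₂, show (2 : ℕ) = 1 + 1 from rfl, upperPSeries_succ_odd (q i₀) 1 (by decide)]
    have hU2p : IsPGroup (q i₀) U₂ := by
      obtain ⟨k, hk⟩ := (isPGroup_pCore (G := G ⧸ U₁) (q i₀)).exists_card_eq
      apply IsPGroup.of_card (n := k)
      rw [hU2eq, card_comap_mk', hU1card, one_mul, hk]
    have hNU2 : N ≤ U₂ := by
      rw [hU2eq]
      intro x hx
      rw [Subgroup.mem_comap]
      have h1 : N.map (QuotientGroup.mk' U₁) ≤ pCore (q i₀) (G ⧸ U₁) :=
        le_pCore (Subgroup.Normal.map hNn _ (QuotientGroup.mk'_surjective U₁))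
          (hNpg.map (QuotientGroup.mk' U₁))
      exact h1 (Subgroup.mem_map_of_mem _ hx)
    have hU2ne : U₂ ≠ ⊥ := by
      intro h
      rw [h] at hNU2
      exact hNne (le_bot_iff.mp hNU2)
    -- `l i₀ ≥ 1`
    have hl1 : 1 ≤ l i₀ := by
      by_contra h0
      have h0' : l i₀ = 0 := by omega
      have := hdata.plen i₀
      unfold PLengthLE at this
      rw [h0', Nat.mul_zero, Nat.zero_add, ← hU₁, hU1] at this
      exact (bot_ne_top (α := Subgroup G)) this
    -- the `p`-length of `G ⧸ U₂`
    have hplen : PLengthLE (q i₀) (l i₀ - 1) (G ⧸ U₂) := by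
      unfold PLengthLE
      have h1 := comap_upperPSeries_quotient (G := G) (q i₀) 2 (by decide) (2 * (l i₀ - 1) + 1)
      have h2 : 2 * (l i₀ - 1) + 1 + 2 = 2 * l i₀ + 1 := by omega
      rw [h2, hdata.plen i₀] at h1
      have h3 := congrArg (Subgroup.map (QuotientGroup.mk' U₂)) h1
      rw [Subgroup.map_comap_eq_self_of_surjective (QuotientGroup.mk'_surjective _),
        Subgroup.map_top_of_surjective _ (QuotientGroup.mk'_surjective _)] at h3
      exact h3
    set l' : Fin r → ℕ := fun i => if i = i₀ then l i₀ - 1 else l i with hl'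
    have hdata' : DLData q d l' (G ⧸ U₂) := by
      refine ⟨hdata.cover_quotient U₂, hdata.sylow_quotient hq U₂, ?_⟩
      intro i
      by_cases hi : i = i₀
      · subst hi
        simp only [hl', if_true]
        exact hplen
      · simp only [hl', if_neg hi]
        exact pLengthLE_quotient U₂ (hdata.plen i)
    have hIH := ih _ (hcard ▸ card_quotient_lt U₂ hU2ne) (G ⧸ U₂) rfl inferInstance l' hdata'
    have hle := derivedSeries_le_of_quotient U₂ hIH
    have hsum : D = (∑ i, d i * l' i) + d i₀ := by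
      have h1 : ∀ i, d i * l i = d i * l' i + (if i = i₀ then d i₀ else 0) := by
        intro i
        by_cases hi : i = i₀
        · subst hi
          simp only [hl', if_true]
          have : l i = (l i - 1) + 1 := by omega
          conv_lhs => rw [this]
          ring
        · simp only [hl', if_neg hi, add_zero]
      rw [hD, Finset.sum_congr rfl (fun i _ => h1 i), Finset.sum_add_distrib,
        Finset.sum_ite_eq' Finset.univ i₀]
      simp
    obtain ⟨S⟩ : Nonempty (Sylow (q i₀) G) := inferInstance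
    have hU2S : U₂ ≤ S := normal_pGroup_le_sylow inferInstance hU2p S
    rw [hsum, derivedSeries_add, eq_bot_iff, ← hdata.sylow i₀ S]
    exact (dser_mono hle _).trans (dser_mono hU2S _)

end Cfsg.Agent.Helper63
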