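import Cfsg.Agent.Helper18.E8Odd.Defs
import Cfsg.Agent.Helper63.E8Inv_D1core

/-!
helper63 for helper18 (S4281, E8INV-1), piece (D1): the Skel statement VERBATIM, from the light version
`triv_of_pos_core` (`aW` and `sr` are `abbrev`s).
-/

set_option autoImplicit false
set_option maxRecDepth 100000

namespace Cfsg.Agent.Helper63.E8Inv

open Cfsg Cfsg.Lie Cfsg.Agent.Helper18 Cfsg.Agent.Helper18.E8Odd Cfsg.Agent.Helper36.E8Odd Cfsg.Agent.Helper40.SL2Hom

/-- (D1) a word which maps all fundamental roots to positive roots acts trivially. -/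
theorem triv_of_pos (w : List ℕ) (hw : ∀ i ∈ w, i < 8) (h : ∀ i < 8, 120 ≤ aW w (sr i)) : ∀ x < 240, aW w x = x := by
  intro x hx
  exact triv_of_pos_core w hw h x hx

end Cfsg.Agent.Helper63.E8Inv
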