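import Cfsg.Agent.Helper38.FP.Defs

/-!
# (FFa) of helper38's S2276 farm (#10144): both full cycles, from two witnesses of opposite parity.
-/

set_option autoImplicit false

namespace Cfsg.Agent.Helper63.FP

open Equiv Cfsg.Agent.Helper38.FP

variable {α : Type} [Fintype α] [DecidableEq α] {p : ℕ}

/-- (FFa) both full cycles, from two witnesses of opposite parity. -/
theorem good_full_full_of_witness (u w : Perm α) (hu : IsFull u) (hw : IsFull w)
    (τ₀ τ' : Perm α) (h0 : Perm.sign τ₀ = -1) (h1 : Perm.sign τ' = 1)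
    (g0 : Good p u (τ₀ * u⁻¹ * τ₀⁻¹)) (g1 : Good p u (τ' * u⁻¹ * τ'⁻¹)) :
    ∃ g : Perm α, Perm.sign g = 1 ∧ Good p u (g * w * g⁻¹) := by
  have h2 : 2 ≤ Fintype.card α := by
    by_contra hlt
    have hle : Fintype.card α ≤ 1 := by omega
    have : Subsingleton α := Fintype.card_le_one_iff_subsingleton.1 hle
    have : τ₀ = 1 := Subsingleton.elim _ _
    rw [this, Perm.sign_one] at h0
    exact absurd h0 (by decide)
  have hct : w.cycleType = (u⁻¹).cycleType := by
    rw [Perm.cycleType_inv, hu.cycleType h2, hw.cycleType h2]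
  obtain ⟨h, hh⟩ := isConj_iff.1 ((Perm.isConj_iff_cycleType_eq).2 hct)
  rcases Int.units_eq_one_or (Perm.sign h) with hs | hs
  · refine ⟨τ' * h, by rw [Perm.sign_mul, h1, hs, one_mul], ?_⟩
    have e : τ' * h * w * (τ' * h)⁻¹ = τ' * u⁻¹ * τ'⁻¹ := by
      rw [← hh]; group
    rw [e]; exact g1
  · refine ⟨τ₀ * h, by rw [Perm.sign_mul, h0, hs]; decide, ?_⟩
    have e : τ₀ * h * w * (τ₀ * h)⁻¹ = τ₀ * u⁻¹ * τ₀⁻¹ := by
      rw [← hh]; group
    rw [e]; exact g0

end Cfsg.Agent.Helper63.FP
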