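import Cfsg.Agent.Helper38.FP.Defs

/-!
# (PT) of helper38's S2276 farm (#10151): partition into `p` invariant subsets of size `M`
(hypothesis version: the greedy lemma (GL) is an explicit hypothesis `hGL`).
-/

set_option autoImplicit false

namespace Cfsg.Agent.Helper63.FP

open Equiv Cfsg.Agent.Helper38.FP

variable {α : Type} [Fintype α] [DecidableEq α] {p : ℕ}

/-- the statement of the greedy lemma (GL) for a fixed `w`. -/
def GLHyp (w : Perm α) : Prop :=
  ∀ (S : Finset α), (∀ a, w a ∈ S ↔ a ∈ S) → ∀ x₀ : α, x₀ ∈ S →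
    (∀ y ∈ S, orderOf (w.cycleOf y) ≤ orderOf (w.cycleOf x₀)) →
    ∀ T : ℕ, 0 < T → (∀ y ∈ S, orderOf (w.cycleOf y) ∣ T) → T ≤ S.card →
    ∃ D : Finset α, D ⊆ S ∧ (∀ a, w a ∈ D ↔ a ∈ D) ∧ x₀ ∈ D ∧ D.card = T

/-- the inductive statement: `i` pairwise disjoint invariant subsets of size `M`. -/
theorem PT_step (w : Perm α) (hGL : GLHyp w) (hw1 : w ≠ 1) (M : ℕ)
    (hM : M * p = Fintype.card α) (hord : orderOf w ∣ M) (i : ℕ) (hi : i ≤ p) :
    ∃ D : ℕ → Finset α, (∀ j < i, (D j).card = M) ∧ (∀ j < i, ∀ a, w a ∈ D j ↔ a ∈ D j) ∧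
      (∀ k < i, ∀ j < i, k ≠ j → Disjoint (D k) (D j)) ∧ (0 < i → ∃ a ∈ D 0, w a ≠ a) := by
  have hM0 : 0 < M := by
    rcases Nat.eq_zero_or_pos M with h | h
    · exfalso
      rw [h, zero_mul] at hM
      have : IsEmpty α := Fintype.card_eq_zero_iff.1 hM.symm
      exact hw1 (Subsingleton.elim _ _)
    · exact h
  induction i with
  | zero =>
    exact ⟨fun _ => ∅, fun j hj => absurd hj (Nat.not_lt_zero j),
      fun j hj => absurd hj (Nat.not_lt_zero j),
      fun k hk => absurd hk (Nat.not_lt_zero k), fun h => absurd h (lt_irrefl 0)⟩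
  | succ i ih =>
    obtain ⟨D, hcard, hinv, hdisj, hmoved⟩ := ih (by omega)
    -- the union of the first `i` sets and its complement
    set U : Finset α := (Finset.range i).biUnion D with hU
    have hUcard : U.card = i * M := by
      rw [hU, Finset.card_biUnion]
      · rw [Finset.sum_congr rfl (fun j hj => hcard j (Finset.mem_range.1 hj))]
        simp
      · intro k hk j hj hkj
        exact hdisj k (Finset.mem_range.1 hk) j (Finset.mem_range.1 hj) hkj
    have hUinv : ∀ a, w a ∈ U ↔ a ∈ U := by
      intro a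
      simp only [hU, Finset.mem_biUnion, Finset.mem_range]
      constructor
      · rintro ⟨j, hj, h⟩; exact ⟨j, hj, (hinv j hj a).1 h⟩
      · rintro ⟨j, hj, h⟩; exact ⟨j, hj, (hinv j hj a).2 h⟩
    have hSinv : ∀ a, w a ∈ Uᶜ ↔ a ∈ Uᶜ := by
      intro a
      rw [Finset.mem_compl, Finset.mem_compl, hUinv]
    have hScard : (Uᶜ).card = (p - i) * M := by
      rw [Finset.card_compl, hUcard, ← hM, Nat.sub_mul, mul_comm M p]
    have hMS : M ≤ (Uᶜ).card := by
      rw [hScard]
      exact Nat.le_mul_of_pos_left M (by omega)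
    have hSne : (Uᶜ).Nonempty := by
      rw [← Finset.card_pos]; omega
    obtain ⟨x₀, hx₀, hmax⟩ := Finset.exists_max_image (Uᶜ) (fun y => orderOf (w.cycleOf y)) hSne
    obtain ⟨D', hD'S, hD'inv, hx₀D', hD'card⟩ := hGL (Uᶜ) hSinv x₀ hx₀ hmax M hM0
      (fun y _ => (Perm.orderOf_cycleOf_dvd_orderOf w y).trans hord) hMS
    refine ⟨Function.update D i D', ?_, ?_, ?_, ?_⟩
    · intro j hj
      by_cases hji : j = i
      · subst hji; rw [Function.update_self]; exact hD'card
      · rw [Function.update_of_ne hji]; exact hcard j (by omega)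
    · intro j hj a
      by_cases hji : j = i
      · subst hji; rw [Function.update_self]; exact hD'inv a
      · rw [Function.update_of_ne hji]; exact hinv j (by omega) a
    · have hdU : ∀ j < i, Disjoint (D j) D' := by
        intro j hj
        rw [Finset.disjoint_left]
        intro a haj haD'
        have h1 : a ∈ Uᶜ := hD'S haD'
        rw [Finset.mem_compl] at h1
        exact h1 (Finset.mem_biUnion.2 ⟨j, Finset.mem_range.2 hj, haj⟩)
      intro k hk j hj hkj
      by_cases hki : k = i
      · subst hki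
        have hjk : j ≠ k := fun h => hkj h.symm
        rw [Function.update_self, Function.update_of_ne hjk]
        exact (hdU j (by omega)).symm
      · by_cases hji : j = i
        · subst hji
          rw [Function.update_self, Function.update_of_ne hki]
          exact hdU k (by omega)
        · rw [Function.update_of_ne hki, Function.update_of_ne hji]
          exact hdisj k (by omega) j (by omega) hkj
    · intro _
      rcases Nat.eq_zero_or_pos i with hi0 | hi0
      · subst hi0
        rw [Function.update_self]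
        refine ⟨x₀, hx₀D', ?_⟩
        -- `U = ∅`, so `x₀` is a point of maximal cycle order, and `w ≠ 1`
        intro hfix
        apply hw1
        ext a
        have ha : a ∈ Uᶜ := by
          rw [Finset.mem_compl, hU]
          simp
        have h1 := hmax a ha
        have h2 : w.cycleOf x₀ = 1 := (Perm.cycleOf_eq_one_iff w).2 hfix
        simp only [h2, orderOf_one] at h1
        have h3 : orderOf (w.cycleOf a) = 1 :=
          le_antisymm h1 (orderOf_pos _)
        rw [orderOf_eq_one_iff, Perm.cycleOf_eq_one_iff] at h3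
        simpa using h3
      · have h0i : (0 : ℕ) ≠ i := by omega
        rw [Function.update_of_ne h0i]
        exact hmoved hi0

/-- (PT), with the greedy lemma as a hypothesis. -/
theorem exists_partition_of [Fact p.Prime] (w : Perm α) (hGL : GLHyp w) (hw1 : w ≠ 1) (M : ℕ)
    (hM : M * p = Fintype.card α) (hord : orderOf w ∣ M) :
    ∃ D : ℕ → Finset α, (∀ j < p, (D j).card = M) ∧ (∀ j < p, ∀ a, w a ∈ D j ↔ a ∈ D j) ∧
      (∀ i < p, ∀ j < p, i ≠ j → Disjoint (D i) (D j)) ∧ ∃ a ∈ D 0, w a ≠ a := by
  obtain ⟨D, h1, h2, h3, h4⟩ := PT_step w hGL hw1 M hM hord p le_rfl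
  exact ⟨D, h1, h2, h3, h4 (Fact.out : p.Prime).pos⟩

end Cfsg.Agent.Helper63.FP
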