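import Cfsg.Agent.Helper91.FTC.Spec

/-!
# FastTC farm (helper91, S1690), leaf (ALG): group algebra for involutions.
-/

set_option autoImplicit false
set_option linter.unusedSimpArgs false

namespace Cfsg.Agent.Helper63.FTC

open Cfsg.Agent.Helper91.FTC

/-- (ALG) group algebra for involutions. -/
theorem pow_two_of_comm {G : Type*} [Group G] (a b : G) (ha : a * a = 1) (hb : b * b = 1)
    (h : a * b = b * a) : (a * b) ^ 2 = 1 := by
  have haz : ∀ z : G, a * (a * z) = z := fun z => by rw [← mul_assoc, ha, one_mul]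
  have hbz : ∀ z : G, b * (b * z) = z := fun z => by rw [← mul_assoc, hb, one_mul]
  have h1 : (a * b) ^ 2 = a * b * (b * a) := by rw [pow_two, ← h]
  rw [h1]
  simp only [mul_assoc, haz, hbz, ha, hb]

theorem pow_three_of_braid {G : Type*} [Group G] (a b : G) (ha : a * a = 1) (hb : b * b = 1)
    (h : a * b * a = b * a * b) : (a * b) ^ 3 = 1 := by
  have haz : ∀ z : G, a * (a * z) = z := fun z => by rw [← mul_assoc, ha, one_mul]
  have hbz : ∀ z : G, b * (b * z) = z := fun z => by rw [← mul_assoc, hb, one_mul]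
  have h1 : (a * b) ^ 3 = (a * b * a) * (b * a * b) := by
    rw [pow_succ, pow_two]
    simp only [mul_assoc]
  rw [h1, h]
  simp only [mul_assoc, haz, hbz, ha, hb]

end Cfsg.Agent.Helper63.FTC
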