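import Cfsg.Agent.Helper91.FTC.Spec

/-!
# FastTC farm (helper91, S1690), leaf (COMM): commuting generators from the point checks.
Also the common induction `FTC_fix_induction` used by (BRAID).
-/

set_option autoImplicit false
set_option linter.unusedSimpArgs false

namespace Cfsg.Agent.Helper63.FTC

open Cfsg.Agent.Helper91.FTC

/-- If `W` is inverted by the involutions `A`, `B` and fixes every point which is minimal in
`{p, A p, B p}`, then `W = 1`. -/
theorem FTC_fix_induction {n : ℕ} (A B W : Equiv.Perm (Fin n)) (hA : A * A = 1) (hB : B * B = 1)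
    (hWA : A * W * A = W⁻¹) (hWB : B * W * B = W⁻¹)
    (hmin : ∀ p : Fin n, (p : ℕ) ≤ (A p : ℕ) → (p : ℕ) ≤ (B p : ℕ) → W p = p) : W = 1 := by
  have hAA : ∀ q : Fin n, A (A q) = q := fun q => by
    have := congrArg (fun f : Equiv.Perm (Fin n) => f q) hA
    simpa using this
  have hBB : ∀ q : Fin n, B (B q) = q := fun q => by
    have := congrArg (fun f : Equiv.Perm (Fin n) => f q) hB
    simpa using this
  have step : ∀ (C : Equiv.Perm (Fin n)), (∀ q : Fin n, C (C q) = q) → C * W * C = W⁻¹ →
      ∀ p : Fin n, W (C p) = C p → W p = p := by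
    intro C hCC hWC p hp
    have h1 := congrArg (fun f : Equiv.Perm (Fin n) => f p) hWC
    simp only [Equiv.Perm.coe_mul, Function.comp_apply] at h1
    rw [hp, hCC] at h1
    exact Equiv.Perm.eq_inv_iff_eq.1 h1
  have key : ∀ m : ℕ, ∀ p : Fin n, (p : ℕ) = m → W p = p := by
    intro m
    induction m using Nat.strong_induction_on with
    | _ m ih =>
      intro p hpm
      by_cases h1 : (p : ℕ) ≤ (A p : ℕ)
      · by_cases h2 : (p : ℕ) ≤ (B p : ℕ)
        · exact hmin p h1 h2
        · push Not at h2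
          exact step B hBB hWB p (ih _ (hpm ▸ h2) (B p) rfl)
      · push Not at h1
        exact step A hAA hWA p (ih _ (hpm ▸ h1) (A p) rfl)
  ext p
  rw [key _ p rfl]
  rfl

/-- (COMM) commuting generators. -/
theorem comm_of_chk (P : PTab) (σ : ℕ → Equiv.Perm (Fin P.n)) (x y : ℕ)
    (hx : (∀ p : Fin P.n, ((σ x p : Fin P.n) : ℕ) = P.t x p) ∧ σ x * σ x = 1)
    (hy : (∀ p : Fin P.n, ((σ y p : Fin P.n) : ℕ) = P.t y p) ∧ σ y * σ y = 1)
    (h : ∀ p, p < P.n → chkComm P x y p = true) : σ x * σ y = σ y * σ x := by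
  obtain ⟨hx1, hA⟩ := hx
  obtain ⟨hy1, hB⟩ := hy
  set A := σ x with hAdef
  set B := σ y with hBdef
  have hAz : ∀ z : Equiv.Perm (Fin P.n), A * (A * z) = z := fun z => by
    rw [← mul_assoc, hA, one_mul]
  have hBz : ∀ z : Equiv.Perm (Fin P.n), B * (B * z) = z := fun z => by
    rw [← mul_assoc, hB, one_mul]
  have hAA : ∀ q : Fin P.n, A (A q) = q := fun q => by
    have := congrArg (fun f : Equiv.Perm (Fin P.n) => f q) hA
    simpa using this
  have hBB : ∀ q : Fin P.n, B (B q) = q := fun q => by
    have := congrArg (fun f : Equiv.Perm (Fin P.n) => f q) hB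
    simpa using this
  have hWinv : (A * B * A * B)⁻¹ = B * A * B * A := by
    apply inv_eq_of_mul_eq_one_right
    simp only [mul_assoc, hAz, hBz, hA, hB]
  have hW : A * B * A * B = 1 := by
    apply FTC_fix_induction A B (A * B * A * B) hA hB
    · rw [hWinv]
      simp only [mul_assoc, hAz, hBz, hA, hB, mul_one]
    · rw [hWinv]
      simp only [mul_assoc, hAz, hBz, hA, hB, mul_one]
    · intro p h1 h2
      have hc := h p p.2
      unfold chkComm at hc
      rw [frc_eq, frc_eq] at hc
      rw [hx1 p] at h1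
      rw [hy1 p] at h2
      have e1 : Nat.ble (p : ℕ) (P.t x p) = true := Nat.ble_eq_true_of_le h1
      have e2 : Nat.ble (p : ℕ) (P.t y p) = true := Nat.ble_eq_true_of_le h2
      simp only [sel, e1, e2] at hc
      have hc' : P.t y (P.t x p) = P.t x (P.t y p) := Nat.eq_of_beq_eq_true hc
      have hBA : B (A p) = A (B p) := by
        apply Fin.ext
        rw [hy1 (A p), hx1 (B p), hx1 p, hy1 p]
        exact hc'
      show A (B (A (B p))) = p
      rw [← hBA, hBB, hAA]
  calc A * B = A * B * (A * B * A * B)⁻¹ := by rw [hW, inv_one, mul_one]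
    _ = B * A := by
      rw [hWinv]
      simp only [mul_assoc, hAz, hBz, hA, hB, mul_one]

end Cfsg.Agent.Helper63.FTC
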