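import Cfsg.Agent.Helper91.FTC.Spec
import Cfsg.Agent.Helper63.FTC_COMM

/-!
# FastTC farm (helper91, S1690), leaf (BRAID): the braid relation from the point checks.
-/

set_option autoImplicit false
set_option linter.unusedSimpArgs false

namespace Cfsg.Agent.Helper63.FTC

open Cfsg.Agent.Helper91.FTC

/-- (BRAID) braid relation. -/
theorem braid_of_chk (P : PTab) (σ : ℕ → Equiv.Perm (Fin P.n)) (x y : ℕ)
    (hx : (∀ p : Fin P.n, ((σ x p : Fin P.n) : ℕ) = P.t x p) ∧ σ x * σ x = 1)
    (hy : (∀ p : Fin P.n, ((σ y p : Fin P.n) : ℕ) = P.t y p) ∧ σ y * σ y = 1)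
    (h : ∀ p, p < P.n → chkBraid P x y p = true) : σ x * σ y * σ x = σ y * σ x * σ y := by
  obtain ⟨hx1, hA⟩ := hx
  obtain ⟨hy1, hB⟩ := hy
  set A := σ x with hAdef
  set B := σ y with hBdef
  have hAz : ∀ z : Equiv.Perm (Fin P.n), A * (A * z) = z := fun z => by
    rw [← mul_assoc, hA, one_mul]
  have hBz : ∀ z : Equiv.Perm (Fin P.n), B * (B * z) = z := fun z => by
    rw [← mul_assoc, hB, one_mul]
  have hAA : ∀ q : Fin P.n, A (A q) = q := fun q => by
    have := congrArg (fun f : Equiv.Perm (Fin P.n) => f q) hA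
    simpa using this
  have hBB : ∀ q : Fin P.n, B (B q) = q := fun q => by
    have := congrArg (fun f : Equiv.Perm (Fin P.n) => f q) hB
    simpa using this
  have hWinv : (B * A * B * A * B * A)⁻¹ = A * B * A * B * A * B := by
    apply inv_eq_of_mul_eq_one_right
    simp only [mul_assoc, hAz, hBz, hA, hB]
  have hW : B * A * B * A * B * A = 1 := by
    apply FTC_fix_induction A B (B * A * B * A * B * A) hA hB
    · rw [hWinv]
      simp only [mul_assoc, hAz, hBz, hA, hB, mul_one]
    · rw [hWinv]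
      simp only [mul_assoc, hAz, hBz, hA, hB, mul_one]
    · intro p h1 h2
      have hc := h p p.2
      unfold chkBraid at hc
      rw [frc_eq, frc_eq] at hc
      rw [hx1 p] at h1
      rw [hy1 p] at h2
      have e1 : Nat.ble (p : ℕ) (P.t x p) = true := Nat.ble_eq_true_of_le h1
      have e2 : Nat.ble (p : ℕ) (P.t y p) = true := Nat.ble_eq_true_of_le h2
      simp only [sel, e1, e2] at hc
      have hc' : P.t x (P.t y (P.t x p)) = P.t y (P.t x (P.t y p)) := Nat.eq_of_beq_eq_true hc
      have hABA : A (B (A p)) = B (A (B p)) := by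
        apply Fin.ext
        rw [hx1 (B (A p)), hy1 (A p), hx1 p, hy1 (A (B p)), hx1 (B p), hy1 p]
        exact hc'
      show B (A (B (A (B (A p))))) = p
      rw [hABA, hBB, hAA, hBB]
  have hinv : (B * A * B)⁻¹ = B * A * B := by
    apply inv_eq_of_mul_eq_one_right
    simp only [mul_assoc, hAz, hBz, hA, hB]
  calc A * B * A = (B * A * B)⁻¹ * (B * A * B * A * B * A) := by
        rw [hinv]
        simp only [mul_assoc, hAz, hBz, hA, hB, mul_one]
    _ = B * A * B := by rw [hW, mul_one, hinv]

end Cfsg.Agent.Helper63.FTC
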