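import Cfsg.Agent.Helper91.FTC.Spec

/-!
# FastTC farm (helper91, S1690), leaf (RK): ranks are below `BIG`.
-/

set_option autoImplicit false

namespace Cfsg.Agent.Helper63.FTC

open Cfsg.Agent.Helper91.FTC

theorem RK_land_lt (a : ℕ) : Nat.land a 4194303 < BIG := by
  have h : a &&& 4194303 ≤ 4194303 := Nat.and_le_right
  have h' : Nat.land a 4194303 ≤ 4194303 := h
  unfold BIG
  omega

/-- (RK) ranks are below `BIG`. -/
theorem rR_lt_BIG (e : ℕ) : rR e < BIG := RK_land_lt _

theorem eR_lt_BIG (E : ℕ) : eR E < BIG := RK_land_lt _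

end Cfsg.Agent.Helper63.FTC
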