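import Cfsg.Agent.Helper91.FTC.Spec

/-!
# FastTC farm (helper91, S1690), leaf (SIG): the generators act as involutory permutations.
-/

set_option autoImplicit false

namespace Cfsg.Agent.Helper63.FTC

open Cfsg.Agent.Helper91.FTC

theorem SIG_of_chkInv (P : PTab) (y p : ℕ) (h : chkInv P y p = true) :
    P.t y p < P.n ∧ P.t y (P.t y p) = p := by
  unfold chkInv at h
  rw [frc_eq] at h
  cases hb : Nat.blt (P.t y p) P.n
  · simp only [sel, hb] at h
    exact absurd h (by decide)
  · simp only [sel, hb] at h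
    refine ⟨?_, Nat.eq_of_beq_eq_true h⟩
    have := Nat.blt_eq ▸ hb
    exact this

/-- (SIG) the generators act as involutory permutations. -/
theorem exists_sigma (P : PTab) (hinv : ∀ y, y < P.g → ∀ p, p < P.n → chkInv P y p = true) :
    ∃ σ : ℕ → Equiv.Perm (Fin P.n), ∀ y, y < P.g →
      (∀ p : Fin P.n, ((σ y p : Fin P.n) : ℕ) = P.t y p) ∧ σ y * σ y = 1 := by
  classical
  have key : ∀ y, y < P.g → ∀ p : Fin P.n, P.t y p < P.n ∧ P.t y (P.t y p) = p :=
    fun y hy p => SIG_of_chkInv P y p (hinv y hy p p.2)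
  let f : ∀ y, y < P.g → Fin P.n → Fin P.n := fun y hy p => ⟨P.t y p, (key y hy p).1⟩
  have hf : ∀ y (hy : y < P.g), Function.Involutive (f y hy) := by
    intro y hy p
    apply Fin.ext
    exact (key y hy p).2
  refine ⟨fun y => if hy : y < P.g then (hf y hy).toPerm (f y hy) else 1, ?_⟩
  intro y hy
  simp only [dif_pos hy]
  refine ⟨fun p => rfl, ?_⟩
  ext p
  simp only [Equiv.Perm.coe_mul, Function.comp_apply, Function.Involutive.coe_toPerm,
    Equiv.Perm.coe_one, id_eq]
  rw [hf y hy p]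

end Cfsg.Agent.Helper63.FTC
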