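import Cfsg.Agent.Helper91.FTC.Spec

/-!
# FastTC farm (helper91, S1690), leaf (VXF): transfer of a valid slot along an alias.
-/

set_option autoImplicit false

namespace Cfsg.Agent.Helper63.FTC

open Cfsg.Agent.Helper91.FTC

variable {Γ : Type*} [Group Γ]

/-- (VXF) transfer along an alias. -/
theorem VF_transfer (T : Tabs) (γ : ℕ → Γ) (H : Subgroup Γ) (y p a : ℕ)
    (hE : VE T γ H a) (hEa : eA (T.ali a) = p) (hv : VF T γ H y a)
    (hq : rF (T.slot y a) = rF (T.slot y p)) : VF T γ H y p := by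
  unfold VE at hE
  unfold VF at hv ⊢
  rw [hEa] at hE
  rw [hq] at hv
  have h1 := H.mul_mem (H.inv_mem hE) hv
  have h2 : (rep T γ a * (rep T γ p)⁻¹)⁻¹ * (rep T γ a * γ y * (rep T γ (rF (T.slot y p)))⁻¹) =
      rep T γ p * γ y * (rep T γ (rF (T.slot y p)))⁻¹ := by group
  rwa [h2] at h1

end Cfsg.Agent.Helper63.FTC
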