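import Mathlib

/-!
# Fixed-point-free endomorphisms of order dividing four: basics (helper63, for S3794)
-/

set_option autoImplicit false

namespace Cfsg.Agent.Helper63.Fpf4

variable {G : Type*} [Group G]

/-- An endomorphism `φ` with `φ⁴ = id` fixing only the identity. -/
structure IsFpf4 (φ : G →* G) : Prop where
  four : ∀ g, φ (φ (φ (φ g))) = g
  fpf : ∀ g, φ g = g → g = 1

namespace IsFpf4

variable {φ : G →* G}

theorem injective (h : IsFpf4 φ) : Function.Injective φ := by
  intro a b hab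
  have := congrArg (fun x => φ (φ (φ x))) hab
  simpa [h.four] using this

theorem surjective (h : IsFpf4 φ) : Function.Surjective φ :=
  fun g => ⟨φ (φ (φ g)), h.four g⟩

theorem fixedPointFree (h : IsFpf4 φ) : MonoidHom.FixedPointFree φ := h.fpf

/-- The group has odd order. -/
theorem odd_card [Finite G] (h : IsFpf4 φ) : Odd (Nat.card G) := by
  classical
  haveI := Fintype.ofFinite G
  have : Fact (Nat.Prime 2) := ⟨Nat.prime_two⟩
  let f : Function.End G := (φ : G → G)
  have hf : f ^ 2 ^ 2 = 1 := by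
    funext g
    show (f ^ 4) g = g
    have : (f ^ 4) = f * (f * (f * f)) := by
      rw [pow_succ, pow_succ, pow_succ, pow_one]; simp [mul_assoc]
    rw [this]
    exact h.four g
  have key := Equiv.Perm.card_fixedPoints_modEq (f := f) (p := 2) (n := 2) hf
  have hfix : Fintype.card (Function.fixedPoints f) = 1 := by
    rw [Fintype.card_eq_one_iff]
    refine ⟨⟨1, map_one φ⟩, ?_⟩
    rintro ⟨y, hy⟩
    exact Subtype.ext (h.fpf y hy)
  rw [hfix] at key
  rw [Nat.card_eq_fintype_card, Nat.odd_iff]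
  exact key

/-- Restriction of an endomorphism to an invariant subgroup. -/
def res (φ : G →* G) (H : Subgroup G) (hH : ∀ x ∈ H, φ x ∈ H) : H →* H :=
  (φ.comp H.subtype).codRestrict H (fun x => hH x.1 x.2)

@[simp] theorem res_coe (φ : G →* G) (H : Subgroup G) (hH : ∀ x ∈ H, φ x ∈ H) (x : H) :
    ((res φ H hH x : H) : G) = φ x := rfl

theorem res_isFpf4 (h : IsFpf4 φ) (H : Subgroup G) (hH : ∀ x ∈ H, φ x ∈ H) :
    IsFpf4 (res φ H hH) := by
  refine ⟨fun g => Subtype.ext ?_, fun g hg => Subtype.ext ?_⟩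
  · simp [h.four]
  · have : φ g = g := congrArg Subtype.val hg
    simpa using h.fpf _ this

/-- The induced endomorphism on a quotient by an invariant normal subgroup. -/
def quot (φ : G →* G) (N : Subgroup G) [N.Normal] (hN : ∀ x ∈ N, φ x ∈ N) : G ⧸ N →* G ⧸ N :=
  QuotientGroup.map N N φ (fun x hx => hN x hx)

@[simp] theorem quot_mk (φ : G →* G) (N : Subgroup G) [N.Normal] (hN : ∀ x ∈ N, φ x ∈ N) (g : G) :
    quot φ N hN (g : G ⧸ N) = ((φ g : G) : G ⧸ N) := rfl

theorem quot_isFpf4 [Finite G] (h : IsFpf4 φ) (N : Subgroup G) [N.Normal]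
    (hN : ∀ x ∈ N, φ x ∈ N) : IsFpf4 (quot φ N hN) := by
  refine ⟨fun q => ?_, fun q hq => ?_⟩
  · obtain ⟨g, rfl⟩ := QuotientGroup.mk_surjective q
    simp [h.four]
  · obtain ⟨g, rfl⟩ := QuotientGroup.mk_surjective q
    rw [quot_mk, QuotientGroup.eq] at hq
    -- (φ g)⁻¹ * g ∈ N, hence g * (φ g)⁻¹ ∈ N
    have hq' : g / φ g ∈ N := by
      have := ‹N.Normal›.conj_mem _ hq g
      have h0 : g * ((φ g)⁻¹ * g) * g⁻¹ = g / φ g := by rw [div_eq_mul_inv]; group
      rwa [h0] at this
    have hres := res_isFpf4 h N hN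
    obtain ⟨⟨n, hn⟩, hn'⟩ := hres.fixedPointFree.commutatorMap_surjective ⟨g / φ g, hq'⟩
    have h1 : n * (φ n)⁻¹ = g * (φ g)⁻¹ := by
      have := congrArg Subtype.val hn'
      simpa [div_eq_mul_inv] using this
    have h2 : φ (n⁻¹ * g) = n⁻¹ * g := by
      rw [map_mul, map_inv]
      calc (φ n)⁻¹ * φ g = n⁻¹ * (n * (φ n)⁻¹) * φ g := by group
        _ = n⁻¹ * g := by rw [h1]; group
    have h3 := h.fpf _ h2
    have : g = n := by
      rw [inv_mul_eq_one] at h3; exact h3.symm
    rw [this]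
    exact (QuotientGroup.eq_one_iff _).2 hn

/-- In a group of odd order, `u ^ 2 ∈ K` implies `u ∈ K`. -/
theorem mem_of_sq_mem [Finite G] (hodd : Odd (Nat.card G)) (K : Subgroup G) {u : G}
    (hu : u ^ 2 ∈ K) : u ∈ K := by
  obtain ⟨k, hk⟩ := hodd
  have h1 : u ^ (Nat.card G) = 1 := pow_card_eq_one'
  have h2 : u = (u ^ 2) ^ (k + 1) * (u ^ (Nat.card G))⁻¹ := by
    rw [hk, ← pow_mul]
    have : u ^ (2 * (k + 1)) = u ^ (2 * k + 1) * u := by
      rw [← pow_succ]; congr 1
    rw [this]; group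
  rw [h2, h1, inv_one, mul_one]
  exact K.pow_mem hu _

theorem eq_one_of_sq_eq_one [Finite G] (hodd : Odd (Nat.card G)) {u : G}
    (hu : u ^ 2 = 1) : u = 1 := by
  have := mem_of_sq_mem hodd ⊥ (u := u) (by rw [hu]; exact Subgroup.one_mem _)
  simpa using this

theorem eq_one_of_eq_inv [Finite G] (hodd : Odd (Nat.card G)) {u : G}
    (hu : u = u⁻¹) : u = 1 := by
  apply eq_one_of_sq_eq_one hodd
  rw [pow_two]
  nth_rewrite 1 [hu]
  exact inv_mul_cancel u

/-- If `φ² = id` as well then `φ` is inversion and the group is commutative. -/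
theorem apply_eq_inv_of_sq [Finite G] (h : IsFpf4 φ) (h2 : ∀ g, φ (φ g) = g) (g : G) :
    φ g = g⁻¹ := by
  have := h.fixedPointFree.coe_eq_inv_of_involutive (φ := φ) h2
  exact congrFun this g

theorem commute_of_sq [Finite G] (h : IsFpf4 φ) (h2 : ∀ g, φ (φ g) = g) (a b : G) :
    a * b = b * a :=
  h.fixedPointFree.commute_all_of_involutive (φ := φ) h2 a b

/-- The norm identity. -/
theorem norm_eq_one [Finite G] (h : IsFpf4 φ) (g : G) :
    g * φ g * φ (φ g) * φ (φ (φ g)) = 1 := by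
  have h4 : (φ : G → G)^[4] = id := by
    funext g; simp [Function.iterate_succ, h.four]
  have := h.fixedPointFree.prod_pow_eq_one (φ := φ) h4 g
  simpa [List.range_succ, mul_assoc] using this

end IsFpf4

end Cfsg.Agent.Helper63.Fpf4
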