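import Mathlib
import Cfsg.Agent.Helper63.Fpf4Basic

/-!
# Lemma E (helper63, for S3794)

A group `W` of automorphisms of a finite abelian group `N` of order coprime to `|N|`, normalized by
a fixed-point-free automorphism `f` of `N` with `f⁴ = 1` and inverted by `f²`, is trivial.
-/

set_option autoImplicit false

namespace Cfsg.Agent.Helper63.Fpf4

open scoped BigOperators

section LemmaE

variable {N : Type*} [CommGroup N] [Finite N]

theorem lemmaE (f : MulAut N) (hnorm : ∀ n : N, n * f n * f (f n) * f (f (f n)) = 1)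
    (W : Subgroup (MulAut N)) (hodd : Odd (Nat.card W))
    (hcop : (Nat.card W).Coprime (Nat.card N))
    (hinv : ∀ w ∈ W, f * w * f⁻¹ ∈ W)
    (hτ : ∀ w ∈ W, f * f * w * f⁻¹ * f⁻¹ = w⁻¹) : W = ⊥ := by
  classical
  haveI : Fintype W := Fintype.ofFinite W
  -- conjugation by f on W
  let cj : W → W := fun w => ⟨f * w * f⁻¹, hinv w w.2⟩
  have cj_coe : ∀ w : W, ((cj w : W) : MulAut N) = f * w * f⁻¹ := fun w => rfl
  have cj_mul : ∀ v w : W, cj (v * w) = cj v * cj w := by
    intro v w; apply Subtype.ext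
    simp only [cj_coe, Subgroup.coe_mul]; group
  have cj_inv : ∀ v : W, cj v⁻¹ = (cj v)⁻¹ := by
    intro v; apply Subtype.ext
    simp only [cj_coe, Subgroup.coe_inv]; group
  have cj_cj : ∀ w : W, cj (cj w) = w⁻¹ := by
    intro w; apply Subtype.ext
    simp only [cj_coe, Subgroup.coe_inv]
    rw [← hτ w w.2]; group
  -- W is commutative
  have hcomm : ∀ v w : W, v * w = w * v := by
    intro v w
    have h1 : cj (cj (v * w)) = (v * w)⁻¹ := cj_cj _
    rw [cj_mul, cj_mul, cj_cj, cj_cj, mul_inv_rev] at h1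
    have := congrArg (fun x => x⁻¹) h1
    simpa using this.symm
  -- squaring is injective
  have sq_inj : ∀ v : W, v = v⁻¹ → v = 1 := fun v hv => IsFpf4.eq_one_of_eq_inv hodd hv
  -- the three maps
  let a : W → W := fun z => z⁻¹ * cj z
  let b : W → W := fun z => z⁻¹ * z⁻¹
  let c : W → W := fun z => z⁻¹ * (cj z)⁻¹
  have fix_eq_one : ∀ v : W, cj v = v → v = 1 := by
    intro v hv
    apply sq_inj
    rw [← cj_cj v, hv, hv]
  have ha : Function.Bijective a := by
    rw [← Finite.injective_iff_bijective]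
    intro z z' h
    have h1 : cj (z' * z⁻¹) = z' * z⁻¹ := by
      rw [cj_mul, cj_inv]
      have : z⁻¹ * cj z = z'⁻¹ * cj z' := h
      have h2 : cj z' = z' * z⁻¹ * cj z := by
        rw [mul_assoc, this]; group
      rw [h2]; group
    have := fix_eq_one _ h1
    rw [mul_inv_eq_one] at this
    exact this.symm
  have hb : Function.Bijective b := by
    rw [← Finite.injective_iff_bijective]
    intro z z' h
    have h0 : z⁻¹ * z⁻¹ = z'⁻¹ * z'⁻¹ := h
    have h1 : (z * z'⁻¹) = (z * z'⁻¹)⁻¹ := by
      have e1 : z' * z' = z * z := by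
        have := congrArg (fun x => x⁻¹) h0
        simpa using this.symm
      rw [mul_inv_rev, inv_inv]
      calc z * z'⁻¹ = z'⁻¹ * z := hcomm _ _
        _ = z'⁻¹ * (z * z) * z⁻¹ := by group
        _ = z'⁻¹ * (z' * z') * z⁻¹ := by rw [e1]
        _ = z' * z⁻¹ := by group
    have := sq_inj _ h1
    rw [mul_inv_eq_one] at this
    exact this
  have hc : Function.Bijective c := by
    rw [← Finite.injective_iff_bijective]
    intro z z' h
    have h0 : z⁻¹ * (cj z)⁻¹ = z'⁻¹ * (cj z')⁻¹ := h
    -- v = z * z'⁻¹ satisfies cj v = v⁻¹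
    have h1 : cj (z * z'⁻¹) = (z * z'⁻¹)⁻¹ := by
      rw [cj_mul, cj_inv]
      have e1 : cj z * z = cj z' * z' := by
        have := congrArg (fun x => x⁻¹) h0
        simpa using this
      have e2 : cj z = cj z' * z' * z⁻¹ := by rw [← e1]; group
      rw [e2, mul_inv_rev, inv_inv]
      rw [hcomm (cj z') z', mul_assoc z', mul_assoc z', hcomm (cj z')]
      group
    have h2 : cj (cj (z * z'⁻¹)) = z * z'⁻¹ := by
      rw [h1, cj_inv, h1, inv_inv]
    rw [cj_cj] at h2
    have := sq_inj _ h2.symm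
    rw [mul_inv_eq_one] at this
    exact this
  -- the averaging operator
  let E : N → N := fun m => ∏ w : W, (w : MulAut N) m
  have E_inv : ∀ (v : W) (m : N), (v : MulAut N) (E m) = E m := by
    intro v m
    show (v : MulAut N) (∏ w : W, (w : MulAut N) m) = ∏ w : W, (w : MulAut N) m
    rw [map_prod]
    have : ∀ w : W, (v : MulAut N) ((w : MulAut N) m) = ((v * w : W) : MulAut N) m := by
      intro w; rfl
    simp_rw [this]
    exact Fintype.prod_bijective (fun w => v * w) (Group.mulLeft_bijective v) _ _ (fun _ => rfl)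
  have E_comp : ∀ (g : W → W), Function.Bijective g → ∀ m : N,
      ∏ z : W, ((g z : W) : MulAut N) m = E m := by
    intro g hg m
    exact Fintype.prod_bijective g hg _ _ (fun _ => rfl)
  -- the key pointwise identity
  have key : ∀ (z : W) (n : N),
      n * ((a z : W) : MulAut N) (f n) * ((b z : W) : MulAut N) (f (f n)) *
        ((c z : W) : MulAut N) (f (f (f n))) = 1 := by
    intro z n
    have h1 := hnorm ((z : MulAut N) n)
    have h2 := congrArg (fun x => ((z : MulAut N)⁻¹) x) h1
    simp only [map_mul, map_one, MulAut.inv_apply_self] at h2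
    have ea : ((a z : W) : MulAut N) (f n) = (z : MulAut N)⁻¹ (f ((z : MulAut N) n)) := by
      show ((z⁻¹ * cj z : W) : MulAut N) (f n) = _
      rw [Subgroup.coe_mul, cj_coe, Subgroup.coe_inv]
      simp [MulAut.mul_apply]
    have eb : ((b z : W) : MulAut N) (f (f n)) =
        (z : MulAut N)⁻¹ (f (f ((z : MulAut N) n))) := by
      show ((z⁻¹ * z⁻¹ : W) : MulAut N) (f (f n)) = _
      have hz := hτ z z.2
      have : ((z : MulAut N))⁻¹ (f (f n)) = f (f ((z : MulAut N) n)) := by
        rw [← hz]; simp [MulAut.mul_apply]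
      rw [Subgroup.coe_mul, Subgroup.coe_inv, MulAut.mul_apply, this]
    have ec : ((c z : W) : MulAut N) (f (f (f n))) =
        (z : MulAut N)⁻¹ (f (f (f ((z : MulAut N) n)))) := by
      show ((z⁻¹ * (cj z)⁻¹ : W) : MulAut N) (f (f (f n))) = _
      have hz := hτ z z.2
      rw [Subgroup.coe_mul, Subgroup.coe_inv, Subgroup.coe_inv, cj_coe, MulAut.mul_apply]
      congr 1
      -- (f z f⁻¹)⁻¹ (f f f n) = f (z⁻¹ (f f n)) = f (f (f (z n)))
      have : ((z : MulAut N))⁻¹ (f (f n)) = f (f ((z : MulAut N) n)) := by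
        rw [← hz]; simp [MulAut.mul_apply]
      rw [← this]
      simp [MulAut.mul_apply]
    rw [ea, eb, ec]
    exact h2
  -- take the product over z
  have hprod : ∀ n : N, n ^ (Nat.card W) * E (f n) * E (f (f n)) * E (f (f (f n))) = 1 := by
    intro n
    have h1 : ∏ z : W, (n * ((a z : W) : MulAut N) (f n) * ((b z : W) : MulAut N) (f (f n)) *
        ((c z : W) : MulAut N) (f (f (f n)))) = 1 := by
      apply Finset.prod_eq_one
      intro z _
      exact key z n
    rw [Finset.prod_mul_distrib, Finset.prod_mul_distrib, Finset.prod_mul_distrib,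
      E_comp a ha, E_comp b hb, E_comp c hc, Finset.prod_const, Finset.card_univ,
      ← Nat.card_eq_fintype_card] at h1
    exact h1
  -- n ^ |W| is fixed by W
  have hfix : ∀ (v : W) (n : N), (v : MulAut N) (n ^ (Nat.card W)) = n ^ (Nat.card W) := by
    intro v n
    have h1 : n ^ (Nat.card W) = (E (f n) * E (f (f n)) * E (f (f (f n))))⁻¹ := by
      rw [eq_inv_iff_mul_eq_one]
      have := hprod n
      simpa [mul_assoc] using this
    rw [h1, map_inv, map_mul, map_mul, E_inv, E_inv, E_inv]
  -- hence W acts trivially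
  rw [Subgroup.eq_bot_iff_forall]
  intro v hv
  ext n
  show v n = n
  have h1 := hfix ⟨v, hv⟩ n
  simp only [map_pow] at h1
  have h2 : (v n * n⁻¹) ^ (Nat.card W) = 1 := by
    rw [mul_pow, inv_pow, h1, mul_inv_cancel]
  have h3 : (v n * n⁻¹) ^ (Nat.card N) = 1 := pow_card_eq_one'
  have h4 : orderOf (v n * n⁻¹) ∣ Nat.gcd (Nat.card W) (Nat.card N) :=
    Nat.dvd_gcd (orderOf_dvd_of_pow_eq_one h2) (orderOf_dvd_of_pow_eq_one h3)
  rw [hcop, Nat.dvd_one, orderOf_eq_one_iff, mul_inv_eq_one] at h4
  exact h4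

end LemmaE

end Cfsg.Agent.Helper63.Fpf4
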