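import Mathlib
import Cfsg.Agent.Helper63.Fpf4Basic

/-!
# Lemma R (helper63, for S3794)

A finite nilpotent group `Y` with a fixed-point-free endomorphism `φ`, `φ⁴ = 1`, such that every
`φ`-invariant subgroup inverted by `φ²` is trivial, is centralized by `φ²`.
-/

set_option autoImplicit false

namespace Cfsg.Agent.Helper63.Fpf4

open scoped commutatorElement

universe u

section Step

variable {Y : Type*} [Group Y] [Finite Y]

omit [Finite Y] in
/-- invariance of a closure -/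
theorem closure_invariant (φ : Y →* Y) (S : Set Y) (hS : ∀ s ∈ S, φ s ∈ Subgroup.closure S) :
    ∀ y ∈ Subgroup.closure S, φ y ∈ Subgroup.closure S := by
  intro y hy
  have h1 : (Subgroup.closure S).map φ ≤ Subgroup.closure S := by
    rw [MonoidHom.map_closure, Subgroup.closure_le]
    rintro _ ⟨s, hs, rfl⟩
    exact hS s hs
  exact h1 (Subgroup.mem_map_of_mem φ hy)

omit [Finite Y] in
theorem commutator_invariant (φ : Y →* Y) : ∀ y ∈ commutator Y, φ y ∈ commutator Y := by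
  intro y hy
  have h1 : (commutator Y).map φ ≤ commutator Y := by
    rw [commutator_def, Subgroup.map_commutator]
    exact Subgroup.commutator_mono le_top le_top
  exact h1 (Subgroup.mem_map_of_mem φ hy)

theorem lemmaR_step (hnil : Group.IsNilpotent Y) (φ : Y →* Y) (h : IsFpf4 φ)
    (hstar : ∀ W : Subgroup Y, (∀ w ∈ W, φ w ∈ W) → (∀ w ∈ W, φ (φ w) = w⁻¹) → W = ⊥)
    (hprop : ∀ K : Subgroup Y, K ≠ ⊤ → (∀ k ∈ K, φ k ∈ K) → ∀ k ∈ K, φ (φ k) = k) :
    ∀ y, φ (φ y) = y := by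
  by_contra hcon
  push Not at hcon
  obtain ⟨x, hx⟩ := hcon
  have hodd : Odd (Nat.card Y) := h.odd_card
  set τ : Y →* Y := φ.comp φ with hτdef
  have τ_apply : ∀ y, τ y = φ (φ y) := fun y => rfl
  have ττ : ∀ y, τ (τ y) = y := fun y => h.four y
  -- H = C_Y(τ)
  let H : Subgroup Y := MonoidHom.eqLocus τ (MonoidHom.id Y)
  have memH : ∀ y, y ∈ H ↔ φ (φ y) = y := fun y => Iff.rfl
  have Hinv : ∀ y ∈ H, φ y ∈ H := by
    intro y hy
    rw [memH] at hy ⊢
    rw [hy]
  have xH : x ∉ H := fun hxH => hx ((memH x).1 hxH)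
  have HneTop : H ≠ ⊤ := fun hT => xH (hT ▸ Subgroup.mem_top x)
  -- (R1)
  have R1 : ∀ K : Subgroup Y, K ≠ ⊤ → (∀ k ∈ K, φ k ∈ K) → K ≤ H := by
    intro K hK hKinv k hk
    exact (memH k).2 (hprop K hK hKinv k hk)
  -- (R2)
  have hresH := IsFpf4.res_isFpf4 h H Hinv
  have hinvolH : ∀ g : H, (IsFpf4.res φ H Hinv) ((IsFpf4.res φ H Hinv) g) = g := by
    intro g; apply Subtype.ext
    simp only [IsFpf4.res_coe]
    exact (memH g).1 g.2
  have R2a : ∀ y ∈ H, φ y = y⁻¹ := by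
    intro y hy
    have := IsFpf4.apply_eq_inv_of_sq hresH hinvolH ⟨y, hy⟩
    have := congrArg Subtype.val this
    simpa using this
  have R2b : ∀ y₁ ∈ H, ∀ y₂ ∈ H, y₁ * y₂ = y₂ * y₁ := by
    intro y₁ h₁ y₂ h₂
    have := IsFpf4.commute_of_sq hresH hinvolH ⟨y₁, h₁⟩ ⟨y₂, h₂⟩
    exact congrArg Subtype.val this
  -- (R3)
  have : Nontrivial Y := ⟨⟨φ (φ x), x, hx⟩⟩
  have R3 : commutator Y ≤ H := by
    apply R1 _ _ (commutator_invariant φ)
    exact (Group.IsSolvable.commutator_lt_top_of_nontrivial Y).ne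
  -- (R4)
  let S : Set Y := {c | ∃ y, c = y⁻¹ * φ (φ y)}
  let T : Subgroup Y := Subgroup.closure S
  have Tinv : ∀ y ∈ T, φ y ∈ T := by
    apply closure_invariant
    rintro _ ⟨y, rfl⟩
    apply Subgroup.subset_closure
    exact ⟨φ y, by simp⟩
  have R4 : T = ⊤ := by
    by_contra hT
    have hTH := R1 T hT Tinv
    apply hx
    have hc : x⁻¹ * φ (φ x) ∈ H := hTH (Subgroup.subset_closure ⟨x, rfl⟩)
    rw [memH] at hc
    have h1 : φ (φ (x⁻¹ * φ (φ x))) = (x⁻¹ * φ (φ x))⁻¹ := by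
      simp only [map_mul, map_inv, h.four]
      group
    rw [hc] at h1
    have := IsFpf4.eq_one_of_eq_inv hodd h1
    rw [inv_mul_eq_one] at this
    exact this.symm
  -- (R5)
  have R5 : ∀ y, y * φ (φ y) ∈ commutator Y := by
    let ψ : Y →* Abelianization Y := Abelianization.of * (Abelianization.of.comp τ)
    have hψ : ∀ y, ψ y = Abelianization.of (y * φ (φ y)) := by
      intro y
      show Abelianization.of y * Abelianization.of (τ y) = _
      rw [← map_mul]; rfl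
    have hker : T ≤ ψ.ker := by
      rw [Subgroup.closure_le]
      rintro _ ⟨y, rfl⟩
      show ψ _ = 1
      rw [hψ]
      have : y⁻¹ * φ (φ y) * φ (φ (y⁻¹ * φ (φ y))) = 1 := by
        simp only [map_mul, map_inv, h.four]
        group
      rw [this, map_one]
    intro y
    have hy : y ∈ ψ.ker := hker (R4 ▸ Subgroup.mem_top y)
    have h1 : ψ y = 1 := hy
    rw [hψ] at h1
    have h2 : y * φ (φ y) ∈ (Abelianization.of : Y →* Abelianization Y).ker := h1
    rwa [Abelianization.ker_of] at h2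
  -- D = [Y', Y]
  let D : Subgroup Y := ⁅commutator Y, (⊤ : Subgroup Y)⁆
  have hDn : D.Normal := Subgroup.commutator_normal _ _
  have central : ∀ c ∈ commutator Y, ∀ y : Y, (c : Y ⧸ D) * (y : Y ⧸ D) = (y : Y ⧸ D) * (c : Y ⧸ D) := by
    intro c hc y
    have h1 : ⁅c, y⁆ ∈ D := Subgroup.commutator_mem_commutator hc (Subgroup.mem_top y)
    have h2 : ((⁅c, y⁆ : Y) : Y ⧸ D) = 1 := (QuotientGroup.eq_one_iff _).2 h1
    rw [commutatorElement_def] at h2
    simp only [QuotientGroup.mk_mul, QuotientGroup.mk_inv] at h2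
    calc (c : Y ⧸ D) * (y : Y ⧸ D)
        = ((c : Y ⧸ D) * (y : Y ⧸ D) * (c : Y ⧸ D)⁻¹ * (y : Y ⧸ D)⁻¹) * (y : Y ⧸ D) * (c : Y ⧸ D) := by
          group
      _ = (y : Y ⧸ D) * (c : Y ⧸ D) := by rw [h2, one_mul]
  -- (R6)
  have R6 : ∀ a : Y, ⁅a, φ a⁆ ∈ D := by
    intro a
    set w := ⁅a, φ a⁆ with hw
    have hwY' : w ∈ commutator Y := by
      rw [commutator_def]
      exact Subgroup.commutator_mem_commutator (Subgroup.mem_top a) (Subgroup.mem_top _)
    have hφw : φ w = w⁻¹ := R2a w (R3 hwY')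
    have hφw2 : φ w = ⁅φ a, φ (φ a)⁆ := by
      rw [hw, map_commutatorElement]
    set hh := a * φ (φ a) with hhdef
    have hhY' : hh ∈ commutator Y := R5 a
    have hτa : φ (φ a) = a⁻¹ * hh := by rw [hhdef]; group
    -- in the quotient
    have hq : ((φ w : Y) : Y ⧸ D) = (w : Y ⧸ D) := by
      rw [hφw2, hτa]
      have cw := central w hwY'
      have ch := central hh hhY'
      rw [commutatorElement_def]
      simp only [QuotientGroup.mk_mul, QuotientGroup.mk_inv]
      set A : Y ⧸ D := (a : Y ⧸ D)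
      set B : Y ⧸ D := ((φ a : Y) : Y ⧸ D)
      set Hh : Y ⧸ D := (hh : Y ⧸ D)
      have hwAB : (w : Y ⧸ D) = A * B * A⁻¹ * B⁻¹ := by
        rw [hw, commutatorElement_def]
        simp only [QuotientGroup.mk_mul, QuotientGroup.mk_inv]
        rfl
      have ch' : ∀ q : Y ⧸ D, Hh * q = q * Hh := by
        intro q
        obtain ⟨y, rfl⟩ := QuotientGroup.mk_surjective q
        exact ch y
      have cw' : ∀ q : Y ⧸ D, (A * B * A⁻¹ * B⁻¹) * q = q * (A * B * A⁻¹ * B⁻¹) := by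
        intro q
        obtain ⟨y, rfl⟩ := QuotientGroup.mk_surjective q
        rw [← hwAB]
        exact cw y
      rw [hwAB]
      calc B * (A⁻¹ * Hh) * B⁻¹ * (A⁻¹ * Hh)⁻¹
          = B * A⁻¹ * (Hh * B⁻¹) * Hh⁻¹ * A := by group
        _ = B * A⁻¹ * (B⁻¹ * Hh) * Hh⁻¹ * A := by rw [ch']
        _ = A⁻¹ * ((A * B * A⁻¹ * B⁻¹) * A) := by group
        _ = A⁻¹ * (A * (A * B * A⁻¹ * B⁻¹)) := by rw [cw']
        _ = A * B * A⁻¹ * B⁻¹ := by group
    rw [hφw] at hq
    have h2 : w ^ 2 ∈ D := by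
      rw [← QuotientGroup.eq_one_iff, pow_two, QuotientGroup.mk_mul]
      nth_rewrite 1 [← hq]
      rw [← QuotientGroup.mk_mul, inv_mul_cancel, QuotientGroup.mk_one]
    exact IsFpf4.mem_of_sq_mem hodd D h2
  -- (R7)
  let K : Subgroup Y := Subgroup.closure {x, φ x} ⊔ commutator Y
  have xK : x ∈ K := Subgroup.mem_sup_left (Subgroup.subset_closure (by simp))
  have φxK : φ x ∈ K := Subgroup.mem_sup_left (Subgroup.subset_closure (by simp))
  have Y'K : commutator Y ≤ K := le_sup_right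
  have Kinv : ∀ k ∈ K, φ k ∈ K := by
    have h1 : K.map φ ≤ K := by
      rw [Subgroup.map_sup, MonoidHom.map_closure]
      apply sup_le
      · rw [Subgroup.closure_le]
        rintro _ ⟨s, hs, rfl⟩
        rcases hs with rfl | hs
        · exact φxK
        · rw [Set.mem_singleton_iff] at hs
          rw [hs]
          have : φ (φ x) = x⁻¹ * (x * φ (φ x)) := by group
          rw [this]
          exact K.mul_mem (K.inv_mem xK) (Y'K (R5 x))
      · intro y hy
        obtain ⟨z, hz, rfl⟩ := hy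
        exact Y'K (commutator_invariant φ z hz)
    intro k hk
    exact h1 (Subgroup.mem_map_of_mem φ hk)
  have R7 : K = ⊤ := by
    by_contra hK
    exact xH (R1 K hK Kinv xK)
  -- (R8)
  have hxφx : ((x : Y) : Y ⧸ D) * ((φ x : Y) : Y ⧸ D) = ((φ x : Y) : Y ⧸ D) * ((x : Y) : Y ⧸ D) := by
    have h1 : ((⁅x, φ x⁆ : Y) : Y ⧸ D) = 1 := (QuotientGroup.eq_one_iff _).2 (R6 x)
    rw [commutatorElement_def] at h1
    simp only [QuotientGroup.mk_mul, QuotientGroup.mk_inv] at h1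
    calc ((x : Y) : Y ⧸ D) * ((φ x : Y) : Y ⧸ D)
        = (((x : Y) : Y ⧸ D) * ((φ x : Y) : Y ⧸ D) * ((x : Y) : Y ⧸ D)⁻¹ * ((φ x : Y) : Y ⧸ D)⁻¹)
            * ((φ x : Y) : Y ⧸ D) * ((x : Y) : Y ⧸ D) := by group
      _ = _ := by rw [h1, one_mul]
  have cent_all : ∀ (g : Y), ((x : Y) : Y ⧸ D) * (g : Y ⧸ D) = (g : Y ⧸ D) * ((x : Y) : Y ⧸ D) →
      ((φ x : Y) : Y ⧸ D) * (g : Y ⧸ D) = (g : Y ⧸ D) * ((φ x : Y) : Y ⧸ D) →
      (∀ c ∈ commutator Y, (c : Y ⧸ D) * (g : Y ⧸ D) = (g : Y ⧸ D) * (c : Y ⧸ D)) →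
      ∀ y : Y, (y : Y ⧸ D) * (g : Y ⧸ D) = (g : Y ⧸ D) * (y : Y ⧸ D) := by
    intro g h1 h2 h3 y
    let CC : Subgroup Y := (Subgroup.centralizer {(g : Y ⧸ D)}).comap (QuotientGroup.mk' D)
    have memCC : ∀ z, z ∈ CC ↔ (z : Y ⧸ D) * (g : Y ⧸ D) = (g : Y ⧸ D) * (z : Y ⧸ D) := by
      intro z
      show (QuotientGroup.mk' D z) ∈ Subgroup.centralizer {(g : Y ⧸ D)} ↔ _
      rw [Subgroup.mem_centralizer_singleton_iff]
      rfl
    have hKC : K ≤ CC := by
      apply sup_le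
      · rw [Subgroup.closure_le]
        rintro s hs
        rcases hs with rfl | hs
        · exact (memCC _).2 h1
        · rw [Set.mem_singleton_iff] at hs
          rw [hs]; exact (memCC _).2 h2
      · intro c hc
        exact (memCC c).2 (h3 c hc)
    exact (memCC y).1 (hKC (R7 ▸ Subgroup.mem_top y))
  have hx_central : ∀ y : Y, (y : Y ⧸ D) * ((x : Y) : Y ⧸ D) = ((x : Y) : Y ⧸ D) * (y : Y ⧸ D) :=
    cent_all x rfl hxφx.symm (fun c hc => central c hc x)
  have hφx_central : ∀ y : Y,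
      (y : Y ⧸ D) * ((φ x : Y) : Y ⧸ D) = ((φ x : Y) : Y ⧸ D) * (y : Y ⧸ D) :=
    cent_all (φ x) hxφx rfl (fun c hc => central c hc (φ x))
  have hcommQ : ∀ g y : Y, (y : Y ⧸ D) * (g : Y ⧸ D) = (g : Y ⧸ D) * (y : Y ⧸ D) := by
    intro g
    exact cent_all g (hx_central g).symm (hφx_central g).symm (fun c hc => central c hc g)
  have hY'D : commutator Y ≤ D := by
    rw [commutator_def, Subgroup.commutator_le]
    intro g₁ _ g₂ _
    rw [← QuotientGroup.eq_one_iff, commutatorElement_def]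
    simp only [QuotientGroup.mk_mul, QuotientGroup.mk_inv]
    rw [hcommQ g₂ g₁]; group
  -- nilpotency forces Y' = 1
  have hY'bot : commutator Y = ⊥ := by
    obtain ⟨n, hn⟩ := Subgroup.nilpotent_iff_lowerCentralSeries.1 hnil
    have hle : ∀ m : ℕ, commutator Y ≤ (⊤ : Subgroup Y).lowerCentralSeries (m + 1) := by
      intro m
      induction m with
      | zero => exact le_of_eq Subgroup.top_lowerCentralSeries_one.symm
      | succ m ih =>
        rw [Subgroup.lowerCentralSeries_succ]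
        exact hY'D.trans (Subgroup.commutator_mono ih le_rfl)
    have h1 := hle n
    have h2 : (⊤ : Subgroup Y).lowerCentralSeries (n + 1) ≤ (⊤ : Subgroup Y).lowerCentralSeries n :=
      Subgroup.lowerCentralSeries_antitone _ (Nat.le_succ n)
    rw [hn] at h2
    exact le_bot_iff.1 (h1.trans h2)
  -- so τ inverts everything
  have hinvall : ∀ y : Y, φ (φ y) = y⁻¹ := by
    intro y
    have := R5 y
    rw [hY'bot, Subgroup.mem_bot] at this
    exact (eq_inv_of_mul_eq_one_right this)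
  have htop : (⊤ : Subgroup Y) = ⊥ := hstar ⊤ (fun _ _ => Subgroup.mem_top _) (fun w _ => hinvall w)
  exact (top_ne_bot : (⊤ : Subgroup Y) ≠ ⊥) htop

end Step

theorem card_lt_of_ne_top {Y : Type*} [Group Y] [Finite Y] (K : Subgroup Y) (hK : K ≠ ⊤) :
    Nat.card K < Nat.card Y := by
  refine lt_of_le_of_ne (Subgroup.card_le_card_group K) ?_
  intro h
  exact hK (Subgroup.eq_top_of_card_eq K h)

theorem lemmaR_aux (n : ℕ) : ∀ (Y : Type u) [Group Y] [Finite Y], Nat.card Y ≤ n →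
    Group.IsNilpotent Y → ∀ φ : Y →* Y, IsFpf4 φ →
    (∀ W : Subgroup Y, (∀ w ∈ W, φ w ∈ W) → (∀ w ∈ W, φ (φ w) = w⁻¹) → W = ⊥) →
    ∀ y, φ (φ y) = y := by
  induction n with
  | zero =>
    intro Y _ _ hc
    have := Nat.card_pos (α := Y)
    omega
  | succ n ih =>
    intro Y _ _ hc hnil φ h hstar
    apply lemmaR_step hnil φ h hstar
    intro K hK hKinv k hk
    have hlt : Nat.card K < Nat.card Y := card_lt_of_ne_top K hK
    have hnilK : Group.IsNilpotent K := inferInstance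
    have key := ih K (by omega) hnilK (IsFpf4.res φ K hKinv) (IsFpf4.res_isFpf4 h K hKinv) ?_ ⟨k, hk⟩
    · have := congrArg Subtype.val key
      simpa using this
    · intro W hWinv hWτ
      have h1 : W.map K.subtype = ⊥ := by
        apply hstar
        · rintro _ ⟨w, hw, rfl⟩
          exact ⟨IsFpf4.res φ K hKinv w, hWinv w hw, rfl⟩
        · rintro _ ⟨w, hw, rfl⟩
          have := congrArg Subtype.val (hWτ w hw)
          simpa using this
      exact (Subgroup.map_eq_bot_iff_of_injective W K.subtype_injective).1 h1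

/-- **Lemma R.** -/
theorem lemmaR {Y : Type u} [Group Y] [Finite Y] (hnil : Group.IsNilpotent Y) (φ : Y →* Y)
    (h : IsFpf4 φ)
    (hstar : ∀ W : Subgroup Y, (∀ w ∈ W, φ w ∈ W) → (∀ w ∈ W, φ (φ w) = w⁻¹) → W = ⊥) :
    ∀ y, φ (φ y) = y :=
  lemmaR_aux (Nat.card Y) Y le_rfl hnil φ h hstar

end Cfsg.Agent.Helper63.Fpf4
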