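import Mathlib
import Cfsg.Agent.Lib.Cores
import Cfsg.Agent.Helper63.Fpf4Basic
import Cfsg.Agent.Helper63.Fpf4LemmaE
import Cfsg.Agent.Helper63.Fpf4LemmaR

/-!
# The core step for S3794 (helper63)

A group `X` acting faithfully and `φ`-irreducibly on an abelian `p`-group `N`, with compatible
fixed-point-free automorphisms of order dividing four, and `[X, φ²] ≤ F(X)`: then `φ²` is trivial
on `X`.
-/

set_option autoImplicit false

namespace Cfsg.Agent.Helper63.Fpf4

open Cfsg.Agent.Lib

/-- Characteristic subgroups are invariant. -/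
theorem IsFpf4.char_invariant {G : Type*} [Group G] {φ : G →* G} (h : IsFpf4 φ) (K : Subgroup G)
    [hK : K.Characteristic] : ∀ x ∈ K, φ x ∈ K := by
  intro x hx
  let e : G ≃* G := MulEquiv.ofBijective φ ⟨h.injective, h.surjective⟩
  have h1 : K.comap e.toMonoidHom = K := hK.fixed e
  have h2 : x ∈ K.comap e.toMonoidHom := by rw [h1]; exact hx
  exact h2

theorem coreK {N : Type*} [CommGroup N] [Finite N] [Nontrivial N] (p : ℕ) [hp : Fact p.Prime]
    (hpN : IsPGroup p N) (f : MulAut N)
    (hnorm : ∀ n : N, n * f n * f (f n) * f (f (f n)) = 1)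
    {X : Type*} [Group X] [Finite X] (φ : X →* X) (h : IsFpf4 φ)
    (ι : X →* MulAut N) (hι : Function.Injective ι)
    (hcompat : ∀ x, ι (φ x) = f * ι x * f⁻¹)
    (hirr : ∀ M : Subgroup N, (∀ x : X, ∀ m ∈ M, ι x m ∈ M) → (∀ m ∈ M, f m ∈ M) →
      M = ⊥ ∨ M = ⊤)
    (hIH : ∀ x, x⁻¹ * φ (φ x) ∈ Cfsg.fittingSubgroup X) : ∀ x, φ (φ x) = x := by
  have hodd : Odd (Nat.card X) := h.odd_card
  -- Step 1: O_p(X) = 1
  set P : Subgroup X := Cfsg.pCore p X with hPdef
  haveI hPchar : P.Characteristic := pCore_characteristic p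
  have hPn : P.Normal := inferInstance
  have hPinv : ∀ x ∈ P, φ x ∈ P := h.char_invariant P
  have hPp : IsPGroup p P := isPGroup_pCore p
  let M : Subgroup N :=
    { carrier := {n | ∀ x ∈ P, ι x n = n}
      mul_mem' := by
        intro a b ha hb x hx
        rw [map_mul, ha x hx, hb x hx]
      one_mem' := by
        intro x _; exact map_one _
      inv_mem' := by
        intro a ha x hx
        rw [map_inv, ha x hx] }
  have memM : ∀ n, n ∈ M ↔ ∀ x ∈ P, ι x n = n := fun n => Iff.rfl
  have hcompat3 : ∀ x, f⁻¹ * ι x * f = ι (φ (φ (φ x))) := by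
    intro x
    have := hcompat (φ (φ (φ x)))
    rw [h.four] at this
    rw [this]; group
  have hMX : ∀ y : X, ∀ m ∈ M, ι y m ∈ M := by
    intro y m hm x hx
    have h1 : y⁻¹ * x * y ∈ P := by
      have := hPn.conj_mem x hx y⁻¹
      simpa using this
    have h2 := (memM m).1 hm _ h1
    have h3 : ι x (ι y m) = ι y (ι (y⁻¹ * x * y) m) := by
      rw [← MulAut.mul_apply, ← MulAut.mul_apply, ← map_mul, ← map_mul]
      congr 2; group
    rw [h3, h2]
  have hMf : ∀ m ∈ M, f m ∈ M := by
    intro m hm x hx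
    have h1 : φ (φ (φ x)) ∈ P := hPinv _ (hPinv _ (hPinv _ hx))
    have h2 := (memM m).1 hm _ h1
    rw [← hcompat3] at h2
    have h3 : ι x (f m) = f ((f⁻¹ * ι x * f) m) := by
      simp [MulAut.mul_apply]
    rw [h3, h2]
  have hMne : M ≠ ⊥ := by
    -- fixed points of a p-group acting on a p-group
    let P' : Subgroup (MulAut N) := P.map ι
    have hP' : IsPGroup p P' := hPp.map ι
    have hdvd : p ∣ Nat.card N := by
      rcases hpN.card_eq_or_dvd with h1 | h1
      · exfalso
        have : 1 < Nat.card N := Finite.one_lt_card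
        omega
      · exact h1
    have h1fix : (1 : N) ∈ MulAction.fixedPoints P' N := by
      intro g
      show (g : MulAut N) 1 = 1
      exact map_one _
    obtain ⟨b, hb, hb1⟩ := hP'.exists_fixed_point_of_prime_dvd_card_of_fixed_point N hdvd h1fix
    intro hbot
    have hbM : b ∈ M := by
      intro x hx
      have := hb ⟨ι x, Subgroup.mem_map_of_mem ι hx⟩
      exact this
    rw [hbot, Subgroup.mem_bot] at hbM
    exact hb1 hbM.symm
  have hMtop : M = ⊤ := (hirr M hMX hMf).resolve_left hMne
  have hPbot : P = ⊥ := by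
    rw [Subgroup.eq_bot_iff_forall]
    intro x hx
    apply hι
    rw [map_one]
    ext n
    have : n ∈ M := hMtop ▸ Subgroup.mem_top n
    exact this x hx
  -- Step 2: F(X) is a p'-group
  set F : Subgroup X := Cfsg.fittingSubgroup X with hFdef
  have hFcop : (Nat.card F).Coprime p := by
    have := relIndex_pCore_fittingSubgroup_coprime (G := X) p
    rw [← hPdef, hPbot, Subgroup.relIndex_bot_left] at this
    exact this
  have hFodd : Odd (Nat.card F) := Odd.of_dvd_nat hodd (Subgroup.card_subgroup_dvd_card F)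
  haveI hFchar : F.Characteristic := fittingSubgroup_characteristic
  have hFinv : ∀ x ∈ F, φ x ∈ F := h.char_invariant F
  have hFnil : Group.IsNilpotent F := isNilpotent_fittingSubgroup
  -- Step 3: φ² is trivial on F(X)
  have hτF : ∀ y : F, (IsFpf4.res φ F hFinv) ((IsFpf4.res φ F hFinv) y) = y := by
    apply lemmaR hFnil _ (IsFpf4.res_isFpf4 h F hFinv)
    intro W hWinv hWτ
    let j : F →* MulAut N := ι.comp F.subtype
    have hj : Function.Injective j := hι.comp F.subtype_injective
    have hcard : Nat.card (W.map j) = Nat.card W := Subgroup.card_map_of_injective hj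
    have hWdvd : Nat.card W ∣ Nat.card F := Subgroup.card_subgroup_dvd_card W
    have hW' : W.map j = ⊥ := by
      apply lemmaE f hnorm (W.map j)
      · rw [hcard]; exact Odd.of_dvd_nat hFodd hWdvd
      · rw [hcard]
        obtain ⟨k, hk⟩ := IsPGroup.iff_card.1 hpN
        rw [hk]
        exact Nat.Coprime.pow_right k (Nat.Coprime.coprime_dvd_left hWdvd hFcop)
      · rintro _ ⟨w, hw, rfl⟩
        refine ⟨IsFpf4.res φ F hFinv w, hWinv w hw, ?_⟩
        show ι (φ w) = f * ι w * f⁻¹
        exact hcompat _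
      · rintro _ ⟨w, hw, rfl⟩
        have h1 := congrArg Subtype.val (hWτ w hw)
        simp only [IsFpf4.res_coe, Subgroup.coe_inv] at h1
        show f * f * ι w * f⁻¹ * f⁻¹ = (ι w)⁻¹
        rw [← map_inv, ← h1, hcompat, hcompat]; group
    exact (Subgroup.map_eq_bot_iff_of_injective W hj).1 hW'
  have hτF' : ∀ y ∈ F, φ (φ y) = y := by
    intro y hy
    have := congrArg Subtype.val (hτF ⟨y, hy⟩)
    simpa using this
  -- Step 4
  intro x
  set u := x⁻¹ * φ (φ x) with hu
  have h1 : φ (φ u) = u := hτF' u (hIH x)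
  have h2 : φ (φ u) = u⁻¹ := by
    rw [hu]; simp only [map_mul, map_inv, h.four]; group
  rw [h1] at h2
  have h3 := IsFpf4.eq_one_of_eq_inv hodd h2
  rw [hu, inv_mul_eq_one] at h3
  exact h3.symm

end Cfsg.Agent.Helper63.Fpf4
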