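import Mathlib
import Cfsg.Agent.Lib.Cores
import Cfsg.Agent.Helper63.Fpf4Basic
import Cfsg.Agent.Helper63.Fpf4Core

/-!
# Main induction for S3794 (helper63)

For a finite solvable group `G` with a fixed-point-free endomorphism `φ`, `φ⁴ = 1`:
`g⁻¹ φ²(g) ∈ F(G)` for all `g`; hence `G' ≤ F(G)`.
-/

set_option autoImplicit false

namespace Cfsg.Agent.Helper63.Fpf4

open Cfsg.Agent.Lib
open scoped commutatorElement IsMulCommutative

universe u

section Step

variable {G : Type u} [Group G] [Finite G]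

/-- existence of a minimal nontrivial invariant normal subgroup -/
theorem exists_min_invariant_normal [Nontrivial G] (φ : G →* G) :
    ∃ N : Subgroup G, N.Normal ∧ (∀ x ∈ N, φ x ∈ N) ∧ N ≠ ⊥ ∧
      ∀ K : Subgroup G, K.Normal → (∀ x ∈ K, φ x ∈ K) → K ≤ N → K = ⊥ ∨ K = N := by
  let 𝒮 : Set (Subgroup G) := {N | N.Normal ∧ (∀ x ∈ N, φ x ∈ N) ∧ N ≠ ⊥}
  have hne : 𝒮.Nonempty := ⟨⊤, inferInstance, fun _ _ => Subgroup.mem_top _, top_ne_bot⟩
  obtain ⟨N, hN, hmin⟩ := WellFounded.has_min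
    (measure (fun N : Subgroup G => Nat.card N)).wf 𝒮 hne
  refine ⟨N, hN.1, hN.2.1, hN.2.2, ?_⟩
  intro K hKn hKinv hKN
  by_cases hK : K = ⊥
  · exact Or.inl hK
  · right
    have h1 := hmin K ⟨hKn, hKinv, hK⟩
    have h2 : Nat.card N ≤ Nat.card K := not_lt.1 h1
    exact Subgroup.eq_of_le_of_card_ge hKN h2

theorem main_step [Nontrivial G] (hsolv : Group.IsSolvable G) (φ : G →* G) (h : IsFpf4 φ)
    (ih : ∀ (Q : Type u) [Group Q] [Finite Q], Nat.card Q < Nat.card G → Group.IsSolvable Q →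
      ∀ ψ : Q →* Q, IsFpf4 ψ → ∀ q, q⁻¹ * ψ (ψ q) ∈ Cfsg.fittingSubgroup Q) :
    ∀ g, g⁻¹ * φ (φ g) ∈ Cfsg.fittingSubgroup G := by
  obtain ⟨N, hNn, hNinv, hNne, hNmin⟩ := exists_min_invariant_normal φ
  haveI := hNn
  haveI := hsolv
  -- (b) N is commutative
  have hNcomm : ∀ a ∈ N, ∀ b ∈ N, a * b = b * a := by
    have h1 : ⁅N, N⁆ = ⊥ ∨ ⁅N, N⁆ = N := by
      apply hNmin
      · exact Subgroup.commutator_normal N N
      · intro x hx
        have h2 : (⁅N, N⁆).map φ ≤ ⁅N, N⁆ := by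
          rw [Subgroup.map_commutator]
          have : N.map φ ≤ N := by
            rintro _ ⟨y, hy, rfl⟩; exact hNinv y hy
          exact Subgroup.commutator_mono this this
        exact h2 (Subgroup.mem_map_of_mem φ hx)
      · exact Subgroup.commutator_le_self N
    have h2 : ⁅N, N⁆ = ⊥ := by
      rcases h1 with h1 | h1
      · exact h1
      · exact absurd h1 (Group.IsSolvable.commutator_lt_of_ne_bot hNne).ne
    intro a ha b hb
    have h3 : ⁅a, b⁆ ∈ ⁅N, N⁆ := Subgroup.commutator_mem_commutator ha hb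
    rw [h2, Subgroup.mem_bot] at h3
    exact commutatorElement_eq_one_iff_mul_comm.1 h3
  haveI hNmc : IsMulCommutative N := ⟨⟨fun a b => Subtype.ext (hNcomm a a.2 b b.2)⟩⟩
  -- (c) N has prime exponent
  have hNcard : Nat.card N ≠ 1 := by
    intro h1
    exact hNne (Subgroup.card_eq_one.1 h1)
  obtain ⟨p, hp, hpdvd⟩ := Nat.exists_prime_and_dvd hNcard
  haveI : Fact p.Prime := ⟨hp⟩
  let Ω : Subgroup G :=
    { carrier := {x | x ∈ N ∧ x ^ p = 1}
      mul_mem' := by
        rintro a b ⟨ha, ha'⟩ ⟨hb, hb'⟩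
        refine ⟨N.mul_mem ha hb, ?_⟩
        have : Commute a b := hNcomm a ha b hb
        rw [this.mul_pow, ha', hb', one_mul]
      one_mem' := ⟨N.one_mem, one_pow _⟩
      inv_mem' := by
        rintro a ⟨ha, ha'⟩
        exact ⟨N.inv_mem ha, by rw [inv_pow, ha', inv_one]⟩ }
  have hΩN : Ω ≤ N := fun x hx => hx.1
  have hΩ : Ω = N := by
    have h1 : Ω = ⊥ ∨ Ω = N := by
      apply hNmin _ _ _ hΩN
      · constructor
        rintro n ⟨hn, hn'⟩ g
        exact ⟨hNn.conj_mem n hn g, by rw [conj_pow, hn', mul_one, mul_inv_cancel]⟩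
      · rintro x ⟨hx, hx'⟩
        exact ⟨hNinv x hx, by rw [← map_pow, hx', map_one]⟩
    rcases h1 with h1 | h1
    · exfalso
      obtain ⟨x, hx⟩ := exists_prime_orderOf_dvd_card' (G := N) p hpdvd
      have hxΩ : (x : G) ∈ Ω := by
        refine ⟨x.2, ?_⟩
        have : x ^ p = 1 := by rw [← hx]; exact pow_orderOf_eq_one x
        have := congrArg Subtype.val this
        simpa using this
      rw [h1, Subgroup.mem_bot] at hxΩ
      have hx1 : x = 1 := Subtype.ext hxΩ
      rw [hx1, orderOf_one] at hx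
      exact hp.one_lt.ne hx
    · exact h1
  have hNexp : ∀ x ∈ N, x ^ p = 1 := by
    intro x hx
    have : x ∈ Ω := hΩ ▸ hx
    exact this.2
  have hpN : IsPGroup p N := by
    intro x
    refine ⟨1, ?_⟩
    apply Subtype.ext
    rw [pow_one]
    simpa using hNexp x x.2
  haveI : Nontrivial N := (Subgroup.nontrivial_iff_ne_bot N).2 hNne
  -- (d) the automorphism f of N and the conjugation map κ
  have hresN := IsFpf4.res_isFpf4 h N hNinv
  let f : MulAut N := MulEquiv.ofBijective (IsFpf4.res φ N hNinv) ⟨hresN.injective, hresN.surjective⟩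
  have f_coe : ∀ n : N, ((f n : N) : G) = φ n := fun n => rfl
  have hnorm : ∀ n : N, n * f n * f (f n) * f (f (f n)) = 1 := fun n => hresN.norm_eq_one n
  let κ : G →* MulAut N := MulAut.conjNormal
  have κ_coe : ∀ (g : G) (n : N), ((κ g n : N) : G) = g * n * g⁻¹ :=
    fun g n => MulAut.conjNormal_apply g n
  have hcompatκ : ∀ g, κ (φ g) = f * κ g * f⁻¹ := by
    intro g
    ext n
    rw [κ_coe]
    simp only [MulAut.mul_apply]
    rw [f_coe, κ_coe, map_mul, map_mul, map_inv, ← f_coe, MulAut.apply_inv_self]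
  -- (e) the quotient X = G / ker κ
  let C : Subgroup G := κ.ker
  have memC : ∀ g, g ∈ C ↔ κ g = 1 := fun g => MonoidHom.mem_ker
  have hCinv : ∀ x ∈ C, φ x ∈ C := by
    intro x hx
    rw [memC] at hx ⊢
    rw [hcompatκ, hx]; group
  have hNC : N ≤ C := by
    intro x hx
    rw [memC]
    ext n
    rw [κ_coe]
    simp only [MulAut.one_apply]
    rw [hNcomm x hx n n.2]; group
  have hCne : C ≠ ⊥ := by
    intro hC
    apply hNne
    exact le_bot_iff.1 (hC ▸ hNC)
  let φX : G ⧸ C →* G ⧸ C := IsFpf4.quot φ C hCinv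
  have hφX : IsFpf4 φX := IsFpf4.quot_isFpf4 h C hCinv
  let ι : G ⧸ C →* MulAut N := QuotientGroup.kerLift κ
  have hι : Function.Injective ι := QuotientGroup.kerLift_injective κ
  have ι_mk : ∀ g : G, ι (g : G ⧸ C) = κ g := fun g => QuotientGroup.kerLift_mk κ g
  have hcompat : ∀ x, ι (φX x) = f * ι x * f⁻¹ := by
    intro x
    obtain ⟨g, rfl⟩ := QuotientGroup.mk_surjective x
    rw [IsFpf4.quot_mk, ι_mk, ι_mk, hcompatκ]
  have hirr : ∀ M : Subgroup N, (∀ x : G ⧸ C, ∀ m ∈ M, ι x m ∈ M) → (∀ m ∈ M, f m ∈ M) →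
      M = ⊥ ∨ M = ⊤ := by
    intro M hMX hMf
    have h1 : M.map N.subtype = ⊥ ∨ M.map N.subtype = N := by
      apply hNmin
      · constructor
        rintro _ ⟨m, hm, rfl⟩ g
        refine ⟨κ g m, ?_, κ_coe g m⟩
        have := hMX (g : G ⧸ C) m hm
        rwa [ι_mk] at this
      · rintro _ ⟨m, hm, rfl⟩
        exact ⟨f m, hMf m hm, f_coe m⟩
      · exact Subgroup.map_subtype_le M
    rcases h1 with h1 | h1
    · left
      exact (Subgroup.map_eq_bot_iff_of_injective M N.subtype_injective).1 h1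
    · right
      rw [eq_top_iff]
      intro n _
      have : (n : G) ∈ M.map N.subtype := by rw [h1]; exact n.2
      obtain ⟨m, hm, hmn⟩ := this
      have : m = n := Subtype.ext hmn
      exact this ▸ hm
  have hcardX : Nat.card (G ⧸ C) < Nat.card G := by
    have h1 := Subgroup.card_eq_card_quotient_mul_card_subgroup C
    have h2 : 1 < Nat.card C := by
      rw [Finite.one_lt_card_iff_nontrivial]
      exact (Subgroup.nontrivial_iff_ne_bot C).2 hCne
    have h3 : 0 < Nat.card (G ⧸ C) := Nat.card_pos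
    rw [h1]
    nlinarith
  have hIHX := ih (G ⧸ C) hcardX inferInstance φX hφX
  have hτX : ∀ x : G ⧸ C, φX (φX x) = x :=
    coreK p hpN f hnorm φX hφX ι hι hcompat hirr hIHX
  have hτC : ∀ g : G, g⁻¹ * φ (φ g) ∈ C := by
    intro g
    have := hτX (g : G ⧸ C)
    rw [IsFpf4.quot_mk, IsFpf4.quot_mk] at this
    exact QuotientGroup.eq.1 this.symm
  -- (f) the quotient G / N
  let φQ : G ⧸ N →* G ⧸ N := IsFpf4.quot φ N hNinv
  have hφQ : IsFpf4 φQ := IsFpf4.quot_isFpf4 h N hNinv
  have hcardQ : Nat.card (G ⧸ N) < Nat.card G := by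
    have h1 := Subgroup.card_eq_card_quotient_mul_card_subgroup N
    have h2 : 1 < Nat.card N := Finite.one_lt_card
    have h3 : 0 < Nat.card (G ⧸ N) := Nat.card_pos
    rw [h1]
    nlinarith
  have hIHQ := ih (G ⧸ N) hcardQ inferInstance φQ hφQ
  -- (g) the nilpotent normal subgroup L
  let FQ : Subgroup (G ⧸ N) := Cfsg.fittingSubgroup (G ⧸ N)
  have hFQnil : Group.IsNilpotent FQ := isNilpotent_fittingSubgroup
  let L : Subgroup G := FQ.comap (QuotientGroup.mk' N) ⊓ C
  have hLn : L.Normal := by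
    haveI : (FQ.comap (QuotientGroup.mk' N)).Normal := Subgroup.Normal.comap inferInstance _
    exact Subgroup.normal_inf_normal _ _
  have hLnil : Group.IsNilpotent L := by
    let ψ : L →* FQ := ((QuotientGroup.mk' N).comp L.subtype).codRestrict FQ
      (fun l => l.2.1)
    haveI := hFQnil
    apply Subgroup.isNilpotent_of_ker_le_center ψ
    intro l hl
    rw [MonoidHom.mem_ker] at hl
    have h1 : ((l : G) : G ⧸ N) = 1 := congrArg Subtype.val hl
    have h2 : (l : G) ∈ N := (QuotientGroup.eq_one_iff _).1 h1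
    rw [Subgroup.mem_center_iff]
    intro l'
    apply Subtype.ext
    have h3 : κ (l' : G) = 1 := (memC _).1 l'.2.2
    have h4 := κ_coe (l' : G) ⟨l, h2⟩
    rw [h3] at h4
    simp only [MulAut.one_apply] at h4
    show (l' : G) * l = l * l'
    calc (l' : G) * l = ((l' : G) * l * (l' : G)⁻¹) * l' := by group
      _ = l * l' := by rw [← h4]
  have hLF : L ≤ Cfsg.fittingSubgroup G := le_fittingSubgroup hLn hLnil
  intro g
  apply hLF
  refine ⟨?_, hτC g⟩
  show ((g⁻¹ * φ (φ g) : G) : G ⧸ N) ∈ FQ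
  have := hIHQ (g : G ⧸ N)
  rw [IsFpf4.quot_mk, IsFpf4.quot_mk] at this
  exact this

end Step

theorem main_aux (n : ℕ) : ∀ (G : Type u) [Group G] [Finite G], Nat.card G ≤ n →
    Group.IsSolvable G → ∀ φ : G →* G, IsFpf4 φ →
    ∀ g, g⁻¹ * φ (φ g) ∈ Cfsg.fittingSubgroup G := by
  induction n with
  | zero =>
    intro G _ _ hc
    have := Nat.card_pos (α := G)
    omega
  | succ n ih =>
    intro G _ _ hc hsolv φ h
    by_cases hG : Subsingleton G
    · intro g
      have : g⁻¹ * φ (φ g) = 1 := Subsingleton.elim _ _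
      rw [this]; exact Subgroup.one_mem _
    · rw [not_subsingleton_iff_nontrivial] at hG
      apply main_step hsolv φ h
      intro Q _ _ hQ hQs ψ hψ
      exact ih Q (by omega) hQs ψ hψ

/-- `[G, φ²] ≤ F(G)`. -/
theorem main_claim {G : Type u} [Group G] [Finite G] (hsolv : Group.IsSolvable G) (φ : G →* G)
    (h : IsFpf4 φ) : ∀ g, g⁻¹ * φ (φ g) ∈ Cfsg.fittingSubgroup G :=
  main_aux (Nat.card G) G le_rfl hsolv φ h

/-- The derived subgroup lies in the Fitting subgroup. -/
theorem commutator_le_fitting {G : Type u} [Group G] [Finite G] (hsolv : Group.IsSolvable G)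
    (φ : G →* G) (h : IsFpf4 φ) : commutator G ≤ Cfsg.fittingSubgroup G := by
  have hmain := main_claim hsolv φ h
  set F : Subgroup G := Cfsg.fittingSubgroup G with hF
  haveI hFchar : F.Characteristic := fittingSubgroup_characteristic
  have hFinv : ∀ x ∈ F, φ x ∈ F := h.char_invariant F
  let φQ : G ⧸ F →* G ⧸ F := IsFpf4.quot φ F hFinv
  have hφQ : IsFpf4 φQ := IsFpf4.quot_isFpf4 h F hFinv
  have hsq : ∀ q : G ⧸ F, φQ (φQ q) = q := by
    intro q
    obtain ⟨g, rfl⟩ := QuotientGroup.mk_surjective q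
    rw [IsFpf4.quot_mk, IsFpf4.quot_mk]
    exact (QuotientGroup.eq.2 (hmain g)).symm
  have hcomm := IsFpf4.commute_of_sq hφQ hsq
  rw [commutator_def, Subgroup.commutator_le]
  intro a _ b _
  rw [← QuotientGroup.eq_one_iff, commutatorElement_def]
  simp only [QuotientGroup.mk_mul, QuotientGroup.mk_inv]
  rw [hcomm (a : G ⧸ F) (b : G ⧸ F)]; group

theorem commutator_isNilpotent {G : Type u} [Group G] [Finite G] (hsolv : Group.IsSolvable G)
    (φ : G →* G) (h : IsFpf4 φ) : Group.IsNilpotent (commutator G) := by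
  have hle := commutator_le_fitting hsolv φ h
  haveI hFnil : Group.IsNilpotent (Cfsg.fittingSubgroup G) := isNilpotent_fittingSubgroup
  haveI : Group.IsNilpotent ((commutator G).subgroupOf (Cfsg.fittingSubgroup G)) := inferInstance
  exact Group.nilpotent_of_mulEquiv (Subgroup.subgroupOfEquivOfLe hle)

end Cfsg.Agent.Helper63.Fpf4
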