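import Mathlib
import Cfsg.Agent.Helper56.SL25Q

/-!
# S3999 (helper10's plan, board #6179): piece (ZB2), `SL(2,5)` has 24 elements of order 5
-/

set_option autoImplicit false

namespace Cfsg.Agent.Helper63.FrobOT

open Cfsg.Agent.Helper56.SL25Q

/-- the quadruples of determinant one, fifth power one, and different from the identity -/
def P5 (x : Q5) : Prop := qdet x = 1 ∧ qpow x 5 = qone ∧ x ≠ qone

instance : DecidablePred P5 := fun x => by unfold P5; infer_instance

theorem orderOf_eq_five_iff (g : SL5) : orderOf g = 5 ↔ P5 (q g) := by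
  have : Fact (Nat.Prime 5) := ⟨by norm_num⟩
  rw [orderOf_eq_prime_iff, P5]
  constructor
  · rintro ⟨h1, h2⟩
    refine ⟨qdet_q g, ?_, ?_⟩
    · rw [← q_pow, h1, q_one]
    · intro h3
      exact h2 ((eq_one_iff g).mpr h3)
  · rintro ⟨-, h1, h2⟩
    refine ⟨?_, ?_⟩
    · rw [eq_one_iff, q_pow]; exact h1
    · intro h3
      exact h2 ((eq_one_iff g).mp h3)

/-- elements of order 5 of `SL(2,5)` as quadruples -/
def e5 : {g : SL5 // orderOf g = 5} ≃ {x : Q5 // P5 x} where
  toFun g := ⟨q g.1, (orderOf_eq_five_iff g.1).mp g.2⟩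
  invFun x := ⟨mk x.1 x.2.1, (orderOf_eq_five_iff _).mpr (by rw [q_mk]; exact x.2)⟩
  left_inv g := Subtype.ext (q_injective (q_mk (q g.1) (qdet_q g.1)))
  right_inv x := Subtype.ext (q_mk x.1 x.2.1)

set_option maxRecDepth 100000 in
set_option synthInstance.maxSize 4096 in
theorem card_P5 : Fintype.card {x : Q5 // P5 x} = 24 := by
  decide +kernel

/-- (ZB2) `SL(2,5)` has 24 elements of order 5 -/
theorem card_orderOf_five_SL25 :
    Nat.card {g : Matrix.SpecialLinearGroup (Fin 2) (ZMod 5) // orderOf g = 5} = 24 := by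
  rw [Nat.card_congr e5, Nat.card_eq_fintype_card]
  exact card_P5

end Cfsg.Agent.Helper63.FrobOT
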