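/-
helper63: (GR-A) of board #4177 (helper37, S2733).  An involutory isometry `g` with `det g = -1` of a
non-degenerate quadratic space of even dimension over a finite field of odd characteristic: both eigenspaces
are non-degenerate of odd dimension, hence each is `c · (standard odd form)`; adapted coordinates.
-/
import Mathlib
import Cfsg.Agent.Helper44.OrthSumOmega
import Cfsg.Agent.Helper44.Classify2
import Cfsg.Agent.Helper44.IsoTransport
import Cfsg.Agent.Helper44.OrthOddA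

set_option autoImplicit false

namespace Cfsg.Agent.Helper63.GRSplit

open Matrix Cfsg.Agent.Helper44 Cfsg.Agent.Helper44.QType QuadraticMap

section general

variable {F : Type*} [Field F] {V : Type*} [AddCommGroup V] [Module F V]

/-- the `+1`-eigenspace -/
def eigPlus (T : V →ₗ[F] V) : Submodule F V := LinearMap.ker (T - LinearMap.id)

/-- the `-1`-eigenspace -/
def eigMinus (T : V →ₗ[F] V) : Submodule F V := LinearMap.ker (T + LinearMap.id)

theorem mem_eigPlus (T : V →ₗ[F] V) (v : V) : v ∈ eigPlus T ↔ T v = v := by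
  simp [eigPlus, LinearMap.mem_ker, sub_eq_zero]

theorem mem_eigMinus (T : V →ₗ[F] V) (v : V) : v ∈ eigMinus T ↔ T v = -v := by
  simp [eigMinus, LinearMap.mem_ker, add_eq_zero_iff_eq_neg]

theorem isCompl_eig (h2 : (2 : F) ≠ 0) (T : V →ₗ[F] V) (hT : ∀ v, T (T v) = v) :
    IsCompl (eigPlus T) (eigMinus T) := by
  constructor
  · rw [Submodule.disjoint_def]
    intro v hp hm
    rw [mem_eigPlus] at hp
    rw [mem_eigMinus] at hm
    have h : (2 : F) • v = 0 := by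
      rw [two_smul]
      have : v = -v := by rw [← hm, hp]
      nth_rewrite 1 [this]
      exact neg_add_cancel v
    exact (smul_eq_zero.1 h).resolve_left h2
  · rw [codisjoint_iff, eq_top_iff]
    intro v _
    have hv : v = (2 : F)⁻¹ • (v + T v) + (2 : F)⁻¹ • (v - T v) := by
      rw [← smul_add]
      have : v + T v + (v - T v) = (2 : F) • v := by rw [two_smul]; abel
      rw [this, smul_smul, inv_mul_cancel₀ h2, one_smul]
    rw [hv]
    apply Submodule.add_mem_sup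
    · apply Submodule.smul_mem
      rw [mem_eigPlus, map_add, hT]; abel
    · apply Submodule.smul_mem
      rw [mem_eigMinus, map_sub, hT]; abel

theorem polar_eig_eq_zero (h2 : (2 : F) ≠ 0) (Q : QuadraticForm F V) (T : V →ₗ[F] V)
    (hTQ : ∀ v, Q (T v) = Q v) {u w : V} (hu : u ∈ eigPlus T) (hw : w ∈ eigMinus T) :
    polar Q u w = 0 := by
  rw [mem_eigPlus] at hu
  rw [mem_eigMinus] at hw
  have h1 : polar Q (T u) (T w) = polar Q u w := by
    simp only [polar, ← map_add, hTQ]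
  rw [hu, hw, polar_neg_right] at h1
  have h3 : (2 : F) * polar Q u w = 0 := by linear_combination (-1 : F) * h1
  exact (mul_eq_zero.1 h3).resolve_left h2

theorem exists_decomp (h2 : (2 : F) ≠ 0) (T : V →ₗ[F] V) (hT : ∀ v, T (T v) = v) (v : V) :
    ∃ a ∈ eigPlus T, ∃ b ∈ eigMinus T, a + b = v := by
  have := (isCompl_eig h2 T hT).sup_eq_top
  have hv : v ∈ eigPlus T ⊔ eigMinus T := by rw [this]; trivial
  exact Submodule.mem_sup.1 hv

theorem nondeg_eigPlus (h2 : (2 : F) ≠ 0) (Q : QuadraticForm F V) (T : V →ₗ[F] V)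
    (hT : ∀ v, T (T v) = v) (hTQ : ∀ v, Q (T v) = Q v)
    (hnd : ∀ x : V, (∀ y, polar Q x y = 0) → x = 0) :
    ∀ x : eigPlus T, (∀ y : eigPlus T, polar (Q.comp (eigPlus T).subtype) x y = 0) → x = 0 := by
  intro x hx
  apply Subtype.ext
  apply hnd
  intro v
  obtain ⟨a, ha, b, hb, rfl⟩ := exists_decomp h2 T hT v
  rw [polar_add_right, polar_eig_eq_zero h2 Q T hTQ x.2 hb, add_zero]
  have := hx ⟨a, ha⟩
  simpa [polar, QuadraticMap.comp_apply] using this

theorem nondeg_eigMinus (h2 : (2 : F) ≠ 0) (Q : QuadraticForm F V) (T : V →ₗ[F] V)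
    (hT : ∀ v, T (T v) = v) (hTQ : ∀ v, Q (T v) = Q v)
    (hnd : ∀ x : V, (∀ y, polar Q x y = 0) → x = 0) :
    ∀ x : eigMinus T, (∀ y : eigMinus T, polar (Q.comp (eigMinus T).subtype) x y = 0) → x = 0 := by
  intro x hx
  apply Subtype.ext
  apply hnd
  intro v
  obtain ⟨a, ha, b, hb, rfl⟩ := exists_decomp h2 T hT v
  rw [polar_add_right, polar_comm Q (x : V) a, polar_eig_eq_zero h2 Q T hTQ ha x.2, zero_add]
  have := hx ⟨b, hb⟩
  simpa [polar, QuadraticMap.comp_apply] using this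

theorem det_eq_neg_one_pow [FiniteDimensional F V] (h2 : (2 : F) ≠ 0) (T : V →ₗ[F] V)
    (hT : ∀ v, T (T v) = v) :
    LinearMap.det T = (-1) ^ Module.finrank F (eigMinus T) := by
  have hc := isCompl_eig h2 T hT
  set e := Submodule.prodEquivOfIsCompl _ _ hc with he
  have hconj : T = (e : _ →ₗ[F] V) ∘ₗ
      (LinearMap.prodMap (LinearMap.id : eigPlus T →ₗ[F] eigPlus T)
        (-(LinearMap.id : eigMinus T →ₗ[F] eigMinus T))) ∘ₗ (e.symm : V →ₗ[F] _) := by
    apply LinearMap.ext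
    intro v
    obtain ⟨p, rfl⟩ := e.surjective v
    have hp1 := (mem_eigPlus T _).1 p.1.2
    have hp2 := (mem_eigMinus T _).1 p.2.2
    simp only [LinearMap.comp_apply, LinearEquiv.coe_coe, LinearEquiv.symm_apply_apply,
      LinearMap.prodMap_apply, LinearMap.id_apply, LinearMap.neg_apply]
    rw [he, Submodule.coe_prodEquivOfIsCompl', Submodule.coe_prodEquivOfIsCompl', map_add, hp1, hp2]
    rfl
  have hneg : (-(LinearMap.id : eigMinus T →ₗ[F] eigMinus T)) =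
      (-1 : F) • (LinearMap.id : eigMinus T →ₗ[F] eigMinus T) := by
    apply LinearMap.ext
    intro x
    rw [LinearMap.neg_apply, LinearMap.smul_apply, LinearMap.id_apply, neg_smul, one_smul]
  calc LinearMap.det T = LinearMap.det ((e : _ →ₗ[F] V) ∘ₗ
      (LinearMap.prodMap (LinearMap.id : eigPlus T →ₗ[F] eigPlus T)
        (-(LinearMap.id : eigMinus T →ₗ[F] eigMinus T))) ∘ₗ (e.symm : V →ₗ[F] _)) :=
        congrArg _ hconj
    _ = (-1) ^ Module.finrank F (eigMinus T) := by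
      rw [LinearMap.det_conj, LinearMap.det_prodMap, LinearMap.det_id, one_mul, hneg,
        LinearMap.det_smul, LinearMap.det_id, mul_one]

end general

/-- **(GR-A)** of board #4177. -/
theorem exists_split {F : Type*} [Field F] [Fintype F] (h2 : (2 : F) ≠ 0) {ι : Type} [Fintype ι]
    [DecidableEq ι] (Q : QuadraticForm F (ι → F)) (hQ : (QuadraticMap.polarBilin Q).Nondegenerate)
    (g : Matrix ι ι F) (hg2 : g * g = 1) (hgQ : ∀ v, Q (g *ᵥ v) = Q v) (hdet : g.det = -1)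
    (hcard : Even (Fintype.card ι)) :
    ∃ (k₁ k₂ : ℕ) (c₁ c₂ : F)
      (C : ((Unit ⊕ (Fin k₁ ⊕ Fin k₁)) ⊕ (Unit ⊕ (Fin k₂ ⊕ Fin k₂)) → F) ≃ₗ[F] (ι → F)),
      c₁ ≠ 0 ∧ c₂ ≠ 0 ∧
      (∀ v, Q (C v) = c₁ * Cfsg.quadFormOdd k₁ F (v ∘ Sum.inl)
        + c₂ * Cfsg.quadFormOdd k₂ F (v ∘ Sum.inr)) ∧
      (∀ v, g *ᵥ (C v) = C (Sum.elim (v ∘ Sum.inl) (-(v ∘ Sum.inr)))) := by
  classical
  set T : (ι → F) →ₗ[F] (ι → F) := Matrix.toLin' g with hTdef
  have hTv : ∀ v, T v = g *ᵥ v := fun v => Matrix.toLin'_apply g v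
  have hT : ∀ v, T (T v) = v := by
    intro v
    rw [hTv, hTv, Matrix.mulVec_mulVec, hg2, Matrix.one_mulVec]
  have hTQ : ∀ v, Q (T v) = Q v := fun v => by rw [hTv]; exact hgQ v
  have hnd : ∀ x : ι → F, (∀ y, polar Q x y = 0) → x = 0 := fun x hx => hQ.1 x hx
  have hc := isCompl_eig h2 T hT
  have hdetT : LinearMap.det T = -1 := by rw [hTdef, LinearMap.det_toLin', hdet]
  have hpow := det_eq_neg_one_pow h2 T hT
  rw [hdetT] at hpow
  have hodd2 : Odd (Module.finrank F (eigMinus T)) := by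
    by_contra hne
    rw [Nat.not_odd_iff_even] at hne
    rw [hne.neg_one_pow] at hpow
    apply h2
    linear_combination (-1 : F) * hpow
  have hsum : Module.finrank F (eigPlus T) + Module.finrank F (eigMinus T) = Fintype.card ι := by
    rw [Submodule.finrank_add_eq_of_isCompl hc, Module.finrank_fintype_fun_eq_card]
  have hodd1 : Odd (Module.finrank F (eigPlus T)) := by
    rcases hodd2 with ⟨b, hb⟩
    rcases hcard with ⟨a, ha⟩
    refine ⟨a - b - 1, ?_⟩
    omega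
  obtain ⟨k₁, hk₁⟩ := hodd1
  obtain ⟨k₂, hk₂⟩ := hodd2
  obtain ⟨c₁, g₁, hc₁, hg₁⟩ := exists_similarity_odd (Q.comp (eigPlus T).subtype) hk₁
    (nondeg_eigPlus h2 Q T hT hTQ hnd)
  obtain ⟨c₂, g₂, hc₂, hg₂⟩ := exists_similarity_odd (Q.comp (eigMinus T).subtype) hk₂
    (nondeg_eigMinus h2 Q T hT hTQ hnd)
  let C : ((Unit ⊕ (Fin k₁ ⊕ Fin k₁)) ⊕ (Unit ⊕ (Fin k₂ ⊕ Fin k₂)) → F) ≃ₗ[F] (ι → F) :=
    (LinearEquiv.sumArrowLequivProdArrow _ _ F F).trans
      ((LinearEquiv.prodCongr g₁.symm g₂.symm).trans (Submodule.prodEquivOfIsCompl _ _ hc))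
  have hC : ∀ v, C v = ((g₁.symm (v ∘ Sum.inl) : eigPlus T) : ι → F)
      + ((g₂.symm (v ∘ Sum.inr) : eigMinus T) : ι → F) := by
    intro v
    rfl
  refine ⟨k₁, k₂, c₁, c₂, C, hc₁, hc₂, ?_, ?_⟩
  · intro v
    rw [hC]
    have h1 := hg₁ (g₁.symm (v ∘ Sum.inl))
    have h2' := hg₂ (g₂.symm (v ∘ Sum.inr))
    rw [LinearEquiv.apply_symm_apply, QuadraticMap.comp_apply] at h1 h2'
    have h3 := polar_eig_eq_zero h2 Q T hTQ (g₁.symm (v ∘ Sum.inl)).2 (g₂.symm (v ∘ Sum.inr)).2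
    have h4 : ∀ a b : ι → F, Q (a + b) = Q a + Q b + polar Q a b := by
      intro a b
      simp only [polar]
      ring
    rw [h4, h3, add_zero, h1, h2']
    rfl
  · intro v
    rw [← hTv, hC, hC, map_add]
    have ha := (mem_eigPlus T _).1 (g₁.symm (v ∘ Sum.inl)).2
    have hb := (mem_eigMinus T _).1 (g₂.symm (v ∘ Sum.inr)).2
    rw [ha, hb]
    have e1 : (Sum.elim (v ∘ Sum.inl) (-(v ∘ Sum.inr)) :
        (Unit ⊕ (Fin k₁ ⊕ Fin k₁)) ⊕ (Unit ⊕ (Fin k₂ ⊕ Fin k₂)) → F) ∘ Sum.inl = v ∘ Sum.inl := rfl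
    have e2 : (Sum.elim (v ∘ Sum.inl) (-(v ∘ Sum.inr)) :
        (Unit ⊕ (Fin k₁ ⊕ Fin k₁)) ⊕ (Unit ⊕ (Fin k₂ ⊕ Fin k₂)) → F) ∘ Sum.inr = -(v ∘ Sum.inr) := rfl
    rw [e1, e2, map_neg]
    rfl

end Cfsg.Agent.Helper63.GRSplit
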