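import Cfsg.Agent.S0662
import Cfsg.Agent.Helper65.HP3
import Cfsg.Agent.Helper70.Regular

/-!
# `p`-groups of maximal class: two-step centralizers and uniform elements (helper63)

`T` is a finite `p`-group of order `p ^ m` and class `m - 1`, `m ≥ 3`; `L j` is the `j`-th term
(Mathlib indexing, `L 0 = ⊤`, `L 1 = T'`) of the lower central series.
-/

set_option autoImplicit false

namespace Cfsg.Agent.Helper63.MC

open Subgroup
open scoped commutatorElement

variable {T : Type*} [Group T]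

/-- the lower central series of the whole group (Mathlib indexing) -/
abbrev L (T : Type*) [Group T] (j : ℕ) : Subgroup T := (⊤ : Subgroup T).lowerCentralSeries j

theorem L_anti {i j : ℕ} (h : i ≤ j) : L T j ≤ L T i :=
  Subgroup.lowerCentralSeries_antitone ⊤ h

theorem L_comm [Finite T] (i j : ℕ) : ⁅L T i, L T j⁆ ≤ L T (i + j + 1) :=
  Cfsg.Agent.Helper65.lcs_commutator_le i j

theorem L_succ (j : ℕ) : L T (j + 1) = ⁅L T j, (⊤ : Subgroup T)⁆ := rfl

theorem comm_mem_L_succ {j : ℕ} {y : T} (hy : y ∈ L T j) (x : T) : ⁅y, x⁆ ∈ L T (j + 1) :=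
  Subgroup.commutator_mem_commutator hy (Subgroup.mem_top x)

/-- the two-step centralizer `C_T(γ_{j+1} / γ_{j+3})`. -/
def twoStep (T : Type*) [Group T] (j : ℕ) : Subgroup T where
  carrier := {x | ∀ y ∈ L T j, ⁅y, x⁆ ∈ L T (j + 2)}
  one_mem' := by
    intro y _
    rw [commutatorElement_one_right]
    exact one_mem _
  mul_mem' := by
    intro a b ha hb y hy
    have h : ⁅y, a * b⁆ = ⁅y, a⁆ * (a * ⁅y, b⁆ * a⁻¹) := by
      simp only [commutatorElement_def]; group
    rw [h]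
    exact mul_mem (ha y hy) ((inferInstance : (L T (j + 2)).Normal).conj_mem _ (hb y hy) a)
  inv_mem' := by
    intro a ha y hy
    have h : ⁅y, a⁻¹⁆ = a⁻¹ * (⁅y, a⁆)⁻¹ * (a⁻¹)⁻¹ := by
      simp only [commutatorElement_def]; group
    rw [h]
    exact (inferInstance : (L T (j + 2)).Normal).conj_mem _ (inv_mem (ha y hy)) a⁻¹

theorem mem_twoStep {j : ℕ} {x : T} : x ∈ twoStep T j ↔ ∀ y ∈ L T j, ⁅y, x⁆ ∈ L T (j + 2) := Iff.rfl

theorem L_one_le_twoStep [Finite T] (j : ℕ) : L T 1 ≤ twoStep T j := by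
  intro x hx y hy
  exact L_comm j 1 (Subgroup.commutator_mem_commutator hy hx)

theorem twoStep_mul_iff [Finite T] {j : ℕ} {s a : T} (ha : a ∈ L T 1) :
    s * a ∈ twoStep T j ↔ s ∈ twoStep T j := by
  have ha' := L_one_le_twoStep j ha
  constructor
  · intro h
    have := mul_mem h (inv_mem ha')
    rwa [mul_inv_cancel_right] at this
  · intro h
    exact mul_mem h ha'

section maxclass

variable [Finite T] {p : ℕ} [hp : Fact p.Prime] {m : ℕ}

theorem card_L (hcard : Nat.card T = p ^ m)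
    (hcl : Group.nilpotencyClass T = m - 1) (hm : 3 ≤ m) {j : ℕ} (h1 : 1 ≤ j) (h2 : j ≤ m - 1) :
    Nat.card (L T j) = p ^ (m - 1 - j) := by
  have hidx := Cfsg.Agent.S0662.index_lcs m hcard hcl hm j h1 h2
  have hmul := Subgroup.card_mul_index (L T j)
  rw [hidx, hcard] at hmul
  have hpos : 0 < p ^ (j + 1) := pow_pos hp.out.pos _
  have : p ^ m = p ^ (m - 1 - j) * p ^ (j + 1) := by
    rw [← pow_add]; congr 1; omega
  rw [this] at hmul
  exact Nat.eq_of_mul_eq_mul_right hpos hmul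

omit [Finite T] in
theorem L_last (hcl : Group.nilpotencyClass T = m - 1) [Group.IsNilpotent T] : L T (m - 1) = ⊥ := by
  rw [← hcl]; exact Subgroup.lowerCentralSeries_nilpotencyClass

theorem L_succ_ne (hcard : Nat.card T = p ^ m)
    (hcl : Group.nilpotencyClass T = m - 1) (hm : 3 ≤ m) {j : ℕ} (h1 : 1 ≤ j) (h2 : j + 1 ≤ m - 1) :
    ¬ L T j ≤ L T (j + 1) := by
  intro hle
  have hc1 := card_L hcard hcl hm h1 (by omega : j ≤ m - 1)
  have hc2 := card_L hcard hcl hm (by omega : 1 ≤ j + 1) h2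
  have := Subgroup.card_le_of_le hle
  rw [hc1, hc2] at this
  have h3 : m - 1 - j ≤ m - 1 - (j + 1) := (Nat.pow_le_pow_iff_right hp.out.one_lt).mp this
  omega

/-- `L j = ⟨x⟩ L (j+1)` for `x ∈ L j ∖ L (j+1)`. -/
theorem L_eq_sup_zpowers (hcard : Nat.card T = p ^ m)
    (hcl : Group.nilpotencyClass T = m - 1) (hm : 3 ≤ m) {j : ℕ} (h1 : 1 ≤ j) (h2 : j + 1 ≤ m - 1)
    {x : T} (hx : x ∈ L T j) (hx' : x ∉ L T (j + 1)) : L T j = zpowers x ⊔ L T (j + 1) := by
  have hle : zpowers x ⊔ L T (j + 1) ≤ L T j :=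
    sup_le ((zpowers_le).mpr hx) (L_anti (Nat.le_succ j))
  have hc1 := card_L hcard hcl hm h1 (by omega : j ≤ m - 1)
  have hc2 := card_L hcard hcl hm (by omega : 1 ≤ j + 1) h2
  have hpG : IsPGroup p T := IsPGroup.of_card hcard
  obtain ⟨e, he⟩ := (hpG.to_subgroup (zpowers x ⊔ L T (j + 1))).exists_card_eq
  -- strictly bigger than L (j+1)
  have hlt : L T (j + 1) < zpowers x ⊔ L T (j + 1) := by
    refine lt_of_le_of_ne le_sup_right ?_
    intro heq
    apply hx'
    rw [heq]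
    exact (le_sup_left : zpowers x ≤ _) (mem_zpowers x)
  have h3 : Nat.card (L T (j + 1)) < Nat.card ↥(zpowers x ⊔ L T (j + 1)) := by
    by_contra hnot
    push Not at hnot
    exact hlt.ne (Subgroup.eq_of_le_of_card_ge hlt.le hnot)
  have h4 : Nat.card ↥(zpowers x ⊔ L T (j + 1)) ≤ Nat.card (L T j) := Subgroup.card_le_of_le hle
  rw [he, hc2] at h3
  rw [he, hc1] at h4
  have h5 : m - 1 - (j + 1) < e := (Nat.pow_lt_pow_iff_right hp.out.one_lt).mp h3
  have h6 : e ≤ m - 1 - j := (Nat.pow_le_pow_iff_right hp.out.one_lt).mp h4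
  have h7 : e = m - 1 - j := by omega
  symm
  apply Subgroup.eq_of_le_of_card_ge hle
  rw [he, hc1, h7]

end maxclass

end Cfsg.Agent.Helper63.MC
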