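import Cfsg.Agent.Helper63.MCRegular

/-!
# `p`-groups of maximal class of order `p^(2k+1)`, `2 ≤ k ≤ p - 2`: `γ_k` is elementary abelian
(helper63)
-/

set_option autoImplicit false

namespace Cfsg.Agent.Helper63.MC

open Subgroup
open scoped commutatorElement

variable {T : Type*} [Group T] [Finite T] {p : ℕ} [hp : Fact p.Prime]

omit [Finite T] in
/-- a normal subgroup of prime index contains the derived subgroup -/
theorem commutator_le_of_index_prime (N : Subgroup T) [N.Normal] (hN : N.index = p) :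
    L T 1 ≤ N := by
  have hcard : Nat.card (T ⧸ N) = p := by rw [← Subgroup.index_eq_card, hN]
  have hcyc : IsCyclic (T ⧸ N) := isCyclic_of_prime_card hcard
  have hcomm : IsMulCommutative (T ⧸ N) := IsCyclic.isMulCommutative
  show ⁅(⊤ : Subgroup T), (⊤ : Subgroup T)⁆ ≤ N
  rw [Subgroup.commutator_le]
  intro a _ b _
  rw [← QuotientGroup.eq_one_iff]
  have : (QuotientGroup.mk ⁅a, b⁆ : T ⧸ N) = ⁅(QuotientGroup.mk a : T ⧸ N), QuotientGroup.mk b⁆ := by
    simp only [commutatorElement_def, QuotientGroup.mk_mul, QuotientGroup.mk_inv]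
  rw [this, commutatorElement_eq_one_iff_commute]
  exact mul_comm' _ _

/-- a normal subgroup of order `≥ p^(e)` inside the derived subgroup contains `L (m-1-e)`. -/
theorem L_le_of_normal_of_card {m : ℕ} (hcard : Nat.card T = p ^ m)
    (hcl : Group.nilpotencyClass T = m - 1) (hm : 3 ≤ m) (Ω : Subgroup T) [Ω.Normal]
    (e : ℕ) (he : p ^ e ≤ Nat.card Ω) (hem : e + 2 ≤ m) : L T (m - 1 - e) ≤ Ω := by
  have hpG : IsPGroup p T := IsPGroup.of_card hcard
  obtain ⟨r, hr⟩ := hpG.index Ω
  have hmul := Subgroup.card_mul_index Ω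
  rw [hr, hcard] at hmul
  have hrm : r ≤ m := by
    by_contra h
    push Not at h
    have h1 : p ^ m < p ^ r := Nat.pow_lt_pow_right hp.out.one_lt h
    have h2 : p ^ r ≤ Nat.card Ω * p ^ r := Nat.le_mul_of_pos_left _ Nat.card_pos
    omega
  have hΩ : Nat.card Ω = p ^ (m - r) := by
    have : p ^ m = p ^ (m - r) * p ^ r := by rw [← pow_add]; congr 1; omega
    rw [this] at hmul
    exact Nat.eq_of_mul_eq_mul_right (pow_pos hp.out.pos r) hmul
  rw [hΩ] at he
  have her : e ≤ m - r := (Nat.pow_le_pow_iff_right hp.out.one_lt).mp he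
  rcases Nat.lt_or_ge r 2 with hr2 | hr2
  · -- index at most p
    have h1 : L T 1 ≤ Ω := by
      rcases Nat.eq_zero_or_pos r with rfl | hr1
      · rw [pow_zero] at hr
        rw [Subgroup.index_eq_one.mp hr]; exact le_top
      · have : r = 1 := by omega
        subst this
        rw [pow_one] at hr
        exact commutator_le_of_index_prime Ω hr
    exact le_trans (L_anti (by omega)) h1
  · have := (Cfsg.Agent.S0662.result m hcard hcl hm).1 Ω r hr2 hr
    rw [this]
    exact L_anti (by omega)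

/-- the case `k ≥ 3`. -/
theorem pow_eq_one_of_three_le (k : ℕ) (hk : 3 ≤ k) (hkp : k + 2 ≤ p)
    (hcard : Nat.card T = p ^ (2 * k + 1)) (hcl : Group.nilpotencyClass T = 2 * k) :
    ∀ a ∈ L T (k - 1), a ^ p = 1 := by
  have hm : 3 ≤ 2 * k + 1 := by omega
  have hcl' : Group.nilpotencyClass T = (2 * k + 1) - 1 := by rw [hcl]; omega
  have hpG : IsPGroup p T := IsPGroup.of_card hcard
  have _ : Group.IsNilpotent T := hpG.isNilpotent
  obtain ⟨s, hs⟩ := exists_uniform hcard hcl' hm (k + 1) (by omega) (by omega)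
  have hpow := pow_p_mem_L hcard hcl' hm (k + 1) (by omega) (by omega) hs 1 le_rfl
  -- the derived subgroup is regular
  have hbot : L T (2 * (p - 1) + 1) = ⊥ := by
    rw [eq_bot_iff, ← L_last hcl']
    exact L_anti (by omega)
  have hreg := isRegular_L_one hpG hbot
  obtain ⟨Ω, hΩ⟩ := exists_omegaOne (L T 1) hreg
  have _ : Ω.Normal := omegaOne_normal (L T 1) Ω hΩ
  have hcount := card_le_card_omegaOne_mul (L T 1) hreg Ω hΩ (L T (k + 1 + 1)) hpow
  rw [card_L hcard hcl' hm le_rfl (by omega), card_L hcard hcl' hm (by omega) (by omega)] at hcount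
  have he : p ^ (k + 1) ≤ Nat.card Ω := by
    have h1 : 2 * k + 1 - 1 - 1 = (k + 1) + (2 * k + 1 - 1 - (k + 1 + 1)) := by omega
    rw [h1, pow_add] at hcount
    exact Nat.le_of_mul_le_mul_right hcount (pow_pos hp.out.pos _)
  have hle := L_le_of_normal_of_card hcard hcl' hm Ω (k + 1) he (by omega)
  intro a ha
  have : a ∈ Ω := hle (L_anti (by omega) ha)
  exact ((hΩ a).mp this).2

end Cfsg.Agent.Helper63.MC
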