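import Cfsg.Agent.Helper65.HP3

/-!
# Hall–Petrescu at `p` modulo `F p` (helper63)

A version of `Helper65.hall_petrescu_prime` without the hypothesis `F p = ⊥`: for a filtration
`F` and `x, y ∈ F 1` the element `(x y)^(-p) x^p y^p` lies in `℧₁(F 2) ⊔ F p`.
-/

set_option autoImplicit false

namespace Cfsg.Agent.Helper63.MC

open Cfsg.Agent.Helper65
open scoped commutatorElement

variable {G : Type*} [Group G]

/-- peeling binomial factors, modulo `F p`. -/
theorem pow_p_mem_of_poly_sup (Φ : Filtration G) (p : ℕ) [Fact p.Prime]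
    (d : ℕ) : ∀ (k : ℕ) (g : ℕ → G), k + d = p → 2 ≤ k → (∀ m, IsPoly Φ m 0 g) →
    (∀ n < k, g n = 1) → g p ∈ Cfsg.powerClosure p 1 (Φ.F 2) ⊔ Φ.F p := by
  induction d with
  | zero =>
    intro k g hk _ hg hv
    have hkp : k = p := by omega
    subst hkp
    have h1 := IsPoly.mem_of_vanish k 0 g (hg k) hv k
    rw [zero_add] at h1
    exact (le_sup_right : Φ.F k ≤ _) h1
  | succ d ih =>
    intro k g hk hk2 hg hv
    have hkp : k < p := by omega
    have hc : g k ∈ Φ.F (0 + k) := IsPoly.mem_of_vanish k 0 g (hg k) hv k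
    have hb : ∀ m, IsPoly Φ m 0 (fun n => (g k) ^ (n.choose k)) :=
      fun m => isPoly_choose Φ k m 0 hc
    have hg' : ∀ m, IsPoly Φ m 0 (fun n => g n * ((g k) ^ (n.choose k))⁻¹) :=
      fun m => (hg m).mul (hb m).inv
    have hv' : ∀ n < k + 1, g n * ((g k) ^ (n.choose k))⁻¹ = 1 := by
      intro n hn
      rcases Nat.lt_succ_iff_lt_or_eq.mp hn with h | h
      · rw [hv n h, Nat.choose_eq_zero_of_lt h]
        simp
      · subst h
        simp
    have h1 := ih (k + 1) _ (by omega) (by omega) hg' hv'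
    have h2 : g p = g p * ((g k) ^ (p.choose k))⁻¹ * (g k) ^ (p.choose k) := by
      rw [inv_mul_cancel_right]
    rw [h2]
    refine mul_mem h1 ((le_sup_left : Cfsg.powerClosure p 1 (Φ.F 2) ≤ _) ?_)
    obtain ⟨t, ht⟩ := (Fact.out : p.Prime).dvd_choose_self (by omega) hkp
    rw [ht, mul_comm, pow_mul]
    refine Subgroup.subset_closure ⟨g k ^ t, ?_, by rw [pow_one]⟩
    have hc2 : g k ∈ Φ.F 2 := Φ.mono (by omega) hc
    exact pow_mem hc2 t

/-- **Hall–Petrescu at `p`, modulo `F p`**. -/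
theorem hall_petrescu_prime_sup (Φ : Filtration G) (p : ℕ) [Fact p.Prime]
    {x y : G} (hx : x ∈ Φ.F 1) (hy : y ∈ Φ.F 1) :
    ((x * y) ^ p)⁻¹ * x ^ p * y ^ p ∈ Cfsg.powerClosure p 1 (Φ.F 2) ⊔ Φ.F p := by
  have hp2 : 2 ≤ p := (Fact.out : p.Prime).two_le
  have hg : ∀ m, IsPoly Φ m 0 (fun n => ((x * y) ^ n)⁻¹ * x ^ n * y ^ n) :=
    fun m => ((isPoly_pow Φ m (mul_mem hx hy)).inv.mul (isPoly_pow Φ m hx)).mul
      (isPoly_pow Φ m hy)
  refine pow_p_mem_of_poly_sup Φ p (p - 2) 2 _ (by omega) le_rfl hg ?_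
  intro n hn
  interval_cases n
  · simp
  · simp [mul_assoc]

end Cfsg.Agent.Helper63.MC
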