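import Cfsg.Agent.Helper63.MCUniform
import Cfsg.Agent.Helper63.MCHallPetrescu

/-!
# `p`-groups of maximal class: `p`-th powers of elements of the derived subgroup (helper63)

With a uniform element `s` (outside `twoStep 1, …, twoStep J`) the Hall–Petrescu formula for the
filtration `⟨s⟩ γ_{i+1} ≥ γ_{i+2} ≥ ⋯` shows `a ^ p ∈ L (J+1)` for all `a ∈ L 1`, if `J + 1 ≤ p`.
-/

set_option autoImplicit false

namespace Cfsg.Agent.Helper63.MC

open Subgroup Cfsg.Agent.Helper65
open scoped commutatorElement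

variable {T : Type*} [Group T]

/-- images of elements of `L i` are central modulo `L (i+1)` -/
theorem commute_mk_of_mem {i : ℕ} {w : T} (hw : w ∈ L T i) (q : T ⧸ L T (i + 1)) :
    Commute (QuotientGroup.mk w : T ⧸ L T (i + 1)) q := by
  induction q using QuotientGroup.induction_on with | _ t => ?_
  rw [← commutatorElement_eq_one_iff_commute]
  have : (⁅(QuotientGroup.mk w : T ⧸ L T (i + 1)), (QuotientGroup.mk t : T ⧸ L T (i + 1))⁆)
      = QuotientGroup.mk ⁅w, t⁆ := by
    simp only [commutatorElement_def, QuotientGroup.mk_mul, QuotientGroup.mk_inv]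
  rw [this, QuotientGroup.eq_one_iff]
  exact comm_mem_L_succ hw t

/-- `⟨s⟩ L i` is abelian modulo `L (i+1)`. -/
theorem commutator_sup_zpowers_le (s : T) (i : ℕ) :
    ⁅zpowers s ⊔ L T i, zpowers s ⊔ L T i⁆ ≤ L T (i + 1) := by
  rw [Subgroup.commutator_le]
  intro u hu v hv
  have hu' : u ∈ ((zpowers s ⊔ L T i : Subgroup T) : Set T) := hu
  have hv' : v ∈ ((zpowers s ⊔ L T i : Subgroup T) : Set T) := hv
  rw [Subgroup.mul_normal] at hu' hv'
  obtain ⟨a, ha, w, hw, rfl⟩ := Set.mem_mul.mp hu'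
  obtain ⟨b, hb, w', hw', rfl⟩ := Set.mem_mul.mp hv'
  obtain ⟨c, rfl⟩ := mem_zpowers_iff.mp ha
  obtain ⟨d, rfl⟩ := mem_zpowers_iff.mp hb
  rw [← QuotientGroup.eq_one_iff]
  have : (QuotientGroup.mk ⁅s ^ c * w, s ^ d * w'⁆ : T ⧸ L T (i + 1))
      = ⁅(QuotientGroup.mk (s ^ c) : T ⧸ L T (i + 1)) * QuotientGroup.mk w,
          (QuotientGroup.mk (s ^ d) : T ⧸ L T (i + 1)) * QuotientGroup.mk w'⁆ := by
    simp only [commutatorElement_def, QuotientGroup.mk_mul, QuotientGroup.mk_inv]
  rw [this, commutatorElement_eq_one_iff_commute]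
  have h1 : Commute (QuotientGroup.mk (s ^ c) : T ⧸ L T (i + 1)) (QuotientGroup.mk (s ^ d)) := by
    rw [QuotientGroup.mk_zpow, QuotientGroup.mk_zpow]
    exact (Commute.refl _).zpow_zpow c d
  have hcw := commute_mk_of_mem hw
  have hcw' := commute_mk_of_mem hw'
  exact ((h1.mul_right (hcw' _).symm)).mul_left (hcw _)

variable [Finite T]

/-- the terms of the filtration `⟨s⟩ L i = ⟨s⟩ L i ≥ L (i+1) ≥ L (i+2) ≥ ⋯`. -/
def hpF (s : T) (i : ℕ) (j : ℕ) : Subgroup T :=
  if j ≤ 1 then zpowers s ⊔ L T i else L T (i + j - 1)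

omit [Finite T] in
theorem hpF_of_le_one (s : T) (i : ℕ) {j : ℕ} (hj : j ≤ 1) : hpF s i j = zpowers s ⊔ L T i := by
  unfold hpF; rw [if_pos hj]

omit [Finite T] in
theorem hpF_of_two_le (s : T) (i : ℕ) {j : ℕ} (hj : 2 ≤ j) : hpF s i j = L T (i + j - 1) := by
  unfold hpF; rw [if_neg (by omega)]

/-- the filtration `⟨s⟩ L i = ⟨s⟩ L i ≥ L (i+1) ≥ L (i+2) ≥ ⋯`. -/
def hpFiltration (s : T) (i : ℕ) : Filtration T where
  F := hpF s i
  anti j := by
    by_cases hj : j + 1 ≤ 1
    · rw [hpF_of_le_one s i hj, hpF_of_le_one s i (by omega : j ≤ 1)]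
    · rw [hpF_of_two_le s i (by omega : 2 ≤ j + 1)]
      by_cases hj' : j ≤ 1
      · rw [hpF_of_le_one s i hj']
        exact le_trans (L_anti (by omega)) le_sup_right
      · rw [hpF_of_two_le s i (by omega : 2 ≤ j)]
        exact L_anti (by omega)
  comm a b := by
    by_cases ha : a ≤ 1 <;> by_cases hb : b ≤ 1
    · rw [hpF_of_le_one s i ha, hpF_of_le_one s i hb]
      by_cases hab : a + b ≤ 1
      · rw [hpF_of_le_one s i hab]
        exact Subgroup.commutator_le_self _
      · rw [hpF_of_two_le s i (by omega : 2 ≤ a + b)]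
        have : i + (a + b) - 1 = i + 1 := by omega
        rw [this]
        exact commutator_sup_zpowers_le s i
    · rw [hpF_of_le_one s i ha, hpF_of_two_le s i (by omega : 2 ≤ b),
        hpF_of_two_le s i (by omega : 2 ≤ a + b), Subgroup.commutator_comm]
      refine le_trans (Subgroup.commutator_mono le_rfl le_top) ?_
      rw [← L_succ]
      exact L_anti (by omega)
    · rw [hpF_of_le_one s i hb, hpF_of_two_le s i (by omega : 2 ≤ a),
        hpF_of_two_le s i (by omega : 2 ≤ a + b)]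
      refine le_trans (Subgroup.commutator_mono le_rfl le_top) ?_
      rw [← L_succ]
      exact L_anti (by omega)
    · rw [hpF_of_two_le s i (by omega : 2 ≤ a), hpF_of_two_le s i (by omega : 2 ≤ b),
        hpF_of_two_le s i (by omega : 2 ≤ a + b)]
      exact le_trans (L_comm _ _) (L_anti (by omega))

theorem hpFiltration_one (s : T) (i : ℕ) : (hpFiltration s i).F 1 = zpowers s ⊔ L T i :=
  hpF_of_le_one s i le_rfl

theorem hpFiltration_two (s : T) (i : ℕ) : (hpFiltration s i).F 2 = L T (i + 1) := by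
  show hpF s i 2 = _
  rw [hpF_of_two_le s i le_rfl]
  congr 1

theorem hpFiltration_of_two_le (s : T) (i : ℕ) {j : ℕ} (hj : 2 ≤ j) :
    (hpFiltration s i).F j = L T (i + j - 1) :=
  hpF_of_two_le s i hj

variable {p : ℕ} [hp : Fact p.Prime] {m : ℕ}

/-- `p`-th powers of elements of the derived subgroup lie in `L (J+1)`. -/
theorem pow_p_mem_L (hcard : Nat.card T = p ^ m)
    (hcl : Group.nilpotencyClass T = m - 1) (hm : 3 ≤ m) (J : ℕ) (hJm : J + 1 ≤ m - 1)
    (hJp : J + 1 ≤ p) {s : T} (hs : ∀ j, 1 ≤ j → j ≤ J → s ∉ twoStep T j) :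
    ∀ i, 1 ≤ i → ∀ a ∈ L T i, a ^ p ∈ L T (J + 1) := by
  have hpG : IsPGroup p T := IsPGroup.of_card hcard
  have _ : Group.IsNilpotent T := hpG.isNilpotent
  have key : ∀ d i, 1 ≤ i → m - 1 ≤ i + d → ∀ a ∈ L T i, a ^ p ∈ L T (J + 1) := by
    intro d
    induction d with
    | zero =>
      intro i _ hi a ha
      have : a ∈ L T (m - 1) := L_anti (by omega) ha
      rw [L_last hcl, Subgroup.mem_bot] at this
      rw [this, one_pow]; exact one_mem _
    | succ d ih =>
      intro i hi1 hi a ha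
      have hIH := ih (i + 1) (by omega) (by omega)
      have hsF : s ∈ (hpFiltration s i).F 1 := by
        rw [hpFiltration_one]
        exact (le_sup_left : zpowers s ≤ _) (mem_zpowers s)
      have haF : a ∈ (hpFiltration s i).F 1 := by
        rw [hpFiltration_one]
        exact (le_sup_right : L T i ≤ _) ha
      have hHP := hall_petrescu_prime_sup (hpFiltration s i) p hsF haF
      rw [hpFiltration_two, hpFiltration_of_two_le s i hp.out.two_le] at hHP
      have hle : Cfsg.powerClosure p 1 (L T (i + 1)) ⊔ L T (i + p - 1) ≤ L T (J + 1) := by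
        apply sup_le
        · unfold Cfsg.powerClosure
          rw [Subgroup.closure_le]
          rintro y ⟨b, hb, rfl⟩
          rw [pow_one]
          exact hIH b hb
        · exact L_anti (by omega)
      have hz := hle hHP
      have ha1 : a ∈ L T 1 := L_anti hi1 ha
      have h1 : (s * a) ^ p ∈ L T (J + 1) := pow_p_uniform_mem hcard hcl hm J hJm hs ha1
      have h2 : s ^ p ∈ L T (J + 1) := by
        have := pow_p_uniform_mem hcard hcl hm J hJm hs (one_mem (L T 1))
        rwa [mul_one] at this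
      have h3 : a ^ p = (s ^ p)⁻¹ * ((s * a) ^ p * (((s * a) ^ p)⁻¹ * s ^ p * a ^ p)) := by group
      rw [h3]
      exact mul_mem (inv_mem h2) (mul_mem h1 hz)
  intro i hi a ha
  exact key (m - 1) i hi (by omega) a ha

end Cfsg.Agent.Helper63.MC
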