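import Cfsg.Agent.Helper63.MCPower
import Cfsg.Agent.S4209
import Cfsg.Agent.S4210
import Cfsg.Agent.S4225

/-!
# Regular normal subgroups: counting `Ω₁` (helper63)

For a normal subgroup `R` of `T` which is a regular `p`-group and whose `p`-th powers lie in a
subgroup `C`, the elements of `R` of order dividing `p` form a normal subgroup `omegaOne` of `T`
with `|R| ≤ |omegaOne| * |C|`.
-/

set_option autoImplicit false

namespace Cfsg.Agent.Helper63.MC

open Subgroup
open scoped commutatorElement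

variable {T : Type*} [Group T] [Finite T] {p : ℕ} [hp : Fact p.Prime]

/-- `Ω₁(R)` of a regular subgroup `R`, as a subgroup of the ambient group. -/
theorem exists_omegaOne (R : Subgroup T) (hreg : Cfsg.IsRegularPGroup p ↥R) :
    ∃ Ω : Subgroup T, (∀ x, x ∈ Ω ↔ x ∈ R ∧ x ^ p = 1) := by
  obtain ⟨H, -, hH⟩ := Cfsg.Agent.S4225.result hreg 1
  refine ⟨H.map R.subtype, fun x => ?_⟩
  constructor
  · rintro ⟨y, hy, rfl⟩
    refine ⟨y.2, ?_⟩
    have : y ∈ (H : Set ↥R) := hy
    rw [hH] at this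
    have h1 : y ^ p ^ 1 = 1 := this
    rw [pow_one] at h1
    simpa using congrArg Subtype.val h1
  · rintro ⟨hxR, hxp⟩
    refine ⟨⟨x, hxR⟩, ?_, rfl⟩
    have : (⟨x, hxR⟩ : ↥R) ∈ (H : Set ↥R) := by
      rw [hH]
      show (⟨x, hxR⟩ : ↥R) ^ p ^ 1 = 1
      rw [pow_one]
      apply Subtype.ext
      simpa using hxp
    exact this

omit [Finite T] hp in
theorem omegaOne_normal (R : Subgroup T) [hRn : R.Normal] (Ω : Subgroup T)
    (hΩ : ∀ x, x ∈ Ω ↔ x ∈ R ∧ x ^ p = 1) : Ω.Normal := by
  constructor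
  intro x hx g
  rw [hΩ] at hx ⊢
  refine ⟨hRn.conj_mem x hx.1 g, ?_⟩
  rw [conj_pow, hx.2]; group

/-- the counting lemma for regular groups: `|R| ≤ |Ω₁(R)| · |C|` if all `p`-th powers lie in `C`. -/
theorem card_le_card_omegaOne_mul (R : Subgroup T) (hreg : Cfsg.IsRegularPGroup p ↥R)
    (Ω : Subgroup T) (hΩ : ∀ x, x ∈ Ω ↔ x ∈ R ∧ x ^ p = 1) (C : Subgroup T)
    (hC : ∀ x ∈ R, x ^ p ∈ C) : Nat.card R ≤ Nat.card Ω * Nat.card C := by
  have hΩR : Ω ≤ R := fun x hx => ((hΩ x).mp hx).1
  -- Ω inside R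
  have hcard : Nat.card (Ω.subgroupOf R) = Nat.card Ω := by
    exact Nat.card_congr (Subgroup.subgroupOfEquivOfLe hΩR).toEquiv
  have hmem : ∀ y : ↥R, y ∈ Ω.subgroupOf R ↔ y ^ p = 1 := by
    intro y
    rw [Subgroup.mem_subgroupOf, hΩ]
    constructor
    · rintro ⟨-, h⟩
      apply Subtype.ext
      simpa using h
    · intro h
      exact ⟨y.2, by simpa using congrArg Subtype.val h⟩
  have hfib : ∀ a b : ↥R, a⁻¹ * b ∈ Ω.subgroupOf R ↔ a ^ p = b ^ p := by
    intro a b
    rw [hmem]
    have h := Cfsg.Agent.S4210.result hreg a⁻¹ b⁻¹ 1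
    rw [pow_one, inv_inv] at h
    rw [← h, inv_pow, inv_pow, inv_inj]
  let f : ↥R → ↥C := fun x => ⟨(x : T) ^ p, hC x x.2⟩
  have hf : ∀ a b : ↥R, (QuotientGroup.leftRel (Ω.subgroupOf R)) a b → f a = f b := by
    intro a b hab
    rw [QuotientGroup.leftRel_apply] at hab
    have := (hfib a b).mp hab
    apply Subtype.ext
    show (a : T) ^ p = (b : T) ^ p
    simpa using congrArg Subtype.val this
  let F : (↥R ⧸ Ω.subgroupOf R) → ↥C := Quotient.lift f hf
  have hFinj : Function.Injective F := by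
    intro q1 q2
    induction q1 using Quotient.inductionOn with | _ a => ?_
    induction q2 using Quotient.inductionOn with | _ b => ?_
    intro h
    apply Quotient.sound
    show (QuotientGroup.leftRel (Ω.subgroupOf R)) a b
    rw [QuotientGroup.leftRel_apply, hfib]
    have h1 : f a = f b := h
    have h2 : (a : T) ^ p = (b : T) ^ p := congrArg Subtype.val h1
    apply Subtype.ext
    simpa using h2
  have h1 : Nat.card (↥R ⧸ Ω.subgroupOf R) ≤ Nat.card C := Nat.card_le_card_of_injective F hFinj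
  have h2 := Subgroup.card_eq_card_quotient_mul_card_subgroup (Ω.subgroupOf R)
  rw [h2, hcard, mul_comm]
  exact Nat.mul_le_mul_left _ h1

/-- the lower central series of the derived subgroup descends twice as fast. -/
theorem lcs_L_one_le (n : ℕ) : (L T 1).lowerCentralSeries n ≤ L T (2 * n + 1) := by
  induction n with
  | zero => exact le_rfl
  | succ n ih =>
    rw [Subgroup.lowerCentralSeries_succ]
    refine le_trans (Subgroup.commutator_mono ih le_rfl) ?_
    refine le_trans (L_comm _ _) (L_anti (by omega))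

/-- the derived subgroup is regular if `L (2p-1) = ⊥`. -/
theorem isRegular_L_one (hT : IsPGroup p T) (hbot : L T (2 * (p - 1) + 1) = ⊥) :
    Cfsg.IsRegularPGroup p ↥(L T 1) := by
  apply Cfsg.Agent.S4209.result (hT.to_subgroup _)
  have h1 := lcs_L_one_le (T := T) (p - 1)
  rw [hbot, le_bot_iff, ← Subgroup.top_subtype_lowerCentralSeries] at h1
  exact (Subgroup.map_eq_bot_iff_of_injective _ (Subgroup.subtype_injective _)).mp h1

end Cfsg.Agent.Helper63.MC
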