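import Cfsg.Agent.Helper63.MCBasic

/-!
# `p`-groups of maximal class: existence of elements outside the first two-step centralizers
and the bound on their centralizers in the derived subgroup (helper63)
-/

set_option autoImplicit false

namespace Cfsg.Agent.Helper63.MC

open Subgroup
open scoped commutatorElement

variable {T : Type*} [Group T] [Finite T] {p : ℕ} [hp : Fact p.Prime] {m : ℕ}

/-- in a group of maximal class of order `≥ p^3`, `p`-th powers lie in the derived subgroup. -/
theorem pow_p_mem_L_one (hcard : Nat.card T = p ^ m)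
    (hcl : Group.nilpotencyClass T = m - 1) (hm : 3 ≤ m) (x : T) : x ^ p ∈ L T 1 := by
  have hpG : IsPGroup p T := IsPGroup.of_card hcard
  have hidx : (L T 1).index = p ^ 2 := Cfsg.Agent.S0662.index_lcs m hcard hcl hm 1 le_rfl (by omega)
  have hQ : Nat.card (T ⧸ L T 1) = p ^ 2 := by
    rw [← Subgroup.index_eq_card]; exact hidx
  have hdvd : orderOf (QuotientGroup.mk x : T ⧸ L T 1) ∣ p ^ 2 := by
    rw [← hQ]; exact orderOf_dvd_natCard _
  obtain ⟨e, he, heq⟩ := (Nat.dvd_prime_pow hp.out).mp hdvd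
  have hne2 : e ≠ 2 := by
    rintro rfl
    -- the quotient is cyclic generated by the image of x
    have hz : zpowers (QuotientGroup.mk x : T ⧸ L T 1) = ⊤ := by
      apply Subgroup.eq_top_of_card_eq
      rw [Nat.card_zpowers, heq, hQ]
    have hsup : zpowers x ⊔ commutator T = ⊤ := by
      rw [eq_top_iff]
      intro t _
      have ht : (QuotientGroup.mk t : T ⧸ L T 1) ∈ zpowers (QuotientGroup.mk x : T ⧸ L T 1) := by
        rw [hz]; exact mem_top _
      obtain ⟨c, hc⟩ := mem_zpowers_iff.mp ht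
      rw [← QuotientGroup.mk_zpow] at hc
      have h1 : (x ^ c)⁻¹ * t ∈ L T 1 := QuotientGroup.eq.mp hc
      have h2 : t = x ^ c * ((x ^ c)⁻¹ * t) := by group
      rw [h2]
      exact mul_mem ((le_sup_left : zpowers x ≤ _) (zpow_mem (mem_zpowers x) c))
        ((le_sup_right : commutator T ≤ _) h1)
    have hcyc : zpowers x = ⊤ := Cfsg.Agent.Helper70.zpowers_eq_top_of_sup_commutator hpG x hsup
    have hL1 : L T 1 = ⊥ := by
      rw [eq_bot_iff]
      show ⁅(⊤ : Subgroup T), (⊤ : Subgroup T)⁆ ≤ ⊥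
      rw [Subgroup.commutator_le]
      intro a _ b _
      have ha : a ∈ zpowers x := by rw [hcyc]; exact mem_top a
      have hb : b ∈ zpowers x := by rw [hcyc]; exact mem_top b
      obtain ⟨i, rfl⟩ := mem_zpowers_iff.mp ha
      obtain ⟨j, rfl⟩ := mem_zpowers_iff.mp hb
      rw [Subgroup.mem_bot, commutatorElement_eq_one_iff_commute]
      exact (Commute.refl x).zpow_zpow i j
    rw [hL1, Subgroup.index_bot, hcard] at hidx
    have := Nat.pow_right_injective hp.out.two_le hidx
    omega
  have he1 : e ≤ 1 := by omega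
  have h1 : (QuotientGroup.mk x : T ⧸ L T 1) ^ p = 1 := by
    have : orderOf (QuotientGroup.mk x : T ⧸ L T 1) ∣ p := by
      rw [heq]
      exact pow_dvd_pow p he1 |>.trans (by rw [pow_one])
    exact orderOf_dvd_iff_pow_eq_one.mp this
  rw [← QuotientGroup.mk_pow, QuotientGroup.eq_one_iff] at h1
  exact h1

theorem twoStep_ne_top (hcard : Nat.card T = p ^ m)
    (hcl : Group.nilpotencyClass T = m - 1) (hm : 3 ≤ m) {j : ℕ} (h2 : j + 2 ≤ m - 1) :
    twoStep T j ≠ ⊤ := by
  intro htop
  apply L_succ_ne hcard hcl hm (by omega : 1 ≤ j + 1) (by omega : j + 1 + 1 ≤ m - 1)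
  rw [L_succ, Subgroup.commutator_le]
  intro y hy x _
  have hx : x ∈ twoStep T j := by rw [htop]; exact mem_top x
  exact hx y hy

theorem card_mul_le_of_ne_top (hcard : Nat.card T = p ^ m) {H : Subgroup T} (hH : H ≠ ⊤) :
    Nat.card H * p ≤ p ^ m := by
  have hpG : IsPGroup p T := IsPGroup.of_card hcard
  obtain ⟨e, he⟩ := hpG.index H
  have he0 : e ≠ 0 := by
    rintro rfl
    rw [pow_zero] at he
    exact hH (Subgroup.index_eq_one.mp he)
  have hmul := Subgroup.card_mul_index H
  rw [he, hcard] at hmul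
  rw [← hmul]
  apply Nat.mul_le_mul_left
  calc p = p ^ 1 := (pow_one p).symm
    _ ≤ p ^ e := Nat.pow_le_pow_right hp.out.pos (by omega)

/-- there is an element outside the two-step centralizers `twoStep 1, …, twoStep J` if `J < p`. -/
theorem exists_uniform (hcard : Nat.card T = p ^ m)
    (hcl : Group.nilpotencyClass T = m - 1) (hm : 3 ≤ m) (J : ℕ) (hJp : J < p)
    (hJm : J + 2 ≤ m - 1) : ∃ s : T, ∀ j, 1 ≤ j → j ≤ J → s ∉ twoStep T j := by
  classical
  by_contra hnot
  push Not at hnot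
  have _ : Fintype T := Fintype.ofFinite T
  have hcover : (Finset.univ : Finset T) ⊆
      (Finset.Icc 1 J).biUnion (fun j => ((twoStep T j : Set T)).toFinset) := by
    intro s _
    obtain ⟨j, h1, h2, h3⟩ := hnot s
    rw [Finset.mem_biUnion]
    exact ⟨j, Finset.mem_Icc.mpr ⟨h1, h2⟩, by simpa using h3⟩
  have h1 := Finset.card_le_card hcover
  have h2 := Finset.card_biUnion_le (s := Finset.Icc 1 J)
    (t := fun j => ((twoStep T j : Set T)).toFinset)
  have h3 : ∀ j ∈ Finset.Icc 1 J, (((twoStep T j : Set T)).toFinset).card * p ≤ p ^ m := by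
    intro j hj
    have hj' := Finset.mem_Icc.mp hj
    have := card_mul_le_of_ne_top hcard
      (twoStep_ne_top hcard hcl hm (by omega : j + 2 ≤ m - 1))
    rw [Nat.card_eq_fintype_card] at this
    rw [Set.toFinset_card]
    convert this
    exact Iff.rfl
  have h4 : (∑ j ∈ Finset.Icc 1 J, (((twoStep T j : Set T)).toFinset).card) * p ≤ J * p ^ m := by
    rw [Finset.sum_mul]
    calc ∑ j ∈ Finset.Icc 1 J, (((twoStep T j : Set T)).toFinset).card * p
        ≤ ∑ _j ∈ Finset.Icc 1 J, p ^ m := Finset.sum_le_sum h3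
      _ = J * p ^ m := by simp
  have h5 : Fintype.card T = p ^ m := by rw [← Nat.card_eq_fintype_card]; exact hcard
  rw [Finset.card_univ, h5] at h1
  have h6 : p ^ m * p ≤ J * p ^ m := le_trans (Nat.mul_le_mul_right p (le_trans h1 h2)) h4
  have hpos : 0 < p ^ m := pow_pos hp.out.pos m
  rw [mul_comm (p ^ m) p] at h6
  have := Nat.le_of_mul_le_mul_right h6 hpos
  omega

/-- an element of the derived subgroup commuting with a "uniform" element lies deep. -/
theorem mem_L_of_commute_uniform (hcard : Nat.card T = p ^ m)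
    (hcl : Group.nilpotencyClass T = m - 1) (hm : 3 ≤ m) (J : ℕ) (hJm : J + 1 ≤ m - 1)
    {s : T} (hs : ∀ j, 1 ≤ j → j ≤ J → s ∉ twoStep T j) {x : T} (hx : x ∈ L T 1)
    (hxs : Commute x s) : x ∈ L T (J + 1) := by
  have key : ∀ j, 1 ≤ j → j ≤ J + 1 → x ∈ L T j := by
    intro j
    induction j with
    | zero => intro h; omega
    | succ j ih =>
      intro _ h2
      rcases Nat.eq_zero_or_pos j with rfl | hj
      · exact hx
      have hxj := ih hj (by omega)
      by_contra hnot
      apply hs j hj (by omega)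
      have hLj := L_eq_sup_zpowers hcard hcl hm hj (by omega) hxj hnot
      intro y hy
      rw [hLj] at hy
      have hy' : y ∈ ((zpowers x ⊔ L T (j + 1) : Subgroup T) : Set T) := hy
      rw [Subgroup.mul_normal] at hy'
      obtain ⟨u, hu, w, hw, rfl⟩ := Set.mem_mul.mp hy'
      obtain ⟨c, rfl⟩ := mem_zpowers_iff.mp hu
      have hcs : Commute (x ^ c) s := hxs.zpow_left c
      have h : ⁅x ^ c * w, s⁆ = x ^ c * ⁅w, s⁆ * (x ^ c)⁻¹ := by
        simp only [commutatorElement_def]
        have e1 : s⁻¹ = (x ^ c) * s⁻¹ * (x ^ c)⁻¹ := by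
          have := hcs.inv_right
          rw [this.eq]; group
        calc x ^ c * w * s * (x ^ c * w)⁻¹ * s⁻¹
            = x ^ c * w * s * w⁻¹ * (x ^ c)⁻¹ * s⁻¹ := by group
          _ = x ^ c * w * s * w⁻¹ * (x ^ c)⁻¹ * ((x ^ c) * s⁻¹ * (x ^ c)⁻¹) := by rw [← e1]
          _ = x ^ c * (w * s * w⁻¹ * s⁻¹) * (x ^ c)⁻¹ := by group
      rw [h]
      exact (inferInstance : (L T (j + 2)).Normal).conj_mem _ (comm_mem_L_succ hw s) _
  exact key (J + 1) (by omega) le_rfl

/-- `p`-th powers of elements of the coset `s T'` of a uniform element lie deep. -/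
theorem pow_p_uniform_mem (hcard : Nat.card T = p ^ m)
    (hcl : Group.nilpotencyClass T = m - 1) (hm : 3 ≤ m) (J : ℕ) (hJm : J + 1 ≤ m - 1)
    {s : T} (hs : ∀ j, 1 ≤ j → j ≤ J → s ∉ twoStep T j) {a : T} (ha : a ∈ L T 1) :
    (s * a) ^ p ∈ L T (J + 1) := by
  have hs' : ∀ j, 1 ≤ j → j ≤ J → s * a ∉ twoStep T j := by
    intro j h1 h2 h
    exact hs j h1 h2 ((twoStep_mul_iff ha).mp h)
  exact mem_L_of_commute_uniform hcard hcl hm J hJm hs' (pow_p_mem_L_one hcard hcl hm (s * a))
    ((Commute.refl (s * a)).pow_left p)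

end Cfsg.Agent.Helper63.MC
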