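import Mathlib
import Cfsg.Agent.Helper79.Mult.Defs

/-!
# S4756 farm (helper79), leaf (CPA): an element commuting with `y` commutes with the abelian group `A ∋ y`.
-/

set_option autoImplicit false
set_option linter.unusedSectionVars false

universe u

namespace Cfsg.Agent.Helper63.Mult

open Cfsg Cfsg.Agent.Helper79.Mult
open scoped commutatorElement

variable {G : Type u} [Group G] [Finite G]

/-- (CPA) an element commuting with `y` commutes with all of the abelian group `A ∋ y`:
`a c a⁻¹ c⁻¹ ∈ G'` commutes with `y`. -/
theorem commute_of_commute_single (A : Subgroup G) (hA : ∀ a ∈ A, ∀ b ∈ A, a * b = b * a)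
    (y : G) (hyA : y ∈ A) (hfpf : ∀ d ∈ commutator G, y * d = d * y → d = 1)
    (c : G) (hc : y * c = c * y) : ∀ a ∈ A, a * c = c * a := by
  intro a ha
  have hd : ⁅a, c⁆ ∈ commutator G := by
    rw [commutator_def]
    exact Subgroup.commutator_mem_commutator (Subgroup.mem_top a) (Subgroup.mem_top c)
  have hya : Commute y a := hA y hyA a ha
  have hyc : Commute y c := hc
  have hyd : Commute y ⁅a, c⁆ := by
    rw [commutatorElement_def]
    exact ((hya.mul_right hyc).mul_right hya.inv_right).mul_right hyc.inv_right
  have h1 : ⁅a, c⁆ = 1 := hfpf _ hd hyd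
  exact commutatorElement_eq_one_iff_mul_comm.1 h1

end Cfsg.Agent.Helper63.Mult
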