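import Mathlib
import Cfsg.Agent.Helper79.Mult.Defs
import Cfsg.Agent.Helper79.CharBasic
import Cfsg.Agent.Helper74.CharBasic
import Cfsg.Agent.Helper82.Knorr
import Cfsg.Agent.Helper15.LinChar
import Cfsg.Agent.S0154

/-!
# S4756 farm (helper79), leaf (SPLIT): column orthogonality split into linear and nonlinear characters.
-/

set_option autoImplicit false
set_option linter.unusedSectionVars false

universe u

namespace Cfsg.Agent.Helper63.Mult

open Cfsg Cfsg.Agent.Helper79.Mult

variable {G : Type u} [Group G] [Finite G]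

/-- (SPLIT) column orthogonality split into linear and nonlinear characters. -/
theorem card_centralizer_eq_add (g : G) :
    (Nat.card (Subgroup.centralizer ({g} : Set G)) : ℝ) =
      ((commutator G).index : ℝ) + ∑ᶠ χ : {χ : IrrCharacter G // (χ : G → ℂ) 1 ≠ 1}, ‖((χ : IrrCharacter G) : G → ℂ) g‖ ^ 2 := by
  classical
  have : Fintype G := Fintype.ofFinite G
  have : Finite (IrrCharacter G) := Helper79.irr_finite'
  have : Fintype (IrrCharacter G) := Fintype.ofFinite _
  rw [← Helper82.sum_irr_normSq_eq_card_centralizer g,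
    ← Finset.sum_filter_add_sum_filter_not Finset.univ
      (fun χ : IrrCharacter G => (χ : G → ℂ) 1 = 1)]
  congr 1
  · have h1 : ∀ χ ∈ Finset.univ.filter (fun χ : IrrCharacter G => (χ : G → ℂ) 1 = 1),
        ‖(χ : G → ℂ) g‖ ^ 2 = (1 : ℝ) := by
      intro χ hχ
      rw [Helper15.linChar_norm (Helper74.irr_isCharacter χ) (Finset.mem_filter.1 hχ).2 g, one_pow]
    rw [Finset.sum_congr rfl h1, Finset.sum_const, nsmul_eq_mul, mul_one,
      ← Cfsg.Agent.S0154.result, Nat.card_eq_fintype_card, Fintype.card_subtype]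
  · rw [finsum_eq_sum_of_fintype]
    exact Finset.sum_subtype _ (fun χ => by simp) _

end Cfsg.Agent.Helper63.Mult
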