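import Mathlib

set_option autoImplicit false
set_option linter.unusedSectionVars false
set_option linter.unusedVariables false

/-!
# S2517, case (C7), piece (ARL) for helper99: the least common multiples (pure `ℕ`).
-/

namespace Cfsg.Agent.Helper63.O9

theorem ARL_gcd_dvd_two {a b x y : ℕ} (h : a * x = b * y + 2) : Nat.gcd a b ∣ 2 := by
  have h1 : Nat.gcd a b ∣ b * y + 2 := h ▸ Dvd.dvd.mul_right (Nat.gcd_dvd_left a b) x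
  exact (Nat.dvd_add_right (Dvd.dvd.mul_right (Nat.gcd_dvd_right a b) y)).1 h1

theorem ARL_half_dvd_lcm {a b T : ℕ} (ha : 2 ∣ a) (hb : 2 ∣ b) (hg : Nat.gcd a b ∣ 2)
    (hT : T = a * b) : T / 2 ∣ Nat.lcm a b := by
  have h2 : Nat.gcd a b = 2 := Nat.dvd_antisymm hg (Nat.dvd_gcd ha hb)
  subst hT
  unfold Nat.lcm
  rw [h2]

theorem ARL_half_dvd_lcm' {a b T : ℕ} (ha : 2 ∣ a) (hb : 2 ∣ b) (hg : Nat.gcd b a ∣ 2)
    (hT : T = a * b) : T / 2 ∣ Nat.lcm a b :=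
  ARL_half_dvd_lcm ha hb (Nat.gcd_comm a b ▸ hg) hT

theorem ARL_cop_of_add {q M x : ℕ} (h : M + 1 = q * x) : Nat.Coprime q M := by
  have hd : Nat.gcd q M ∣ 1 := by
    have h1 : Nat.gcd q M ∣ M + 1 := h ▸ Dvd.dvd.mul_right (Nat.gcd_dvd_left q M) x
    exact (Nat.dvd_add_right (Nat.gcd_dvd_right q M)).1 h1
  exact Nat.dvd_one.1 hd

theorem ARL_cop_of_sub {q M x : ℕ} (h : M = q * x + 1) : Nat.Coprime q M := by
  have hd : Nat.gcd q M ∣ 1 := by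
    have h1 : Nat.gcd q M ∣ q * x + 1 := h ▸ Nat.gcd_dvd_right q M
    exact (Nat.dvd_add_right (Dvd.dvd.mul_right (Nat.gcd_dvd_left q M) x)).1 h1
  exact Nat.dvd_one.1 hd

/-- `p * (T / 2) ∣ lcm p (lcm a b)` when `T = a * b`, `gcd a b = 2` and `p` is prime to `a * b` -/
theorem ARL_mul_half_dvd {P a b T : ℕ} (ha : 2 ∣ a) (hb : 2 ∣ b) (hg : Nat.gcd a b ∣ 2)
    (hT : T = a * b) (hcop : Nat.Coprime P (a * b)) :
    P * (T / 2) ∣ Nat.lcm P (Nat.lcm a b) := by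
  have h1 : T / 2 ∣ Nat.lcm a b := ARL_half_dvd_lcm ha hb hg hT
  have h2 : T / 2 ∣ a * b := by
    rw [← hT]
    exact Nat.div_dvd_of_dvd (hT ▸ Dvd.dvd.mul_right ha b)
  have h3 : Nat.Coprime P (T / 2) := Nat.Coprime.coprime_dvd_right h2 hcop
  exact Nat.Coprime.mul_dvd_of_dvd_of_dvd h3 (Nat.dvd_lcm_left _ _)
    (h1.trans (Nat.dvd_lcm_right _ _))

/-- (ARL) the least common multiples: each from two coprime divisors -/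
theorem lcm_facts (q p : ℕ) (hq : Odd q) (hq3 : 3 ≤ q) (hp : p.Prime) (hpq : p ∣ q) :
    (q ^ 4 - 1) / 2 ∣ Nat.lcm (q ^ 2 + 1) (q ^ 2 - 1) ∧
    (q ^ 3 - 1) * (q + 1) / 2 ∣ Nat.lcm (q ^ 3 - 1) (q + 1) ∧
    (q ^ 3 + 1) * (q - 1) / 2 ∣ Nat.lcm (q ^ 3 + 1) (q - 1) ∧
    p * ((q ^ 2 + 1) * (q + 1) / 2) ∣ Nat.lcm (p ^ (0 + 1)) (Nat.lcm (q ^ 2 + 1) (q + 1)) ∧
    p * ((q ^ 2 + 1) * (q - 1) / 2) ∣ Nat.lcm (p ^ (0 + 1)) (Nat.lcm (q ^ 2 + 1) (q - 1)) ∧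
    p * (q ^ 2 - 1) ∣ Nat.lcm (p ^ (0 + 1)) (Nat.lcm (q ^ 2 - 1) (q - 1)) ∧
    (p = 3 → 9 * ((q ^ 2 - 1) / 2) ∣ Nat.lcm (p ^ (1 + 1)) (Nat.lcm (q - 1) (q + 1))) := by
  obtain ⟨h, rfl⟩ := hq
  -- the truncated subtractions
  have e1m : 2 * h + 1 - 1 = 2 * h := by omega
  have e2m : (2 * h + 1) ^ 2 - 1 = 4 * h ^ 2 + 4 * h := by
    have : (2 * h + 1) ^ 2 = 4 * h ^ 2 + 4 * h + 1 := by ring
    omega
  have e3m : (2 * h + 1) ^ 3 - 1 = 8 * h ^ 3 + 12 * h ^ 2 + 6 * h := by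
    have : (2 * h + 1) ^ 3 = 8 * h ^ 3 + 12 * h ^ 2 + 6 * h + 1 := by ring
    omega
  have e4m : (2 * h + 1) ^ 4 - 1 = 16 * h ^ 4 + 32 * h ^ 3 + 24 * h ^ 2 + 8 * h := by
    have : (2 * h + 1) ^ 4 = 16 * h ^ 4 + 32 * h ^ 3 + 24 * h ^ 2 + 8 * h + 1 := by ring
    omega
  -- parities
  have d1m : 2 ∣ 2 * h + 1 - 1 := by rw [e1m]; exact ⟨h, rfl⟩
  have d1p : 2 ∣ 2 * h + 1 + 1 := ⟨h + 1, by ring⟩
  have d2m : 2 ∣ (2 * h + 1) ^ 2 - 1 := by rw [e2m]; exact ⟨2 * h ^ 2 + 2 * h, by ring⟩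
  have d2p : 2 ∣ (2 * h + 1) ^ 2 + 1 := ⟨2 * h ^ 2 + 2 * h + 1, by ring⟩
  have d3m : 2 ∣ (2 * h + 1) ^ 3 - 1 := by
    rw [e3m]; exact ⟨4 * h ^ 3 + 6 * h ^ 2 + 3 * h, by ring⟩
  have d3p : 2 ∣ (2 * h + 1) ^ 3 + 1 := ⟨4 * h ^ 3 + 6 * h ^ 2 + 3 * h + 1, by ring⟩
  -- coprimality with `q`
  have c2p : Nat.Coprime (2 * h + 1) ((2 * h + 1) ^ 2 + 1) :=
    ARL_cop_of_sub (x := 2 * h + 1) (by ring)
  have c1p : Nat.Coprime (2 * h + 1) (2 * h + 1 + 1) := ARL_cop_of_sub (x := 1) (by ring)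
  have c1m : Nat.Coprime (2 * h + 1) (2 * h + 1 - 1) := by
    apply ARL_cop_of_add (x := 1); omega
  have c2m : Nat.Coprime (2 * h + 1) ((2 * h + 1) ^ 2 - 1) := by
    apply ARL_cop_of_add (x := 2 * h + 1)
    rw [e2m]; ring
  have hp1 : p ^ (0 + 1) = p := by rw [zero_add, pow_one]
  have cp : ∀ M, Nat.Coprime (2 * h + 1) M → Nat.Coprime p M :=
    fun M hM => Nat.Coprime.coprime_dvd_left hpq hM
  refine ⟨?_, ?_, ?_, ?_, ?_, ?_, ?_⟩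
  · refine ARL_half_dvd_lcm d2p d2m (ARL_gcd_dvd_two (x := 1) (y := 1) ?_) ?_
    · rw [e2m]; ring
    · rw [e4m, e2m]; ring
  · refine ARL_half_dvd_lcm' d3m d1p (ARL_gcd_dvd_two (x := 4 * h ^ 2 + 2 * h + 1) (y := 1) ?_) rfl
    rw [e3m]; ring
  · refine ARL_half_dvd_lcm d3p d1m (ARL_gcd_dvd_two (x := 1) (y := 4 * h ^ 2 + 6 * h + 3) ?_) rfl
    rw [e1m]; ring
  · rw [hp1]
    refine ARL_mul_half_dvd d2p d1p (ARL_gcd_dvd_two (x := 1) (y := 2 * h) ?_) rfl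
      (cp _ (Nat.Coprime.mul_right c2p c1p))
    ring
  · rw [hp1]
    refine ARL_mul_half_dvd d2p d1m (ARL_gcd_dvd_two (x := 1) (y := 2 * h + 2) ?_) rfl
      (cp _ (Nat.Coprime.mul_right c2p c1m))
    rw [e1m]; ring
  · rw [hp1]
    exact Nat.Coprime.mul_dvd_of_dvd_of_dvd (cp _ c2m) (Nat.dvd_lcm_left _ _)
      ((Nat.dvd_lcm_left _ _).trans (Nat.dvd_lcm_right _ _))
  · intro hp3
    subst hp3
    have h9 : 3 ^ (1 + 1) = 9 := by norm_num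
    rw [h9]
    have hg : Nat.gcd (2 * h + 1 - 1) (2 * h + 1 + 1) ∣ 2 := by
      rw [Nat.gcd_comm]
      refine ARL_gcd_dvd_two (x := 1) (y := 1) ?_
      rw [e1m]; ring
    have hT : (2 * h + 1) ^ 2 - 1 = (2 * h + 1 - 1) * (2 * h + 1 + 1) := by
      rw [e2m, e1m]; ring
    have hcop : Nat.Coprime 9 ((2 * h + 1 - 1) * (2 * h + 1 + 1)) := by
      have h3 : Nat.Coprime 3 ((2 * h + 1 - 1) * (2 * h + 1 + 1)) :=
        cp _ (Nat.Coprime.mul_right c1m c1p)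
      have := Nat.Coprime.pow_left 2 h3
      norm_num at this
      exact this
    exact ARL_mul_half_dvd d1m d1p hg hT hcop

end Cfsg.Agent.Helper63.O9
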