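import Mathlib
import Cfsg.Agent.Helper94.Eo.P_STEP
import Cfsg.Agent.Helper94.Eo.P_BLK
import Cfsg.Agent.Helper94.Eo.P_F1
import Cfsg.Agent.Helper94.Eo.P_F2
import Cfsg.Agent.Helper94.Eo.P_REV

set_option autoImplicit false
set_option linter.unusedSectionVars false
set_option linter.unusedVariables false

/-!
# S2517, case (C7), piece (PEELO) for helper99: peel one primary block off a self-reciprocal polynomial
without the roots `±1` (any characteristic; the odd-characteristic copy of helper94's `Sg.peel`).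
-/

namespace Cfsg.Agent.Helper63.O9

open Matrix Polynomial Cfsg.Agent.Helper94

universe u

variable {F : Type u} [Field F] [Fintype F]

theorem PEELO_coeff_zero_ne {ψ f : F[X]} (hsr : Eo.SR ψ) (hdvd : f ∣ ψ) : f.coeff 0 ≠ 0 := by
  intro h
  obtain ⟨g, rfl⟩ := hdvd
  apply hsr.1
  rw [mul_coeff_zero, h, zero_mul]

theorem PEELO_not_dvd {ψ f : F[X]} (hf : Irreducible f) (hdvd : f ∣ ψ) (h1 : ψ.eval 1 ≠ 0)
    (h1' : ψ.eval (-1) ≠ 0) : ¬ f ∣ X ^ 2 - 1 := by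
  intro h
  have h2 : (X ^ 2 - 1 : F[X]) = (X - C (1 : F)) * (X - C (-1 : F)) := by
    simp only [map_one, map_neg]
    ring
  rw [h2] at h
  have key : ∀ a : F, f ∣ X - C a → ψ.eval a = 0 := by
    intro a h3
    have h4 : Associated f (X - C a) := hf.associated_of_dvd (irreducible_X_sub_C a) h3
    have h5 : (X - C a) ∣ ψ := h4.symm.dvd.trans hdvd
    rw [dvd_iff_isRoot] at h5
    exact h5
  rcases hf.prime.dvd_or_dvd h with h3 | h3
  · exact h1 (key 1 h3)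
  · exact h1' (key (-1) h3)

theorem PEELO_eval_factor {ψ B ψ' : F[X]} (h : ψ = B * ψ') (a : F) (h1 : ψ.eval a ≠ 0) :
    ψ'.eval a ≠ 0 := by
  intro h0
  apply h1
  rw [h, eval_mul, h0, mul_zero]

theorem PEELO_eq_one {ψ' : F[X]} {r k μ : ℕ} (hm : ψ'.Monic) (hdeg : ψ'.natDegree = 2 * (r - k * μ))
    (hμ : μ = 1) (hk : k = r) : ψ' = 1 := by
  subst hμ hk
  rw [mul_one, Nat.sub_self, mul_zero] at hdeg
  exact hm.natDegree_eq_zero.1 hdeg

/-- (PEELO) -/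
theorem peel_odd (hF : Odd (Fintype.card F)) {ψ : F[X]} {r : ℕ} (hr : 1 ≤ r) (hm : ψ.Monic)
    (hsr : Eo.SR ψ) (h1 : ψ.eval 1 ≠ 0) (h1' : ψ.eval (-1) ≠ 0) (hdeg : ψ.natDegree = 2 * r) :
    ∃ (k μ e : ℕ) (B ψ' : F[X]), 1 ≤ k ∧ 1 ≤ μ ∧ k * μ ≤ r ∧
      (e = Fintype.card F ^ k + 1 ∨ e = Fintype.card F ^ k - 1) ∧
      ψ = B * ψ' ∧ IsCoprime B ψ' ∧
      B ∣ X ^ (e * ringChar F ^ Nat.clog (ringChar F) μ) - 1 ∧
      ψ'.Monic ∧ Eo.SR ψ' ∧ ψ'.eval 1 ≠ 0 ∧ ψ'.eval (-1) ≠ 0 ∧ ψ'.natDegree = 2 * (r - k * μ) ∧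
      (μ = 1 → k = r → (Irreducible ψ ∨
        ∃ f : F[X], f.Monic ∧ Irreducible f ∧ Eo.mrev f ≠ f ∧ ψ = f * Eo.mrev f)) := by
  have hnu : ¬ IsUnit ψ := by
    intro hu
    have := natDegree_eq_zero_of_isUnit hu
    omega
  obtain ⟨f, hfm, hf, hdvd⟩ := exists_monic_irreducible_factor ψ hnu
  have h0 : f.coeff 0 ≠ 0 := PEELO_coeff_zero_ne hsr hdvd
  by_cases hrev : Eo.mrev f = f
  · obtain ⟨μ, ψ', hμ, hψ, hψ'm, hψ'sr, hcop⟩ := Eo.step_A hm hsr hf hfm hdvd hrev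
    have hsrf : Eo.SR f := Eo.sr_of_mrev_eq h0 hrev
    have h2 : ¬ f ∣ X ^ 2 - 1 := PEELO_not_dvd hf hdvd h1 h1'
    obtain ⟨k, hk, hkdeg, hkdvd⟩ := Eo.sr_irreducible_dvd hf hsrf h2
    have hB := Eo.BLK_pow_dvd hkdvd μ
    have hdegB : (f ^ μ).natDegree = 2 * (k * μ) := by
      rw [hfm.natDegree_pow, hkdeg]; ring
    have hdegψ : ψ.natDegree = (f ^ μ).natDegree + ψ'.natDegree := by
      conv_lhs => rw [hψ]
      exact (hfm.pow μ).natDegree_mul hψ'm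
    rw [hdeg, hdegB] at hdegψ
    have hdeg' : ψ'.natDegree = 2 * (r - k * μ) := by omega
    refine ⟨k, μ, Fintype.card F ^ k + 1, f ^ μ, ψ', hk, hμ, by omega, Or.inl rfl, hψ, hcop, hB,
      hψ'm, hψ'sr, PEELO_eval_factor hψ 1 h1, PEELO_eval_factor hψ (-1) h1', hdeg', ?_⟩
    intro hμ1 hkr
    left
    have h1ψ' : ψ' = 1 := PEELO_eq_one hψ'm hdeg' hμ1 hkr
    rw [hψ, h1ψ', hμ1, pow_one, mul_one]
    exact hf
  · obtain ⟨μ, ψ', hμ, hψ, hψ'm, hψ'sr, hcop⟩ := Eo.step_B hm hsr hf hfm hdvd hrev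
    have hl : 1 ≤ f.natDegree := Irreducible.natDegree_pos hf
    have hirr : Irreducible (Eo.mrev f) := Eo.mrev_irreducible hf h0
    have hd1 : f ∣ X ^ (Fintype.card F ^ f.natDegree - 1) - 1 :=
      Eo.dvd_X_pow_card_pow_sub_one hf h0
    have hd2 : Eo.mrev f ∣ X ^ (Fintype.card F ^ f.natDegree - 1) - 1 := by
      have := Eo.dvd_X_pow_card_pow_sub_one hirr (Eo.mrev_coeff_zero hfm h0)
      rw [Eo.mrev_natDegree h0] at this
      exact this
    have hcop2 : IsCoprime f (Eo.mrev f) := by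
      rw [Irreducible.coprime_iff_not_dvd hf]
      intro hdvd'
      have hassoc : Associated f (Eo.mrev f) := hf.associated_of_dvd hirr hdvd'
      exact hrev (eq_of_monic_of_associated hfm (Eo.mrev_monic h0) hassoc).symm
    have hd : f * Eo.mrev f ∣ X ^ (Fintype.card F ^ f.natDegree - 1) - 1 := hcop2.mul_dvd hd1 hd2
    have hB := Eo.BLK_pow_dvd hd μ
    have hmm : (f * Eo.mrev f).Monic := hfm.mul (Eo.mrev_monic h0)
    have hdegB : ((f * Eo.mrev f) ^ μ).natDegree = 2 * (f.natDegree * μ) := by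
      rw [hmm.natDegree_pow, hfm.natDegree_mul (Eo.mrev_monic h0), Eo.mrev_natDegree h0]; ring
    have hdegψ : ψ.natDegree = ((f * Eo.mrev f) ^ μ).natDegree + ψ'.natDegree := by
      conv_lhs => rw [hψ]
      exact (hmm.pow μ).natDegree_mul hψ'm
    rw [hdeg, hdegB] at hdegψ
    have hdeg' : ψ'.natDegree = 2 * (r - f.natDegree * μ) := by omega
    refine ⟨f.natDegree, μ, Fintype.card F ^ f.natDegree - 1, (f * Eo.mrev f) ^ μ, ψ', hl, hμ,
      by omega, Or.inr rfl, hψ, hcop, hB, hψ'm, hψ'sr, PEELO_eval_factor hψ 1 h1,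
      PEELO_eval_factor hψ (-1) h1', hdeg', ?_⟩
    intro hμ1 hkr
    right
    have h1ψ' : ψ' = 1 := PEELO_eq_one hψ'm hdeg' hμ1 hkr
    refine ⟨f, hfm, hf, hrev, ?_⟩
    rw [hψ, h1ψ', hμ1, pow_one, mul_one]

end Cfsg.Agent.Helper63.O9
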