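import Mathlib
import Cfsg.Agent.Helper99.P4Defs

/-! # (T1d) of helper99's WANTED #8930 (S6000): two commuting pairs of anticommuting involutions
inside a Pauli-like group of order `64`. -/

set_option autoImplicit false
open scoped MatrixGroups

namespace Cfsg.Agent.Helper63.P4

open Matrix Cfsg.Agent.Helper99.P4

variable {F : Type*} [Field F]

/-- `M` is the matrix of an element of `R` -/
def InR (R : Subgroup (GL (Fin 4) F)) (M : Matrix (Fin 4) (Fin 4) F) : Prop :=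
  ∃ g ∈ R, (g : Matrix (Fin 4) (Fin 4) F) = M

variable {R : Subgroup (GL (Fin 4) F)} {i : F}

theorem inR_one : InR R 1 := ⟨1, R.one_mem, rfl⟩

theorem inR_mul {M N : Matrix (Fin 4) (Fin 4) F} (hM : InR R M) (hN : InR R N) : InR R (M * N) := by
  obtain ⟨g, hg, rfl⟩ := hM
  obtain ⟨h, hh, rfl⟩ := hN
  exact ⟨g * h, R.mul_mem hg hh, Units.val_mul g h⟩

theorem inR_smul_i (hR : IsPauliLike i R) {M : Matrix (Fin 4) (Fin 4) F} (hM : InR R M) :
    InR R (i • M) := by
  obtain ⟨g0, hg0, hg0'⟩ := hR.i_mem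
  have h := inR_mul ⟨g0, hg0, hg0'⟩ hM
  rwa [Matrix.smul_mul, Matrix.one_mul] at h

theorem inR_sq (hR : IsPauliLike i R) {M : Matrix (Fin 4) (Fin 4) F} (hM : InR R M) :
    M * M = 1 ∨ M * M = -1 := by
  obtain ⟨g, hg, rfl⟩ := hM
  exact hR.sq g hg

theorem inR_comm (hR : IsPauliLike i R) {M N : Matrix (Fin 4) (Fin 4) F} (hM : InR R M)
    (hN : InR R N) : M * N = N * M ∨ M * N = -(N * M) := by
  obtain ⟨g, hg, rfl⟩ := hM
  obtain ⟨h, hh, rfl⟩ := hN
  exact hR.comm g hg h hh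

theorem inR_scalar (hR : IsPauliLike i R) {z : F}
    (h : InR R (z • (1 : Matrix (Fin 4) (Fin 4) F))) : z ^ 4 = 1 := by
  obtain ⟨g, hg, hgz⟩ := h
  exact hR.scalar g hg z hgz

theorem inR_commutant (hR : IsPauliLike i R) (M : Matrix (Fin 4) (Fin 4) F)
    (h : ∀ N, InR R N → M * N = N * M) : ∃ c : F, M = c • 1 :=
  hR.commutant M (fun g hg => h _ ⟨g, hg, rfl⟩)

theorem exists_anti (hR : IsPauliLike i R) {M : Matrix (Fin 4) (Fin 4) F} (hM : InR R M)
    (hns : ∀ z : F, M ≠ z • 1) : ∃ N, InR R N ∧ M * N = -(N * M) := by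
  by_contra hcon
  push Not at hcon
  obtain ⟨c, hc⟩ := inR_commutant hR M (fun N hN => by
    rcases inR_comm hR hM hN with h | h
    · exact h
    · exact absurd h (hcon N hN))
  exact hns c hc

theorem exists_nonscalar (h2 : (2 : F) ≠ 0) (hR : IsPauliLike i R) :
    ∃ M, InR R M ∧ ∀ z : F, M ≠ z • 1 := by
  by_contra hcon
  push Not at hcon
  obtain ⟨c, hc⟩ := inR_commutant hR mZ1 (fun N hN => by
    obtain ⟨z, rfl⟩ := hcon N hN
    simp)
  have h00 := congrFun (congrFun hc 0) 0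
  have h22 := congrFun (congrFun hc 2) 2
  simp [mZ1] at h00 h22
  apply h2
  linear_combination h00 - h22

theorem fixSq (hi : i ^ 2 = -1) (hR : IsPauliLike i R) {M : Matrix (Fin 4) (Fin 4) F}
    (hM : InR R M) : ∃ z : F, InR R (z • M) ∧ (z • M) * (z • M) = 1 := by
  rcases inR_sq hR hM with h | h
  · exact ⟨1, by simpa using hM, by simpa using h⟩
  · refine ⟨i, inR_smul_i hR hM, ?_⟩
    rw [Matrix.smul_mul, Matrix.mul_smul, smul_smul, h, ← pow_two, hi]
    simp

theorem anti_smul {M N : Matrix (Fin 4) (Fin 4) F} (z w : F) (h : M * N = -(N * M)) :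
    (z • M) * (w • N) = -((w • N) * (z • M)) := by
  rw [Matrix.smul_mul, Matrix.mul_smul, Matrix.smul_mul, Matrix.mul_smul, h, smul_smul, smul_smul,
    mul_comm w z]
  simp

theorem comm_smul {M N : Matrix (Fin 4) (Fin 4) F} (z : F) (h : N * M = M * N) :
    M * (z • N) = (z • N) * M := by
  rw [Matrix.mul_smul, Matrix.smul_mul, h]

theorem four_root (hi : i ^ 2 = -1) {z : F} (hz : z ^ 4 = 1) : ∃ k : Fin 4, z = i ^ (k : ℕ) := by
  have h : (z - 1) * (z + 1) * (z - i) * (z + i) = 0 := by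
    linear_combination hz - (z ^ 2 - 1) * hi
  rcases mul_eq_zero.1 h with h | h
  · rcases mul_eq_zero.1 h with h | h
    · rcases mul_eq_zero.1 h with h | h
      · exact ⟨0, by simpa using sub_eq_zero.1 h⟩
      · exact ⟨2, by
          have : z = -1 := by linear_combination h
          rw [this]; simp [hi]⟩
    · exact ⟨1, by simpa using sub_eq_zero.1 h⟩
  · exact ⟨3, by
      have : z = -i := by linear_combination h
      rw [this]
      show -i = i ^ 3
      have : i ^ 3 = i ^ 2 * i := by ring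
      rw [this, hi]; ring⟩

theorem exists_outside (hcard : Nat.card R = 64) (T : Finset (Matrix (Fin 4) (Fin 4) F))
    (hT : T.card ≤ 16) : ∃ c₀, InR R c₀ ∧ c₀ ∉ T := by
  classical
  by_contra hcon
  push Not at hcon
  have : Finite R := Nat.finite_of_card_ne_zero (by rw [hcard]; norm_num)
  have hle : Nat.card R ≤ Nat.card T :=
    Nat.card_le_card_of_injective
      (fun g : R => (⟨((g : GL (Fin 4) F) : Matrix (Fin 4) (Fin 4) F),
        hcon _ ⟨g, g.2, rfl⟩⟩ : T))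
      (by
        intro g h hgh
        simp only [Subtype.mk.injEq] at hgh
        exact Subtype.ext (Units.ext hgh))
  rw [hcard, Nat.card_eq_fintype_card, Fintype.card_coe] at hle
  omega

/-- adjusting `g` by an element of `⟨a, b⟩` so that it commutes with `a` and `b` -/
theorem fixAB (hR : IsPauliLike i R) {a b : Matrix (Fin 4) (Fin 4) F} (hRa : InR R a)
    (hRb : InR R b) (ha : a * a = 1) (hb : b * b = 1) (hab : a * b = -(b * a))
    {g : Matrix (Fin 4) (Fin 4) F} (hg : InR R g) :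
    ∃ m m' : Matrix (Fin 4) (Fin 4) F, InR R m ∧ m * m' = 1 ∧
      (m' = 1 ∨ m' = a ∨ m' = b ∨ m' = a * b) ∧
      (∀ N : Matrix (Fin 4) (Fin 4) F, N * a = a * N → N * b = b * N → N * m = m * N) ∧
      (g * m) * a = a * (g * m) ∧ (g * m) * b = b * (g * m) := by
  rcases inR_comm hR hg hRa with hga | hga <;> rcases inR_comm hR hg hRb with hgb | hgb
  · refine ⟨1, 1, inR_one, by simp, Or.inl rfl, fun N _ _ => by simp, ?_, ?_⟩
    · simpa using hga
    · simpa using hgb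
  · refine ⟨a, a, hRa, ha, Or.inr (Or.inl rfl), fun N h _ => h, ?_, ?_⟩
    · linear_combination (norm := noncomm_ring) hga * a
    · linear_combination (norm := noncomm_ring) g * hab - hgb * a
  · refine ⟨b, b, hRb, hb, Or.inr (Or.inr (Or.inl rfl)), fun N _ h => h, ?_, ?_⟩
    · linear_combination (norm := noncomm_ring) g * hab - hga * b
    · linear_combination (norm := noncomm_ring) hgb * b
  · refine ⟨b * a, a * b, inR_mul hRb hRa, ?_, Or.inr (Or.inr (Or.inr rfl)), ?_, ?_, ?_⟩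
    · linear_combination (norm := noncomm_ring) b * ha * b + hb
    · intro N hNa hNb
      linear_combination (norm := noncomm_ring) hNb * a + b * hNa
    · linear_combination (norm := noncomm_ring) g * hab * a - hga * b * a
    · linear_combination (norm := noncomm_ring) g * b * hab - hgb * b * a

/-- (T1d) -/
theorem exists_abcd (h2 : (2 : F) ≠ 0) {i : F} (hi : i ^ 2 = -1) (R : Subgroup (GL (Fin 4) F))
    (hR : IsPauliLike i R) (hcard : Nat.card R = 64) :
    ∃ a ∈ R, ∃ b ∈ R, ∃ c ∈ R, ∃ d ∈ R,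
      (a : Matrix (Fin 4) (Fin 4) F) * a = 1 ∧ (b : Matrix (Fin 4) (Fin 4) F) * b = 1 ∧
      (c : Matrix (Fin 4) (Fin 4) F) * c = 1 ∧ (d : Matrix (Fin 4) (Fin 4) F) * d = 1 ∧
      (a : Matrix (Fin 4) (Fin 4) F) * b = -((b : Matrix (Fin 4) (Fin 4) F) * a) ∧
      (c : Matrix (Fin 4) (Fin 4) F) * d = -((d : Matrix (Fin 4) (Fin 4) F) * c) ∧
      (a : Matrix (Fin 4) (Fin 4) F) * c = c * a ∧ (a : Matrix (Fin 4) (Fin 4) F) * d = d * a ∧
      (b : Matrix (Fin 4) (Fin 4) F) * c = c * b ∧ (b : Matrix (Fin 4) (Fin 4) F) * d = d * b := by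
  classical
  obtain ⟨a₀, ha₀R, ha₀ns⟩ := exists_nonscalar h2 hR
  obtain ⟨b₀, hb₀R, hanti₀⟩ := exists_anti hR ha₀R ha₀ns
  obtain ⟨za, haR, ha⟩ := fixSq hi hR ha₀R
  obtain ⟨zb, hbR, hb⟩ := fixSq hi hR hb₀R
  have hab := anti_smul za zb hanti₀
  set a := za • a₀ with hadef
  set b := zb • b₀ with hbdef
  -- an element outside `⟨i, a, b⟩`
  set W : Fin 4 → Matrix (Fin 4) (Fin 4) F := ![1, a, b, a * b] with hW
  set T : Finset (Matrix (Fin 4) (Fin 4) F) :=
    Finset.univ.image (fun p : Fin 4 × Fin 4 => i ^ (p.1 : ℕ) • W p.2) with hT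
  have hTcard : T.card ≤ 16 := by
    refine Finset.card_image_le.trans ?_
    simp
  obtain ⟨c₀, hc₀R, hc₀T⟩ := exists_outside hcard T hTcard
  have hc₀ : ∀ (k w : Fin 4), c₀ ≠ i ^ (k : ℕ) • W w := by
    intro k w h
    apply hc₀T
    rw [hT, Finset.mem_image]
    exact ⟨(k, w), Finset.mem_univ _, h.symm⟩
  obtain ⟨m, m', hmR, hmm', hm', -, hc1a, hc1b⟩ := fixAB hR haR hbR ha hb hab hc₀R
  have hc₁R : InR R (c₀ * m) := inR_mul hc₀R hmR
  have hc₁ns : ∀ z : F, c₀ * m ≠ z • 1 := by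
    intro z hz
    have hz4 : z ^ 4 = 1 := inR_scalar hR (hz ▸ hc₁R)
    obtain ⟨k, hk⟩ := four_root hi hz4
    have hc₀' : c₀ = z • m' := by
      calc c₀ = c₀ * (m * m') := by rw [hmm', Matrix.mul_one]
        _ = (c₀ * m) * m' := by rw [Matrix.mul_assoc]
        _ = z • m' := by rw [hz, Matrix.smul_mul, Matrix.one_mul]
    rcases hm' with h | h | h | h
    · exact hc₀ k 0 (by rw [hc₀', hk, h]; rfl)
    · exact hc₀ k 1 (by rw [hc₀', hk, h]; rfl)
    · exact hc₀ k 2 (by rw [hc₀', hk, h]; rfl)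
    · exact hc₀ k 3 (by rw [hc₀', hk, h]; rfl)
  set c₁ := c₀ * m with hc₁
  obtain ⟨d₀, hd₀R, hcd₀⟩ := exists_anti hR hc₁R hc₁ns
  obtain ⟨n, n', hnR, -, -, hncomm, hd1a, hd1b⟩ := fixAB hR haR hbR ha hb hab hd₀R
  have hd₁R : InR R (d₀ * n) := inR_mul hd₀R hnR
  have hcn : c₁ * n = n * c₁ := hncomm c₁ hc1a hc1b
  have hcd₁ : c₁ * (d₀ * n) = -((d₀ * n) * c₁) := by
    linear_combination (norm := noncomm_ring) hcd₀ * n - d₀ * hcn
  set d₁ := d₀ * n with hd₁
  obtain ⟨zc, hcR, hc⟩ := fixSq hi hR hc₁R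
  obtain ⟨zd, hdR, hd⟩ := fixSq hi hR hd₁R
  have hcd := anti_smul zc zd hcd₁
  have hac : a * (zc • c₁) = (zc • c₁) * a := comm_smul zc hc1a
  have had : a * (zd • d₁) = (zd • d₁) * a := comm_smul zd hd1a
  have hbc : b * (zc • c₁) = (zc • c₁) * b := comm_smul zc hc1b
  have hbd : b * (zd • d₁) = (zd • d₁) * b := comm_smul zd hd1b
  obtain ⟨ga, hga, hga'⟩ := haR
  obtain ⟨gb, hgb, hgb'⟩ := hbR
  obtain ⟨gc, hgc, hgc'⟩ := hcR
  obtain ⟨gd, hgd, hgd'⟩ := hdR
  refine ⟨ga, hga, gb, hgb, gc, hgc, gd, hgd, ?_⟩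
  rw [hga', hgb', hgc', hgd']
  exact ⟨ha, hb, hc, hd, hab, hcd, hac, had, hbc, hbd⟩

end Cfsg.Agent.Helper63.P4
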