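import Mathlib
import Cfsg.Agent.Helper99.P4Defs

/-! # (T1e) of helper99's WANTED #8930 (S6000): a simultaneous normal form for two commuting
pairs of anticommuting involutions in `M₄(F)`. -/

set_option autoImplicit false
open scoped MatrixGroups

namespace Cfsg.Agent.Helper63.P4

open Matrix Cfsg.Agent.Helper99.P4

variable {F : Type*} [Field F]

/-- an anticommuting pair, the second an involution: the first has trace `0` -/
theorem trace_eq_zero_of_anticomm (h2 : (2 : F) ≠ 0) (X Y : Matrix (Fin 4) (Fin 4) F)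
    (hY : Y * Y = 1) (hXY : X * Y = -(Y * X)) : X.trace = 0 := by
  have h : X.trace = -X.trace := by
    calc X.trace = (X * (Y * Y)).trace := by rw [hY, Matrix.mul_one]
      _ = ((X * Y) * Y).trace := by rw [Matrix.mul_assoc]
      _ = -(Y * X * Y).trace := by rw [hXY, Matrix.neg_mul, Matrix.trace_neg]
      _ = -(X * Y * Y).trace := by rw [Matrix.mul_assoc Y X Y, Matrix.trace_mul_comm Y (X * Y)]
      _ = -X.trace := by rw [Matrix.mul_assoc, hY, Matrix.mul_one]
  have h' : (2 : F) * X.trace = 0 := by linear_combination h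
  rcases mul_eq_zero.1 h' with h3 | h3
  · exact absurd h3 h2
  · exact h3

/-- the matrix with columns `c 0, c 1, c 2, c 3` -/
def ofCols (c : Fin 4 → Fin 4 → F) : Matrix (Fin 4) (Fin 4) F := Matrix.of (fun r j => c j r)

theorem mul_ofCols (M : Matrix (Fin 4) (Fin 4) F) (c : Fin 4 → Fin 4 → F) :
    M * ofCols c = ofCols (fun j => M *ᵥ c j) := by
  ext r j
  simp [ofCols, Matrix.mul_apply, Matrix.mulVec, dotProduct]

theorem ofCols_mul_mZ1 (c : Fin 4 → Fin 4 → F) :
    ofCols c * mZ1 = ofCols ![c 0, c 1, -c 2, -c 3] := by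
  ext r j
  fin_cases j <;> simp [ofCols, Matrix.mul_apply, Fin.sum_univ_four, mZ1]

theorem ofCols_mul_mX1 (c : Fin 4 → Fin 4 → F) :
    ofCols c * mX1 = ofCols ![c 2, c 3, c 0, c 1] := by
  ext r j
  fin_cases j <;> simp [ofCols, Matrix.mul_apply, Fin.sum_univ_four, mX1]

theorem ofCols_mul_mZ2 (c : Fin 4 → Fin 4 → F) :
    ofCols c * mZ2 = ofCols ![c 0, -c 1, c 2, -c 3] := by
  ext r j
  fin_cases j <;> simp [ofCols, Matrix.mul_apply, Fin.sum_univ_four, mZ2]

theorem ofCols_mul_mX2 (c : Fin 4 → Fin 4 → F) :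
    ofCols c * mX2 = ofCols ![c 1, c 0, c 3, c 2] := by
  ext r j
  fin_cases j <;> simp [ofCols, Matrix.mul_apply, Fin.sum_univ_four, mX2]

omit [Field F] in
theorem ofCols_congr {c c' : Fin 4 → Fin 4 → F} (h : ∀ j, c j = c' j) : ofCols c = ofCols c' := by
  have : c = c' := funext h
  rw [this]

theorem one_add_mZ1_mul (F : Type*) [Field F] :
    ((1 : Matrix (Fin 4) (Fin 4) F) + mZ1) * (1 + mZ2) =
      !![4,0,0,0; 0,0,0,0; 0,0,0,0; 0,0,0,0] := by
  ext i j
  fin_cases i <;> fin_cases j <;>
    simp [mZ1, mZ2, Matrix.mul_apply, Fin.sum_univ_four, Matrix.one_apply] <;> norm_num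

/-- (T1e) -/
theorem basis_of_abcd (h2 : (2 : F) ≠ 0) (A B C D : Matrix (Fin 4) (Fin 4) F)
    (hA : A * A = 1) (hB : B * B = 1) (hC : C * C = 1) (hD : D * D = 1)
    (hAB : A * B = -(B * A)) (hCD : C * D = -(D * C))
    (hAC : A * C = C * A) (hAD : A * D = D * A) (hBC : B * C = C * B) (hBD : B * D = D * B) :
    ∃ P : GL (Fin 4) F,
      A * (P : Matrix (Fin 4) (Fin 4) F) = (P : Matrix (Fin 4) (Fin 4) F) * mZ1 ∧
      B * (P : Matrix (Fin 4) (Fin 4) F) = (P : Matrix (Fin 4) (Fin 4) F) * mX1 ∧
      C * (P : Matrix (Fin 4) (Fin 4) F) = (P : Matrix (Fin 4) (Fin 4) F) * mZ2 ∧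
      D * (P : Matrix (Fin 4) (Fin 4) F) = (P : Matrix (Fin 4) (Fin 4) F) * mX2 := by
  have h4 : (4 : F) ≠ 0 := by
    have : (4 : F) = 2 * 2 := by norm_num
    rw [this]; exact mul_ne_zero h2 h2
  -- the projection
  set E : Matrix (Fin 4) (Fin 4) F := (1 + A) * (1 + C) with hE
  have htrA : A.trace = 0 := trace_eq_zero_of_anticomm h2 A B hB hAB
  have htrC : C.trace = 0 := trace_eq_zero_of_anticomm h2 C D hD hCD
  have htrAC : (A * C).trace = 0 := by
    refine trace_eq_zero_of_anticomm h2 (A * C) B hB ?_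
    linear_combination (norm := noncomm_ring) hAB * C - A * hBC
  have htrE : E.trace = 4 := by
    have : E = 1 + C + A + A * C := by rw [hE]; noncomm_ring
    rw [this, Matrix.trace_add, Matrix.trace_add, Matrix.trace_add, htrA, htrC, htrAC,
      Matrix.trace_one]
    simp
  have hE0 : E ≠ 0 := by
    intro h
    rw [h, Matrix.trace_zero] at htrE
    exact h4 htrE.symm
  obtain ⟨r0, k0, hrk⟩ : ∃ r k, E r k ≠ 0 := by
    by_contra hcon
    push Not at hcon
    exact hE0 (by ext r k; simpa using hcon r k)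
  -- relations on `E`
  have hAE : A * E = E := by
    rw [hE]
    linear_combination (norm := noncomm_ring) hA * (1 + C)
  have hCE : C * E = E := by
    rw [hE]
    linear_combination (norm := noncomm_ring) (1 + A) * hC - hAC * (1 + C)
  set s : Fin 4 → F := Pi.single k0 1 with hs
  set M : Fin 4 → Matrix (Fin 4) (Fin 4) F := ![E, D * E, B * E, B * (D * E)] with hM
  set c : Fin 4 → Fin 4 → F := fun j => M j *ᵥ s with hc
  set P : Matrix (Fin 4) (Fin 4) F := ofCols c with hP
  have hP00 : P r0 0 ≠ 0 := by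
    have : P r0 0 = E r0 k0 := by
      simp [hP, ofCols, hc, hM, hs]
    rw [this]; exact hrk
  -- the intertwining relations
  have key : ∀ (X : Matrix (Fin 4) (Fin 4) F) (M' : Fin 4 → Matrix (Fin 4) (Fin 4) F),
      (∀ j, X * M j = M' j) → X * P = ofCols (fun j => M' j *ᵥ s) := by
    intro X M' h
    rw [hP, mul_ofCols]
    refine ofCols_congr (fun j => ?_)
    rw [hc]
    simp only
    rw [Matrix.mulVec_mulVec, h j]
  have hAP : A * P = P * mZ1 := by
    rw [key A ![E, D * E, -(B * E), -(B * (D * E))], hP, ofCols_mul_mZ1]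
    · refine ofCols_congr (fun j => ?_)
      fin_cases j <;> simp [hc, hM, Matrix.neg_mulVec]
    · intro j
      fin_cases j
      · simpa [hM] using hAE
      · simp only [hM]
        show A * (D * E) = D * E
        linear_combination (norm := noncomm_ring) hAD * E + D * hAE
      · simp only [hM]
        show A * (B * E) = -(B * E)
        linear_combination (norm := noncomm_ring) hAB * E - B * hAE
      · simp only [hM]
        show A * (B * (D * E)) = -(B * (D * E))
        linear_combination (norm := noncomm_ring) hAB * D * E - B * hAD * E - B * D * hAE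
  have hBP : B * P = P * mX1 := by
    rw [key B ![B * E, B * (D * E), E, D * E], hP, ofCols_mul_mX1]
    · refine ofCols_congr (fun j => ?_)
      fin_cases j <;> simp [hc, hM]
    · intro j
      fin_cases j
      · simp [hM]
      · simp [hM]
      · simp only [hM]
        show B * (B * E) = E
        linear_combination (norm := noncomm_ring) hB * E
      · simp only [hM]
        show B * (B * (D * E)) = D * E
        linear_combination (norm := noncomm_ring) hB * D * E
  have hCP : C * P = P * mZ2 := by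
    rw [key C ![E, -(D * E), B * E, -(B * (D * E))], hP, ofCols_mul_mZ2]
    · refine ofCols_congr (fun j => ?_)
      fin_cases j <;> simp [hc, hM, Matrix.neg_mulVec]
    · intro j
      fin_cases j
      · simpa [hM] using hCE
      · simp only [hM]
        show C * (D * E) = -(D * E)
        linear_combination (norm := noncomm_ring) hCD * E - D * hCE
      · simp only [hM]
        show C * (B * E) = B * E
        linear_combination (norm := noncomm_ring) B * hCE - hBC * E
      · simp only [hM]
        show C * (B * (D * E)) = -(B * (D * E))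
        linear_combination (norm := noncomm_ring) B * hCD * E - hBC * D * E - B * D * hCE
  have hDP : D * P = P * mX2 := by
    rw [key D ![D * E, E, B * (D * E), B * E], hP, ofCols_mul_mX2]
    · refine ofCols_congr (fun j => ?_)
      fin_cases j <;> simp [hc, hM]
    · intro j
      fin_cases j
      · simp [hM]
      · simp only [hM]
        show D * (D * E) = E
        linear_combination (norm := noncomm_ring) hD * E
      · simp only [hM]
        show D * (B * E) = B * (D * E)
        linear_combination (norm := noncomm_ring) -hBD * E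
      · simp only [hM]
        show D * (B * (D * E)) = B * E
        linear_combination (norm := noncomm_ring) B * hD * E - hBD * D * E
  -- injectivity
  have hEP : E * P = P * !![4,0,0,0; 0,0,0,0; 0,0,0,0; 0,0,0,0] := by
    rw [← one_add_mZ1_mul F, hE]
    linear_combination (norm := noncomm_ring) (1 + A) * hCP + hAP * (1 + mZ2)
  have hv0 : ∀ v : Fin 4 → F, P *ᵥ v = 0 → v 0 = 0 := by
    intro v hv
    have h1 : (E * P) *ᵥ v = 0 := by rw [← Matrix.mulVec_mulVec, hv, Matrix.mulVec_zero]
    rw [hEP] at h1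
    have h2' := congrFun h1 r0
    simp [Matrix.mulVec, dotProduct, Fin.sum_univ_four, Matrix.mul_apply] at h2'
    rcases h2' with h3 | h3
    · rcases h3 with h3 | h3
      · exact absurd h3 hP00
      · exact absurd h3 h4
    · exact h3
  have hinj : Function.Injective P.mulVec := by
    intro x y hxy
    have hz : P *ᵥ (x - y) = 0 := by rw [Matrix.mulVec_sub, hxy, sub_self]
    have e0 := hv0 _ hz
    have e1 : (mX2 *ᵥ (x - y)) 0 = 0 := hv0 _ (by
      rw [Matrix.mulVec_mulVec, ← hDP, ← Matrix.mulVec_mulVec, hz, Matrix.mulVec_zero])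
    have e2 : (mX1 *ᵥ (x - y)) 0 = 0 := hv0 _ (by
      rw [Matrix.mulVec_mulVec, ← hBP, ← Matrix.mulVec_mulVec, hz, Matrix.mulVec_zero])
    have e3 : (mX1 *ᵥ (mX2 *ᵥ (x - y))) 0 = 0 := hv0 _ (by
      rw [Matrix.mulVec_mulVec, Matrix.mulVec_mulVec, ← hBP, Matrix.mul_assoc,
        ← hDP, ← Matrix.mulVec_mulVec, ← Matrix.mulVec_mulVec, hz, Matrix.mulVec_zero,
        Matrix.mulVec_zero])
    simp [Matrix.mulVec, dotProduct, Fin.sum_univ_four, mX1, mX2] at e0 e1 e2 e3
    ext j
    fin_cases j
    · exact sub_eq_zero.1 e0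
    · exact sub_eq_zero.1 e1
    · exact sub_eq_zero.1 e2
    · exact sub_eq_zero.1 e3
  have hunit : IsUnit P := Matrix.mulVec_injective_iff_isUnit.1 hinj
  refine ⟨hunit.unit, ?_, ?_, ?_, ?_⟩
  · rw [IsUnit.unit_spec]; exact hAP
  · rw [IsUnit.unit_spec]; exact hBP
  · rw [IsUnit.unit_spec]; exact hCP
  · rw [IsUnit.unit_spec]; exact hDP

end Cfsg.Agent.Helper63.P4
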