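import Mathlib
import Cfsg.Agent.Helper41.PGL2
import Cfsg.Agent.Helper45.FiniteFields

set_option autoImplicit false

namespace Cfsg.Agent.Helper63

open Matrix

/-- (PS) `PGL₂(q)` has an element of order `q + 1` (the image of a Singer cycle). -/
theorem pgl2_exists_orderOf_card_add_one {F : Type*} [Field F] [Fintype F] :
    ∃ x : Matrix.GeneralLinearGroup (Fin 2) F ⧸
        Subgroup.center (Matrix.GeneralLinearGroup (Fin 2) F),
      orderOf x = Fintype.card F + 1 := by
  classical
  have hq1 : 1 < Fintype.card F := Fintype.one_lt_card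
  have : Fact (ringChar F).Prime := ⟨CharP.char_is_prime F (ringChar F)⟩
  let K := FiniteField.Extension F (ringChar F) 2
  have hfin : Module.finrank F K = 2 := FiniteField.finrank_extension F (ringChar F) 2
  let b : Module.Basis (Fin 2) F K := Module.finBasisOfFinrankEq F K hfin
  have : Fintype K := Fintype.ofFinite K
  have hcardK : Nat.card K = Fintype.card F ^ 2 := by
    rw [FiniteField.natCard_extension F (ringChar F) 2, Nat.card_eq_fintype_card]
  obtain ⟨ζ, hζ⟩ := IsCyclic.exists_ofOrder_eq_natCard (α := Kˣ)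
  rw [Nat.card_units, hcardK] at hζ
  have hfac : Fintype.card F ^ 2 - 1 = (Fintype.card F - 1) * (Fintype.card F + 1) := by
    obtain ⟨k, hk⟩ : ∃ k, Fintype.card F = k + 1 := ⟨Fintype.card F - 1, by omega⟩
    rw [hk]
    have : (k + 1) ^ 2 = k * (k + 2) + 1 := by ring
    rw [this]; simp
  let φ : K →* Matrix (Fin 2) (Fin 2) F :=
    ((Algebra.leftMulMatrix b : K →ₐ[F] Matrix (Fin 2) (Fin 2) F) : K →* Matrix (Fin 2) (Fin 2) F)
  let g : GL (Fin 2) F := Units.map φ ζ
  refine ⟨QuotientGroup.mk g, ?_⟩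
  have hgn : ∀ n : ℕ, ((g ^ n : GL (Fin 2) F) : Matrix (Fin 2) (Fin 2) F) =
      Algebra.leftMulMatrix b (((ζ ^ n : Kˣ) : K)) := by
    intro n
    rw [Units.val_pow_eq_pow_val, Units.val_pow_eq_pow_val, map_pow]
    rfl
  have hscalar : ∀ r : F, Matrix.scalar (Fin 2) r = Algebra.leftMulMatrix b (algebraMap F K r) := by
    intro r
    rw [AlgHom.commutes]
    rfl
  have h1 : orderOf (QuotientGroup.mk g :
      GL (Fin 2) F ⧸ Subgroup.center (GL (Fin 2) F)) = orderOf (ζ ^ (Fintype.card F - 1)) := by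
    rw [orderOf_eq_orderOf_iff]
    intro n
    rw [← QuotientGroup.mk_pow, Cfsg.Agent.Helper41.pgl2_mk_eq_one_iff]
    constructor
    · rintro ⟨r, hr⟩
      rw [hgn, hscalar r] at hr
      have h2 : ((ζ ^ n : Kˣ) : K) = algebraMap F K r := Algebra.leftMulMatrix_injective b hr
      have hr0 : r ≠ 0 := by
        rintro rfl
        rw [map_zero] at h2
        exact (ζ ^ n).ne_zero h2
      apply Units.ext
      rw [← pow_mul, mul_comm, pow_mul, Units.val_pow_eq_pow_val, h2, ← map_pow,
        FiniteField.pow_card_sub_one_eq_one r hr0, map_one]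
      rfl
    · intro h
      have h2 : ((ζ ^ n : Kˣ) : K) ^ (Fintype.card F - 1) = 1 := by
        rw [← Units.val_pow_eq_pow_val, ← pow_mul, mul_comm, pow_mul, h]; rfl
      have h3 : ((ζ ^ n : Kˣ) : K) ^ Fintype.card F = ((ζ ^ n : Kˣ) : K) := by
        calc ((ζ ^ n : Kˣ) : K) ^ Fintype.card F
            = ((ζ ^ n : Kˣ) : K) ^ (Fintype.card F - 1) * ((ζ ^ n : Kˣ) : K) := by
              rw [← pow_succ, Nat.sub_add_cancel hq1.le]
          _ = ((ζ ^ n : Kˣ) : K) := by rw [h2, one_mul]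
      obtain ⟨c, hc⟩ := Cfsg.Agent.Helper45.mem_range_of_pow_card_eq (F := F) _ h3
      exact ⟨c, by rw [hgn, hscalar, hc]⟩
  rw [h1, orderOf_pow, hζ, hfac, Nat.gcd_mul_right_left,
    Nat.mul_div_cancel_left _ (by omega : 0 < Fintype.card F - 1)]

end Cfsg.Agent.Helper63
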