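import Mathlib
import Cfsg.Prelude.Def_Classical
import Cfsg.Agent.Helper99.PGDefs
import Cfsg.Agent.Helper38.Darboux

/-!
# (M1) of helper99's S2474 farm (#10721): a symplectic model is realised in `Sp_{2m}(F)`.
-/

set_option autoImplicit false

universe u

namespace Cfsg.Agent.Helper63.PG

open Module Matrix Cfsg.Agent.Helper99.PG

variable {F : Type u} [Field F] [Fintype F]

/-- (M1) Darboux basis: `Cfsg.Agent.Helper38.exists_symplectic_basis` -/
theorem SpModel.real {m N : ℕ} (h : SpModel F m N) : ∃ X : SpG m F, orderOf X = N := by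
  classical
  obtain ⟨W, _, _, _, B, g, halt, hnd, hfr, hg, hN⟩ := h
  obtain ⟨b, hb⟩ := Cfsg.Agent.Helper38.exists_symplectic_basis m B halt hnd hfr
  refine ⟨⟨LinearMap.toMatrix b b g, hb g hg⟩, ?_⟩
  rw [← hN]
  apply orderOf_eq_orderOf_iff.2
  intro k
  have h1 : ((⟨LinearMap.toMatrix b b g, hb g hg⟩ : SpG m F) ^ k = 1) ↔
      (LinearMap.toMatrix b b g) ^ k = 1 := by
    rw [← Subtype.coe_inj]
    rfl
  rw [h1]
  have h2 : (LinearMap.toMatrix b b g) ^ k = LinearMap.toMatrix b b (g ^ k) := by
    have := map_pow (LinearMap.toMatrixAlgEquiv b) g k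
    exact this.symm
  rw [h2]
  constructor
  · intro h3
    have h4 : LinearMap.toMatrix b b (g ^ k) = LinearMap.toMatrix b b (1 : Module.End F W) := by
      rw [h3, LinearMap.toMatrix_one]
    exact (LinearMap.toMatrix b b).injective h4
  · intro h3
    rw [h3, LinearMap.toMatrix_one]

end Cfsg.Agent.Helper63.PG
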