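import Mathlib
import Cfsg.Prelude.Def_Classical
import Cfsg.Agent.Helper99.PGDefs
import Cfsg.Agent.Helper45.Isometry

/-!
# (M2) of helper99's S2474 farm (#10721): an orthogonal model is realised by a quadratic form in
coordinates.
-/

set_option autoImplicit false

universe u

namespace Cfsg.Agent.Helper63.PG

open Module Matrix Cfsg.Agent.Helper99.PG

variable {F : Type u} [Field F] [Fintype F]

/-- (M2) coordinates -/
theorem OModel.real {m N : ℕ} (h : OModel F m N) :
    ∃ Q₁ : QuadraticForm F (Fin (2 * m) → F),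
      (∀ x, (∀ y, QuadraticMap.polar Q₁ x y = 0) → x = 0) ∧
      ∃ g₁ : ↥(Cfsg.isometryGroup F ⇑Q₁), orderOf g₁ = N := by
  classical
  obtain ⟨W, _, _, _, Q, g, hnd, hfr, hg, hN⟩ := h
  -- `g` preserves the polar form, hence is injective
  have hpol : ∀ x y, QuadraticMap.polar Q (g x) (g y) = QuadraticMap.polar Q x y := by
    intro x y
    unfold QuadraticMap.polar
    rw [← map_add, hg, hg, hg]
  have hinj : Function.Injective g := by
    rw [← LinearMap.ker_eq_bot, LinearMap.ker_eq_bot']
    intro x hx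
    apply hnd x
    intro y
    rw [← hpol, hx]
    simp [QuadraticMap.polar]
  let ge : W ≃ₗ[F] W := LinearEquiv.ofInjectiveEndo g hinj
  have hge : ∀ x, ge x = g x := fun x => rfl
  let b : Basis (Fin (2 * m)) F W := Module.finBasisOfFinrankEq F W hfr
  let e : W ≃ₗ[F] (Fin (2 * m) → F) := b.equivFun
  let Q₁ : QuadraticForm F (Fin (2 * m) → F) := Q.comp (e.symm : (Fin (2 * m) → F) →ₗ[F] W)
  have hQ₁ : ∀ v, Q₁ v = Q (e.symm v) := fun v => rfl
  let A : Matrix (Fin (2 * m)) (Fin (2 * m)) F := LinearMap.toMatrix b b g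
  let A' : Matrix (Fin (2 * m)) (Fin (2 * m)) F :=
    LinearMap.toMatrix b b (ge.symm : W →ₗ[F] W)
  have hAA' : A * A' = 1 := by
    show LinearMap.toMatrix b b g * LinearMap.toMatrix b b (ge.symm : W →ₗ[F] W) = 1
    rw [← LinearMap.toMatrix_mul, ← LinearMap.toMatrix_one b]
    congr 1
    ext x
    show g (ge.symm x) = x
    rw [← hge, LinearEquiv.apply_symm_apply]
  have hA'A : A' * A = 1 := by
    show LinearMap.toMatrix b b (ge.symm : W →ₗ[F] W) * LinearMap.toMatrix b b g = 1
    rw [← LinearMap.toMatrix_mul, ← LinearMap.toMatrix_one b]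
    congr 1
    ext x
    show ge.symm (g x) = x
    rw [← hge, LinearEquiv.symm_apply_apply]
  let G₁ : GL (Fin (2 * m)) F := ⟨A, A', hAA', hA'A⟩
  have hmulVec : ∀ v : Fin (2 * m) → F, e.symm (A *ᵥ v) = g (e.symm v) := by
    intro v
    have h1 := LinearMap.toMatrix_mulVec_repr b b g (e.symm v)
    have h2 : (b.repr (e.symm v) : Fin (2 * m) → F) = v := by
      show e (e.symm v) = v
      exact e.apply_symm_apply v
    rw [h2] at h1
    show e.symm (LinearMap.toMatrix b b g *ᵥ v) = g (e.symm v)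
    rw [h1]
    show e.symm (e (g (e.symm v))) = g (e.symm v)
    exact e.symm_apply_apply _
  have hmem : G₁ ∈ Cfsg.isometryGroup F ⇑Q₁ := by
    rw [Cfsg.Agent.Helper45.mem_isometryGroup_iff]
    intro v
    show Q₁ (A *ᵥ v) = Q₁ v
    rw [hQ₁, hQ₁, hmulVec, hg]
  refine ⟨Q₁, ?_, ⟨G₁, hmem⟩, ?_⟩
  · intro x hx
    have h1 : e.symm x = 0 := by
      apply hnd
      intro y
      have h2 := hx (e y)
      have h3 : QuadraticMap.polar Q₁ x (e y) = QuadraticMap.polar Q (e.symm x) y := by
        unfold QuadraticMap.polar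
        rw [hQ₁, hQ₁, hQ₁, map_add, e.symm_apply_apply]
      rw [← h3]
      exact h2
    exact e.symm.map_eq_zero_iff.1 h1
  · rw [← hN]
    apply orderOf_eq_orderOf_iff.2
    intro k
    have h1 : ((⟨G₁, hmem⟩ : ↥(Cfsg.isometryGroup F ⇑Q₁)) ^ k = 1) ↔ A ^ k = 1 := by
      rw [← Subtype.coe_inj, ← Units.val_inj]
      rfl
    rw [h1]
    have h2 : A ^ k = LinearMap.toMatrix b b (g ^ k) := by
      have := map_pow (LinearMap.toMatrixAlgEquiv b) g k
      exact this.symm
    rw [h2]
    constructor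
    · intro h3
      have h4 : LinearMap.toMatrix b b (g ^ k) = LinearMap.toMatrix b b (1 : Module.End F W) := by
        rw [h3, LinearMap.toMatrix_one]
      exact (LinearMap.toMatrix b b).injective h4
    · intro h3
      rw [h3, LinearMap.toMatrix_one]

end Cfsg.Agent.Helper63.PG
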