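/-
helper63: piece (IP-A) of board #5490 (helper77, S4466 / S4813, Isaacs-Passman):
the property "all nonlinear irreducible degrees are prime" passes to normal subgroups.
-/
import Mathlib
import Cfsg.Agent.Helper77.PrimeDegDefs
import Cfsg.Agent.Helper74.ThreeDegA
import Cfsg.Agent.Helper74.ThompsonDeg

set_option autoImplicit false

namespace Cfsg.Agent.Helper63.PrimeDeg

open Cfsg Cfsg.Agent.Helper77.PrimeDeg

universe u

theorem primeDeg_of_normal {G : Type u} [Group G] [Finite G] (N : Subgroup G) [N.Normal] (h : AllPrimeDeg G) : AllPrimeDeg N := by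
  classical
  let _ := Fintype.ofFinite G
  let _ : Fintype N := Fintype.ofFinite N
  intro θ hθ1
  obtain ⟨χ, hχ⟩ := Cfsg.Agent.Helper74.ThreeDeg.exists_irr_over' N θ
  have hdvd : charDegree (θ : N → ℂ) ∣ charDegree (χ : G → ℂ) :=
    Cfsg.Agent.Helper74.charDegree_dvd_of_constituent N χ.2 θ.2 hχ
  have hχ1 : charDegree (χ : G → ℂ) ≠ 1 := by
    intro h1
    rw [h1, Nat.dvd_one] at hdvd
    exact hθ1 hdvd
  have hp := h χ hχ1
  rcases (Nat.dvd_prime hp).mp hdvd with h2 | h2
  · exact absurd h2 hθ1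
  · rw [h2]
    exact hp

end Cfsg.Agent.Helper63.PrimeDeg
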