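/-
helper63: piece (IP-C') of board #5490/#5491 (helper77, S4813, Isaacs-Passman):
an irreducible character of degree `s = [G : N]` (prime) of a group whose normal subgroup `N` has no
irreducible character of degree `s` lies over a non-invariant linear character of `N`.
-/
import Mathlib
import Cfsg.Agent.Helper77.PrimeDegDefs
import Cfsg.Agent.Helper74.RestrictIrr

set_option autoImplicit false

namespace Cfsg.Agent.Helper63.PrimeDeg

open Cfsg Cfsg.Agent.Helper77.PrimeDeg
open scoped ComplexConjugate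

universe u

/-- the sum over a subgroup of a nonnegative real function is at most the sum over the group -/
theorem sum_subgroup_le {G : Type u} [Group G] [Fintype G] (N : Subgroup G) [Fintype N] (f : G → ℝ)
    (hf : ∀ g, 0 ≤ f g) : ∑ x : N, f x ≤ ∑ g : G, f g := by
  classical
  have h1 : ∑ x : N, f x = ∑ g ∈ Finset.univ.filter (fun g : G => g ∈ N), f g :=
    (Finset.sum_subtype (Finset.univ.filter (fun g : G => g ∈ N)) (p := fun g => g ∈ N)
      (fun x => by simp) f).symm
  rw [h1]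
  exact Finset.sum_le_sum_of_subset_of_nonneg (Finset.filter_subset _ _) (fun g _ _ => hf g)

/-- `∑ |χ|² = |G|` for an irreducible character, in real form -/
theorem sum_normSq_irr {G : Type u} [Group G] [Fintype G] (χ : IrrCharacter G) :
    ∑ g : G, Complex.normSq ((χ : G → ℂ) g) = (Nat.card G : ℝ) := by
  have h1 := Cfsg.Agent.Helper74.irr_inner_self χ
  rw [Cfsg.Agent.Helper74.classInner_def] at h1
  have hG : (Nat.card G : ℂ) ≠ 0 := by exact_mod_cast Nat.card_pos.ne'
  have h2 : ∑ g : G, (χ : G → ℂ) g * conj ((χ : G → ℂ) g) = (Nat.card G : ℂ) := by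
    field_simp at h1
    exact h1
  have h3 : ((∑ g : G, Complex.normSq ((χ : G → ℂ) g) : ℝ) : ℂ) = ((Nat.card G : ℝ) : ℂ) := by
    rw [Complex.ofReal_sum]
    simp only [← Complex.mul_conj]
    rw [h2]
    simp
  exact_mod_cast h3

theorem exists_not_invariant_linear {G : Type u} [Group G] [Finite G] (N : Subgroup G) [hN : N.Normal] (s : ℕ) (hs : s.Prime) (hidx : N.index = s) (χ : IrrCharacter G) (hχ : charDegree (χ : G → ℂ) = s) (hno : ∀ θ : IrrCharacter N, charDegree (θ : N → ℂ) ≠ s) : ∃ lam : IrrCharacter N, charDegree (lam : N → ℂ) = 1 ∧ ∃ (g : G) (x : N), (lam : N → ℂ) ⟨g * x * g⁻¹, hN.conj_mem x x.2 g⟩ ≠ (lam : N → ℂ) x := by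
  classical
  let _ := Fintype.ofFinite G
  let _ : Fintype N := Fintype.ofFinite N
  have hχc := Cfsg.Agent.Helper74.irr_isCharacter χ
  have hχN : IsCharacter N (fun n : N => (χ : G → ℂ) n) := Cfsg.Agent.Helper74.isCharacter_restrict N hχc
  have h1 : (fun n : N => (χ : G → ℂ) n) 1 ≠ 0 := Cfsg.Agent.Helper80.IsIrrCharacter.map_one_ne_zero χ.2
  obtain ⟨θ, hθ⟩ := Cfsg.Agent.Helper81.exists_irr_constituent hχN h1
  have hcon : classInner (fun n : N => (χ : G → ℂ) n) (θ : N → ℂ) ≠ 0 := hθ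
  obtain ⟨e, he, hdeg, hdvd⟩ := Cfsg.Agent.Helper74.clifford_degree_data N χ.2 θ.2 hcon
  have hχ1 : (χ : G → ℂ) 1 = (charDegree (χ : G → ℂ) : ℂ) := (Cfsg.Agent.Helper74.charDegree_cast hχc).symm
  have hθ1 : (θ : N → ℂ) 1 = (charDegree (θ : N → ℂ) : ℂ) :=
    (Cfsg.Agent.Helper74.charDegree_cast (Cfsg.Agent.Helper74.irr_isCharacter θ)).symm
  set t := (Cfsg.Agent.Helper15.conjOrbit N (θ : N → ℂ)).card with ht
  have hnat : s = e * t * charDegree (θ : N → ℂ) := by
    have : (charDegree (χ : G → ℂ) : ℂ) = ((e * t * charDegree (θ : N → ℂ) : ℕ) : ℂ) := by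
      rw [← hχ1, hdeg, hθ1]
      push_cast
      ring
    rw [← hχ]
    exact_mod_cast this
  rw [hidx] at hdvd
  -- `θ` is linear and `e t = s`
  have hθdvd : charDegree (θ : N → ℂ) ∣ s := ⟨e * t, by rw [hnat]; ring⟩
  have hθlin : charDegree (θ : N → ℂ) = 1 := by
    rcases (Nat.dvd_prime hs).mp hθdvd with h | h
    · exact h
    · exact absurd h (hno θ)
  have het : e * t = s := by rw [hnat, hθlin, mul_one]
  refine ⟨θ, hθlin, ?_⟩
  by_contra hinv
  push Not at hinv
  -- `θ` is invariant, so its orbit is `{θ}`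
  have hconj : ∀ g : G, Cfsg.Agent.Helper15.conjFun N g (θ : N → ℂ) = (θ : N → ℂ) := by
    intro g
    funext x
    exact hinv g x
  have horb : Cfsg.Agent.Helper15.conjOrbit N (θ : N → ℂ) = {(θ : N → ℂ)} := by
    ext φ
    rw [Cfsg.Agent.Helper15.mem_conjOrbit, Finset.mem_singleton]
    constructor
    · rintro ⟨g, rfl⟩
      exact hconj g
    · intro h
      exact ⟨1, by rw [h, hconj]⟩
  have ht1 : t = 1 := by rw [ht, horb, Finset.card_singleton]
  have hes : e = s := by rw [← het, ht1, mul_one]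
  have hcl := Cfsg.Agent.Helper15.clifford_restrict N χ.2 θ.2 hcon
  rw [he, horb, Finset.sum_singleton, hes] at hcl
  -- norms
  have hval : ∀ x : N, (χ : G → ℂ) x = (s : ℂ) * (θ : N → ℂ) x := by
    intro x
    have := congrFun hcl x
    simpa using this
  have h2 : ∑ x : N, Complex.normSq ((χ : G → ℂ) x) = (s : ℝ) ^ 2 * (Nat.card N : ℝ) := by
    rw [← sum_normSq_irr θ, Finset.mul_sum]
    refine Finset.sum_congr rfl fun x _ => ?_
    rw [hval x, Complex.normSq_mul, Complex.normSq_natCast]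
    ring
  have h3 := sum_subgroup_le N (fun g => Complex.normSq ((χ : G → ℂ) g)) (fun g => Complex.normSq_nonneg _)
  rw [h2, sum_normSq_irr χ] at h3
  have h4 : (Nat.card G : ℝ) = (Nat.card N : ℝ) * (s : ℝ) := by
    rw [← hidx]
    exact_mod_cast (N.card_mul_index).symm
  rw [h4] at h3
  have hNpos : (0 : ℝ) < (Nat.card N : ℝ) := by exact_mod_cast Nat.card_pos
  have hs2 : (2 : ℝ) ≤ (s : ℝ) := by exact_mod_cast hs.two_le
  nlinarith [mul_pos hNpos (by linarith : (0 : ℝ) < (s : ℝ))]

end Cfsg.Agent.Helper63.PrimeDeg
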