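import Cfsg.Agent.Helper31.PronAL.Defs

/-!
# S2225 block AL (helper31 #15201), piece (NZ): the entries of a monomial matrix in the positions of its
permutation are nonzero.
-/

set_option autoImplicit false

namespace Cfsg.Agent.Helper63.Pron

open Matrix Cfsg.Agent.Helper42.DZ Cfsg.Agent.Helper84.PSLn Cfsg.Agent.Helper31.Pron

variable {n : ℕ} {F : Type*} [Field F]

/-- (NZ) the entries of a monomial matrix in the positions of its permutation are nonzero -/
theorem mono_ne_zero (m : SLn n F) (σ : Equiv.Perm (Fin n))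
    (hσ : ∀ i j : Fin n, j ≠ σ i → m.1 i j = 0) (i : Fin n) : m.1 i (σ i) ≠ 0 := by
  intro h0
  have hrow : ∀ j, m.1 i j = 0 := by
    intro j
    by_cases hj : j = σ i
    · rw [hj]; exact h0
    · exact hσ i j hj
  have h1 := Matrix.det_eq_zero_of_row_eq_zero i hrow
  rw [m.2] at h1
  exact one_ne_zero h1

end Cfsg.Agent.Helper63.Pron
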