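import Mathlib
import Cfsg.Agent.Helper68.PronBU1.Defs

/-!
# Block BU1 of S2225/S2226 (helper68 #15487), leaf (MC6): a matrix commuting with `diag(a,b)`, `a ≠ b`, and with
`tau * dgl l m` is scalar.
-/

set_option autoImplicit false

namespace Cfsg.Agent.Helper63.PronBU1

open Matrix Cfsg.Agent.Helper99.Pron Cfsg.Agent.Helper68.PronBU1

variable {F : Type*} [Field F]

/-- (MC6) -/
theorem comm6_scalar (a b l m : Fˣ) (hab : (a : F) ≠ b) (X : Matrix (Fin 2) (Fin 2) F)
    (h1 : ((dgl a b : GL (Fin 2) F) : Matrix (Fin 2) (Fin 2) F) * X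
      = X * ((dgl a b : GL (Fin 2) F) : Matrix (Fin 2) (Fin 2) F))
    (h2 : ((tau * dgl l m : GL (Fin 2) F) : Matrix (Fin 2) (Fin 2) F) * X
      = X * ((tau * dgl l m : GL (Fin 2) F) : Matrix (Fin 2) (Fin 2) F)) :
    ∃ c : F, X = c • 1 := by
  have e01 := congrFun (congrFun h1 0) 1
  have e10 := congrFun (congrFun h1 1) 0
  have f01 := congrFun (congrFun h2 0) 1
  simp only [Units.val_mul, dgl_val, tau_val, Matrix.mul_apply, Fin.sum_univ_two, Matrix.of_apply,
    Matrix.cons_val', Matrix.cons_val_zero, Matrix.cons_val_one, Matrix.cons_val_fin_one,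
    zero_mul, mul_zero, add_zero, zero_add, one_mul] at e01 e10 f01
  have hab' : (a : F) - b ≠ 0 := sub_ne_zero.2 hab
  have x01 : X 0 1 = 0 := by
    have : ((a : F) - b) * X 0 1 = 0 := by rw [sub_mul, e01, mul_comm]; ring
    exact (mul_eq_zero.1 this).resolve_left hab'
  have x10 : X 1 0 = 0 := by
    have : ((a : F) - b) * X 1 0 = 0 := by rw [sub_mul, mul_comm (a : F), ← e10]; ring
    exact (mul_eq_zero.1 this).resolve_left hab'
  have x11 : X 1 1 = X 0 0 := by
    have hm : (m : F) ≠ 0 := m.ne_zero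
    have : (m : F) * X 1 1 = (m : F) * X 0 0 := by rw [f01, mul_comm]
    exact mul_left_cancel₀ hm this
  refine ⟨X 0 0, ?_⟩
  ext i j
  fin_cases i <;> fin_cases j <;> simp [x01, x10, x11]

end Cfsg.Agent.Helper63.PronBU1
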