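import Mathlib
import Cfsg.Agent.Helper68.PronBU1.Defs

/-!
# Block BU1 of S2225/S2226 (helper68 #15487), leaf (MN1): if `x` conjugates `diag(a,b)`, `a ≠ b`, to a diagonal matrix
then `x` is monomial.
-/

set_option autoImplicit false

namespace Cfsg.Agent.Helper63.PronBU1

open Matrix Cfsg.Agent.Helper99.Pron Cfsg.Agent.Helper68.PronBU1

variable {F : Type*} [Field F]

/-- (MN1) -/
theorem monomial_of_conj (x : GL (Fin 2) F) (a b a' b' : Fˣ) (hab : (a : F) ≠ b)
    (h : x * dgl a b * x⁻¹ = dgl a' b') :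
    (∃ u v : Fˣ, x = dgl u v) ∨ (∃ u v : Fˣ, x = tau * dgl u v) := by
  have h' : x * dgl a b = dgl a' b' * x := by
    rw [← h]
    group
  have hm := congrArg (fun g : GL (Fin 2) F => (g : Matrix (Fin 2) (Fin 2) F)) h'
  simp only [Units.val_mul, dgl_val] at hm
  have e00 := congrFun (congrFun hm 0) 0
  have e01 := congrFun (congrFun hm 0) 1
  have e10 := congrFun (congrFun hm 1) 0
  have e11 := congrFun (congrFun hm 1) 1
  simp only [Matrix.mul_apply, Fin.sum_univ_two, Matrix.of_apply,
    Matrix.cons_val', Matrix.cons_val_zero, Matrix.cons_val_one, Matrix.cons_val_fin_one,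
    zero_mul, mul_zero, add_zero, zero_add] at e00 e01 e10 e11
  have hdet : x.1 0 0 * x.1 1 1 - x.1 0 1 * x.1 1 0 ≠ 0 := by
    have h1 : IsUnit x.1.det := (Matrix.isUnit_iff_isUnit_det x.1).1 x.isUnit
    rw [Matrix.det_fin_two] at h1
    exact h1.ne_zero
  have hab' : (a : F) - b ≠ 0 := sub_ne_zero.2 hab
  have hba' : (b : F) - a ≠ 0 := sub_ne_zero.2 (Ne.symm hab)
  by_cases h00 : x.1 0 0 = 0
  · -- antidiagonal
    right
    rw [h00, zero_mul, zero_sub, neg_ne_zero] at hdet
    have h01 : x.1 0 1 ≠ 0 := left_ne_zero_of_mul hdet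
    have h10 : x.1 1 0 ≠ 0 := right_ne_zero_of_mul hdet
    have ha' : (a' : F) = b := by
      have : x.1 0 1 * ((b : F) - a') = 0 := by rw [mul_sub, e01]; ring
      have := (mul_eq_zero.1 this).resolve_left h01
      exact (sub_eq_zero.1 this).symm
    have hb' : (b' : F) = a := by
      have : x.1 1 0 * ((a : F) - b') = 0 := by rw [mul_sub, e10]; ring
      have := (mul_eq_zero.1 this).resolve_left h10
      exact (sub_eq_zero.1 this).symm
    have h11 : x.1 1 1 = 0 := by
      have : x.1 1 1 * ((b : F) - a) = 0 := by rw [mul_sub, e11, hb']; ring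
      exact (mul_eq_zero.1 this).resolve_right hba'
    refine ⟨Units.mk0 _ h10, Units.mk0 _ h01, ?_⟩
    apply Units.ext
    rw [Units.val_mul, tau_val, dgl_val]
    ext i j
    fin_cases i <;> fin_cases j <;> simp [h00, h11]
  · -- diagonal
    left
    have ha' : (a' : F) = a := by
      have : x.1 0 0 * ((a : F) - a') = 0 := by rw [mul_sub, e00]; ring
      have := (mul_eq_zero.1 this).resolve_left h00
      exact (sub_eq_zero.1 this).symm
    have h01 : x.1 0 1 = 0 := by
      have : x.1 0 1 * ((b : F) - a) = 0 := by rw [mul_sub, e01, ha']; ring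
      exact (mul_eq_zero.1 this).resolve_right hba'
    rw [h01, zero_mul, sub_zero] at hdet
    have h11 : x.1 1 1 ≠ 0 := right_ne_zero_of_mul hdet
    have hb' : (b' : F) = b := by
      have : x.1 1 1 * ((b : F) - b') = 0 := by rw [mul_sub, e11]; ring
      have := (mul_eq_zero.1 this).resolve_left h11
      exact (sub_eq_zero.1 this).symm
    have h10 : x.1 1 0 = 0 := by
      have : x.1 1 0 * ((a : F) - b) = 0 := by rw [mul_sub, e10, hb']; ring
      exact (mul_eq_zero.1 this).resolve_right hab'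
    refine ⟨Units.mk0 _ h00, Units.mk0 _ h11, ?_⟩
    apply Units.ext
    rw [dgl_val]
    ext i j
    fin_cases i <;> fin_cases j <;> simp [h01, h10]

end Cfsg.Agent.Helper63.PronBU1
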