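import Mathlib
import Cfsg.Agent.Helper99.Pron.Defs
import Cfsg.Agent.Helper55.PronBM1

/-!
# S2225/S2226 block I (helper99 #15213), piece (GK2): the commutant of a subgroup of block diagonal matrices which
contains `diag(-1,1)` and projects onto `Q` in both coordinates (commutant of `Q` = scalars) consists of `diag(l, m)`.
-/

set_option autoImplicit false

namespace Cfsg.Agent.Helper63.Pron

open Matrix Cfsg.Agent.Helper99.Pron

variable {F : Type*} [Field F] {ι : Type*} [Fintype ι] [DecidableEq ι]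

/-- (GK2) -/
theorem GK2 (h2 : (2 : F) ≠ 0) (Q : Subgroup (GL ι F))
    (hQ : ∀ X : Matrix ι ι F,
      (∀ a ∈ Q, (a : Matrix ι ι F) * X = X * (a : Matrix ι ι F)) → ∃ l : F, X = l • 1)
    (T : Subgroup (GL (ι ⊕ ι) F))
    (hneg : ∃ m : GL ι F, (m : Matrix ι ι F) = -1 ∧ bd m 1 ∈ T)
    (hp1 : ∀ a ∈ Q, ∃ b : GL ι F, bd a b ∈ T) (hp2 : ∀ b ∈ Q, ∃ a : GL ι F, bd a b ∈ T)
    (X : Matrix (ι ⊕ ι) (ι ⊕ ι) F)
    (hX : ∀ g ∈ T, (g : Matrix (ι ⊕ ι) (ι ⊕ ι) F) * X = X * (g : Matrix (ι ⊕ ι) (ι ⊕ ι) F)) :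
    ∃ l m : F, X = fromBlocks (l • (1 : Matrix ι ι F)) 0 0 (m • 1) := by
  obtain ⟨m, hm, hmT⟩ := hneg
  have h0 := hX (bd m 1) hmT
  rw [bd_val, hm] at h0
  have h0' : fromBlocks (-1 : Matrix ι ι F) 0 0 1 * X = X * fromBlocks (-1 : Matrix ι ι F) 0 0 1 := by
    simpa using h0
  obtain ⟨h12, h21⟩ := Cfsg.Agent.Helper55.Pron.BM1 h2 X h0'
  have hXb : X = fromBlocks X.toBlocks₁₁ 0 0 X.toBlocks₂₂ := by
    conv_lhs => rw [← fromBlocks_toBlocks X, h12, h21]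
  have key : ∀ a b : GL ι F, bd a b ∈ T →
      (a : Matrix ι ι F) * X.toBlocks₁₁ = X.toBlocks₁₁ * (a : Matrix ι ι F) ∧
      (b : Matrix ι ι F) * X.toBlocks₂₂ = X.toBlocks₂₂ * (b : Matrix ι ι F) := by
    intro a b hab
    have h := hX (bd a b) hab
    rw [bd_val, hXb, fromBlocks_multiply, fromBlocks_multiply] at h
    simp only [Matrix.mul_zero, Matrix.zero_mul, add_zero, zero_add] at h
    obtain ⟨e1, -, -, e4⟩ := fromBlocks_inj.1 h
    exact ⟨e1, e4⟩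
  obtain ⟨l, hl⟩ := hQ X.toBlocks₁₁ (fun a ha => by
    obtain ⟨b, hb⟩ := hp1 a ha
    exact (key a b hb).1)
  obtain ⟨m', hm'⟩ := hQ X.toBlocks₂₂ (fun b hb => by
    obtain ⟨a, ha⟩ := hp2 b hb
    exact (key a b ha).2)
  refine ⟨l, m', ?_⟩
  rw [← hl, ← hm']
  exact hXb

end Cfsg.Agent.Helper63.Pron
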