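import Mathlib
import Cfsg.Agent.Helper99.Pron.Defs
import Cfsg.Agent.Helper63.PronGK2

/-!
# S2225/S2226 block I (helper99 #15213), piece (GM): an element conjugating the block diagonal part of `Y` into block
diagonal matrices is block diagonal or block antidiagonal.  (Local copies of (GMa), (GMb), (GMc), prefixed `GM_`.)
-/

set_option autoImplicit false

namespace Cfsg.Agent.Helper63.Pron

open Matrix Cfsg.Agent.Helper99.Pron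

variable {F : Type*} [Field F] {ι : Type*} [Fintype ι] [DecidableEq ι]

/-- the block equations of `x * x⁻¹ = 1` and `x⁻¹ * x = 1` -/
theorem GM_blocks (x : GL (ι ⊕ ι) F) :
    (x.1.toBlocks₁₁ * (x⁻¹).1.toBlocks₁₁ + x.1.toBlocks₁₂ * (x⁻¹).1.toBlocks₂₁ = 1 ∧
      x.1.toBlocks₂₁ * (x⁻¹).1.toBlocks₁₂ + x.1.toBlocks₂₂ * (x⁻¹).1.toBlocks₂₂ = 1) ∧
    ((x⁻¹).1.toBlocks₁₁ * x.1.toBlocks₁₁ + (x⁻¹).1.toBlocks₁₂ * x.1.toBlocks₂₁ = 1 ∧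
      (x⁻¹).1.toBlocks₂₁ * x.1.toBlocks₁₂ + (x⁻¹).1.toBlocks₂₂ * x.1.toBlocks₂₂ = 1) := by
  have h1 : x.1 * (x⁻¹).1 = 1 := by rw [← Units.val_mul, mul_inv_cancel, Units.val_one]
  have h2 : (x⁻¹).1 * x.1 = 1 := by rw [← Units.val_mul, inv_mul_cancel, Units.val_one]
  rw [← fromBlocks_toBlocks x.1, ← fromBlocks_toBlocks (x⁻¹).1, fromBlocks_multiply,
    ← fromBlocks_one] at h1 h2
  obtain ⟨a1, -, -, a4⟩ := fromBlocks_inj.1 h1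
  obtain ⟨b1, -, -, b4⟩ := fromBlocks_inj.1 h2
  exact ⟨⟨a1, a4⟩, ⟨b1, b4⟩⟩

/-- (GMa), local copy -/
theorem GM_exists_bd_of_blocks (x : GL (ι ⊕ ι) F)
    (h12 : (x : Matrix (ι ⊕ ι) (ι ⊕ ι) F).toBlocks₁₂ = 0)
    (h21 : (x : Matrix (ι ⊕ ι) (ι ⊕ ι) F).toBlocks₂₁ = 0) : ∃ x₁ x₂ : GL ι F, x = bd x₁ x₂ := by
  obtain ⟨⟨a1, a4⟩, ⟨b1, b4⟩⟩ := GM_blocks x
  rw [h12, Matrix.zero_mul, add_zero] at a1
  rw [h21, Matrix.zero_mul, zero_add] at a4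
  rw [h21, Matrix.mul_zero, add_zero] at b1
  rw [h12, Matrix.mul_zero, zero_add] at b4
  refine ⟨⟨x.1.toBlocks₁₁, (x⁻¹).1.toBlocks₁₁, a1, b1⟩, ⟨x.1.toBlocks₂₂, (x⁻¹).1.toBlocks₂₂, a4, b4⟩, ?_⟩
  apply Units.ext
  rw [bd_val]
  conv_lhs => rw [← fromBlocks_toBlocks x.1, h12, h21]

/-- (GMb), local copy -/
theorem GM_exists_ad_of_blocks (x : GL (ι ⊕ ι) F)
    (h11 : (x : Matrix (ι ⊕ ι) (ι ⊕ ι) F).toBlocks₁₁ = 0)
    (h22 : (x : Matrix (ι ⊕ ι) (ι ⊕ ι) F).toBlocks₂₂ = 0) : ∃ x₁ x₂ : GL ι F, x = ad x₁ x₂ := by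
  obtain ⟨⟨a1, a4⟩, ⟨b1, b4⟩⟩ := GM_blocks x
  rw [h11, Matrix.zero_mul, zero_add] at a1
  rw [h22, Matrix.zero_mul, add_zero] at a4
  rw [h11, Matrix.mul_zero, zero_add] at b1
  rw [h22, Matrix.mul_zero, add_zero] at b4
  refine ⟨⟨x.1.toBlocks₁₂, (x⁻¹).1.toBlocks₂₁, a1, b4⟩, ⟨x.1.toBlocks₂₁, (x⁻¹).1.toBlocks₁₂, a4, b1⟩, ?_⟩
  apply Units.ext
  rw [ad_val]
  conv_lhs => rw [← fromBlocks_toBlocks x.1, h11, h22]

/-- (GMc), local copy -/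
theorem GM_GMc [Nonempty ι] (x : GL (ι ⊕ ι) F) (l m : F)
    (h : (x⁻¹ : GL (ι ⊕ ι) F).1 * fromBlocks (1 : Matrix ι ι F) 0 0 0 * x.1 =
      fromBlocks (l • (1 : Matrix ι ι F)) 0 0 (m • 1)) :
    (∃ x₁ x₂ : GL ι F, x = bd x₁ x₂) ∨ (∃ x₁ x₂ : GL ι F, x = ad x₁ x₂) := by
  have h1 : x.1 * (x⁻¹).1 = 1 := by rw [← Units.val_mul, mul_inv_cancel, Units.val_one]
  -- `E * x = x * D`
  have h2 : fromBlocks (1 : Matrix ι ι F) 0 0 0 * x.1 =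
      x.1 * fromBlocks (l • (1 : Matrix ι ι F)) 0 0 (m • 1) := by
    rw [← h, ← mul_assoc, ← mul_assoc, h1, one_mul]
  rw [← fromBlocks_toBlocks x.1, fromBlocks_multiply, fromBlocks_multiply] at h2
  simp only [Matrix.one_mul, Matrix.zero_mul, Matrix.mul_zero, add_zero, zero_add,
    Matrix.mul_smul, Matrix.mul_one] at h2
  obtain ⟨e11, e12, e21, e22⟩ := fromBlocks_inj.1 h2
  obtain ⟨⟨a1, a4⟩, -⟩ := GM_blocks x
  have hne : (1 : Matrix ι ι F) ≠ 0 := one_ne_zero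
  by_cases hl : l = 0
  · have hA : x.1.toBlocks₁₁ = 0 := by rw [e11, hl, zero_smul]
    by_cases hm : m = 0
    · have hB : x.1.toBlocks₁₂ = 0 := by rw [e12, hm, zero_smul]
      rw [hA, hB, Matrix.zero_mul, Matrix.zero_mul, add_zero] at a1
      exact absurd a1.symm hne
    · have hD : x.1.toBlocks₂₂ = 0 := by
        have := e22.symm
        rwa [smul_eq_zero, or_iff_right hm] at this
      exact Or.inr (GM_exists_ad_of_blocks x hA hD)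
  · have hC : x.1.toBlocks₂₁ = 0 := by
      have := e21.symm
      rwa [smul_eq_zero, or_iff_right hl] at this
    by_cases hm : m = 0
    · have hB : x.1.toBlocks₁₂ = 0 := by rw [e12, hm, zero_smul]
      exact Or.inl (GM_exists_bd_of_blocks x hB hC)
    · have hD : x.1.toBlocks₂₂ = 0 := by
        have := e22.symm
        rwa [smul_eq_zero, or_iff_right hm] at this
      rw [hC, hD, Matrix.zero_mul, Matrix.zero_mul, add_zero] at a4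
      exact absurd a4.symm hne

/-- (GM) an element conjugating the block diagonal part of `Y` into block diagonal matrices is block
diagonal or antidiagonal. -/
theorem GM [Nonempty ι] (h2 : (2 : F) ≠ 0) (P : Subgroup (GL ι F))
    (hc : ∀ X : Matrix ι ι F,
      (∀ a ∈ P, (a : Matrix ι ι F) * X = X * (a : Matrix ι ι F)) → ∃ l : F, X = l • 1)
    (Y : Subgroup (GL (ι ⊕ ι) F))
    (hneg : ∃ m : GL ι F, (m : Matrix ι ι F) = -1 ∧ m ∈ P ∧ bd m 1 ∈ Y)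
    (hd : ∀ a ∈ P, ∃ b ∈ P, bd a b ∈ Y) (hd' : ∀ b ∈ P, ∃ a ∈ P, bd a b ∈ Y)
    (x : GL (ι ⊕ ι) F) (hx : ∀ g ∈ Y ⊓ Bs P, x * g * x⁻¹ ∈ Bs P) :
    (∃ x₁ x₂ : GL ι F, x = bd x₁ x₂) ∨ (∃ x₁ x₂ : GL ι F, x = ad x₁ x₂) := by
  have h1 : x.1 * (x⁻¹).1 = 1 := by rw [← Units.val_mul, mul_inv_cancel, Units.val_one]
  have h1' : (x⁻¹).1 * x.1 = 1 := by rw [← Units.val_mul, inv_mul_cancel, Units.val_one]
  have hcomm : ∀ g ∈ Y ⊓ Bs P,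
      (g : Matrix (ι ⊕ ι) (ι ⊕ ι) F) * ((x⁻¹).1 * fromBlocks (1 : Matrix ι ι F) 0 0 0 * x.1) =
        ((x⁻¹).1 * fromBlocks (1 : Matrix ι ι F) 0 0 0 * x.1) * (g : Matrix (ι ⊕ ι) (ι ⊕ ι) F) := by
    intro g hg
    obtain ⟨a, _, b, _, hab⟩ := hx g hg
    have e0 : x.1 * g.1 * (x⁻¹).1 = fromBlocks a.1 0 0 b.1 := by
      rw [← Units.val_mul, ← Units.val_mul, hab, bd_val]
    have e1 : fromBlocks a.1 0 0 b.1 * fromBlocks (1 : Matrix ι ι F) 0 0 0 =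
        fromBlocks (1 : Matrix ι ι F) 0 0 0 * fromBlocks a.1 0 0 b.1 := by
      rw [fromBlocks_multiply, fromBlocks_multiply]
      simp
    rw [← e0] at e1
    calc g.1 * ((x⁻¹).1 * fromBlocks (1 : Matrix ι ι F) 0 0 0 * x.1)
        = (x⁻¹).1 * (x.1 * g.1 * (x⁻¹).1 * fromBlocks (1 : Matrix ι ι F) 0 0 0) * x.1 := by
          simp only [← mul_assoc]
          rw [h1', one_mul]
      _ = (x⁻¹).1 * (fromBlocks (1 : Matrix ι ι F) 0 0 0 * (x.1 * g.1 * (x⁻¹).1)) * x.1 := by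
          rw [e1]
      _ = ((x⁻¹).1 * fromBlocks (1 : Matrix ι ι F) 0 0 0 * x.1) * g.1 := by
          simp only [mul_assoc]
          rw [h1', mul_one]
  obtain ⟨mm, hmm, hmP, hmY⟩ := hneg
  obtain ⟨l, m, hlm⟩ := GK2 h2 P hc (Y ⊓ Bs P)
    ⟨mm, hmm, hmY, mm, hmP, 1, P.one_mem, rfl⟩
    (fun a ha => by
      obtain ⟨b, hb, hab⟩ := hd a ha
      exact ⟨b, hab, a, ha, b, hb, rfl⟩)
    (fun b hb => by
      obtain ⟨a, ha, hab⟩ := hd' b hb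
      exact ⟨a, hab, a, ha, b, hb, rfl⟩)
    _ hcomm
  exact GM_GMc x l m hlm

end Cfsg.Agent.Helper63.Pron
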