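import Cfsg.Agent.Helper78.PsuII.Stmts
import Cfsg.Agent.Helper6.Cox5
import Cfsg.Prelude.Def_LieExceptional

/-!
# S2089 block II part A (helper78), piece (AWEYL): the Weyl group of a `(B,N)`-pair is presented by conjugation

Route (helper78's docstring): `K` is normal in `M`, `Q = M ⧸ K` is generated by the involutions `q i = m i K`; the
conjugation hypothesis transfers the relations `v f_j v⁻¹ = f_x` from the Weyl group `W = N ⧸ (B ⊓ N)` to `Q`, hence the
braid relations (helper6's `alt_eq_iff`); helper6's Matsumoto-type theorem `gmap_wp` for `ExchData (wf P)` then gives a map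
`W → Q` on words, so that a word in the `q i` whose image in `W` is trivial is trivial.
-/

set_option autoImplicit false

namespace Cfsg.Agent.Helper63.PsuII

open Cfsg.Agent.Helper78.PsuII Cfsg.Agent.Helper6
open CoxeterSystem (alternatingWord alternatingWord_succ alternatingWord_succ')

universe u

theorem AWEYL_map_wp {A B ι : Type*} [Group A] [Group B] (F : A →* B) (a : ι → A) (l : List ι) :
    F (wp a l) = wp (fun i => F (a i)) l := by
  induction l with
  | nil => simp
  | cons i l ih => rw [wp_cons, map_mul, ih, wp_cons]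

theorem AWEYL_wp_map {A ι κ : Type*} [Group A] (a : κ → A) (σ : ι → κ) (l : List ι) :
    wp a (l.map σ) = wp (fun i => a (σ i)) l := by
  induction l with
  | nil => simp
  | cons i l ih => rw [List.map_cons, wp_cons, ih, wp_cons]

theorem AWEYL_wp_inv {A ι : Type*} [Group A] (a : ι → A) (ha : ∀ i, a i * a i = 1) (l : List ι) :
    (wp a l)⁻¹ = wp a l.reverse := by
  induction l with
  | nil => simp
  | cons i l ih =>
    rw [wp_cons, mul_inv_rev, ih, List.reverse_cons, wp_append, wp_singleton]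
    congr 1
    exact inv_eq_of_mul_eq_one_right (ha i)

/-- transfer of the braid relations between two families of involutions, given the transfer of the conjugation
relations `v f_j v⁻¹ = f_x` for words `v` -/
theorem AWEYL_braid {W Q ι : Type*} [Group W] [Group Q] (f : ι → W) (q : ι → Q)
    (hf : ∀ i, f i * f i = 1) (hq : ∀ i, q i * q i = 1)
    (hconj : ∀ (L : List ι) (x j : ι), wp f L * f j = f x * wp f L → wp q L * q j = q x * wp q L)
    (i j : ι) (e : ℕ) (he : (f i * f j) ^ e = 1) : (q i * q j) ^ e = 1 := by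
  obtain ⟨c, hc⟩ := orderOf_dvd_of_pow_eq_one he
  rw [hc, pow_mul]
  suffices h : (q i * q j) ^ orderOf (f i * f j) = 1 by rw [h, one_pow]
  rcases Nat.eq_zero_or_pos (orderOf (f i * f j)) with h0 | hpos
  · rw [h0, pow_zero]
  obtain ⟨n, hn⟩ := Nat.exists_eq_succ_of_ne_zero hpos.ne'
  have h1 : (f i * f j) ^ (n + 1) = 1 := by
    have := pow_orderOf_eq_one (f i * f j)
    rwa [hn] at this
  rw [hn]
  rw [← alt_eq_iff f hf i j (n + 1)] at h1
  rw [Nat.succ_eq_add_one, ← alt_eq_iff q hq i j (n + 1)]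
  rw [alternatingWord_succ i j n, alternatingWord_succ' j i n] at h1 ⊢
  rw [List.concat_eq_append, wp_append, wp_singleton, wp_cons] at h1 ⊢
  exact hconj _ _ _ h1

theorem AWEYL_normal_T {G : Type*} [Group G] (P : Cfsg.BNPair G) :
    ((P.B ⊓ P.N).subgroupOf P.N).Normal := by
  constructor
  intro t ht n
  rw [Subgroup.mem_subgroupOf] at ht ⊢
  have := T_conj P n.2 ht
  simpa using this

theorem AWEYL_H_le_N {G : Type u} [Group G] {r : ℕ} (D : RData G r) : D.H ≤ D.N := by
  unfold RData.N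
  exact le_sup_left

theorem AWEYL_s_mem_N {G : Type u} [Group G] {r : ℕ} (D : RData G r) (i : Fin r) : D.s i ∈ D.N := by
  unfold RData.N
  exact (le_sup_right : _ ≤ D.H ⊔ Subgroup.closure (Set.range D.s))
    (Subgroup.subset_closure ⟨i, rfl⟩)

/-- (AWEYL) the Weyl group of a `(B,N)`-pair is presented by conjugation. -/
theorem weylPres_of_bnPair {G : Type u} [Group G] {r : ℕ} (D : RData G r) (P : Cfsg.BNPair G)
    (hN : P.N = D.N) (hH : P.B ⊓ P.N = D.H) (hS : P.S = Set.range D.s) : D.WeylPres := by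
  intro M _ φ K m hK hm hgen hn1 hn2 hsq hconj g hg
  have hnT : ((P.B ⊓ P.N).subgroupOf P.N).Normal := AWEYL_normal_T P
  -- `K` is normal
  have hKn : K.Normal := by
    rw [← Subgroup.normalizer_eq_top_iff, eq_top_iff, ← hgen]
    refine sup_le Subgroup.le_normalizer ?_
    rw [Subgroup.closure_le]
    rintro _ ⟨i, rfl⟩
    rw [SetLike.mem_coe, Subgroup.mem_normalizer_iff]
    intro k
    constructor
    · exact hn1 i k
    · intro h
      have := hn2 i _ h
      have e : (m i)⁻¹ * (m i * k * (m i)⁻¹) * m i = k := by group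
      rwa [e] at this
  -- `φ` has values in `N`
  have hφN : ∀ x : M, φ x ∈ P.N := by
    intro x
    have hx : x ∈ K ⊔ Subgroup.closure (Set.range m) := by rw [hgen]; trivial
    have hle : K ⊔ Subgroup.closure (Set.range m) ≤ (P.N).comap φ := by
      refine sup_le ?_ ?_
      · intro k hk
        rw [Subgroup.mem_comap, hN]
        exact AWEYL_H_le_N D (hK k hk)
      · rw [Subgroup.closure_le]
        rintro _ ⟨i, rfl⟩
        rw [SetLike.mem_coe, Subgroup.mem_comap, hN]
        have h1 : φ (m i) * (D.s i)⁻¹ ∈ D.N := AWEYL_H_le_N D (hm i)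
        have := D.N.mul_mem h1 (AWEYL_s_mem_N D i)
        simpa using this
    exact hle hx
  let φN : M →* P.N := φ.codRestrict P.N hφN
  let ψ : M →* (P.N ⧸ (P.B ⊓ P.N).subgroupOf P.N) := (QuotientGroup.mk' _).comp φN
  have hψ1 : ∀ x : M, ψ x = 1 ↔ φ x ∈ D.H := by
    intro x
    change (QuotientGroup.mk (φN x) : P.N ⧸ (P.B ⊓ P.N).subgroupOf P.N) = 1 ↔ _
    rw [QuotientGroup.eq_one_iff, Subgroup.mem_subgroupOf, hH]
    rfl
  have hsS : ∀ i, D.s i ∈ P.S := by
    intro i
    rw [hS]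
    exact ⟨i, rfl⟩
  let σ : Fin r → P.S := fun i => ⟨D.s i, hsS i⟩
  let f' : Fin r → (P.N ⧸ (P.B ⊓ P.N).subgroupOf P.N) := fun i => wf P (σ i)
  let q : Fin r → M ⧸ K := fun i => QuotientGroup.mk (m i)
  have hψm : ∀ i, ψ (m i) = f' i := by
    intro i
    change (QuotientGroup.mk (φN (m i)) : P.N ⧸ (P.B ⊓ P.N).subgroupOf P.N) =
      QuotientGroup.mk (sN P (σ i))
    rw [QuotientGroup.eq, Subgroup.mem_subgroupOf]
    change (φ (m i))⁻¹ * D.s i ∈ P.B ⊓ P.N
    have h1 : (φ (m i) * (D.s i)⁻¹)⁻¹ ∈ P.B ⊓ P.N := by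
      rw [hH]
      exact D.H.inv_mem (hm i)
    have h2 := T_conj' P (P.subset (hsS i)) h1
    have e : (D.s i)⁻¹ * (φ (m i) * (D.s i)⁻¹)⁻¹ * D.s i = (φ (m i))⁻¹ * D.s i := by group
    rwa [e] at h2
  have hq : ∀ i, q i * q i = 1 := by
    intro i
    change (QuotientGroup.mk (m i * m i) : M ⧸ K) = 1
    rw [QuotientGroup.eq_one_iff]
    exact hsq i
  have hf' : ∀ i, f' i * f' i = 1 := fun i => (exchData_wf P).inv (σ i)
  have hψw : ∀ L : List (Fin r), ψ (wp m L) = wp f' L := by
    intro L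
    rw [AWEYL_map_wp]
    exact congrArg (fun a => wp a L) (funext hψm)
  have hqw : ∀ L : List (Fin r), (QuotientGroup.mk (wp m L) : M ⧸ K) = wp q L := by
    intro L
    exact AWEYL_map_wp (QuotientGroup.mk' K) m L
  -- transfer of the conjugation relations
  have hconjW : ∀ (L : List (Fin r)) (x j : Fin r), wp f' L * f' j = f' x * wp f' L →
      wp q L * q j = q x * wp q L := by
    intro L x j hrel
    have e1 := hψw L
    have e2 : (QuotientGroup.mk (φN (wp m L) * sN P (σ j) * (φN (wp m L))⁻¹ * (sN P (σ x))⁻¹) :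
        P.N ⧸ (P.B ⊓ P.N).subgroupOf P.N) = 1 := by
      change ψ (wp m L) * f' j * (ψ (wp m L))⁻¹ * (f' x)⁻¹ = 1
      rw [e1, hrel]
      group
    rw [QuotientGroup.eq_one_iff, Subgroup.mem_subgroupOf, hH] at e2
    have e3 : φ (wp m L) * D.s j * (φ (wp m L))⁻¹ * (D.s x)⁻¹ ∈ D.H := e2
    have e4 := hconj (wp m L) x j e3
    have e5 : (QuotientGroup.mk (wp m L * m j * (wp m L)⁻¹ * (m x)⁻¹) : M ⧸ K) = 1 :=
      (QuotientGroup.eq_one_iff _).2 e4
    have e6 : wp q L * q j * (wp q L)⁻¹ * (q x)⁻¹ = 1 := by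
      rw [← hqw L]
      exact e5
    have e7 : wp q L * q j = (wp q L * q j * (wp q L)⁻¹ * (q x)⁻¹) * (q x * wp q L) := by group
    rw [e7, e6, one_mul]
  have hbrF : ∀ i j e, (f' i * f' j) ^ e = 1 → (q i * q j) ^ e = 1 :=
    AWEYL_braid f' q hf' hq hconjW
  -- `q i` depends only on `D.s i`
  have hwd : ∀ a b : Fin r, D.s a = D.s b → q a = q b := by
    intro a b hab
    have h1 : φ 1 * D.s b * (φ 1)⁻¹ * (D.s a)⁻¹ ∈ D.H := by
      rw [map_one, hab]
      have : (1 : G) * D.s b * 1⁻¹ * (D.s b)⁻¹ = 1 := by group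
      rw [this]
      exact D.H.one_mem
    have h2 := hconj 1 a b h1
    have h3 : (QuotientGroup.mk ((1 : M) * m b * 1⁻¹ * (m a)⁻¹) : M ⧸ K) = 1 :=
      (QuotientGroup.eq_one_iff _).2 h2
    have h4 : q b * (q a)⁻¹ = 1 := by
      have : ((1 : M) * m b * 1⁻¹ * (m a)⁻¹) = m b * (m a)⁻¹ := by group
      rw [this] at h3
      exact h3
    exact (mul_inv_eq_one.1 h4).symm
  -- index choice
  have hex : ∀ s : P.S, ∃ i : Fin r, D.s i = s.1 := by
    intro s
    have h0 : s.1 ∈ Set.range D.s := by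
      rw [← hS]
      exact s.2
    exact h0
  let idx : P.S → Fin r := fun s => Classical.choose (hex s)
  have hidx : ∀ s : P.S, D.s (idx s) = s.1 := fun s => Classical.choose_spec (hex s)
  let gQ : P.S → M ⧸ K := fun s => q (idx s)
  have hgσ : ∀ i, gQ (σ i) = q i := fun i => hwd _ _ (hidx (σ i))
  have hσidx : ∀ s : P.S, σ (idx s) = s := fun s => Subtype.ext (hidx s)
  have hgQ : ∀ s, gQ s * gQ s = 1 := fun s => hq _
  have hbr : ∀ s t e, (wf P s * wf P t) ^ e = 1 → (gQ s * gQ t) ^ e = 1 := by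
    intro s t e h
    have h' : (f' (idx s) * f' (idx t)) ^ e = 1 := by
      change (wf P (σ (idx s)) * wf P (σ (idx t))) ^ e = 1
      rw [hσidx, hσidx]
      exact h
    exact hbrF _ _ _ h'
  -- generation of `Q`
  have hgenQ : ∀ x : M, ∃ l : List (Fin r), (QuotientGroup.mk x : M ⧸ K) = wp q l := by
    intro x
    have hx : x ∈ Subgroup.closure ((K : Set M) ∪ Set.range m) := by
      rw [Subgroup.closure_union, Subgroup.closure_eq, hgen]
      trivial
    induction hx using Subgroup.closure_induction with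
    | mem y hy =>
      rcases hy with hy | ⟨i, rfl⟩
      · exact ⟨[], by rw [wp_nil]; exact (QuotientGroup.eq_one_iff y).2 hy⟩
      · exact ⟨[i], by rw [wp_singleton]⟩
    | one => exact ⟨[], by rw [wp_nil]; rfl⟩
    | mul a b _ _ iha ihb =>
      obtain ⟨la, ha⟩ := iha
      obtain ⟨lb, hb⟩ := ihb
      exact ⟨la ++ lb, by rw [wp_append, ← ha, ← hb]; rfl⟩
    | inv a _ iha =>
      obtain ⟨la, ha⟩ := iha
      exact ⟨la.reverse, by rw [← AWEYL_wp_inv q hq, ← ha]; rfl⟩
  -- conclusion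
  obtain ⟨l, hl⟩ := hgenQ g
  have h1 : wp f' l = 1 := by
    rw [← hψw l]
    have hg1 : ψ g = 1 := (hψ1 g).2 hg
    have hk : (wp m l)⁻¹ * g ∈ K := by
      rw [← QuotientGroup.eq, hqw l, hl]
    have hk1 : ψ ((wp m l)⁻¹ * g) = 1 := (hψ1 _).2 (hK _ hk)
    rw [map_mul, map_inv, hg1, mul_one, inv_eq_one] at hk1
    exact hk1
  have h2 : wp (wf P) (l.map σ) = 1 := by
    rw [AWEYL_wp_map]
    exact h1
  have h3 : wp gQ (l.map σ) = 1 := by
    have a := gmap_wp (exchData_wf P) hgQ hbr (l.map σ)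
    have b := gmap_wp (exchData_wf P) hgQ hbr []
    rw [h2] at a
    rw [wp_nil, wp_nil] at b
    rw [← a, b]
  have h4 : wp q l = 1 := by
    rw [← h3, AWEYL_wp_map]
    exact congrArg (fun a => wp a l) (funext fun i => (hgσ i).symm)
  rw [← hl] at h4
  exact (QuotientGroup.eq_one_iff g).1 h4

end Cfsg.Agent.Helper63.PsuII
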