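import Mathlib
import Cfsg.Agent.Helper77.Res.Defs
import Cfsg.Agent.Helper63.PGroup

/-!
# S5289 piece (D1), sub-piece (FP) for helper68: a `p`-group has a fixed point on a nontrivial
invariant section.
-/

set_option autoImplicit false

universe u

namespace Cfsg.Agent.Helper63.Res

open Subgroup Cfsg.Agent.Helper77.Res

variable {Ω : Type u} [Group Ω] {p : ℕ} [hp : Fact p.Prime]

theorem D1FP_normal (T X : Subgroup Ω) (hXn : ∀ t ∈ T, ∀ x ∈ X, t * x * t⁻¹ ∈ X) :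
    (X.subgroupOf T).Normal := by
  constructor
  intro n hn g
  rw [Subgroup.mem_subgroupOf] at hn ⊢
  have := hXn g g.2 n hn
  simpa using this

/-- (FP) a `p`-group has a fixed point on a nontrivial invariant section. -/
theorem D1_FP (T : Subgroup Ω) [Finite T] (hT : IsPGroup p T) (X Y : Subgroup Ω) (hYX : Y ≤ X) (hXT : X ≤ T)
    (hXn : ∀ t ∈ T, ∀ x ∈ X, t * x * t⁻¹ ∈ X) (hYn : ∀ t ∈ T, ∀ y ∈ Y, t * y * t⁻¹ ∈ Y)
    (hne : Y ≠ X) : ∃ x ∈ X, x ∉ Y ∧ ∀ t ∈ T, x * t * x⁻¹ * t⁻¹ ∈ Y := by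
  have hYnorm : (Y.subgroupOf T).Normal := D1FP_normal T Y hYn
  have hXnorm : (X.subgroupOf T).Normal := D1FP_normal T X hXn
  have hQ : IsPGroup p (↥T ⧸ Y.subgroupOf T) := hT.to_quotient _
  set N : Subgroup (↥T ⧸ Y.subgroupOf T) :=
    (X.subgroupOf T).map (QuotientGroup.mk' (Y.subgroupOf T)) with hNdef
  have hNn : N.Normal := Subgroup.Normal.map hXnorm _ (QuotientGroup.mk'_surjective _)
  obtain ⟨x0, hx0X, hx0Y⟩ : ∃ x ∈ X, x ∉ Y := by
    by_contra h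
    push Not at h
    exact hne (le_antisymm hYX h)
  have hN : N ≠ ⊥ := by
    intro hbot
    have h1 : QuotientGroup.mk' (Y.subgroupOf T) ⟨x0, hXT hx0X⟩ ∈ N :=
      Subgroup.mem_map_of_mem _ (by rw [Subgroup.mem_subgroupOf]; exact hx0X)
    rw [hbot, Subgroup.mem_bot, QuotientGroup.mk'_apply, QuotientGroup.eq_one_iff,
      Subgroup.mem_subgroupOf] at h1
    exact hx0Y h1
  have hz := Cfsg.Agent.Helper63.normal_inf_center_ne_bot hQ N hN
  obtain ⟨⟨z, hzmem⟩, hz1⟩ := (Subgroup.ne_bot_iff_exists_ne_one).1 hz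
  obtain ⟨hzN, hzC⟩ := Subgroup.mem_inf.1 hzmem
  obtain ⟨x', hx'X, rfl⟩ := Subgroup.mem_map.1 hzN
  refine ⟨(x' : Ω), Subgroup.mem_subgroupOf.1 hx'X, ?_, ?_⟩
  · intro hxY
    apply hz1
    apply Subtype.ext
    show QuotientGroup.mk' (Y.subgroupOf T) x' = 1
    rw [QuotientGroup.mk'_apply, QuotientGroup.eq_one_iff, Subgroup.mem_subgroupOf]
    exact hxY
  · intro t ht
    have hc : QuotientGroup.mk' (Y.subgroupOf T) ⟨t, ht⟩ * QuotientGroup.mk' (Y.subgroupOf T) x' =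
        QuotientGroup.mk' (Y.subgroupOf T) x' * QuotientGroup.mk' (Y.subgroupOf T) ⟨t, ht⟩ :=
      (Subgroup.mem_center_iff.1 hzC) _
    have h1 : QuotientGroup.mk' (Y.subgroupOf T) (x' * ⟨t, ht⟩ * x'⁻¹ * (⟨t, ht⟩ : ↥T)⁻¹) = 1 := by
      simp only [map_mul, map_inv]
      rw [← hc]
      group
    rw [QuotientGroup.mk'_apply, QuotientGroup.eq_one_iff, Subgroup.mem_subgroupOf] at h1
    simpa using h1

end Cfsg.Agent.Helper63.Res
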