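import Cfsg.Agent.Helper63.S6C2
import Cfsg.Agent.Helper62.S6.Lemmas

/-!
# (C2) of helper62's S3333 farm (#10685): exact statement of `case_Z2`.
-/

set_option autoImplicit false
open Cfsg

namespace Cfsg.Agent.Helper63.S6

open Cfsg.Agent.Helper62.S6 Cfsg.Agent.Helper62.D8

universe u

variable {G : Type u} [Group G] [Finite G]
variable {S : Subgroup G} {x y t f : G}

/-- (C2) `N ∩ L = S⟨f²⟩`. -/
theorem case_Z2 (h : Cfg S x y t f) (hn : ¬ S.Normal)
    (hf : f ∉ Subgroup.normalClosure (S : Set G)) (ht : t ∉ Subgroup.normalClosure (S : Set G))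
    (hft : f * t ∉ Subgroup.normalClosure (S : Set G))
    (hz : f ^ 2 ∈ Subgroup.normalClosure (S : Set G)) : False :=
  case_Z2_core h (Cfsg.Agent.Helper62.S6.simple_normalClosure h hn) hf ht hft hz

end Cfsg.Agent.Helper63.S6
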