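import Mathlib
import Cfsg.Agent.Helper62.S6.Defs
import Cfsg.Agent.Helper62.S6.RZ
import Cfsg.Agent.Helper31.D8G2
import Cfsg.Agent.Helper89.S3S3G2
import Cfsg.Agent.Helper24.S6RW

/-!
# (C2) of helper62's S3333 farm (#10685): the case `N ∩ L = S⟨f²⟩` (hypothesis version:
(R4) `simple_normalClosure` and (R5) `transfer` are explicit hypotheses).
-/

set_option autoImplicit false
open Cfsg

namespace Cfsg.Agent.Helper63.S6

open Cfsg.Agent.Helper62.S6 Cfsg.Agent.Helper62.D8

universe u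

variable {G : Type u} [Group G] [Finite G]
variable {S : Subgroup G} {x y t f : G}

omit [Finite G] in
/-- `f²` inverts `S`. -/
theorem C2_ff_inv (hd : NData8 S x y t f) {u : G} (hu : u ∈ S) : f ^ 2 * u * (f ^ 2)⁻¹ = u⁻¹ := by
  obtain ⟨i, k, rfl⟩ := hd.memT u hu
  have hx : MulAut.conj (f * f) x = x⁻¹ := Cfsg.Agent.Helper31.D8.nd_cffx hd
  have hy : MulAut.conj (f * f) y = y⁻¹ := Cfsg.Agent.Helper31.D8.nd_cffy hd
  have h1 : f ^ 2 * (x ^ i * y ^ k) * (f ^ 2)⁻¹ = MulAut.conj (f * f) (x ^ i * y ^ k) := by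
    rw [MulAut.conj_apply, pow_two]
  rw [h1, map_mul, map_pow, map_pow, hx, hy, mul_inv_rev, inv_pow, inv_pow]
  have hc : Commute (x ^ i) (y ^ k) := (Commute.pow_pow (show Commute x y from hd.comm) i k)
  exact (hc.inv_inv).eq

omit [Finite G] in
/-- `f² ∉ S`. -/
theorem C2_ff_not_mem (hd : NData8 S x y t f) : f ^ 2 ∉ S := by
  intro hmem
  have h1 := C2_ff_inv hd hd.xT
  have h2 : f ^ 2 * x = x * f ^ 2 := hd.commT _ hmem _ hd.xT
  have h3 : f ^ 2 * x * (f ^ 2)⁻¹ = x := by rw [h2]; group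
  rw [h3] at h1
  exact Cfsg.Agent.Helper31.D8.nd_x_ne_xinv hd h1

/-- the elements of `N ∩ L`. -/
theorem C2_mem_cases (h : Cfg S x y t f)
    (hf : f ∉ Subgroup.normalClosure (S : Set G)) (ht : t ∉ Subgroup.normalClosure (S : Set G))
    (hft : f * t ∉ Subgroup.normalClosure (S : Set G)) {n : G}
    (hnN : n ∈ Subgroup.normalizer (S : Set G)) (hnL : n ∈ Subgroup.normalClosure (S : Set G)) :
    n ∈ S ∨ ∃ s ∈ S, n = s * f ^ 2 := by
  have hSL : S ≤ Subgroup.normalClosure (S : Set G) := Subgroup.le_normalClosure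
  obtain ⟨hw1, hw2, hw3, hw4, -, -, -⟩ :=
    Cfsg.Agent.Helper24.S6.word_mem h (Subgroup.normalClosure (S : Set G)) hSL
  obtain ⟨s, hs, i, j, hi, hj, rfl⟩ := h.nd.memN n hnN
  have hwL := (hw1 s hs i j).1 hnL
  interval_cases i <;> interval_cases j
  · left; simpa using hs
  · exfalso; apply ht; simpa using hwL
  · exfalso; apply hf; simpa using hwL
  · exfalso; apply hft; simpa using hwL
  · right; exact ⟨s, hs, by simp⟩
  · exfalso; apply ht; apply hw2; simpa using hwL
  · exfalso; apply hf; apply hw4; simpa using hwL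
  · exfalso; apply hft; apply hw3; simpa using hwL

/-- the conclusion of (R5) `transfer` for a subgroup `L ≥ S`. -/
def C2_Transfer (S L : Subgroup G) : Prop :=
  ∃ PL : Sylow 3 ↥L, (PL : Subgroup ↥L) = S.subgroupOf L ∧
      Nat.card (PL : Subgroup ↥L) = 9 ∧
      (∀ a ∈ (PL : Subgroup ↥L), ∀ b ∈ (PL : Subgroup ↥L), a * b = b * a) ∧
      (∀ a ∈ (PL : Subgroup ↥L), a ^ 3 = 1) ∧
      Subgroup.centralizer ((PL : Subgroup ↥L) : Set ↥L) = (PL : Subgroup ↥L) ∧
      Subgroup.normalizer ((PL : Subgroup ↥L) : Set ↥L) =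
        (Subgroup.normalizer (S : Set G)).subgroupOf L ∧
      (∀ u ∈ (PL : Subgroup ↥L), u ≠ 1 → Subgroup.centralizer ({u} : Set ↥L) ≤
        Subgroup.normalizer ((PL : Subgroup ↥L) : Set ↥L))

/-- (C2) with (R4) and (R5) as hypotheses. -/
theorem case_Z2_of (h : Cfg S x y t f)
    (hsimple : IsSimpleGroup ↥(Subgroup.normalClosure (S : Set G)))
    (htr : C2_Transfer S (Subgroup.normalClosure (S : Set G)))
    (hf : f ∉ Subgroup.normalClosure (S : Set G)) (ht : t ∉ Subgroup.normalClosure (S : Set G))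
    (hft : f * t ∉ Subgroup.normalClosure (S : Set G))
    (hz : f ^ 2 ∈ Subgroup.normalClosure (S : Set G)) : False := by
  have : Fact (Nat.Prime 3) := ⟨Nat.prime_three⟩
  set L : Subgroup G := Subgroup.normalClosure (S : Set G) with hL
  have hSL : S ≤ L := Subgroup.le_normalClosure
  obtain ⟨PL, hPL, hcard, hcomm, hexp, hcen, hnorm, hloc⟩ := htr
  have hmemPL : ∀ g : ↥L, g ∈ (PL : Subgroup ↥L) ↔ (g : G) ∈ S := by
    intro g
    rw [hPL, Subgroup.mem_subgroupOf]
  have hmemN : ∀ g : ↥L, g ∈ Subgroup.normalizer ((PL : Subgroup ↥L) : Set ↥L) ↔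
      (g : G) ∈ Subgroup.normalizer (S : Set G) := by
    intro g
    rw [hnorm, Subgroup.mem_subgroupOf]
  -- helper21's hypotheses
  have hT : Cfsg.Agent.Helper21.A6.Hyp (PL : Subgroup ↥L) := by
    refine ⟨hcomm, hexp, hcard, ?_⟩
    intro u hu hu1
    apply le_antisymm
    · intro g hg
      have hgN := (hmemN g).1 (hloc u hu hu1 hg)
      rcases C2_mem_cases h hf ht hft hgN g.2 with hgS | ⟨s, hs, hgs⟩
      · exact (hmemPL g).2 hgS
      · exfalso
        have huS : (u : G) ∈ S := (hmemPL u).1 hu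
        rw [Subgroup.mem_centralizer_iff] at hg
        have hgu : (u : G) * (g : G) = (g : G) * (u : G) := by
          have := hg u rfl
          exact congrArg Subtype.val this
        rw [hgs] at hgu
        have hsu : s * (u : G) = (u : G) * s := h.nd.commT s hs _ huS
        have h1 : f ^ 2 * (u : G) * (f ^ 2)⁻¹ = (u : G) := by
          have h2 : s * (f ^ 2 * (u : G)) = s * ((u : G) * f ^ 2) := by
            calc s * (f ^ 2 * (u : G)) = s * f ^ 2 * (u : G) := by group
              _ = (u : G) * (s * f ^ 2) := hgu.symm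
              _ = (u : G) * s * f ^ 2 := by group
              _ = s * (u : G) * f ^ 2 := by rw [hsu]
              _ = s * ((u : G) * f ^ 2) := by group
          have h3 := mul_left_cancel h2
          rw [h3]; group
        rw [C2_ff_inv h.nd huS] at h1
        -- `u⁻¹ = u` and `u³ = 1` give `u = 1`
        have hu3 : (u : G) ^ 3 = 1 := by
          have := hexp u hu
          exact_mod_cast congrArg Subtype.val this
        apply hu1
        apply Subtype.ext
        show (u : G) = 1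
        calc (u : G) = (u : G) ^ 3 * ((u : G)⁻¹ * (u : G)⁻¹) := by group
          _ = (u : G) ^ 3 * ((u : G) * (u : G)⁻¹) := by rw [h1]
          _ = 1 := by rw [hu3]; group
    · intro g hg
      rw [Subgroup.mem_centralizer_iff]
      intro v hv
      rw [Set.mem_singleton_iff] at hv
      subst hv
      exact hcomm v hu g hg
  -- two classes of elements of order 3
  have hcl : ∃ a b : ↥L, orderOf a = 3 ∧ orderOf b = 3 ∧ ∀ g : ↥L, g * a * g⁻¹ ≠ b := by
    obtain ⟨P, hP⟩ := h.syl
    have hTI : ∀ g u : G, u ∈ S → u ≠ 1 → g * u * g⁻¹ ∈ S →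
        g ∈ Subgroup.normalizer (S : Set G) := by
      intro g u hu hu1 hgu
      have := Cfsg.Agent.Helper89.S3S3.mem_normalizer_of_conj_mem P
        (by rw [← hP]; exact h.nd.commT) (by rw [← hP]; exact h.loc) g u (by rw [← hP]; exact hu)
        hu1 (by rw [← hP]; exact hgu)
      rw [← hP] at this
      exact this
    obtain ⟨hxy1, hxy3, -, -, hnc, -, -, -⟩ :=
      Cfsg.Agent.Helper31.D8.fusion8 S x y t f h.nd hTI
    have hxS : x ∈ S := h.nd.xT
    have hxyS : x * y ∈ S := S.mul_mem h.nd.xT h.nd.yT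
    refine ⟨⟨x, hSL hxS⟩, ⟨x * y, hSL hxyS⟩, ?_, ?_, ?_⟩
    · rw [Subgroup.orderOf_mk]
      exact orderOf_eq_prime h.nd.x3 h.nd.x1
    · rw [Subgroup.orderOf_mk]
      exact orderOf_eq_prime hxy3 hxy1
    · intro g hg
      apply hnc
      rw [isConj_iff]
      exact ⟨(g : G), congrArg Subtype.val hg⟩
  -- `|N_L(PL)| = 18`
  have hN : Nat.card (Subgroup.normalizer ((PL : Subgroup ↥L) : Set ↥L)) = 18 := by
    have hPLN : (PL : Subgroup ↥L) ≤ Subgroup.normalizer ((PL : Subgroup ↥L) : Set ↥L) :=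
      Subgroup.le_normalizer
    have hidx : ((PL : Subgroup ↥L).subgroupOf
        (Subgroup.normalizer ((PL : Subgroup ↥L) : Set ↥L))).index = 2 := by
      rw [Subgroup.index_eq_two_iff]
      have hzN : (⟨f ^ 2, hz⟩ : ↥L) ∈ Subgroup.normalizer ((PL : Subgroup ↥L) : Set ↥L) := by
        rw [hmemN]
        exact (Subgroup.normalizer (S : Set G)).pow_mem h.nd.fN 2
      refine ⟨⟨⟨f ^ 2, hz⟩, hzN⟩, ?_⟩
      intro b
      have hbN := (hmemN b.1).1 b.2
      have hff : f ^ 2 * f ^ 2 = 1 := by rw [← pow_add]; exact h.nd.f4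
      have key : ∀ c : ↥(Subgroup.normalizer ((PL : Subgroup ↥L) : Set ↥L)),
          c ∈ (PL : Subgroup ↥L).subgroupOf (Subgroup.normalizer ((PL : Subgroup ↥L) : Set ↥L)) ↔
            ((c : ↥L) : G) ∈ S := by
        intro c
        rw [Subgroup.mem_subgroupOf, hmemPL]
      rw [key, key]
      show Xor (((b : ↥L) : G) * f ^ 2 ∈ S) (((b : ↥L) : G) ∈ S)
      rcases C2_mem_cases h hf ht hft hbN b.1.2 with hbS | ⟨s, hs, hbs⟩
      · right
        refine ⟨hbS, fun hc => C2_ff_not_mem h.nd ?_⟩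
        have := S.mul_mem (S.inv_mem hbS) hc
        simpa using this
      · left
        refine ⟨?_, fun hc => C2_ff_not_mem h.nd ?_⟩
        · rw [hbs, mul_assoc, hff, mul_one]; exact hs
        · rw [hbs] at hc
          have := S.mul_mem (S.inv_mem hs) hc
          simpa using this
    have h1 := Subgroup.card_mul_index ((PL : Subgroup ↥L).subgroupOf
        (Subgroup.normalizer ((PL : Subgroup ↥L) : Set ↥L)))
    rw [hidx, Nat.card_congr (Subgroup.subgroupOfEquivOfLe hPLN).toEquiv, hcard] at h1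
    omega
  exact Cfsg.Agent.Helper62.S6.z2_false PL hT hcl hN

end Cfsg.Agent.Helper63.S6
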