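import Mathlib

/-!
# S3331 block N (helper62 #15556), piece (N3): the finite check.

`arith_of_le` is helper62's `arith` statement verbatim plus the extra last hypothesis `hn : w * f ≤ 400`
(the cutoff proved in pieces (N1)/(N2)).  The check is a kernel evaluation (`decide +kernel`) of a `Bool`
checker over all `(f, w, u)` with `f ≡ 1 (3)`, `4 ≤ f`, `w * f ≤ 400`, `(2f+4)/3 ≤ u ≤ (4f+2)/3`.
-/

set_option autoImplicit false
set_option linter.unusedVariables false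

namespace Cfsg.Agent.Helper63.SC3N

/-- `2`-adic valuation, with fuel -/
def v2 : ℕ → ℕ → ℕ
  | 0, _ => 0
  | fuel + 1, n => if n % 2 = 0 ∧ n ≠ 0 then v2 fuel (n / 2) + 1 else 0

/-- the largest `j ≤ k` with `j * j ≤ n` -/
def sqD (n : ℕ) : ℕ → ℕ
  | 0 => 0
  | k + 1 => if (k + 1) * (k + 1) ≤ n then k + 1 else sqD n k

/-- the largest `j ≤ k` with `j * (j + 1) ≤ n` -/
def hmD (n : ℕ) : ℕ → ℕ
  | 0 => 0
  | k + 1 => if (k + 1) * (k + 1 + 1) ≤ n then k + 1 else hmD n k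

/-- bounded universal quantifier -/
def allBelow : ℕ → (ℕ → Bool) → Bool
  | 0, _ => true
  | n + 1, p => p n && allBelow n p

theorem allBelow_spec : ∀ (n : ℕ) (p : ℕ → Bool), allBelow n p = true → ∀ i, i < n → p i = true := by
  intro n
  induction n with
  | zero => intro p _ i hi; exact absurd hi (Nat.not_lt_zero _)
  | succ n ih =>
    intro p h i hi
    unfold allBelow at h
    rw [Bool.and_eq_true] at h
    rcases Nat.lt_succ_iff_lt_or_eq.1 hi with h1 | h1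
    · exact ih p h.2 i h1
    · rw [h1]; exact h.1

theorem v2_pow_mul : ∀ (a fuel ω : ℕ), ω % 2 = 1 → a ≤ fuel → v2 fuel (2 ^ a * ω) = a := by
  intro a
  induction a with
  | zero =>
    intro fuel ω hω _
    cases fuel with
    | zero => rfl
    | succ fuel =>
      unfold v2
      rw [pow_zero, one_mul, if_neg]
      intro h
      omega
  | succ a ih =>
    intro fuel ω hω hle
    cases fuel with
    | zero => omega
    | succ fuel =>
      unfold v2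
      have hpos : 0 < 2 ^ a * ω := by
        have : 0 < ω := by omega
        positivity
      have e : 2 ^ (a + 1) * ω = 2 * (2 ^ a * ω) := by ring
      rw [e, if_pos ⟨by omega, by omega⟩]
      have : 2 * (2 ^ a * ω) / 2 = 2 ^ a * ω := by omega
      rw [this, ih fuel ω hω (by omega)]

theorem v2_eq {n a ω : ℕ} (h : n = 2 ^ a * ω) (hω : ω % 2 = 1) : v2 n n = a ∧ n / 2 ^ a = ω := by
  have hωpos : 0 < ω := by omega
  have h2 : 0 < 2 ^ a := by positivity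
  constructor
  · have hle : a ≤ n := by
      have h1 : a < 2 ^ a := Nat.lt_two_pow_self
      have h3 : 2 ^ a ≤ 2 ^ a * ω := Nat.le_mul_of_pos_right _ hωpos
      omega
    conv_lhs => rw [h]
    rw [← h]
    rw [h]
    exact v2_pow_mul a (2 ^ a * ω) ω hω (by rw [← h]; exact hle)
  · rw [h]
    exact Nat.mul_div_cancel_left ω h2

theorem le_sqD (n : ℕ) : ∀ (k j : ℕ), j * j ≤ n → j ≤ k → j ≤ sqD n k := by
  intro k
  induction k with
  | zero => intro j _ hj; unfold sqD; exact hj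
  | succ k ih =>
    intro j hjn hjk
    unfold sqD
    by_cases hk : (k + 1) * (k + 1) ≤ n
    · rw [if_pos hk]; exact hjk
    · rw [if_neg hk]
      apply ih j hjn
      rcases Nat.lt_succ_iff_lt_or_eq.1 (Nat.lt_succ_of_le hjk) with h1 | h1
      · omega
      · exfalso; apply hk; rw [← h1]; exact hjn

theorem le_hmD (n : ℕ) : ∀ (k j : ℕ), j * (j + 1) ≤ n → j ≤ k → j ≤ hmD n k := by
  intro k
  induction k with
  | zero => intro j _ hj; unfold hmD; exact hj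
  | succ k ih =>
    intro j hjn hjk
    unfold hmD
    by_cases hk : (k + 1) * (k + 1 + 1) ≤ n
    · rw [if_pos hk]; exact hjk
    · rw [if_neg hk]
      apply ih j hjn
      rcases Nat.lt_succ_iff_lt_or_eq.1 (Nat.lt_succ_of_le hjk) with h1 | h1
      · omega
      · exfalso; apply hk; rw [← h1]; exact hjn

/-- the check for one triple, the `2`-adic data given -/
def chkCore (f w u a om o1 o2 b b' e : ℕ) : Bool :=
  decide (3 * u < 2 * f + 4) || ((w * u) % 3 == 0) || (a != b + b' + 2 * e) ||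
  !decide ((w ^ 2 * (3 * f ^ 2 + 3 * f) - w ^ 2 * (u * (2 * f + 1))) / 3 + 2 * (w * u)
      ≤ (w * u) * 2 ^ a) ||
  !decide ((w ^ 2 * (f ^ 2 + f + 1)) / 3 ≤
      1 + (sqD (om ^ 2 * 2 ^ a / 2) (w * u) + 1) * (w * u / 2 - 1)
        + 2 * (2 ^ a - 1) + 2 * (o1 - 1) + 2 * (o2 - 1)
        + 2 * ((if om = 1 then min (hmD (f * (f + 1) * w ^ 2) ((f + 1) * w)) 1
                else hmD (f * (f + 1) * w ^ 2) ((f + 1) * w)) - 1)) ||
  (3 * f * (f + 1) * w ^ 2 == 60) || (3 * f * (f + 1) * w ^ 2 == 168)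

/-- the check for one triple -/
def chk (f w u : ℕ) : Bool :=
  chkCore f w u (v2 (w * u) (w * u)) ((w * u) / 2 ^ v2 (w * u) (w * u)) (f / 2 ^ v2 f f)
    ((f + 1) / 2 ^ v2 (f + 1) (f + 1)) (v2 f f) (v2 (f + 1) (f + 1)) (v2 w w)

/-- the check for all triples with `w * f ≤ B` -/
def chkAll (B : ℕ) : Bool :=
  allBelow (B + 1) fun f => (f % 3 != 1) || decide (f < 4) ||
    allBelow (B / f + 1) fun w => allBelow ((4 * f + 2) / 3 + 1) fun u => chk f w u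

set_option maxRecDepth 100000 in
theorem chkAll_400 : chkAll 400 = true := by decide +kernel

theorem chkCore_sound (f w u a b b' e ω o₁ o₂ w' cm hm k N₂ : ℕ) (c : ℤ)
    (hf3 : f % 3 = 1) (hf4 : 4 ≤ f) (hw : 0 < w)
    (hc1 : -(f : ℤ) - 2 ≤ 3 * c) (hc2 : 3 * c ≤ (f : ℤ) - 4)
    (hu : (u : ℤ) = f - c)
    (hT3 : ¬ 3 ∣ w * u)
    (hT : w * u = 2 ^ a * ω) (hω : ω % 2 = 1)
    (ha : a = b + b' + 2 * e)
    (hN₂ : (3 * (N₂ : ℤ)) = w ^ 2 * (f ^ 2 + 2 * f + c * (2 * f + 1)))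
    (hA : N₂ + 2 * (w * u) ≤ (w * u) * 2 ^ a)
    (hk : 3 * k = w ^ 2 * (f ^ 2 + f + 1))
    (hcm : 2 * cm ^ 2 ≤ ω ^ 2 * 2 ^ a)
    (hhm : hm * (hm + 1) ≤ f * (f + 1) * w ^ 2) (hhm1 : ω = 1 → hm ≤ 1)
    (hB : k ≤ 1 + (cm + 1) * (w * u / 2 - 1) + 2 * (2 ^ a - 1) + 2 * (o₁ - 1) + 2 * (o₂ - 1)
      + 2 * (hm - 1))
    (h : chkCore f w u a ω o₁ o₂ b b' e = true) :
    3 * f * (f + 1) * w ^ 2 = 60 ∨ 3 * f * (f + 1) * w ^ 2 = 168 := by
  have hcu : c = f - u := by omega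
  unfold chkCore at h
  simp only [Bool.or_eq_true, Bool.not_eq_true', decide_eq_true_eq, decide_eq_false_iff_not,
    bne_iff_ne, beq_iff_eq, ne_eq] at h
  rcases h with (((((h | h) | h) | h) | h) | h) | h
  · exfalso; omega
  · exact absurd (Nat.dvd_of_mod_eq_zero h) hT3
  · exact absurd ha h
  · exfalso
    apply h
    have h1 : ((3 * N₂ + w ^ 2 * (u * (2 * f + 1)) : ℕ) : ℤ) =
        ((w ^ 2 * (3 * f ^ 2 + 3 * f) : ℕ) : ℤ) := by
      push_cast
      rw [hN₂, hcu]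
      ring
    have h2 : 3 * N₂ + w ^ 2 * (u * (2 * f + 1)) = w ^ 2 * (3 * f ^ 2 + 3 * f) := by
      exact_mod_cast h1
    have h3 : (w ^ 2 * (3 * f ^ 2 + 3 * f) - w ^ 2 * (u * (2 * f + 1))) / 3 = N₂ := by omega
    rw [h3]
    exact hA
  · exfalso
    apply h
    have h3 : (w ^ 2 * (f ^ 2 + f + 1)) / 3 = k := by omega
    rw [h3]
    -- bounds for `cm`, `hm`
    have hTT : (w * u) * (w * u) = (2 ^ a) ^ 2 * ω ^ 2 := by rw [hT]; ring
    have hcm1 : cm * cm ≤ ω ^ 2 * 2 ^ a / 2 := by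
      rw [Nat.le_div_iff_mul_le (by norm_num)]
      calc cm * cm * 2 = 2 * cm ^ 2 := by ring
        _ ≤ ω ^ 2 * 2 ^ a := hcm
    have hcm2 : cm ≤ w * u := by
      rw [← Nat.mul_self_le_mul_self_iff, hTT]
      have e2 : 2 ^ a ≤ (2 ^ a) ^ 2 := Nat.le_self_pow (by norm_num) _
      calc cm * cm ≤ 2 * cm ^ 2 := by rw [pow_two]; omega
        _ ≤ ω ^ 2 * 2 ^ a := hcm
        _ ≤ ω ^ 2 * (2 ^ a) ^ 2 := Nat.mul_le_mul_left _ e2
        _ = (2 ^ a) ^ 2 * ω ^ 2 := Nat.mul_comm _ _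
    have hCM := le_sqD (ω ^ 2 * 2 ^ a / 2) (w * u) cm hcm1 hcm2
    have hhm2 : hm ≤ (f + 1) * w := by
      rw [← Nat.mul_self_le_mul_self_iff]
      calc hm * hm ≤ hm * (hm + 1) := Nat.mul_le_mul_left hm (Nat.le_succ hm)
        _ ≤ f * (f + 1) * w ^ 2 := hhm
        _ ≤ (f + 1) * (f + 1) * w ^ 2 :=
            Nat.mul_le_mul_right _ (Nat.mul_le_mul_right _ (Nat.le_succ f))
        _ = (f + 1) * w * ((f + 1) * w) := by ring
    have hHM0 := le_hmD (f * (f + 1) * w ^ 2) ((f + 1) * w) hm hhm hhm2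
    have hHM : hm ≤ (if ω = 1 then min (hmD (f * (f + 1) * w ^ 2) ((f + 1) * w)) 1
                else hmD (f * (f + 1) * w ^ 2) ((f + 1) * w)) := by
      by_cases h1 : ω = 1
      · rw [if_pos h1]
        exact le_min hHM0 (hhm1 h1)
      · rw [if_neg h1]
        exact hHM0
    have hmul : (cm + 1) * (w * u / 2 - 1) ≤
        (sqD (ω ^ 2 * 2 ^ a / 2) (w * u) + 1) * (w * u / 2 - 1) :=
      Nat.mul_le_mul_right _ (by omega)
    omega
  · left; exact h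
  · right; exact h

/-- helper62's `arith` with the cutoff `w * f ≤ 400` as an extra hypothesis -/
theorem arith_of_le (f w u a b b' e ω o₁ o₂ w' cm hm k N₂ : ℕ) (c : ℤ)
    (hf3 : f % 3 = 1) (hf4 : 4 ≤ f) (hw : 0 < w)
    (hc1 : -(f : ℤ) - 2 ≤ 3 * c) (hc2 : 3 * c ≤ (f : ℤ) - 4)
    (hu : (u : ℤ) = f - c)
    (hT3 : ¬ 3 ∣ w * u)
    (hT : w * u = 2 ^ a * ω) (hω : ω % 2 = 1)
    (hfo : f = 2 ^ b * o₁) (ho₁ : o₁ % 2 = 1)
    (hfo' : f + 1 = 2 ^ b' * o₂) (ho₂ : o₂ % 2 = 1)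
    (hwo : w = 2 ^ e * w') (hw' : w' % 2 = 1)
    (ha : a = b + b' + 2 * e)
    (hN₂ : (3 * (N₂ : ℤ)) = w ^ 2 * (f ^ 2 + 2 * f + c * (2 * f + 1)))
    (hA : N₂ + 2 * (w * u) ≤ (w * u) * 2 ^ a)
    (hk : 3 * k = w ^ 2 * (f ^ 2 + f + 1))
    (hcm : 2 * cm ^ 2 ≤ ω ^ 2 * 2 ^ a)
    (hhm : hm * (hm + 1) ≤ f * (f + 1) * w ^ 2) (hhm1 : ω = 1 → hm ≤ 1)
    (hB : k ≤ 1 + (cm + 1) * (w * u / 2 - 1) + 2 * (2 ^ a - 1) + 2 * (o₁ - 1) + 2 * (o₂ - 1)
      + 2 * (hm - 1))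
    (hn : w * f ≤ 400) :
    3 * f * (f + 1) * w ^ 2 = 60 ∨ 3 * f * (f + 1) * w ^ 2 = 168 := by
  -- ranges
  have hf400 : f < 400 + 1 := by
    have : f ≤ w * f := Nat.le_mul_of_pos_left f hw
    omega
  have hw400 : w < 400 / f + 1 := by
    have : w ≤ 400 / f := (Nat.le_div_iff_mul_le (by omega)).2 hn
    omega
  have hu400 : u < (4 * f + 2) / 3 + 1 := by omega
  have h0 := chkAll_400
  unfold chkAll at h0
  have h1 := allBelow_spec _ _ h0 f hf400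
  simp only [Bool.or_eq_true, bne_iff_ne, ne_eq, decide_eq_true_eq] at h1
  rcases h1 with (h1 | h1) | h1
  · exact absurd hf3 h1
  · omega
  have h2 := allBelow_spec _ _ (allBelow_spec _ _ h1 w hw400) u hu400
  -- identify the `2`-adic data
  obtain ⟨hva, hom⟩ := v2_eq hT hω
  obtain ⟨hvb, ho1⟩ := v2_eq hfo ho₁
  obtain ⟨hvb', ho2⟩ := v2_eq hfo' ho₂
  obtain ⟨hve, -⟩ := v2_eq hwo hw'
  have h3 : chk f w u = chkCore f w u a ω o₁ o₂ b b' e := by
    unfold chk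
    rw [hva, hvb, hvb', hve, hom, ho1, ho2]
  rw [h3] at h2
  exact chkCore_sound f w u a b b' e ω o₁ o₂ w' cm hm k N₂ c hf3 hf4 hw hc1 hc2 hu hT3 hT hω ha hN₂ hA hk
    hcm hhm hhm1 hB h2

end Cfsg.Agent.Helper63.SC3N
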