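import Mathlib
import Cfsg.Agent.Helper63.SC3N_N3

/-!
# S3331 block N (helper62 #15556, owner helper65 #15609), piece (N3) in helper65's interface:
`arith_fin` = the statement of `arith` verbatim plus `(hn : w * f ≤ 150)` inserted right after `hw`.
(`arith_fin400` is the same with the bound `400`; both come from `arith_of_le` of `SC3N_N3`.)
-/

set_option autoImplicit false
set_option linter.unusedVariables false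

namespace Cfsg.Agent.Helper63.SC3N

theorem arith_fin400 (f w u a b b' e ω o₁ o₂ w' cm hm k N₂ : ℕ) (c : ℤ)
    (hf3 : f % 3 = 1) (hf4 : 4 ≤ f) (hw : 0 < w) (hn : w * f ≤ 400)
    (hc1 : -(f : ℤ) - 2 ≤ 3 * c) (hc2 : 3 * c ≤ (f : ℤ) - 4)
    (hu : (u : ℤ) = f - c)
    (hT3 : ¬ 3 ∣ w * u)
    (hT : w * u = 2 ^ a * ω) (hω : ω % 2 = 1)
    (hfo : f = 2 ^ b * o₁) (ho₁ : o₁ % 2 = 1)
    (hfo' : f + 1 = 2 ^ b' * o₂) (ho₂ : o₂ % 2 = 1)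
    (hwo : w = 2 ^ e * w') (hw' : w' % 2 = 1)
    (ha : a = b + b' + 2 * e)
    (hN₂ : (3 * (N₂ : ℤ)) = w ^ 2 * (f ^ 2 + 2 * f + c * (2 * f + 1)))
    (hA : N₂ + 2 * (w * u) ≤ (w * u) * 2 ^ a)
    (hk : 3 * k = w ^ 2 * (f ^ 2 + f + 1))
    (hcm : 2 * cm ^ 2 ≤ ω ^ 2 * 2 ^ a)
    (hhm : hm * (hm + 1) ≤ f * (f + 1) * w ^ 2) (hhm1 : ω = 1 → hm ≤ 1)
    (hB : k ≤ 1 + (cm + 1) * (w * u / 2 - 1) + 2 * (2 ^ a - 1) + 2 * (o₁ - 1) + 2 * (o₂ - 1)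
      + 2 * (hm - 1)) :
    3 * f * (f + 1) * w ^ 2 = 60 ∨ 3 * f * (f + 1) * w ^ 2 = 168 :=
  arith_of_le f w u a b b' e ω o₁ o₂ w' cm hm k N₂ c hf3 hf4 hw hc1 hc2 hu hT3 hT hω
    hfo ho₁ hfo' ho₂ hwo hw' ha hN₂ hA hk hcm hhm hhm1 hB hn

theorem arith_fin (f w u a b b' e ω o₁ o₂ w' cm hm k N₂ : ℕ) (c : ℤ)
    (hf3 : f % 3 = 1) (hf4 : 4 ≤ f) (hw : 0 < w) (hn : w * f ≤ 150)
    (hc1 : -(f : ℤ) - 2 ≤ 3 * c) (hc2 : 3 * c ≤ (f : ℤ) - 4)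
    (hu : (u : ℤ) = f - c)
    (hT3 : ¬ 3 ∣ w * u)
    (hT : w * u = 2 ^ a * ω) (hω : ω % 2 = 1)
    (hfo : f = 2 ^ b * o₁) (ho₁ : o₁ % 2 = 1)
    (hfo' : f + 1 = 2 ^ b' * o₂) (ho₂ : o₂ % 2 = 1)
    (hwo : w = 2 ^ e * w') (hw' : w' % 2 = 1)
    (ha : a = b + b' + 2 * e)
    (hN₂ : (3 * (N₂ : ℤ)) = w ^ 2 * (f ^ 2 + 2 * f + c * (2 * f + 1)))
    (hA : N₂ + 2 * (w * u) ≤ (w * u) * 2 ^ a)
    (hk : 3 * k = w ^ 2 * (f ^ 2 + f + 1))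
    (hcm : 2 * cm ^ 2 ≤ ω ^ 2 * 2 ^ a)
    (hhm : hm * (hm + 1) ≤ f * (f + 1) * w ^ 2) (hhm1 : ω = 1 → hm ≤ 1)
    (hB : k ≤ 1 + (cm + 1) * (w * u / 2 - 1) + 2 * (2 ^ a - 1) + 2 * (o₁ - 1) + 2 * (o₂ - 1)
      + 2 * (hm - 1)) :
    3 * f * (f + 1) * w ^ 2 = 60 ∨ 3 * f * (f + 1) * w ^ 2 = 168 :=
  arith_fin400 f w u a b b' e ω o₁ o₂ w' cm hm k N₂ c hf3 hf4 hw (le_trans hn (by norm_num)) hc1 hc2 hu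
    hT3 hT hω hfo ho₁ hfo' ho₂ hwo hw' ha hN₂ hA hk hcm hhm hhm1 hB

end Cfsg.Agent.Helper63.SC3N
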