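import Cfsg.Agent.Helper62.SC3.Defs3

/-!
# S3331 block M wave 1b (helper62 #15754), piece (M11): for a `t`-invariant `x`-invariant `3'`-subgroup `M` with
`|M| = |C_M(t)|²` one has `2|M| ≤ (|C(t)|_{2'})² · |G|_2`.

Proof: `t ∉ M` and `t` normalises `M`, so `2|M|` divides `|N(M)|`, hence `2 · |M|_2 ≤ |G|_2`; and the odd part of
`|C_M(t)|` divides the odd part of `|C(t)|`.
-/

set_option autoImplicit false
set_option linter.unusedSectionVars false

namespace Cfsg.Agent.Helper63.SC3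

open Cfsg.Agent.Helper62.SC3

universe u

variable {G : Type u} [Group G] [Finite G]

/-- `t` lies in no `x`-invariant `3'`-subgroup -/
theorem M11_t_not_mem (S : Setup G) {B : Subgroup G} (hB : Inv3 S B) : S.t ∉ B := by
  intro ht
  obtain ⟨hx, hcop⟩ := hB
  have h1 : S.x * S.t * S.x⁻¹ ∈ B := (Subgroup.mem_normalizer_iff.1 hx S.t).1 ht
  have h2 : S.x * S.t * S.x⁻¹ * S.t⁻¹ ∈ B := B.mul_mem h1 (B.inv_mem ht)
  have h3 : S.t * S.x⁻¹ * S.t⁻¹ = S.x := by
    have := congrArg (fun g => g⁻¹) S.htx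
    simp only [mul_inv_rev, inv_inv] at this
    rw [← mul_assoc] at this
    exact this
  have h4 : S.x * S.t * S.x⁻¹ * S.t⁻¹ = S.x * S.x := by
    calc S.x * S.t * S.x⁻¹ * S.t⁻¹ = S.x * (S.t * S.x⁻¹ * S.t⁻¹) := by group
      _ = S.x * S.x := by rw [h3]
  rw [h4] at h2
  have hx3 : S.x ^ 3 = 1 := by rw [← S.hx]; exact pow_orderOf_eq_one _
  have h5 : S.x ∈ B := by
    have h6 : (S.x * S.x)⁻¹ = S.x := by
      rw [inv_eq_iff_mul_eq_one]
      calc S.x * S.x * S.x = S.x ^ 3 := by rw [pow_succ, pow_two]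
        _ = 1 := hx3
    rw [← h6]
    exact B.inv_mem h2
  have h7 : orderOf S.x ∣ Nat.card B := by
    have := orderOf_dvd_natCard (⟨S.x, h5⟩ : B)
    rwa [Subgroup.orderOf_mk] at this
  rw [S.hx] at h7
  have h8 : (3 : ℕ) ∣ Nat.gcd (Nat.card B) 3 := Nat.dvd_gcd h7 (dvd_refl 3)
  rw [Nat.Coprime] at hcop
  rw [hcop] at h8
  exact absurd h8 (by norm_num)

/-- `2 |M|` divides `|G|` for a `t`-invariant `x`-invariant `3'`-subgroup `M` -/
theorem M11_two_mul_card_dvd (S : Setup G) {M : Subgroup G} (hM : Inv3 S M)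
    (ht : S.t ∈ Subgroup.normalizer (M : Set G)) : 2 * Nat.card M ∣ Nat.card G := by
  have htM : S.t ∉ M := M11_t_not_mem S hM
  set N : Subgroup G := Subgroup.normalizer (M : Set G) with hN
  have hMN : M ≤ N := Subgroup.le_normalizer
  have : (M.subgroupOf N).Normal := Subgroup.normal_in_normalizer
  have hcardM : Nat.card (M.subgroupOf N) = Nat.card M :=
    Nat.card_congr (Subgroup.subgroupOfEquivOfLe hMN).toEquiv
  -- the image of `t` in `N ⧸ M` has order 2
  let t' : N := ⟨S.t, ht⟩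
  have ht2 : S.t ^ 2 = 1 := by rw [← S.ht]; exact pow_orderOf_eq_one _
  have ho : orderOf (QuotientGroup.mk t' : N ⧸ M.subgroupOf N) = 2 := by
    apply orderOf_eq_prime
    · rw [← QuotientGroup.mk_pow, QuotientGroup.eq_one_iff, Subgroup.mem_subgroupOf]
      change S.t ^ 2 ∈ M
      rw [ht2]
      exact M.one_mem
    · rw [Ne, QuotientGroup.eq_one_iff, Subgroup.mem_subgroupOf]
      exact htM
  have h2 : 2 ∣ Nat.card (N ⧸ M.subgroupOf N) := by
    rw [← ho]
    exact orderOf_dvd_natCard _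
  have h3 : Nat.card N = Nat.card (N ⧸ M.subgroupOf N) * Nat.card (M.subgroupOf N) :=
    Subgroup.card_eq_card_quotient_mul_card_subgroup _
  have h4 : 2 * Nat.card M ∣ Nat.card N := by
    rw [h3, hcardM]
    exact Nat.mul_dvd_mul_right h2 _
  exact h4.trans (Subgroup.card_subgroup_dvd_card N)

theorem M11_card_le (S : Setup G) {M : Subgroup G} (hM : Inv3 S M)
    (ht : S.t ∈ Subgroup.normalizer (M : Set G))
    (hsq : Nat.card M = (Nat.card ↥(M ⊓ Subgroup.centralizer ({S.t} : Set G))) ^ 2) :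
    2 * Nat.card M ≤
      (Nat.card (Subgroup.centralizer ({S.t} : Set G)) /
          2 ^ (Nat.card (Subgroup.centralizer ({S.t} : Set G))).factorization 2) ^ 2 *
        2 ^ (Nat.card G).factorization 2 := by
  set c := Nat.card ↥(M ⊓ Subgroup.centralizer ({S.t} : Set G)) with hc
  set Ct := Nat.card (Subgroup.centralizer ({S.t} : Set G)) with hCt
  have hcpos : 0 < c := Nat.card_pos
  have hCtpos : 0 < Ct := Nat.card_pos
  have hgpos : 0 < Nat.card G := Nat.card_pos
  -- the odd part of `c` is at most the odd part of `|C(t)|`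
  have h1 : c ∣ Ct := Subgroup.card_dvd_of_le inf_le_right
  have h2 : c / 2 ^ c.factorization 2 ∣ Ct / 2 ^ Ct.factorization 2 :=
    Nat.ordCompl_dvd_ordCompl_of_dvd h1 2
  have h3 : c / 2 ^ c.factorization 2 ≤ Ct / 2 ^ Ct.factorization 2 :=
    Nat.le_of_dvd (Nat.ordCompl_pos 2 hCtpos.ne') h2
  -- `2 * 2 ^ v₂(|M|) ≤ 2 ^ v₂(|G|)`
  have h4 : 2 * Nat.card M ∣ Nat.card G := M11_two_mul_card_dvd S hM ht
  have h5 : (2 * Nat.card M).factorization 2 ≤ (Nat.card G).factorization 2 :=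
    (Nat.factorization_le_iff_dvd (Nat.mul_ne_zero (by norm_num) Nat.card_pos.ne') hgpos.ne').2 h4 2
  have h6 : (2 * Nat.card M).factorization 2 = 1 + 2 * c.factorization 2 := by
    rw [Nat.factorization_mul (by norm_num) Nat.card_pos.ne', hsq, Nat.factorization_pow]
    simp [Nat.Prime.factorization_self Nat.prime_two]
  have h7 : 2 ^ (1 + 2 * c.factorization 2) ≤ 2 ^ (Nat.card G).factorization 2 :=
    Nat.pow_le_pow_right (by norm_num) (by rw [← h6]; exact h5)
  -- assemble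
  have h8 : c = 2 ^ c.factorization 2 * (c / 2 ^ c.factorization 2) :=
    (Nat.ordProj_mul_ordCompl_eq_self c 2).symm
  calc 2 * Nat.card M = 2 * c ^ 2 := by rw [hsq]
    _ = 2 ^ (1 + 2 * c.factorization 2) * (c / 2 ^ c.factorization 2) ^ 2 := by
        conv_lhs => rw [h8]
        ring
    _ ≤ 2 ^ (Nat.card G).factorization 2 * (Ct / 2 ^ Ct.factorization 2) ^ 2 :=
        Nat.mul_le_mul h7 (Nat.pow_le_pow_left h3 2)
    _ = (Ct / 2 ^ Ct.factorization 2) ^ 2 * 2 ^ (Nat.card G).factorization 2 := Nat.mul_comm _ _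

end Cfsg.Agent.Helper63.SC3
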