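import Cfsg.Agent.Helper62.SC3.Defs3

/-!
# S3331 block M wave 1b (helper62 #15754), piece (S2C): if all involutions are conjugate to `t` then `C(t)` contains
a Sylow `2`-subgroup of `G` (`t` is conjugate to a central involution of a Sylow `2`-subgroup).
-/

set_option autoImplicit false

namespace Cfsg.Agent.Helper63.SC3

open Cfsg.Agent.Helper62.SC3

universe u

variable {G : Type u} [Group G] [Finite G]

theorem S2C_factorization_two (S : Setup G) (hconj : ∀ s : G, orderOf s = 2 → IsConj s S.t) :
    (Nat.card (Subgroup.centralizer ({S.t} : Set G))).factorization 2 =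
      (Nat.card G).factorization 2 := by
  have : Fact (Nat.Prime 2) := ⟨Nat.prime_two⟩
  apply le_antisymm
  · have hd : Nat.card (Subgroup.centralizer ({S.t} : Set G)) ∣ Nat.card G :=
      Subgroup.card_subgroup_dvd_card _
    exact (Nat.factorization_le_iff_dvd Nat.card_pos.ne' Nat.card_pos.ne').2 hd 2
  · obtain ⟨P⟩ : Nonempty (Sylow 2 G) := inferInstance
    have hcardP : Nat.card P = 2 ^ (Nat.card G).factorization 2 := P.card_eq_multiplicity
    have h2G : 2 ∣ Nat.card G := by
      rw [← S.ht]
      exact orderOf_dvd_natCard S.t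
    have hpos : 0 < (Nat.card G).factorization 2 :=
      Nat.Prime.factorization_pos_of_dvd Nat.prime_two Nat.card_pos.ne' h2G
    -- `P` is a nontrivial `2`-group
    have : Nontrivial ↥(P : Subgroup G) := by
      rw [← Finite.one_lt_card_iff_nontrivial, hcardP]
      exact Nat.one_lt_two_pow hpos.ne'
    have hP2 : IsPGroup 2 ↥(P : Subgroup G) := P.isPGroup'
    have : Nontrivial (Subgroup.center ↥(P : Subgroup G)) := hP2.center_nontrivial
    have hZ2 : IsPGroup 2 (Subgroup.center ↥(P : Subgroup G)) := hP2.to_subgroup _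
    obtain ⟨k, hk⟩ := IsPGroup.iff_card.1 hZ2
    have hk0 : k ≠ 0 := by
      intro h0
      have h1 : 1 < Nat.card (Subgroup.center ↥(P : Subgroup G)) :=
        Finite.one_lt_card_iff_nontrivial.2 inferInstance
      rw [hk, h0, pow_zero] at h1
      exact lt_irrefl 1 h1
    have h2Z : 2 ∣ Nat.card (Subgroup.center ↥(P : Subgroup G)) := by
      rw [hk]
      exact dvd_pow_self 2 hk0
    obtain ⟨z, hz⟩ := exists_prime_orderOf_dvd_card' (G := Subgroup.center ↥(P : Subgroup G)) 2 h2Z
    -- the central involution `s`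
    have hs2 : orderOf (((z : ↥(P : Subgroup G)) : G)) = 2 := by
      rw [Subgroup.orderOf_coe, Subgroup.orderOf_coe, hz]
    have hscomm : ∀ g ∈ (P : Subgroup G), g * ((z : ↥(P : Subgroup G)) : G) =
        ((z : ↥(P : Subgroup G)) : G) * g := by
      intro g hg
      have := Subgroup.mem_center_iff.1 z.2 ⟨g, hg⟩
      exact congrArg Subtype.val this
    obtain ⟨c, hc⟩ := isConj_iff.1 (hconj _ hs2)
    -- `c P c⁻¹ ≤ C(t)`
    have hle : (P : Subgroup G).map (MulAut.conj c).toMonoidHom ≤
        Subgroup.centralizer ({S.t} : Set G) := by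
      rintro _ ⟨g, hg, rfl⟩
      rw [Subgroup.mem_centralizer_iff]
      intro y hy
      rw [Set.mem_singleton_iff] at hy
      subst hy
      have h1 := hscomm g hg
      change S.t * (c * g * c⁻¹) = c * g * c⁻¹ * S.t
      rw [← hc]
      calc c * ((z : ↥(P : Subgroup G)) : G) * c⁻¹ * (c * g * c⁻¹)
          = c * (((z : ↥(P : Subgroup G)) : G) * g) * c⁻¹ := by group
        _ = c * (g * ((z : ↥(P : Subgroup G)) : G)) * c⁻¹ := by rw [h1]
        _ = c * g * c⁻¹ * (c * ((z : ↥(P : Subgroup G)) : G) * c⁻¹) := by group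
    have hcard : Nat.card ((P : Subgroup G).map (MulAut.conj c).toMonoidHom) = Nat.card P :=
      Subgroup.card_map_of_injective (MulAut.conj c).injective
    have hdvd : 2 ^ (Nat.card G).factorization 2 ∣
        Nat.card (Subgroup.centralizer ({S.t} : Set G)) := by
      rw [← hcardP, ← hcard]
      exact Subgroup.card_dvd_of_le hle
    exact (Nat.Prime.pow_dvd_iff_le_factorization Nat.prime_two Nat.card_pos.ne').1 hdvd

end Cfsg.Agent.Helper63.SC3
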