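import Cfsg.Agent.Helper74.SN.Defs
import Cfsg.Agent.Helper63.Frattini
import Cfsg.Agent.Helper63.PGroup
import Cfsg.Agent.S4216

/-!
# S4073 farm (helper74), bundle (GRU): minimal nonabelian `p`-groups have central commutator subgroup, and
(Grün's first theorem, landed S4216) a simple group has no maximal subgroup which is a minimal nonabelian
Sylow subgroup.
-/

set_option autoImplicit false
set_option linter.unusedSectionVars false
set_option linter.unusedVariables false
set_option linter.dupNamespace false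

namespace Cfsg.Agent.Helper63.SNG

open Cfsg Cfsg.Agent.Helper74.SNG
open scoped commutatorElement

universe u

/-- the commutator subgroup lies in every maximal subgroup of a finite `p`-group -/
theorem GRU_commutator_le_coatom {P : Type u} [Group P] [Finite P] {p : ℕ} [Fact p.Prime]
    (hP : IsPGroup p P) (M : Subgroup P) (hM : IsCoatom M) : commutator P ≤ M := by
  have hp : p.Prime := Fact.out
  have hn : M.Normal := Cfsg.Agent.Helper63.normal_of_isCoatom_of_isPGroup hP M hM
  have hidx : M.index = p := Cfsg.Agent.Helper63.index_of_isCoatom_of_isPGroup hP M hM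
  apply Subgroup.Normal.quotient_commutative_iff_commutator_le.mp
  have hcard : Nat.card (P ⧸ M) = p := by rw [← Subgroup.index_eq_card, hidx]
  have hcyc : IsCyclic (P ⧸ M) := isCyclic_of_prime_card hcard
  exact ⟨⟨fun a b => (IsCyclic.commGroup (α := P ⧸ M)).mul_comm a b⟩⟩

/-- (N2) In a `p`-group all of whose proper subgroups are abelian, the commutator subgroup is central. -/
theorem commutator_le_center_of_minNonabelian {P : Type u} [Group P] [Finite P] {p : ℕ}
    [Fact p.Prime] (hP : IsPGroup p P) (hmin : ∀ K : Subgroup P, K ≠ ⊤ → IsMulCommutative K) :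
    commutator P ≤ Subgroup.center P := by
  by_cases hcomm : ∀ a b : P, a * b = b * a
  · rw [commutator_def, Subgroup.commutator_le]
    intro a _ b _
    rw [commutatorElement_eq_one_iff_mul_comm.2 (hcomm a b)]
    exact Subgroup.one_mem _
  · push Not at hcomm
    obtain ⟨a, b, hab⟩ := hcomm
    have hbt : (⊥ : Subgroup P) ≠ ⊤ := by
      intro h
      apply hab
      have ha : a ∈ (⊥ : Subgroup P) := by rw [h]; exact Subgroup.mem_top a
      rw [Subgroup.mem_bot.1 ha, one_mul, mul_one]
    obtain ⟨M₁, hM₁, -⟩ := (eq_top_or_exists_le_coatom (⊥ : Subgroup P)).resolve_left hbt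
    obtain ⟨g, hg⟩ : ∃ g : P, g ∉ M₁ := by
      by_contra hall
      push Not at hall
      exact hM₁.1 (eq_top_iff.2 fun x _ => hall x)
    have hzt : Subgroup.zpowers g ≠ ⊤ := by
      intro h
      apply hab
      have ha : a ∈ Subgroup.zpowers g := by rw [h]; exact Subgroup.mem_top a
      have hb : b ∈ Subgroup.zpowers g := by rw [h]; exact Subgroup.mem_top b
      obtain ⟨i, rfl⟩ := Subgroup.mem_zpowers_iff.1 ha
      obtain ⟨j, rfl⟩ := Subgroup.mem_zpowers_iff.1 hb
      rw [← zpow_add, ← zpow_add, add_comm]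
    obtain ⟨M₂, hM₂, hgM₂⟩ := (eq_top_or_exists_le_coatom (Subgroup.zpowers g)).resolve_left hzt
    have hgM₂' : g ∈ M₂ := hgM₂ (Subgroup.mem_zpowers g)
    have hsup : M₁ ⊔ M₂ = ⊤ := by
      apply hM₁.2
      rw [lt_iff_le_and_ne]
      refine ⟨le_sup_left, fun h => ?_⟩
      apply hg
      rw [h]
      exact (le_sup_right : M₂ ≤ M₁ ⊔ M₂) hgM₂'
    have hc₁ := (Cfsg.Agent.Helper74.SNG.isMulCommutative_iff M₁).1 (hmin M₁ hM₁.1)
    have hc₂ := (Cfsg.Agent.Helper74.SNG.isMulCommutative_iff M₂).1 (hmin M₂ hM₂.1)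
    intro z hz
    have hz₁ : z ∈ M₁ := GRU_commutator_le_coatom hP M₁ hM₁ hz
    have hz₂ : z ∈ M₂ := GRU_commutator_le_coatom hP M₂ hM₂ hz
    rw [Subgroup.mem_center_iff]
    intro y
    have hy : y ∈ M₁ ⊔ M₂ := by rw [hsup]; exact Subgroup.mem_top y
    have hcent : M₁ ⊔ M₂ ≤ Subgroup.centralizer ({z} : Set P) := by
      rw [sup_le_iff]
      constructor
      · intro m hm
        rw [Subgroup.mem_centralizer_iff]
        intro w hw
        rw [Set.mem_singleton_iff.1 hw]
        exact hc₁ z hz₁ m hm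
      · intro m hm
        rw [Subgroup.mem_centralizer_iff]
        intro w hw
        rw [Set.mem_singleton_iff.1 hw]
        exact hc₂ z hz₂ m hm
    have := Subgroup.mem_centralizer_iff.1 (hcent hy) z (Set.mem_singleton z)
    exact this.symm

/-- the commutator subgroup of a minimal nonabelian `p`-subgroup `Q` of `G` centralizes `Q` -/
theorem GRU_comm_of_mem_commutator {G : Type u} [Group G] {p : ℕ} [Fact p.Prime] (Q : Subgroup G)
    [Finite Q] (hQ : IsPGroup p Q) (hmin : ∀ K : Subgroup G, K < Q → IsMulCommutative K)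
    (c : G) (hc : c ∈ ⁅Q, Q⁆) (y : G) (hy : y ∈ Q) : c * y = y * c := by
  have hmin' : ∀ K : Subgroup Q, K ≠ ⊤ → IsMulCommutative K := by
    intro K hK
    have hlt : K.map Q.subtype < Q := by
      rw [lt_iff_le_and_ne]
      refine ⟨Subgroup.map_subtype_le K, fun h => hK ?_⟩
      rw [eq_top_iff]
      intro x _
      have hx : (x : G) ∈ K.map Q.subtype := by rw [h]; exact x.2
      obtain ⟨x', hx', hxx⟩ := Subgroup.mem_map.1 hx
      have : x' = x := Subtype.ext hxx
      rwa [this] at hx'
    have h1 := (Cfsg.Agent.Helper74.SNG.isMulCommutative_iff _).1 (hmin _ hlt)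
    rw [Cfsg.Agent.Helper74.SNG.isMulCommutative_iff]
    intro a ha b hb
    have := h1 (a : G) (Subgroup.mem_map_of_mem _ ha) (b : G) (Subgroup.mem_map_of_mem _ hb)
    exact Subtype.ext this
  have h2 := commutator_le_center_of_minNonabelian hQ hmin'
  rw [← Subgroup.map_subtype_commutator] at hc
  obtain ⟨c', hc', rfl⟩ := Subgroup.mem_map.1 hc
  have h3 := Subgroup.mem_center_iff.1 (h2 hc') ⟨y, hy⟩
  have := congrArg Subtype.val h3
  simpa using this.symm

section Cases

variable {G : Type u} [Group G] [Finite G] [IsSimpleGroup G]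

/-- (CNB) A simple group has no maximal subgroup which is a minimal nonabelian Sylow subgroup. -/
theorem false_of_sylow_coatom_minNonabelian {p : ℕ} [Fact p.Prime] (P : Sylow p G)
    (hmax : IsCoatom (P : Subgroup G)) (hna : ¬ IsMulCommutative (P : Subgroup G))
    (hmin : ∀ K : Subgroup G, K < (P : Subgroup G) → IsMulCommutative K) : False := by
  have hp : p.Prime := Fact.out
  -- `G` is not abelian, its centre is trivial, it is perfect
  have hnaG : ¬ IsMulCommutative G := by
    intro h
    apply hna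
    exact ⟨⟨fun a b => Subtype.ext (h.is_comm.comm (a : G) (b : G))⟩⟩
  have hZ : Subgroup.center G = ⊥ := by
    rcases (inferInstance : (Subgroup.center G).Normal).eq_bot_or_eq_top with h | h
    · exact h
    · exfalso
      apply hnaG
      refine ⟨⟨fun a b => ?_⟩⟩
      have hb : b ∈ Subgroup.center G := by rw [h]; exact Subgroup.mem_top b
      exact (Subgroup.mem_center_iff.1 hb a)
  have hperf : commutator G = ⊤ := by
    rcases (inferInstance : (commutator G).Normal).eq_bot_or_eq_top with h | h
    · exfalso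
      apply hnaG
      refine ⟨⟨fun a b => ?_⟩⟩
      have h1 : ⁅a, b⁆ ∈ commutator G := by
        rw [commutator_def]
        exact Subgroup.commutator_mem_commutator (Subgroup.mem_top a) (Subgroup.mem_top b)
      rw [h, Subgroup.mem_bot] at h1
      exact commutatorElement_eq_one_iff_mul_comm.1 h1
    · exact h
  have hPtop : (P : Subgroup G) ≠ ⊤ := hmax.1
  have hPbot : (P : Subgroup G) ≠ ⊥ := by
    intro h
    apply hna
    refine ⟨⟨fun a b => ?_⟩⟩
    have ha : (a : G) ∈ (⊥ : Subgroup G) := h ▸ a.2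
    have hb : (b : G) ∈ (⊥ : Subgroup G) := h ▸ b.2
    apply Subtype.ext
    show (a : G) * (b : G) = (b : G) * (a : G)
    rw [Subgroup.mem_bot.1 ha, Subgroup.mem_bot.1 hb]
  -- `P` is self-normalizing
  have hN : Subgroup.normalizer ((P : Subgroup G) : Set G) = P := by
    rcases hmax.le_iff.1 (Subgroup.le_normalizer (H := (P : Subgroup G))) with h | h
    · exfalso
      have hn : (P : Subgroup G).Normal := Subgroup.normalizer_eq_top_iff.1 h
      rcases hn.eq_bot_or_eq_top with h' | h'
      · exact hPbot h'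
      · exact hPtop h'
    · exact h
  -- the commutator subgroup of `P` centralizes `P`
  have hcen : ∀ c ∈ ⁅(P : Subgroup G), (P : Subgroup G)⁆, ∀ y ∈ (P : Subgroup G), c * y = y * c :=
    fun c hc y hy => GRU_comm_of_mem_commutator (P : Subgroup G) P.isPGroup' hmin c hc y hy
  -- Grün's first theorem
  have hgruen := Cfsg.Agent.S4216.result P
  rw [hperf, inf_top_eq, hN] at hgruen
  -- some `P ⊓ z P' z⁻¹` is not central in `P`
  have hex : ∃ z : G, ∃ t ∈ (P : Subgroup G),
      t ∈ (⁅(P : Subgroup G), (P : Subgroup G)⁆).map (MulAut.conj z).toMonoidHom ∧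
      ∃ y ∈ (P : Subgroup G), t * y ≠ y * t := by
    by_contra hno
    push Not at hno
    apply hna
    have hle : (P : Subgroup G) ≤ Subgroup.centralizer ((P : Subgroup G) : Set G) := by
      conv_lhs => rw [hgruen]
      rw [sup_le_iff]
      constructor
      · intro c hc
        rw [Subgroup.mem_centralizer_iff]
        intro y hy
        exact (hcen c (Subgroup.mem_inf.1 hc).2 y hy).symm
      · apply iSup_le
        intro z t ht
        rw [Subgroup.mem_centralizer_iff]
        intro y hy
        exact (hno z t (Subgroup.mem_inf.1 ht).1 (Subgroup.mem_inf.1 ht).2 y hy).symm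
    rw [Cfsg.Agent.Helper74.SNG.isMulCommutative_iff]
    intro a ha b hb
    exact ((Subgroup.mem_centralizer_iff.1 (hle hb)) a ha)
  obtain ⟨z, t, htP, htz, y, hyP, hty⟩ := hex
  obtain ⟨c, hc, hct⟩ := Subgroup.mem_map.1 htz
  have hct' : t = z * c * z⁻¹ := by
    rw [← hct]
    rfl
  -- the conjugate `Q = z P z⁻¹`
  set Q : Subgroup G := (P : Subgroup G).map (MulAut.conj z).toMonoidHom with hQdef
  have hQmem : ∀ q ∈ Q, ∃ y' ∈ (P : Subgroup G), q = z * y' * z⁻¹ := by
    intro q hq
    obtain ⟨y', hy', rfl⟩ := Subgroup.mem_map.1 hq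
    exact ⟨y', hy', rfl⟩
  have htQ : t ∈ Q := by
    rw [hct']
    exact Subgroup.mem_map.2 ⟨c, Subgroup.commutator_le_self _ hc, rfl⟩
  have htcomm : ∀ q ∈ Q, t * q = q * t := by
    intro q hq
    obtain ⟨y', hy', rfl⟩ := hQmem q hq
    rw [hct']
    have h1 := hcen c hc y' hy'
    calc z * c * z⁻¹ * (z * y' * z⁻¹) = z * (c * y') * z⁻¹ := by group
      _ = z * (y' * c) * z⁻¹ := by rw [h1]
      _ = z * y' * z⁻¹ * (z * c * z⁻¹) := by group
  have ht1 : t ≠ 1 := by
    intro h
    apply hty
    rw [h, one_mul, mul_one]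
  have hQco : IsCoatom Q := by
    have := (OrderIso.isCoatom_iff (MulEquiv.mapSubgroup (MulAut.conj z)) (P : Subgroup G)).2 hmax
    exact this
  have hQcard : Nat.card Q = Nat.card (P : Subgroup G) :=
    Subgroup.card_map_of_injective (MulAut.conj z).injective
  -- the centralizer of `t` is `Q`
  have hQle : Q ≤ Subgroup.centralizer ({t} : Set G) := by
    intro q hq
    rw [Subgroup.mem_centralizer_iff]
    intro w hw
    rw [Set.mem_singleton_iff.1 hw]
    exact htcomm q hq
  have hCt : Subgroup.centralizer ({t} : Set G) = Q := by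
    rcases hQco.le_iff.1 hQle with h | h
    · exfalso
      apply ht1
      have htc : t ∈ Subgroup.center G := by
        rw [Subgroup.mem_center_iff]
        intro g
        have hg : g ∈ Subgroup.centralizer ({t} : Set G) := by rw [h]; exact Subgroup.mem_top g
        exact ((Subgroup.mem_centralizer_iff.1 hg) t (Set.mem_singleton t)).symm
      rw [hZ] at htc
      exact Subgroup.mem_bot.1 htc
    · exact h
  -- `D = P ⊓ Q`
  set D : Subgroup G := (P : Subgroup G) ⊓ Q with hDdef
  have hDP : D ≤ (P : Subgroup G) := inf_le_left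
  have hDQ : D ≤ Q := inf_le_right
  have htD : t ∈ D := Subgroup.mem_inf.2 ⟨htP, htQ⟩
  have hyQ : y ∉ Q := fun h => hty (htcomm y h)
  have hDne : D ≠ (P : Subgroup G) := by
    intro h
    apply hyQ
    exact hDQ (h ▸ hyP)
  -- a maximal subgroup of `P` above `D` is `D`
  have hDtop : D.subgroupOf (P : Subgroup G) ≠ ⊤ := by
    rw [Ne, Subgroup.subgroupOf_eq_top]
    intro h
    exact hDne (le_antisymm hDP h)
  obtain ⟨M', hM', hDM'⟩ := (eq_top_or_exists_le_coatom (D.subgroupOf (P : Subgroup G))).resolve_left hDtop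
  have hMD : M' = D.subgroupOf (P : Subgroup G) := by
    apply le_antisymm _ hDM'
    have hlt : M'.map (P : Subgroup G).subtype < (P : Subgroup G) := by
      rw [lt_iff_le_and_ne]
      refine ⟨Subgroup.map_subtype_le M', fun h => hM'.1 ?_⟩
      rw [eq_top_iff]
      intro x _
      have hx : (x : G) ∈ M'.map (P : Subgroup G).subtype := by rw [h]; exact x.2
      obtain ⟨x', hx', hxx⟩ := Subgroup.mem_map.1 hx
      have : x' = x := Subtype.ext hxx
      rwa [this] at hx'
    have hMc := (Cfsg.Agent.Helper74.SNG.isMulCommutative_iff _).1 (hmin _ hlt)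
    have htM : t ∈ M'.map (P : Subgroup G).subtype :=
      Subgroup.mem_map.2 ⟨⟨t, htP⟩, hDM' (Subgroup.mem_subgroupOf.2 htD), rfl⟩
    intro m hm
    rw [Subgroup.mem_subgroupOf]
    refine Subgroup.mem_inf.2 ⟨m.2, ?_⟩
    rw [← hCt, Subgroup.mem_centralizer_iff]
    intro w hw
    rw [Set.mem_singleton_iff.1 hw]
    exact hMc t htM (m : G) (Subgroup.mem_map_of_mem _ hm)
  rw [hMD] at hM'
  -- `D` is normal in `P` and in `Q`
  have hPfin : Finite (P : Subgroup G) := inferInstance
  have hnP : (D.subgroupOf (P : Subgroup G)).Normal :=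
    Cfsg.Agent.Helper63.normal_of_isCoatom_of_isPGroup P.isPGroup' _ hM'
  have hiP : (D.subgroupOf (P : Subgroup G)).index = p :=
    Cfsg.Agent.Helper63.index_of_isCoatom_of_isPGroup P.isPGroup' _ hM'
  have hcardD : ∀ L : Subgroup G, D ≤ L → Nat.card (D.subgroupOf L) = Nat.card D :=
    fun L hL => Nat.card_congr (Subgroup.subgroupOfEquivOfLe hL).toEquiv
  have hiQ : (D.subgroupOf Q).index = p := by
    have h1 := Subgroup.card_mul_index (D.subgroupOf (P : Subgroup G))
    have h2 := Subgroup.card_mul_index (D.subgroupOf Q)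
    rw [hcardD _ hDP, hiP] at h1
    rw [hcardD _ hDQ, hQcard, ← h1] at h2
    have hpos : 0 < Nat.card D := Nat.card_pos
    exact Nat.eq_of_mul_eq_mul_left hpos h2
  have hQp : IsPGroup p Q := P.isPGroup'.map _
  have hnQ : (D.subgroupOf Q).Normal := Cfsg.Agent.Helper63.normal_of_index_eq_prime hQp _ hiQ
  have hPN : (P : Subgroup G) ≤ Subgroup.normalizer (D : Set G) :=
    (Subgroup.normal_subgroupOf_iff_le_normalizer hDP).1 hnP
  have hQN : Q ≤ Subgroup.normalizer (D : Set G) :=
    (Subgroup.normal_subgroupOf_iff_le_normalizer hDQ).1 hnQ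
  -- `P ⊔ Q = ⊤`
  have hsup : (P : Subgroup G) ⊔ Q = ⊤ := by
    apply hmax.2
    rw [lt_iff_le_and_ne]
    refine ⟨le_sup_left, fun h => ?_⟩
    have hQP : Q ≤ (P : Subgroup G) := by
      rw [h]
      exact le_sup_right
    have hQeq : Q = (P : Subgroup G) := Subgroup.eq_of_le_of_card_ge hQP (le_of_eq hQcard.symm)
    apply hDne
    rw [hDdef, hQeq, inf_idem]
  have hNtop : Subgroup.normalizer (D : Set G) = ⊤ := by
    rw [eq_top_iff, ← hsup]
    exact sup_le hPN hQN
  have hDn : D.Normal := Subgroup.normalizer_eq_top_iff.1 hNtop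
  rcases hDn.eq_bot_or_eq_top with h | h
  · rw [h] at htD
    exact ht1 (Subgroup.mem_bot.1 htD)
  · apply hPtop
    rw [eq_top_iff, ← h]
    exact hDP

end Cases

end Cfsg.Agent.Helper63.SNG
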