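import Cfsg.Agent.Helper74.SN.Defs

/-!
# S4073 farm (helper74), bundle (NIL): nilpotent SN-groups are minimal nonabelian `p`-groups; a nilpotent
nonabelian centralizer in a simple SN-group is a Sylow subgroup and a coatom.
-/

set_option autoImplicit false
set_option linter.unusedSectionVars false
set_option linter.unusedVariables false
set_option linter.dupNamespace false

namespace Cfsg.Agent.Helper63.SNG

open Cfsg Cfsg.Agent.Helper74.SNG

universe u

/-- (N1) In a nilpotent SN-group every proper subgroup is abelian. -/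
theorem SN.comm_of_nilpotent {H : Type u} [Group H] [Finite H] (h : SN H) [Group.IsNilpotent H]
    (K : Subgroup H) (hK : K ≠ ⊤) : IsMulCommutative K := by
  by_contra hna
  have h1 := h K hna
  have h2 := Group.normalizerCondition_of_isNilpotent (G := H) K (lt_top_iff_ne_top.2 hK)
  rw [h1] at h2
  exact lt_irrefl _ h2

/-- (N1b) A nonabelian nilpotent SN-group is a `p`-group. -/
theorem SN.isPGroup_of_nilpotent {H : Type u} [Group H] [Finite H] (h : SN H) [Group.IsNilpotent H]
    (hna : ¬ IsMulCommutative H) : ∃ p : ℕ, p.Prime ∧ IsPGroup p H := by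
  by_contra hno
  push Not at hno
  apply hna
  obtain ⟨ϕ⟩ := ((Group.isNilpotent_of_finite_tfae (G := H)).out 0 4).mp (inferInstance : Group.IsNilpotent H)
  have hcomm : ∀ (p : (Nat.card H).primeFactors) (P : Sylow p H) (a b : (P : Subgroup H)),
      a * b = b * a := by
    intro p P a b
    have hp : (p : ℕ).Prime := Nat.prime_of_mem_primeFactors p.2
    have : Fact (p : ℕ).Prime := ⟨hp⟩
    have hPtop : (P : Subgroup H) ≠ ⊤ := by
      intro htop
      apply hno p hp
      have h1 : IsPGroup p (P : Subgroup H) := P.isPGroup'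
      rw [htop] at h1
      exact h1.of_equiv Subgroup.topEquiv
    have := SN.comm_of_nilpotent h (P : Subgroup H) hPtop
    exact this.is_comm.comm a b
  refine ⟨⟨fun a b => ?_⟩⟩
  rw [← ϕ.symm.injective.eq_iff, map_mul, map_mul]
  funext p
  funext P
  exact hcomm p P _ _

/-- commutativity of a subgroup from the commutativity of its copy inside a larger subgroup -/
theorem NIL_comm_of_subgroupOf {G : Type u} [Group G] {K L : Subgroup G} (hKL : K ≤ L)
    (h : IsMulCommutative (K.subgroupOf L)) : IsMulCommutative K := by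
  rw [Cfsg.Agent.Helper74.SNG.isMulCommutative_iff] at h ⊢
  intro a ha b hb
  have := h ⟨a, hKL ha⟩ (Subgroup.mem_subgroupOf.2 ha) ⟨b, hKL hb⟩ (Subgroup.mem_subgroupOf.2 hb)
  exact congrArg Subtype.val this

/-- an element of `P` normalizing `C.subgroupOf P` normalizes `C ≤ P` -/
theorem NIL_mem_normalizer {G : Type u} [Group G] {C P : Subgroup G} (hCP : C ≤ P) (g : P)
    (hg : g ∈ Subgroup.normalizer ((C.subgroupOf P : Subgroup P) : Set P)) :
    (g : G) ∈ Subgroup.normalizer (C : Set G) := by
  rw [Subgroup.mem_normalizer_iff] at hg ⊢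
  intro n
  constructor
  · intro hn
    have h1 := (hg ⟨n, hCP hn⟩).1 (Subgroup.mem_subgroupOf.2 hn)
    rw [Subgroup.mem_subgroupOf] at h1
    simpa using h1
  · intro hn
    have hnP : n ∈ P := by
      have h1 : (g : G)⁻¹ * ((g : G) * n * (g : G)⁻¹) * (g : G) ∈ P :=
        P.mul_mem (P.mul_mem (P.inv_mem g.2) (hCP hn)) g.2
      have h2 : (g : G)⁻¹ * ((g : G) * n * (g : G)⁻¹) * (g : G) = n := by group
      rwa [h2] at h1
    have h1 : g * ⟨n, hnP⟩ * g⁻¹ ∈ C.subgroupOf P := by
      rw [Subgroup.mem_subgroupOf]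
      simpa using hn
    have h2 := (hg ⟨n, hnP⟩).2 h1
    rw [Subgroup.mem_subgroupOf] at h2
    exact h2

section Cases

variable {G : Type u} [Group G] [Finite G] [IsSimpleGroup G]

theorem NIL_center_eq_bot (hna : ¬ IsMulCommutative G) : Subgroup.center G = ⊥ := by
  rcases (inferInstance : (Subgroup.center G).Normal).eq_bot_or_eq_top with h | h
  · exact h
  · exfalso
    apply hna
    refine ⟨⟨fun a b => ?_⟩⟩
    have hb : b ∈ Subgroup.center G := by rw [h]; exact Subgroup.mem_top b
    exact (Subgroup.mem_center_iff.1 hb a)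

/-- (CNA) A nilpotent nonabelian centralizer is a Sylow subgroup and a maximal subgroup. -/
theorem centralizer_nilpotent_sylow_coatom (hna : ¬ IsMulCommutative G) (hSN : SN G)
    (hFG : ∀ K : Subgroup G, K ≠ ⊤ → ∀ (p : ℕ) [Fact p.Prime] (P : Sylow p K),
      (P : Subgroup K) ≠ ⊤ → IsMulCommutative (P : Subgroup K))
    (x : G) (hx : x ≠ 1)
    (hnil : Group.IsNilpotent (Subgroup.centralizer ({x} : Set G)))
    (hC : ¬ IsMulCommutative (Subgroup.centralizer ({x} : Set G))) :
    ∃ (p : ℕ) (_ : Fact p.Prime) (P : Sylow p G),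
      (P : Subgroup G) = Subgroup.centralizer ({x} : Set G) ∧ IsCoatom (P : Subgroup G) ∧
      ∀ K : Subgroup G, K < (P : Subgroup G) → IsMulCommutative K := by
  set C : Subgroup G := Subgroup.centralizer ({x} : Set G) with hCdef
  have hSNC : SN C := SN.subgroup hSN C
  obtain ⟨p, hp, hCp⟩ := SN.isPGroup_of_nilpotent hSNC hC
  have hpF : Fact p.Prime := ⟨hp⟩
  obtain ⟨P, hCP⟩ := IsPGroup.exists_le_sylow hCp
  -- `C` is self-normalizing
  have hNC : Subgroup.normalizer (C : Set G) = C := hSN C hC
  -- `P = C`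
  have hPC : (P : Subgroup G) = C := by
    by_contra hne
    have hlt : C.subgroupOf P < ⊤ := by
      rw [lt_top_iff_ne_top, Ne, Subgroup.subgroupOf_eq_top]
      intro hle
      exact hne (le_antisymm hle hCP)
    have hPnil : Group.IsNilpotent (P : Subgroup G) := P.isPGroup'.isNilpotent
    have h2 := Group.normalizerCondition_of_isNilpotent (G := (P : Subgroup G)) _ hlt
    obtain ⟨g, hgN, hgC⟩ := SetLike.exists_of_lt h2
    have h3 : (g : G) ∈ Subgroup.normalizer (C : Set G) := NIL_mem_normalizer hCP g hgN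
    rw [hNC] at h3
    exact hgC (Subgroup.mem_subgroupOf.2 h3)
  -- `C ≠ ⊤`
  have hCtop : C ≠ ⊤ := by
    intro htop
    apply hx
    have hxc : x ∈ Subgroup.center G := by
      rw [Subgroup.mem_center_iff]
      intro g
      have hg : g ∈ C := by rw [htop]; exact Subgroup.mem_top g
      rw [hCdef, Subgroup.mem_centralizer_iff] at hg
      exact (hg x (Set.mem_singleton x)).symm
    rw [NIL_center_eq_bot hna] at hxc
    exact Subgroup.mem_bot.1 hxc
  refine ⟨p, hpF, P, hPC, ?_, ?_⟩
  · rw [hPC]
    refine ⟨hCtop, fun K hK => ?_⟩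
    by_contra hKtop
    have hle : (P : Subgroup G) ≤ K := by rw [hPC]; exact hK.le
    have h1 := hFG K hKtop p (P.subtype hle) (by
      rw [Sylow.coe_subtype, Ne, Subgroup.subgroupOf_eq_top, hPC]
      exact not_le_of_gt hK)
    rw [Sylow.coe_subtype, hPC] at h1
    exact hC (NIL_comm_of_subgroupOf hK.le h1)
  · intro K hK
    rw [hPC] at hK
    have hKtop : K.subgroupOf C ≠ ⊤ := by
      rw [Ne, Subgroup.subgroupOf_eq_top]
      exact not_le_of_gt hK
    exact NIL_comm_of_subgroupOf hK.le (SN.comm_of_nilpotent hSNC _ hKtop)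

end Cases

end Cfsg.Agent.Helper63.SNG
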