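-- helper63 for helper84 (S2289, farm part 3 #13093): piece (MR5) `rel_C2`.
import Mathlib
import Cfsg.Agent.Helper84.SU3P.Words
import Cfsg.Agent.Helper59.SU3P_PW
import Cfsg.Agent.Helper37.SU3P_UZ

set_option autoImplicit false

namespace Cfsg.Agent.Helper63.SU3P

open Matrix Polynomial Cfsg.Agent.Helper84.RU3 Cfsg.Agent.Helper96.SLPres
  Cfsg.Agent.Helper96.StemSLTwo Cfsg.Agent.Helper96.StPres Cfsg.Agent.Helper84.SU3P

variable {K : Type*} [Field K] (bar : K →+* K) (hb : ∀ x, bar (bar x) = x)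

theorem MR5_uM_inv_mul (a b' : K) :
    uM bar (-a) (-b' - a * bar a) * uM bar a b' = 1 := by
  ext i j
  fin_cases i <;> fin_cases j <;>
    simp [uM, Matrix.mul_apply, Fin.sum_univ_three]
  ring

/-- two upper unitriangular elements with the same `a`-coordinate differ by a central one -/
theorem MR5_inv_mul (X Y : SUJ bar) (a b b' : K) (hX : mt bar X = uM bar a b')
    (hY : mt bar Y = uM bar a b) : ∃ s : K, mt bar (X⁻¹ * Y) = uM bar 0 s := by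
  have hinv : mt bar X⁻¹ = uM bar (-a) (-b' - a * bar a) := by
    calc mt bar X⁻¹
        = (uM bar (-a) (-b' - a * bar a) * uM bar a b') * mt bar X⁻¹ := by
          rw [MR5_uM_inv_mul, Matrix.one_mul]
      _ = uM bar (-a) (-b' - a * bar a) := by
          rw [Matrix.mul_assoc, ← hX, mt_mul_inv, Matrix.mul_one]
  refine ⟨-b' - a * bar a + b - bar (-a) * a, ?_⟩
  rw [mt_mul, hinv, hY, Cfsg.Agent.Helper59.SU3P.PW_uM_mul]
  congr 1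
  ring

/-- the `a`-coordinate of a list product of upper unitriangular elements -/
theorem MR5_list_prod (f : ℕ → SUJ bar) (α : ℕ → K)
    (hf : ∀ i, ∃ b : K, mt bar (f i) = uM bar (α i) b) (n : ℕ) :
    ∃ b' : K, mt bar ((List.range n).map f).prod = uM bar (∑ i ∈ Finset.range n, α i) b' := by
  induction n with
  | zero =>
    refine ⟨0, ?_⟩
    rw [List.range_zero, List.map_nil, List.prod_nil, Finset.range_zero, Finset.sum_empty, mt_one,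
      Cfsg.Agent.Helper59.SU3P.PW_uM_one]
  | succ n ih =>
    obtain ⟨b₁, hb₁⟩ := ih
    obtain ⟨b₂, hb₂⟩ := hf n
    refine ⟨b₁ + b₂ - bar (∑ i ∈ Finset.range n, α i) * α n, ?_⟩
    rw [List.range_succ, List.map_append, List.prod_append, List.map_singleton, List.prod_singleton,
      mt_mul, hb₁, hb₂, Cfsg.Agent.Helper59.SU3P.PW_uM_mul, Finset.sum_range_succ]

include hb

/-- (MR5) the relation (C2) holds modulo the central root group -/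
theorem rel_C2 {p : ℕ} [Fact p.Prime] [Algebra (ZMod p) K] (U₀ H₀ : SUJ bar) {a₀ b₀ ζ : K}
    (hζ0 : ζ ≠ 0) (hU₀ : mt bar U₀ = uM bar a₀ b₀) (hH₀ : mt bar H₀ = hM bar ζ) (q kc : ℕ)
    (g : ℕ → (ZMod p)[X])
    (hg : (bar ζ ^ 2 / ζ) ^ kc = ∑ i ∈ Finset.range kc,
      aeval ((bar ζ ^ 2 / ζ) ^ (q - 1)) (g i) * (bar ζ ^ 2 / ζ) ^ i) :
    ∃ s : K, mt bar (((List.range kc).map fun i : ℕ =>
      PW p (H₀ ^ (q - 1)) (uz H₀ U₀ i) (g i)).prod⁻¹ * uz H₀ U₀ kc) = uM bar 0 s := by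
  have hbζ : bar ζ ≠ 0 := (map_ne_zero bar).2 hζ0
  -- the conjugates
  have huz : ∀ i : ℕ, mt bar (uz H₀ U₀ i) =
      uM bar (a₀ * (bar ζ ^ 2 / ζ) ^ i) ((ζ * bar ζ) ^ i * b₀) := by
    intro i
    have h := Cfsg.Agent.Helper37.SU3P.mt_uz bar hb U₀ H₀ a₀ b₀ ζ hζ0 hU₀ hH₀ (i : ℤ)
    rw [zpow_natCast, zpow_natCast] at h
    exact h
  -- the torus element `H₀ ^ (q - 1)`
  have hl0 : ζ ^ (q - 1) ≠ 0 := pow_ne_zero _ hζ0
  have hHq : mt bar (H₀ ^ (q - 1)) = hM bar (ζ ^ (q - 1)) :=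
    Cfsg.Agent.Helper37.SU3P.mt_pow_hM_aux bar H₀ ζ hζ0 hH₀ (q - 1)
  have hmult : bar (ζ ^ (q - 1)) ^ 2 / ζ ^ (q - 1) = (bar ζ ^ 2 / ζ) ^ (q - 1) := by
    rw [map_pow, div_pow, ← pow_mul, ← pow_mul, mul_comm]
  -- the `PW` words
  have hPW : ∀ i : ℕ, ∃ b : K, mt bar (PW p (H₀ ^ (q - 1)) (uz H₀ U₀ i) (g i)) =
      uM bar (aeval ((bar ζ ^ 2 / ζ) ^ (q - 1)) (g i) * (a₀ * (bar ζ ^ 2 / ζ) ^ i)) b := by
    intro i
    obtain ⟨b', hb'⟩ := Cfsg.Agent.Helper59.SU3P.mt_PW bar hb (uz H₀ U₀ i) (H₀ ^ (q - 1))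
      (a₀ * (bar ζ ^ 2 / ζ) ^ i) ((ζ * bar ζ) ^ i * b₀) (ζ ^ (q - 1)) hl0 (huz i) hHq (g i)
    rw [hmult] at hb'
    exact ⟨b', hb'⟩
  obtain ⟨b₁, hb₁⟩ := MR5_list_prod bar
    (fun i : ℕ => PW p (H₀ ^ (q - 1)) (uz H₀ U₀ i) (g i))
    (fun i : ℕ => aeval ((bar ζ ^ 2 / ζ) ^ (q - 1)) (g i) * (a₀ * (bar ζ ^ 2 / ζ) ^ i)) hPW kc
  have hsum : ∑ i ∈ Finset.range kc,
      aeval ((bar ζ ^ 2 / ζ) ^ (q - 1)) (g i) * (a₀ * (bar ζ ^ 2 / ζ) ^ i) =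
      a₀ * (bar ζ ^ 2 / ζ) ^ kc := by
    rw [hg, Finset.mul_sum]
    refine Finset.sum_congr rfl fun i _ => ?_
    ring
  rw [hsum] at hb₁
  exact MR5_inv_mul bar _ _ _ _ _ hb₁ (huz kc)

end Cfsg.Agent.Helper63.SU3P
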