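-- helper63 for helper84 (S2289, farm #12729): piece (WU) `exists_uword`.
import Mathlib
import Cfsg.Agent.Helper84.SU3P.Defs
import Cfsg.Agent.Helper59.SU3P_PW

set_option autoImplicit false

namespace Cfsg.Agent.Helper63.SU3P

open Matrix Polynomial Cfsg.Agent.Helper84.RU3 Cfsg.Agent.Helper96.SLPres
  Cfsg.Agent.Helper96.StemSLTwo Cfsg.Agent.Helper96.StPres Cfsg.Agent.Helper84.SU3P

section E

variable {K : Type*} [Field K] [Fintype K] (bar : K →+* K) (hb : ∀ x, bar (bar x) = x)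

omit [Fintype K] in
theorem WU_uM_inv_mul (a b' : K) :
    uM bar (-a) (-b' - a * bar a) * uM bar a b' = 1 := by
  ext i j
  fin_cases i <;> fin_cases j <;>
    simp [uM, Matrix.mul_apply, Fin.sum_univ_three]
  ring

include hb

/-- (WU) words for the upper unitriangular group -/
theorem exists_uword {p : ℕ} [Fact p.Prime] [Algebra (ZMod p) K] (U₀ H₀ : SUJ bar) {a₀ b₀ ζ : K}
    (ha₀ : a₀ ≠ 0) (hζ0 : ζ ≠ 0) (hU₀ : mt bar U₀ = uM bar a₀ b₀) (hH₀ : mt bar H₀ = hM bar ζ)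
    (hsurj : ∀ a : K, ∃ f : (ZMod p)[X], aeval (bar ζ ^ 2 / ζ) f = a)
    (Zw : (ZMod p)[X] → SUJ bar)
    (hZw : ∀ (g : SUJ bar) (s : K), mt bar g = uM bar 0 s → ∃ f : (ZMod p)[X], Zw f = g)
    (g : SUJ bar) (a b : K) (hg : mt bar g = uM bar a b) :
    ∃ f₁ f₂ : (ZMod p)[X], PW p H₀ U₀ f₁ * Zw f₂ = g := by
  obtain ⟨f₁, hf₁⟩ := hsurj (a / a₀)
  obtain ⟨b', hb'⟩ := Cfsg.Agent.Helper59.SU3P.mt_PW bar hb U₀ H₀ a₀ b₀ ζ hζ0 hU₀ hH₀ f₁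
  rw [hf₁, div_mul_cancel₀ a ha₀] at hb'
  have hinv : mt bar (PW p H₀ U₀ f₁)⁻¹ = uM bar (-a) (-b' - a * bar a) := by
    calc mt bar (PW p H₀ U₀ f₁)⁻¹
        = (uM bar (-a) (-b' - a * bar a) * uM bar a b') * mt bar (PW p H₀ U₀ f₁)⁻¹ := by
          rw [WU_uM_inv_mul, Matrix.one_mul]
      _ = uM bar (-a) (-b' - a * bar a) := by
          rw [Matrix.mul_assoc, ← hb', mt_mul_inv, Matrix.mul_one]
  have hg' : mt bar ((PW p H₀ U₀ f₁)⁻¹ * g) = uM bar 0 (b - b') := by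
    rw [mt_mul, hinv, hg, Cfsg.Agent.Helper59.SU3P.PW_uM_mul]
    congr 1
    · ring
    · rw [map_neg]
      ring
  obtain ⟨f₂, hf₂⟩ := hZw _ _ hg'
  refine ⟨f₁, f₂, ?_⟩
  rw [hf₂, mul_inv_cancel_left]

end E

end Cfsg.Agent.Helper63.SU3P
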