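import Cfsg.Agent.Helper6.SUrep3

set_option autoImplicit false

namespace Cfsg.Agent.Helper63.SUrep

open Matrix Cfsg.Agent.Helper13 Module
open Cfsg.Agent.Helper6.SUrep

variable {F : Type*} [Field F] [Fintype F] {q n : ℕ}

local notation "⟪" x ", " y "⟫" => Cfsg.hermForm n F q x y

section A3

variable {M : Type*} [AddCommGroup M] [Module ℂ M]

/-- (A3a) -/
theorem map_fixZ (hF : Fintype.card F = q ^ 2) {W : Submodule F (Fin n → F)}
    (ρ : Representation ℂ ↥(suW q W) M) (g : suW q W) (p : Fin n → F) (hpW : p ∈ W)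
    (hpp : ⟪p, p⟫ = 0) (m : M) (hm : m ∈ fixZ hF W ρ p hpW hpp) :
    ρ g m ∈ fixZ hF W ρ (suMat (g : Cfsg.SU n F q) *ᵥ p) (suW_mulVec_mem hF g hpW)
      (suW_mulVec_iso g hpp) := by
  rw [mem_fixZ] at hm ⊢
  intro c
  rw [← conj_tvW hF g p hpW hpp c, map_mul, map_mul, Module.End.mul_apply, Module.End.mul_apply,
    ← Module.End.mul_apply (ρ g⁻¹), ← map_mul, inv_mul_cancel, map_one, Module.End.one_apply, hm c]

/-- (A3b) -/
theorem fixZ_smul (hF : Fintype.card F = q ^ 2) {W : Submodule F (Fin n → F)}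
    (ρ : Representation ℂ ↥(suW q W) M) (p : Fin n → F) (hpW : p ∈ W) (hpp : ⟪p, p⟫ = 0)
    (a : F) (ha : a ≠ 0) :
    fixZ hF W ρ (a • p) (W.smul_mem a hpW) (hermForm_smul_self p a hpp) =
      fixZ hF W ρ p hpW hpp := by
  have hκ : (a * a ^ q) ^ q = a * a ^ q := by rw [mul_pow, frob_frob hF, mul_comm]
  have hκ0 : a * a ^ q ≠ 0 := mul_ne_zero ha (pow_ne_zero _ ha)
  ext m
  rw [mem_fixZ, mem_fixZ]
  constructor
  · intro h c
    have := h ((mulSEquiv hF (a * a ^ q) hκ hκ0).symm c)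
    rw [tvW_smul] at this
    have e : mulS hF (a * a ^ q) hκ ((mulSEquiv hF (a * a ^ q) hκ hκ0).symm c) = c :=
      (mulSEquiv hF (a * a ^ q) hκ hκ0).apply_symm_apply c
    rw [e] at this
    exact this
  · intro h c
    rw [tvW_smul]
    exact h _

end A3

end Cfsg.Agent.Helper63.SUrep
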