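import Mathlib
import Cfsg.Agent.Helper16.LocalRing
import Cfsg.Agent.Helper77.RootsUnity

/-!
# (INT1) of #8646 for helper79's S4540: `ℤ[ζ]` is integrally closed at `2` for `ζ` a primitive
`2^(n+1)`-th root of unity
-/

set_option autoImplicit false
set_option linter.style.haveILetI false
set_option linter.unusedSectionVars false
set_option linter.unusedVariables false

noncomputable section

namespace Cfsg.Agent.Helper63.Samb

open Cfsg Polynomial
open Cfsg.Agent.Helper16

/-- `(1 + X)^(2^n) = 1 + X^(2^n) + 2 X s` in `ℤ[X]` -/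
theorem exists_one_add_pow_two_pow (n : ℕ) :
    ∃ s : ℤ[X], (1 + X : ℤ[X]) ^ (2 ^ n) = 1 + X ^ (2 ^ n) + C 2 * X * s := by
  induction n with
  | zero => exact ⟨0, by simp⟩
  | succ n ih =>
    obtain ⟨s, hs⟩ := ih
    have hN : 1 ≤ 2 ^ n := Nat.one_le_two_pow
    refine ⟨X ^ (2 ^ n - 1) + C 2 * s + C 2 * X ^ (2 ^ n) * s + C 2 * X * s ^ 2, ?_⟩
    have hX : (X : ℤ[X]) ^ (2 ^ n) = X * X ^ (2 ^ n - 1) := by
      rw [← pow_succ', Nat.sub_add_cancel hN]
    rw [pow_succ, pow_mul, hs]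
    have hC : (C 2 : ℤ[X]) = 2 := by simp
    rw [hC]
    have h2 : (X : ℤ[X]) ^ (2 ^ n * 2) = (X ^ (2 ^ n)) ^ 2 := by rw [pow_mul]
    rw [h2]
    generalize (X : ℤ[X]) ^ (2 ^ n - 1) = Y at hX ⊢
    rw [hX]
    ring

variable {M : Ideal AlgInt}

/-- values of integer polynomials at elements of the local ring lie in the local ring -/
theorem memLocalRing_aeval [M.IsPrime] {x : ℂ} (hx : MemLocalRing M x) (P : ℤ[X]) :
    MemLocalRing M (aeval x P) := by
  rw [aeval_eq_sum_range]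
  apply memLocalRing_sum
  intro i _
  rw [zsmul_eq_mul]
  exact memLocalRing_mul (memLocalRing_intCast _) (memLocalRing_pow hx i)

/-- the `π`-adic peeling: if `π^k Q(π) / 2` is a local integer, `k + deg Q < N` and `2 / π^k` lies
in the local ideal for all `k < N`, all coefficients of `Q` are even -/
theorem even_coeff_of_peel (hM : IsPModular 2 M) {π : ℂ} (hπ0 : π ≠ 0) (hπ : MemLocalIdeal M π)
    {N : ℕ} (h2 : ∀ k < N, MemLocalIdeal M ((2 : ℂ) / π ^ k)) :
    ∀ (d : ℕ) (Q : ℤ[X]) (k : ℕ), Q.natDegree ≤ d → k + d < N →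
      MemLocalRing M (π ^ k * aeval π Q / 2) → ∀ j, (2 : ℤ) ∣ Q.coeff j := by
  haveI : M.IsPrime := IsPModular.isPrime hM
  have hπR : MemLocalRing M π := memLocalIdeal_memLocalRing hπ
  intro d
  induction d with
  | zero =>
    intro Q k hdeg hk hloc j
    have hq0 : (2 : ℤ) ∣ Q.coeff 0 := by
      have hQ : Q = C (Q.coeff 0) := eq_C_of_natDegree_le_zero hdeg
      have hval : aeval π Q = ((Q.coeff 0 : ℤ) : ℂ) := by
        rw [hQ, aeval_C]; simp
      have hpk : π ^ k ≠ 0 := pow_ne_zero _ hπ0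
      have h3 : ((Q.coeff 0 : ℤ) : ℂ) = (2 / π ^ k) * (π ^ k * aeval π Q / 2) := by
        rw [hval]; field_simp
      have h4 : MemLocalIdeal M ((Q.coeff 0 : ℤ) : ℂ) := by
        rw [h3]
        exact memLocalIdeal_mul_right (h2 k (by omega)) hloc
      exact_mod_cast (Cfsg.Agent.Helper77.memLocalIdeal_intCast_iff hM _).1 h4
    rcases j with _ | j
    · exact hq0
    · rw [coeff_eq_zero_of_natDegree_lt (by omega)]
      exact dvd_zero _
  | succ d ih =>
    intro Q k hdeg hk hloc j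
    set q0 : ℤ := Q.coeff 0 with hq0def
    set Q₁ : ℤ[X] := Q.divX with hQ₁
    have hQ : Q₁ * X + C q0 = Q := divX_mul_X_add Q
    have hval : aeval π Q = aeval π Q₁ * π + (q0 : ℂ) := by
      rw [← hQ, map_add, map_mul, aeval_X, aeval_C]
      simp
    have hpk : π ^ k ≠ 0 := pow_ne_zero _ hπ0
    have hQ₁R : MemLocalRing M (aeval π Q₁) := memLocalRing_aeval hπR Q₁
    have h3 : (q0 : ℂ) = (2 / π ^ k) * (π ^ k * aeval π Q / 2) - π * aeval π Q₁ := by
      rw [hval]; field_simp; ring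
    have h4 : MemLocalIdeal M (q0 : ℂ) := by
      rw [h3]
      exact memLocalIdeal_sub (memLocalIdeal_mul_right (h2 k (by omega)) hloc)
        (memLocalIdeal_mul_right hπ hQ₁R)
    have hq0 : (2 : ℤ) ∣ q0 := by
      exact_mod_cast (Cfsg.Agent.Helper77.memLocalIdeal_intCast_iff hM _).1 h4
    rcases j with _ | j
    · exact hq0
    · have hcoeff : Q.coeff (j + 1) = Q₁.coeff j := (coeff_divX (p := Q) (n := j)).symm
      rw [hcoeff]
      apply ih Q₁ (k + 1)
      · rw [hQ₁, natDegree_divX_eq_natDegree_tsub_one]; omega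
      · omega
      · obtain ⟨c, hc⟩ := hq0
        have h5 : π ^ (k + 1) * aeval π Q₁ / 2
            = π ^ k * aeval π Q / 2 - π ^ k * (c : ℂ) := by
          rw [hval, hc]; push_cast; ring
        rw [h5]
        exact memLocalRing_sub hloc (memLocalRing_mul (memLocalRing_pow hπR k)
          (memLocalRing_intCast c))

/-- the case `h = 1` -/
theorem even_coeff_of_memLocalRing (hM : IsPModular 2 M) {n : ℕ} {ζ : ℂ}
    (hζ : IsPrimitiveRoot ζ (2 ^ (n + 1))) (R : ℤ[X]) (hdeg : R.natDegree < 2 ^ n)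
    (hloc : MemLocalRing M (aeval ζ R / 2)) (j : ℕ) : (2 : ℤ) ∣ R.coeff j := by
  haveI : M.IsPrime := IsPModular.isPrime hM
  set π : ℂ := ζ - 1 with hπdef
  have hζπ : ζ = 1 + π := by rw [hπdef]; ring
  have hζpow : ζ ^ 2 ^ (n + 1) = 1 := hζ.pow_eq_one
  have hπ : MemLocalIdeal M π := Cfsg.Agent.Helper77.memLocalIdeal_sub_one_of_pow_eq_one hM hζpow
  have hπR : MemLocalRing M π := memLocalIdeal_memLocalRing hπ
  have hπ0 : π ≠ 0 := by
    intro h
    have h1 : ζ = 1 := by rw [hζπ, h, add_zero]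
    have := hζ.eq_orderOf
    rw [h1, orderOf_one] at this
    have h2 : 2 ≤ 2 ^ (n + 1) := by
      calc 2 = 2 ^ 1 := rfl
        _ ≤ 2 ^ (n + 1) := Nat.pow_le_pow_right (by norm_num) (by omega)
    omega
  -- `ζ ^ (2 ^ n) = -1`
  have hneg : ζ ^ 2 ^ n = -1 := by
    have h1 : IsPrimitiveRoot (ζ ^ 2 ^ n) 2 := by
      have := hζ.pow_of_dvd (p := 2 ^ n) (by positivity) ⟨2, by rw [pow_succ]⟩
      have h2 : 2 ^ (n + 1) / 2 ^ n = 2 := by
        rw [pow_succ]; exact Nat.mul_div_cancel_left 2 (by positivity)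
      rwa [h2] at this
    exact h1.eq_neg_one_of_two_right
  -- `π ^ N = -2 v` with `v` a unit of the local ring
  obtain ⟨s, hs⟩ := exists_one_add_pow_two_pow n
  have hs' := congrArg (aeval π) hs
  simp only [map_pow, map_add, map_one, aeval_X, map_mul, aeval_C] at hs'
  rw [← hζπ, hneg] at hs'
  set v : ℂ := 1 + π * aeval π s with hv
  have hsR : MemLocalRing M (aeval π s) := memLocalRing_aeval hπR s
  have hvR : MemLocalRing M v := memLocalRing_add memLocalRing_one (memLocalRing_mul hπR hsR)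
  have hvI : ¬ MemLocalIdeal M v :=
    not_memLocalIdeal_add not_memLocalIdeal_one (memLocalIdeal_mul_right hπ hsR)
  have hvinv : MemLocalRing M v⁻¹ := memLocalRing_inv hvR hvI
  have hv0 : v ≠ 0 := by
    rintro h
    rw [h] at hvI
    exact hvI memLocalIdeal_zero
  have hpiN : π ^ 2 ^ n = -2 * v := by
    have h2c : (algebraMap ℤ ℂ) 2 = 2 := by simp
    rw [h2c] at hs'
    rw [hv]
    linear_combination -hs'
  have h2 : ∀ k < 2 ^ n, MemLocalIdeal M ((2 : ℂ) / π ^ k) := by
    intro k hk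
    have hpk : π ^ k ≠ 0 := pow_ne_zero _ hπ0
    have h3 : (2 : ℂ) / π ^ k = π * (-(π ^ (2 ^ n - k - 1)) * v⁻¹) := by
      have h4 : π ^ 2 ^ n = π ^ k * (π * π ^ (2 ^ n - k - 1)) := by
        rw [← pow_succ', ← pow_add]
        congr 1; omega
      have h5 : (2 : ℂ) = -(π ^ 2 ^ n) * v⁻¹ := by
        rw [hpiN]; field_simp
      rw [div_eq_iff hpk]
      conv_lhs => rw [h5, h4]
      ring
    rw [h3]
    exact memLocalIdeal_mul_right hπ
      (memLocalRing_mul (memLocalRing_neg (memLocalRing_pow hπR _)) hvinv)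
  -- shift to `π`
  set Q : ℤ[X] := taylor 1 R with hQ
  have hQval : aeval π Q = aeval ζ R := by
    rw [hQ, taylor_apply, aeval_comp, map_add, aeval_X, aeval_C, hζπ]
    congr 1
    simp [add_comm]
  have hQdeg : Q.natDegree = R.natDegree := natDegree_taylor R 1
  have hQeven : ∀ j, (2 : ℤ) ∣ Q.coeff j := by
    apply even_coeff_of_peel hM hπ0 hπ h2 R.natDegree Q 0 (le_of_eq hQdeg) (by omega)
    rw [pow_zero, one_mul, hQval]
    exact hloc
  obtain ⟨Q', hQ'⟩ := (C_dvd_iff_dvd_coeff 2 Q).2 hQeven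
  have hR : R = C 2 * taylor (-1) Q' := by
    have h1 : taylor (-1) Q = R := by
      rw [hQ, taylor_taylor, neg_add_cancel, taylor_zero]
    rw [← h1, hQ', taylor_mul, taylor_C]
  rw [hR, coeff_C_mul]
  exact dvd_mul_right _ _

/-- (INT1) `ℤ[ζ]` is integrally closed at `2` for `ζ` a primitive `2^(n+1)`-th root of unity, in
the form: if `R(ζ) / 2^h` lies in the local ring and `deg R < 2^n = φ(2^(n+1))`, then `2^h` divides
every coefficient of `R`. -/
theorem two_pow_dvd_coeff_of_memLocalRing {M : Ideal AlgInt} (hM : IsPModular 2 M) {n : ℕ} {ζ : ℂ}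
    (hζ : IsPrimitiveRoot ζ (2 ^ (n + 1))) (R : ℤ[X]) (hdeg : R.natDegree < 2 ^ n) (h : ℕ)
    (hloc : MemLocalRing M (aeval ζ R / ((2 ^ h : ℕ) : ℂ))) (j : ℕ) :
    (2 : ℤ) ^ h ∣ R.coeff j := by
  haveI : M.IsPrime := IsPModular.isPrime hM
  induction h generalizing R j with
  | zero => simp
  | succ h ih =>
    have h2c : ((2 ^ (h + 1) : ℕ) : ℂ) = 2 ^ h * 2 := by push_cast; ring
    have hloc1 : MemLocalRing M (aeval ζ R / 2) := by
      have : aeval ζ R / 2 = ((2 ^ h : ℕ) : ℂ) * (aeval ζ R / ((2 ^ (h + 1) : ℕ) : ℂ)) := by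
        rw [h2c]; push_cast; field_simp
      rw [this]
      exact memLocalRing_mul (memLocalRing_natCast _) hloc
    have heven := even_coeff_of_memLocalRing hM hζ R hdeg hloc1
    obtain ⟨R', hR'⟩ := (C_dvd_iff_dvd_coeff 2 R).2 heven
    have hdeg' : R'.natDegree < 2 ^ n := by
      have : R.natDegree = R'.natDegree := by
        rw [hR']; exact natDegree_C_mul (by norm_num)
      omega
    have hloc' : MemLocalRing M (aeval ζ R' / ((2 ^ h : ℕ) : ℂ)) := by
      have : aeval ζ R' / ((2 ^ h : ℕ) : ℂ) = aeval ζ R / ((2 ^ (h + 1) : ℕ) : ℂ) := by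
        rw [hR', map_mul, aeval_C, h2c]
        have : (algebraMap ℤ ℂ) 2 = 2 := by simp
        rw [this]; push_cast; field_simp
      rw [this]; exact hloc
    have := ih R' hdeg' hloc' j
    rw [hR', coeff_C_mul, pow_succ, mul_comm]
    exact mul_dvd_mul_left 2 this

end Cfsg.Agent.Helper63.Samb

end
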