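import Mathlib
import Cfsg.Agent.Helper78.Olsson.Defs
import Cfsg.Agent.Helper16.CycloNorm
import Cfsg.Agent.Helper16.CycloIneq
import Cfsg.Agent.Helper37.SambNORM
import Cfsg.Agent.Helper63.SambINT1

/-!
# (HT) of #8646 for helper79's S4540: a positive real power form in `2`-power roots of unity all
of whose conjugates, divided by `2^h`, lie in the local ideal has Galois average `≥ 2^(h+1)`
-/

set_option autoImplicit false
set_option linter.style.haveILetI false
set_option linter.unusedSectionVars false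
set_option linter.unusedVariables false

noncomputable section

namespace Cfsg.Agent.Helper63.Samb

open Cfsg Polynomial
open scoped ComplexConjugate
open Cfsg.Agent.Helper78.Olsson (unitsRange)
open Cfsg.Agent.Helper16

/-- (HT) -/
theorem sum_ge_totient_mul_two_pow_succ {M : Ideal AlgInt} (hM : IsPModular 2 M) (n h : ℕ)
    {ι : Type*} [Fintype ι] (A : ι → ℤ) (μ : ι → ℂ) (hμ : ∀ i, μ i ^ (2 ^ n) = 1) (r : ℕ → ℝ)
    (hr : ∀ γ ∈ unitsRange 2 n, ∑ i, (A i : ℂ) * μ i ^ γ = (r γ : ℂ))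
    (hpos : ∀ γ ∈ unitsRange 2 n, 0 < r γ)
    (hloc : ∀ γ ∈ unitsRange 2 n,
      MemLocalIdeal M ((∑ i, (A i : ℂ) * μ i ^ γ) / ((2 ^ h : ℕ) : ℂ))) :
    ((2 ^ n).totient : ℝ) * ((2 ^ (h + 1) : ℕ) : ℝ) ≤ ∑ γ ∈ unitsRange 2 n, r γ := by
  classical
  haveI hMp : M.IsPrime := IsPModular.isPrime hM
  rcases n with _ | n'
  · -- `n = 0`: the form is a positive integer
    have hU : unitsRange 2 0 = {0} := by
      unfold unitsRange
      ext γ
      simp
    have h0 : (0 : ℕ) ∈ unitsRange 2 0 := by rw [hU]; exact Finset.mem_singleton_self 0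
    rw [hU, Finset.sum_singleton]
    set m : ℤ := ∑ i, A i with hm
    have hm0 : ∑ i, (A i : ℂ) * μ i ^ 0 = (m : ℂ) := by
      simp [hm]
    have hr0 := hr 0 h0
    rw [hm0] at hr0
    have hloc0 := hloc 0 h0
    rw [hm0] at hloc0
    have hd : (2 ^ h : ℕ) ≠ 0 := by positivity
    have hdvd := (Cfsg.Agent.S4426.memLocalIdeal_div_iff hM hd
      (memLocalIdeal_memLocalRing hloc0)).1 hloc0
    rw [Nat.prime_two.factorization_pow, Finsupp.single_eq_same] at hdvd
    have hmr : (m : ℝ) = r 0 := by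
      have : ((m : ℝ) : ℂ) = ((r 0 : ℝ) : ℂ) := by rw [← hr0]; simp
      exact Complex.ofReal_injective this
    have hmpos : 0 < m := by
      have : (0 : ℝ) < (m : ℝ) := by rw [hmr]; exact hpos 0 h0
      exact_mod_cast this
    have hle : ((2 : ℕ) : ℤ) ^ (h + 1) ≤ m := Int.le_of_dvd hmpos hdvd
    rw [pow_zero, Nat.totient_one, Nat.cast_one, one_mul, ← hmr]
    have : (((2 : ℕ) : ℤ) ^ (h + 1) : ℤ) = (((2 ^ (h + 1) : ℕ)) : ℤ) := by push_cast; rfl
    rw [this] at hle
    exact_mod_cast hle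
  · -- `n = n' + 1`
    set N : ℕ := 2 ^ (n' + 1) with hNdef
    have hN : 0 < N := by positivity
    have hζ : IsPrimitiveRoot (Complex.exp (2 * Real.pi * Complex.I / N)) N :=
      Complex.isPrimitiveRoot_exp N hN.ne'
    set ζ := Complex.exp (2 * Real.pi * Complex.I / N) with hζdef
    haveI : NeZero N := ⟨hN.ne'⟩
    have hk : ∀ i : ι, ∃ k : ℕ, ζ ^ k = μ i := by
      intro i
      obtain ⟨k, -, hk⟩ := hζ.eq_pow_of_pow_eq_one (hμ i)
      exact ⟨k, hk⟩
    choose k hk using hk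
    set P : ℤ[X] := ∑ i, C (A i) * X ^ (k i) with hP
    have hPval : ∀ γ : ℕ, aeval (ζ ^ γ) P = ∑ i, (A i : ℂ) * μ i ^ γ := by
      intro γ
      rw [hP, map_sum]
      refine Finset.sum_congr rfl (fun i _ => ?_)
      rw [map_mul, map_pow, aeval_C, aeval_X, ← pow_mul, mul_comm γ, pow_mul, hk i]
      simp
    -- reduce modulo `X ^ (2 ^ n') + 1`
    set D : ℤ[X] := X ^ (2 ^ n') + C 1 with hD
    have hDm : D.Monic := monic_X_pow_add_C 1 (by positivity)
    have hDdeg : D.natDegree = 2 ^ n' := natDegree_X_pow_add_C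
    have hD1 : D ≠ 1 := by
      intro h1
      have := congrArg natDegree h1
      rw [hDdeg, natDegree_one] at this
      have : 0 < 2 ^ n' := by positivity
      omega
    set R : ℤ[X] := P %ₘ D with hR
    have hRdeg : R.natDegree < 2 ^ n' := by
      rw [← hDdeg]; exact natDegree_modByMonic_lt P hDm hD1
    have hneg : ζ ^ 2 ^ n' = -1 := by
      have h1 : IsPrimitiveRoot (ζ ^ 2 ^ n') 2 := by
        have := hζ.pow_of_dvd (p := 2 ^ n') (by positivity) ⟨2, by rw [hNdef, pow_succ]⟩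
        have h2 : N / 2 ^ n' = 2 := by
          rw [hNdef, pow_succ]; exact Nat.mul_div_cancel_left 2 (by positivity)
        rwa [h2] at this
      exact h1.eq_neg_one_of_two_right
    have hodd : ∀ γ ∈ unitsRange 2 (n' + 1), Odd γ := by
      intro γ hγ
      unfold unitsRange at hγ
      rw [Finset.mem_filter] at hγ
      have := hγ.2
      rw [Nat.coprime_pow_left_iff (Nat.succ_pos n')] at this
      exact Nat.Coprime.odd_of_left this
    have hRval : ∀ γ ∈ unitsRange 2 (n' + 1), aeval (ζ ^ γ) R = ∑ i, (A i : ℂ) * μ i ^ γ := by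
      intro γ hγ
      have hDz : aeval (ζ ^ γ) D = 0 := by
        rw [hD, map_add, map_pow, aeval_X, aeval_C, ← pow_mul, mul_comm, pow_mul, hneg,
          (hodd γ hγ).neg_one_pow]
        simp
      have := congrArg (aeval (ζ ^ γ)) (modByMonic_add_div P D)
      rw [map_add, map_mul, hDz, zero_mul, add_zero] at this
      rw [hR, this, hPval]
    -- `1` is a unit mod `N`
    have h1mem : (1 : ℕ) ∈ unitsRange 2 (n' + 1) := by
      unfold unitsRange
      rw [Finset.mem_filter, Finset.mem_range]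
      refine ⟨?_, Nat.coprime_one_right _⟩
      calc 1 < 2 := by norm_num
        _ = 2 ^ 1 := rfl
        _ ≤ 2 ^ (n' + 1) := Nat.pow_le_pow_right (by norm_num) (by omega)
    have hζ' : IsPrimitiveRoot ζ (2 ^ (n' + 1)) := hζ
    have hlocR : MemLocalRing M (aeval ζ R / ((2 ^ h : ℕ) : ℂ)) := by
      have := hRval 1 h1mem
      rw [pow_one] at this
      rw [this]
      have h2 := memLocalIdeal_memLocalRing (hloc 1 h1mem)
      simpa using h2
    have hcoeff := two_pow_dvd_coeff_of_memLocalRing hM hζ' R hRdeg h hlocR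
    obtain ⟨R1, hR1⟩ := (C_dvd_iff_dvd_coeff ((2 : ℤ) ^ h) R).2 hcoeff
    have hR1deg : R1.natDegree < 2 ^ n' := by
      have : R.natDegree = R1.natDegree := by
        rw [hR1]; exact natDegree_C_mul (pow_ne_zero h (by norm_num : (2:ℤ) ≠ 0))
      omega
    -- the new power form
    set c : ℕ → ℤ := fun j => R1.coeff j with hc
    set I : Finset ℕ := Finset.range (2 ^ n') with hI
    have hGval : ∀ γ : ℕ, aeval (ζ ^ γ) R1 = ∑ j ∈ I, (c j : ℂ) * (ζ ^ j) ^ γ := by
      intro γ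
      rw [aeval_eq_sum_range' hR1deg]
      refine Finset.sum_congr rfl (fun j _ => ?_)
      rw [zsmul_eq_mul, ← pow_mul, mul_comm γ j, pow_mul]
    have h2h : ((2 ^ h : ℕ) : ℂ) ≠ 0 := by
      exact_mod_cast pow_ne_zero h (by norm_num : (2:ℕ) ≠ 0)
    have hG : ∀ γ ∈ unitsRange 2 (n' + 1),
        ∑ j ∈ I, (c j : ℂ) * (ζ ^ j) ^ γ = (∑ i, (A i : ℂ) * μ i ^ γ) / ((2 ^ h : ℕ) : ℂ) := by
      intro γ hγ
      rw [← hGval, eq_div_iff h2h, ← hRval γ hγ, hR1, map_mul, aeval_C]
      push_cast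
      simp [mul_comm]
    have hstrict := Cfsg.Agent.Helper37.Samb.sum_gt_totient_mul_pow Nat.prime_two hM (n' + 1) 0 I c
      (fun j => ζ ^ j)
      (fun j _ => by
        show (ζ ^ j) ^ (2 ^ (n' + 1)) = 1
        rw [← pow_mul, mul_comm, pow_mul, hζ.pow_eq_one, one_pow])
      (fun γ => r γ / ((2 ^ h : ℕ) : ℝ))
      (fun γ hγ => by
        rw [hG γ hγ, hr γ hγ]; push_cast; rfl)
      (fun γ hγ => div_pos (hpos γ hγ) (by positivity))
      (fun γ hγ => by
        rw [hG γ hγ]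
        simpa using hloc γ hγ)
    -- the sum of the new form over the units is `φ * c 0`
    have hφ : (2 ^ (n' + 1)).totient = 2 ^ n' := by
      rw [Nat.totient_prime_pow_succ Nat.prime_two]; simp
    have hsum : ∑ γ ∈ unitsRange 2 (n' + 1), ∑ j ∈ I, (c j : ℂ) * (ζ ^ j) ^ γ
        = (c 0 : ℂ) * ((2 ^ n' : ℕ) : ℂ) := by
      rw [Finset.sum_comm]
      have hterm : ∀ j ∈ I, ∑ γ ∈ unitsRange 2 (n' + 1), (c j : ℂ) * (ζ ^ j) ^ γ
          = if j = 0 then (c 0 : ℂ) * ((2 ^ n' : ℕ) : ℂ) else 0 := by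
        intro j hj
        rw [hI, Finset.mem_range] at hj
        rw [← Finset.mul_sum]
        have hν : (ζ ^ j) ^ (2 ^ (n' + 1)) = 1 := by
          rw [← pow_mul, mul_comm, pow_mul, hζ.pow_eq_one, one_pow]
        have := sum_units_pow Nat.prime_two n' hν
        unfold unitsRange
        rw [this]
        by_cases hj0 : j = 0
        · subst hj0
          rw [if_pos rfl, pow_zero, if_pos rfl, if_pos (one_pow 2)]
          push_cast
          ring
        · rw [if_neg hj0]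
          have h1 : ζ ^ j ≠ 1 := hζ.pow_ne_one_of_pos_of_lt hj0 (by
            rw [hNdef, pow_succ]; omega)
          have h2 : (ζ ^ j) ^ 2 ≠ 1 := by
            rw [← pow_mul]
            exact hζ.pow_ne_one_of_pos_of_lt (by omega) (by rw [hNdef, pow_succ]; omega)
          rw [if_neg h1, if_neg h2]
          ring
      rw [Finset.sum_congr rfl hterm, Finset.sum_ite_eq' I 0]
      rw [if_pos (by rw [hI, Finset.mem_range]; positivity)]
    -- the real sum
    have hsumR : ∑ γ ∈ unitsRange 2 (n' + 1), r γ / ((2 ^ h : ℕ) : ℝ)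
        = (c 0 : ℝ) * ((2 ^ n' : ℕ) : ℝ) := by
      apply Complex.ofReal_injective
      rw [Complex.ofReal_sum]
      push_cast
      have : ∑ γ ∈ unitsRange 2 (n' + 1), (r γ : ℂ) / (2 : ℂ) ^ h
          = ∑ γ ∈ unitsRange 2 (n' + 1), ∑ j ∈ I, (c j : ℂ) * (ζ ^ j) ^ γ := by
        refine Finset.sum_congr rfl (fun γ hγ => ?_)
        rw [hG γ hγ, hr γ hγ]
        push_cast
        rfl
      rw [this, hsum]
      push_cast
      rfl
    rw [hsumR, hφ] at hstrict
    -- `c 0 ≥ 2`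
    have hpos2 : (0 : ℝ) < ((2 ^ n' : ℕ) : ℝ) := by positivity
    have hc0 : (1 : ℝ) < (c 0 : ℝ) := by
      have h1 : ((2 ^ n' : ℕ) : ℝ) * 1 < ((2 ^ n' : ℕ) : ℝ) * (c 0 : ℝ) := by
        have := hstrict
        simp only [pow_zero, Nat.cast_one, mul_one] at this ⊢
        linarith [mul_comm (c 0 : ℝ) ((2 ^ n' : ℕ) : ℝ)]
      exact lt_of_mul_lt_mul_left h1 hpos2.le
    have hc0' : (2 : ℤ) ≤ c 0 := by
      have : (1 : ℤ) < c 0 := by exact_mod_cast hc0
      omega
    have hc0R : (2 : ℝ) ≤ (c 0 : ℝ) := by exact_mod_cast hc0'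
    -- conclusion
    have hfinal : ∑ γ ∈ unitsRange 2 (n' + 1), r γ
        = ((2 ^ h : ℕ) : ℝ) * ((c 0 : ℝ) * ((2 ^ n' : ℕ) : ℝ)) := by
      rw [← hsumR, Finset.mul_sum]
      refine Finset.sum_congr rfl (fun γ _ => ?_)
      have : ((2 ^ h : ℕ) : ℝ) ≠ 0 := by positivity
      field_simp
    rw [hfinal, hφ]
    have h2hR : (0 : ℝ) < ((2 ^ h : ℕ) : ℝ) := by positivity
    have : ((2 ^ (h + 1) : ℕ) : ℝ) = ((2 ^ h : ℕ) : ℝ) * 2 := by push_cast; ring
    rw [this]
    nlinarith [mul_pos h2hR hpos2]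

end Cfsg.Agent.Helper63.Samb

end
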