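import Mathlib
import Cfsg.Prelude.Def_CaseTheorems
import Cfsg.Agent.Helper63.Sect4A
import Cfsg.Agent.Helper63.Frattini
import Cfsg.Agent.Helper70.Frattini
import Cfsg.Agent.Helper2.Basic

/-!
# Sectional rank: criteria and the "three commuting subgroups" lemma
-/

set_option autoImplicit false

namespace Cfsg.Agent.Helper63.SR4

open Subgroup
open scoped Pointwise commutatorElement

/-- a criterion for sectional 2-rank at most `k`. -/
theorem sectional_of_bound {X : Type*} [Group X] [Finite X] (k : ℕ)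
    (h : ∀ K M : Subgroup X, M ≤ K → (∀ a ∈ K, a ^ 2 ∈ M) →
      (∀ a ∈ K, ∀ b ∈ K, a * b * a⁻¹ * b⁻¹ ∈ M) → Nat.card K ≤ 2 ^ k * Nat.card M) :
    Cfsg.SectionalPRankLE 2 k X := by
  intro H N hN A hAc hAp
  set B : Subgroup H := A.comap (QuotientGroup.mk' N) with hB
  have hNB : N ≤ B := by
    intro n hn
    rw [hB, mem_comap, QuotientGroup.mk'_apply, (QuotientGroup.eq_one_iff n).2 hn]
    exact one_mem _
  have hle : N.map H.subtype ≤ B.map H.subtype := map_mono hNB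
  have hsq : ∀ a ∈ B.map H.subtype, a ^ 2 ∈ N.map H.subtype := by
    rintro _ ⟨b, hb, rfl⟩
    refine ⟨b ^ 2, ?_, by simp⟩
    have h1 := hAp _ hb
    rw [QuotientGroup.mk'_apply, ← QuotientGroup.mk_pow] at h1
    exact (QuotientGroup.eq_one_iff _).1 h1
  have hcomm : ∀ a ∈ B.map H.subtype, ∀ b ∈ B.map H.subtype, a * b * a⁻¹ * b⁻¹ ∈ N.map H.subtype := by
    rintro _ ⟨a, ha, rfl⟩ _ ⟨b, hb, rfl⟩
    refine ⟨a * b * a⁻¹ * b⁻¹, ?_, by simp⟩
    have h1 : (QuotientGroup.mk' N) a * (QuotientGroup.mk' N) b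
        = (QuotientGroup.mk' N) b * (QuotientGroup.mk' N) a :=
      setLike_mul_comm (s := A) (mem_comap.1 ha) (mem_comap.1 hb)
    show a * b * a⁻¹ * b⁻¹ ∈ N
    rw [← QuotientGroup.eq_one_iff]
    have e : ((a * b * a⁻¹ * b⁻¹ : H) : H ⧸ N) = (QuotientGroup.mk' N) a * (QuotientGroup.mk' N) b *
        ((QuotientGroup.mk' N) a)⁻¹ * ((QuotientGroup.mk' N) b)⁻¹ := by simp
    rw [e, h1]; group
  have hbound := h _ _ hle hsq hcomm
  rw [card_map_of_injective H.subtype_injective, card_map_of_injective H.subtype_injective] at hbound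
  -- `|B| = |A| * |N|`
  have hidx : B.index = A.index := index_comap_of_surjective A (QuotientGroup.mk'_surjective N)
  have h1 := B.card_mul_index
  have h2 := A.card_mul_index
  have h3 := Subgroup.card_eq_card_quotient_mul_card_subgroup N
  have hpos : 0 < A.index := Nat.pos_of_ne_zero A.index_ne_zero_of_finite
  have hNpos : 0 < Nat.card N := Nat.card_pos
  have hBAN : Nat.card B = Nat.card A * Nat.card N := by
    have : Nat.card B * A.index = (Nat.card A * Nat.card N) * A.index := by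
      rw [← hidx, h1, h3, ← h2, hidx]; ring
    exact Nat.eq_of_mul_eq_mul_right hpos this
  rw [hBAN] at hbound
  exact Nat.le_of_mul_le_mul_right hbound hNpos

/-- `P ⧸ F` is elementary abelian of order at least 4. -/
structure V4Quot {S : Type*} [Group S] (P F : Subgroup S) : Prop where
  le : F ≤ P
  sq : ∀ x ∈ P, x ^ 2 ∈ F
  comm : ∀ x ∈ P, ∀ y ∈ P, x * y * x⁻¹ * y⁻¹ ∈ F
  card : 4 * Nat.card F ≤ Nat.card P

theorem V4Quot.conj_mem {S : Type*} [Group S] {P F : Subgroup S} (h : V4Quot P F) :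
    ∀ x ∈ P, ∀ f ∈ F, x * f * x⁻¹ ∈ F := by
  intro x hx f hf
  have : x * f * x⁻¹ = (x * f * x⁻¹ * f⁻¹) * f := by group
  rw [this]
  exact F.mul_mem (h.comm x hx f (h.le hf)) hf

/-- the Frattini subgroup of a non-abelian 2-subgroup. -/
theorem v4Quot_frattini {S : Type*} [Group S] [Finite S] (hS : IsPGroup 2 S) (P : Subgroup S)
    (hnab : ¬ IsMulCommutative P) : V4Quot P ((frattini P).map P.subtype) := by
  have : Fact (Nat.Prime 2) := ⟨Nat.prime_two⟩
  have hP2 : IsPGroup 2 P := hS.to_subgroup P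
  have hnil : Group.IsNilpotent P := hP2.isNilpotent
  refine ⟨map_subtype_le _, ?_, ?_, ?_⟩
  · intro x hx
    exact ⟨⟨x, hx⟩ ^ 2, pow_prime_mem_frattini hP2 ⟨x, hx⟩, by simp⟩
  · intro x hx y hy
    refine ⟨⁅(⟨x, hx⟩ : P), ⟨y, hy⟩⁆, ?_, by simp [commutatorElement_def]⟩
    exact Cfsg.Agent.Helper2.commutator_le_frattini
      (Subgroup.commutator_mem_commutator (mem_top _) (mem_top _))
  · rw [card_map_of_injective P.subtype_injective]
    obtain ⟨n, hn⟩ := (IsPGroup.iff_card).1 hP2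
    have hdvd : (frattini P).index ∣ 2 ^ n := by rw [← hn]; exact Subgroup.index_dvd_card _
    obtain ⟨r, -, hr⟩ := (Nat.dvd_prime_pow Nat.prime_two).1 hdvd
    have h1 := (frattini P).card_mul_index
    rw [hr] at h1
    have hr2 : 2 ≤ r := by
      by_contra hlt
      apply hnab
      obtain ⟨f, hf⟩ := Cfsg.Agent.Helper70.exists_generators_of_frattini_index 2 r hr
      -- all generators equal one element
      obtain ⟨g, hg⟩ : ∃ g : P, ∀ i, f i = g := by
        by_cases h0 : 0 < r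
        · refine ⟨f ⟨0, h0⟩, fun i => ?_⟩
          congr 1
          apply Fin.ext
          have := i.2
          show (i : ℕ) = 0
          omega
        · exact ⟨1, fun i => absurd i.2 (by omega)⟩
      have hle : (⊤ : Subgroup P) ≤ zpowers g := by
        rw [← hf, closure_le]
        rintro _ ⟨i, rfl⟩
        rw [hg i]; exact mem_zpowers g
      have hcyc : IsCyclic P := ⟨⟨g, fun x => mem_zpowers_iff.1 (hle (mem_top x))⟩⟩
      exact hcyc.isMulCommutative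
    have : 2 ^ 2 ≤ 2 ^ r := Nat.pow_le_pow_right (by norm_num) hr2
    calc 4 * Nat.card (frattini P) = Nat.card (frattini P) * 2 ^ 2 := by ring
      _ ≤ Nat.card (frattini P) * 2 ^ r := Nat.mul_le_mul_left _ this
      _ = Nat.card P := h1

/-- three pairwise commuting subgroups with Frattini quotients of rank ≥ 2, the first two meeting trivially and
the third with centre of order ≤ 2, cannot exist in a 2-group of sectional rank ≤ 4. -/
theorem no_three {S : Type*} [Group S] [Finite S] (hr : Cfsg.SectionalPRankLE 2 4 S)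
    (P₁ P₂ P₃ F₁ F₂ F₃ : Subgroup S) (h₁ : V4Quot P₁ F₁) (h₂ : V4Quot P₂ F₂) (h₃ : V4Quot P₃ F₃)
    (c12 : ∀ x ∈ P₁, ∀ y ∈ P₂, x * y = y * x) (c13 : ∀ x ∈ P₁, ∀ y ∈ P₃, x * y = y * x)
    (c23 : ∀ x ∈ P₂, ∀ y ∈ P₃, x * y = y * x) (hint : P₁ ⊓ P₂ = ⊥) (z : S)
    (hcen : ∀ x ∈ P₃, (∀ y ∈ P₃, x * y = y * x) → x = 1 ∨ x = z) : False := by
  have c21 : ∀ x ∈ P₂, ∀ y ∈ P₁, x * y = y * x := fun x hx y hy => (c12 y hy x hx).symm
  have c31 : ∀ x ∈ P₃, ∀ y ∈ P₁, x * y = y * x := fun x hx y hy => (c13 y hy x hx).symm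
  have c32 : ∀ x ∈ P₃, ∀ y ∈ P₂, x * y = y * x := fun x hx y hy => (c23 y hy x hx).symm
  have conj_of_comm : ∀ y f : S, y * f = f * y → y * f * y⁻¹ = f := fun y f h => by
    rw [h, mul_inv_cancel_right]
  have comm_of_comm : ∀ x y : S, x * y = y * x → x * y * x⁻¹ * y⁻¹ = 1 := fun x y h => by
    rw [h, mul_inv_cancel_right, mul_inv_cancel]
  set R : Subgroup S := F₁ ⊔ F₂ ⊔ F₃ with hRdef
  have hF₁R : F₁ ≤ R := le_sup_of_le_left le_sup_left
  have hF₂R : F₂ ≤ R := le_sup_of_le_left le_sup_right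
  have hF₃R : F₃ ≤ R := le_sup_right
  set Y : Set S := (P₁ : Set S) ∪ (P₂ : Set S) ∪ (P₃ : Set S) with hYdef
  have hP₁W : P₁ ≤ closure Y := fun x hx => Subgroup.subset_closure (Or.inl (Or.inl hx))
  have hP₂W : P₂ ≤ closure Y := fun x hx => Subgroup.subset_closure (Or.inl (Or.inr hx))
  have hP₃W : P₃ ≤ closure Y := fun x hx => Subgroup.subset_closure (Or.inr hx)
  have hRW : R ≤ closure Y :=
    sup_le (sup_le (h₁.le.trans hP₁W) (h₂.le.trans hP₂W)) (h₃.le.trans hP₃W)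
  -- conjugation by generators preserves each `Fⱼ`
  have hconj : ∀ y ∈ Y, (∀ f ∈ F₁, y * f * y⁻¹ ∈ F₁) ∧ (∀ f ∈ F₂, y * f * y⁻¹ ∈ F₂) ∧
      (∀ f ∈ F₃, y * f * y⁻¹ ∈ F₃) := by
    intro y hy
    rcases hy with (hy | hy) | hy
    · refine ⟨h₁.conj_mem y hy, fun f hf => ?_, fun f hf => ?_⟩
      · rw [conj_of_comm y f (c12 y hy f (h₂.le hf))]; exact hf
      · rw [conj_of_comm y f (c13 y hy f (h₃.le hf))]; exact hf
    · refine ⟨fun f hf => ?_, h₂.conj_mem y hy, fun f hf => ?_⟩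
      · rw [conj_of_comm y f (c21 y hy f (h₁.le hf))]; exact hf
      · rw [conj_of_comm y f (c23 y hy f (h₃.le hf))]; exact hf
    · refine ⟨fun f hf => ?_, fun f hf => ?_, h₃.conj_mem y hy⟩
      · rw [conj_of_comm y f (c31 y hy f (h₁.le hf))]; exact hf
      · rw [conj_of_comm y f (c32 y hy f (h₂.le hf))]; exact hf
  have hnorm : ∀ y ∈ Y, ∀ n ∈ R, y * n * y⁻¹ ∈ R := by
    intro y hy
    obtain ⟨k1, k2, k3⟩ := hconj y hy
    have hle : R ≤ R.comap (MulAut.conj y).toMonoidHom := by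
      refine sup_le (sup_le ?_ ?_) ?_
      · intro f hf
        rw [mem_comap]
        exact hF₁R (k1 f hf)
      · intro f hf
        rw [mem_comap]
        exact hF₂R (k2 f hf)
      · intro f hf
        rw [mem_comap]
        exact hF₃R (k3 f hf)
    intro n hn
    exact hle hn
  have hsq : ∀ y ∈ Y, y ^ 2 ∈ R := by
    intro y hy
    rcases hy with (hy | hy) | hy
    · exact hF₁R (h₁.sq y hy)
    · exact hF₂R (h₂.sq y hy)
    · exact hF₃R (h₃.sq y hy)
  have hcomm : ∀ x ∈ Y, ∀ y ∈ Y, x * y * x⁻¹ * y⁻¹ ∈ R := by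
    intro x hx y hy
    rcases hx with (hx | hx) | hx <;> rcases hy with (hy | hy) | hy
    · exact hF₁R (h₁.comm x hx y hy)
    · rw [comm_of_comm x y (c12 x hx y hy)]; exact one_mem _
    · rw [comm_of_comm x y (c13 x hx y hy)]; exact one_mem _
    · rw [comm_of_comm x y (c21 x hx y hy)]; exact one_mem _
    · exact hF₂R (h₂.comm x hx y hy)
    · rw [comm_of_comm x y (c23 x hx y hy)]; exact one_mem _
    · rw [comm_of_comm x y (c31 x hx y hy)]; exact one_mem _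
    · rw [comm_of_comm x y (c32 x hx y hy)]; exact one_mem _
    · exact hF₃R (h₃.comm x hx y hy)
  have hbound := card_le_of_gens hr Y R hRW hnorm hsq hcomm
  -- upper bound for `|R|`
  have hR1 : Nat.card ↥(F₁ ⊔ F₂) ≤ Nat.card F₁ * Nat.card F₂ := by
    have := card_sup_mul_card_inf F₁ F₂ (le_normalizer_of_commute F₁ F₂
      (fun a ha b hb => c12 a (h₁.le ha) b (h₂.le hb)))
    have hpos : 0 < Nat.card ↥(F₁ ⊓ F₂) := Nat.card_pos
    calc Nat.card ↥(F₁ ⊔ F₂) ≤ Nat.card ↥(F₁ ⊔ F₂) * Nat.card ↥(F₁ ⊓ F₂) :=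
          Nat.le_mul_of_pos_right _ hpos
      _ = _ := this
  have hc12_3 : ∀ a ∈ P₁ ⊔ P₂, ∀ b ∈ P₃, a * b = b * a := by
    intro a ha b hb
    have hle : P₁ ⊔ P₂ ≤ centralizer {b} := by
      refine sup_le ?_ ?_
      · intro x hx
        rw [mem_centralizer_singleton_iff]
        exact c13 x hx b hb
      · intro x hx
        rw [mem_centralizer_singleton_iff]
        exact c23 x hx b hb
    exact mem_centralizer_singleton_iff.1 (hle ha)
  have hR2 : Nat.card R ≤ Nat.card ↥(F₁ ⊔ F₂) * Nat.card F₃ := by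
    have := card_sup_mul_card_inf (F₁ ⊔ F₂) F₃ (le_normalizer_of_commute (F₁ ⊔ F₂) F₃
      (fun a ha b hb => hc12_3 a (sup_le_sup h₁.le h₂.le ha) b (h₃.le hb)))
    have hpos : 0 < Nat.card ↥((F₁ ⊔ F₂) ⊓ F₃) := Nat.card_pos
    calc Nat.card R ≤ Nat.card R * Nat.card ↥((F₁ ⊔ F₂) ⊓ F₃) := Nat.le_mul_of_pos_right _ hpos
      _ = _ := this
  -- lower bound for `|W|`
  have hW1 : Nat.card ↥(P₁ ⊔ P₂) = Nat.card P₁ * Nat.card P₂ := by
    have := card_sup_mul_card_inf P₁ P₂ (le_normalizer_of_commute P₁ P₂ c12)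
    rwa [hint, card_bot, mul_one] at this
  have hW2 := card_sup_mul_card_inf (P₁ ⊔ P₂) P₃ (le_normalizer_of_commute (P₁ ⊔ P₂) P₃ hc12_3)
  have hsmall : Nat.card ↥((P₁ ⊔ P₂) ⊓ P₃) ≤ 2 := by
    have hsub : (((P₁ ⊔ P₂) ⊓ P₃ : Subgroup S) : Set S) ⊆ {1, z} := by
      intro x hx
      have hx' : x ∈ (P₁ ⊔ P₂) ⊓ P₃ := hx
      have := hcen x hx'.2 (fun y hy => hc12_3 x hx'.1 y hy)
      rcases this with h | h
      · left; exact h
      · right; exact h
    have h1 := Set.ncard_le_ncard hsub (Set.toFinite _)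
    have h2 : ({1, z} : Set S).ncard ≤ 2 := by
      refine (Set.ncard_insert_le 1 {z}).trans ?_
      rw [Set.ncard_singleton]
    have h3 : Nat.card ↥((P₁ ⊔ P₂) ⊓ P₃) = (((P₁ ⊔ P₂) ⊓ P₃ : Subgroup S) : Set S).ncard :=
      Nat.card_coe_set_eq _
    omega
  have hW3 : Nat.card ↥(P₁ ⊔ P₂ ⊔ P₃) ≤ Nat.card (closure Y) :=
    card_le_of_le (sup_le (sup_le hP₁W hP₂W) hP₃W)
  -- arithmetic
  have hF₁pos : 0 < Nat.card F₁ := Nat.card_pos
  have hF₂pos : 0 < Nat.card F₂ := Nat.card_pos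
  have hF₃pos : 0 < Nat.card F₃ := Nat.card_pos
  have hA : 0 < Nat.card F₁ * Nat.card F₂ * Nat.card F₃ := by positivity
  have h64 : 64 * (Nat.card F₁ * Nat.card F₂ * Nat.card F₃) ≤ Nat.card P₁ * Nat.card P₂ * Nat.card P₃ := by
    calc 64 * (Nat.card F₁ * Nat.card F₂ * Nat.card F₃)
        = (4 * Nat.card F₁) * (4 * Nat.card F₂) * (4 * Nat.card F₃) := by ring
      _ ≤ _ := Nat.mul_le_mul (Nat.mul_le_mul h₁.card h₂.card) h₃.card
  have hRA : Nat.card R ≤ Nat.card F₁ * Nat.card F₂ * Nat.card F₃ :=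
    hR2.trans (Nat.mul_le_mul_right _ hR1)
  have hWB : Nat.card P₁ * Nat.card P₂ * Nat.card P₃ ≤ 2 * Nat.card ↥(P₁ ⊔ P₂ ⊔ P₃) := by
    rw [← hW1, ← hW2]
    calc Nat.card ↥(P₁ ⊔ P₂ ⊔ P₃) * Nat.card ↥((P₁ ⊔ P₂) ⊓ P₃)
        ≤ Nat.card ↥(P₁ ⊔ P₂ ⊔ P₃) * 2 := Nat.mul_le_mul_left _ hsmall
      _ = _ := Nat.mul_comm _ _
  generalize Nat.card F₁ * Nat.card F₂ * Nat.card F₃ = A at hA h64 hRA
  generalize Nat.card P₁ * Nat.card P₂ * Nat.card P₃ = B at h64 hWB
  norm_num at hbound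
  omega

end Cfsg.Agent.Helper63.SR4
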