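import Mathlib
import Cfsg.Prelude.Def_CaseTheorems
import Cfsg.Agent.Helper63.Sect4B

/-!
# Conjugate configurations `(Q, F, C, w)`: `Q` with centre `{1, w}`, `C = C_S(w) = N_S(Q)`
-/

set_option autoImplicit false

namespace Cfsg.Agent.Helper63.SR4

open Subgroup
open scoped Pointwise

variable {S : Type*} [Group S]

/-- the conjugate `g Q g⁻¹`. -/
def cj (g : S) (Q : Subgroup S) : Subgroup S := Q.map (MulAut.conj g).toMonoidHom

theorem mem_cj {g : S} {Q : Subgroup S} {x : S} : x ∈ cj g Q ↔ g⁻¹ * x * g ∈ Q := by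
  unfold cj
  rw [Subgroup.mem_map_equiv, MulAut.conj_symm_apply]

theorem conj_mem_cj {g : S} {Q : Subgroup S} {x : S} (hx : x ∈ Q) : g * x * g⁻¹ ∈ cj g Q := by
  rw [mem_cj]
  have : g⁻¹ * (g * x * g⁻¹) * g = x := by group
  rw [this]; exact hx

theorem exists_of_mem_cj {g : S} {Q : Subgroup S} {x : S} (hx : x ∈ cj g Q) :
    ∃ y ∈ Q, x = g * y * g⁻¹ := by
  refine ⟨g⁻¹ * x * g, mem_cj.1 hx, ?_⟩
  group

theorem cj_mono {g : S} {Q R : Subgroup S} (h : Q ≤ R) : cj g Q ≤ cj g R := map_mono h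

theorem card_cj (g : S) (Q : Subgroup S) : Nat.card (cj g Q) = Nat.card Q :=
  card_map_of_injective (MulAut.conj g).injective

theorem cj_eq_self_of_mem_normalizer {g : S} {Q : Subgroup S} (hg : g ∈ normalizer (Q : Set S)) :
    cj g Q = Q := mem_normalizer_iff_map_conj_eq.1 hg

theorem cj_inv_cj (g : S) (Q : Subgroup S) : cj g (cj g⁻¹ Q) = Q := by
  ext x
  rw [mem_cj, mem_cj]
  have : g⁻¹⁻¹ * (g⁻¹ * x * g) * g⁻¹ = x := by group
  rw [this]

theorem V4Quot.cj {P F : Subgroup S} (h : V4Quot P F) (g : S) : V4Quot (cj g P) (cj g F) := by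
  refine ⟨cj_mono h.le, ?_, ?_, ?_⟩
  · intro x hx
    obtain ⟨y, hy, rfl⟩ := exists_of_mem_cj hx
    rw [conj_pow]
    exact conj_mem_cj (h.sq y hy)
  · intro x hx y hy
    obtain ⟨a, ha, rfl⟩ := exists_of_mem_cj hx
    obtain ⟨b, hb, rfl⟩ := exists_of_mem_cj hy
    have : g * a * g⁻¹ * (g * b * g⁻¹) * (g * a * g⁻¹)⁻¹ * (g * b * g⁻¹)⁻¹
        = g * (a * b * a⁻¹ * b⁻¹) * g⁻¹ := by group
    rw [this]
    exact conj_mem_cj (h.comm a ha b hb)
  · rw [card_cj, card_cj]; exact h.card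

/-- a configuration. -/
structure Cfg (Q F C : Subgroup S) (w : S) : Prop where
  v4 : V4Quot Q F
  cen : ∀ x ∈ Q, (∀ y ∈ Q, x * y = y * x) → x = 1 ∨ x = w
  cent : ∀ s : S, s ∈ C ↔ s * w = w * s
  le : Q ≤ C
  norm : ∀ s ∈ C, ∀ x ∈ Q, s * x * s⁻¹ ∈ Q

theorem Cfg.cj {Q F C : Subgroup S} {w : S} (c : Cfg Q F C w) (g : S) :
    Cfg (cj g Q) (cj g F) (cj g C) (g * w * g⁻¹) := by
  refine ⟨c.v4.cj g, ?_, ?_, cj_mono c.le, ?_⟩
  · intro x hx hxc
    obtain ⟨a, ha, rfl⟩ := exists_of_mem_cj hx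
    have hac : ∀ y ∈ Q, a * y = y * a := by
      intro y hy
      have := hxc _ (conj_mem_cj (g := g) hy)
      have e1 : g * a * g⁻¹ * (g * y * g⁻¹) = g * (a * y) * g⁻¹ := by group
      have e2 : g * y * g⁻¹ * (g * a * g⁻¹) = g * (y * a) * g⁻¹ := by group
      rw [e1, e2] at this
      exact mul_left_cancel (mul_right_cancel this)
    rcases c.cen a ha hac with h | h
    · left; rw [h]; group
    · right; rw [h]
  · intro s
    rw [mem_cj, c.cent]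
    constructor
    · intro h
      have e1 : s * (g * w * g⁻¹) = g * (g⁻¹ * s * g * w) * g⁻¹ := by group
      have e2 : g * w * g⁻¹ * s = g * (w * (g⁻¹ * s * g)) * g⁻¹ := by group
      rw [e1, e2, h]
    · intro h
      have e1 : g⁻¹ * s * g * w = g⁻¹ * (s * (g * w * g⁻¹)) * g := by group
      have e2 : w * (g⁻¹ * s * g) = g⁻¹ * (g * w * g⁻¹ * s) * g := by group
      rw [e1, e2, h]
  · intro s hs x hx
    obtain ⟨a, ha, rfl⟩ := exists_of_mem_cj hs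
    obtain ⟨b, hb, rfl⟩ := exists_of_mem_cj hx
    have : g * a * g⁻¹ * (g * b * g⁻¹) * (g * a * g⁻¹)⁻¹ = g * (a * b * a⁻¹) * g⁻¹ := by group
    rw [this]
    exact conj_mem_cj (c.norm a ha b hb)

/-- two configurations inside each other's centralisers, with different central elements, are independent. -/
theorem Cfg.pair [Finite S] {p : ℕ} [Fact p.Prime] (hS : IsPGroup p S)
    {Q₁ F₁ C₁ Q₂ F₂ C₂ : Subgroup S} {w₁ w₂ : S} (c₁ : Cfg Q₁ F₁ C₁ w₁) (c₂ : Cfg Q₂ F₂ C₂ w₂)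
    (h12 : Q₁ ≤ C₂) (h21 : Q₂ ≤ C₁) (hne : w₁ ≠ w₂) :
    Q₁ ⊓ Q₂ = ⊥ ∧ ∀ x ∈ Q₁, ∀ y ∈ Q₂, x * y = y * x :=
  inf_eq_bot_and_commute hS Q₁ Q₂ w₁ w₂ (fun x hx y hy => c₂.norm x (h12 hx) y hy)
    (fun y hy x hx => c₁.norm y (h21 hy) x hx) c₁.cen c₂.cen
    (fun y hy => ((c₁.cent y).1 (h21 hy)).symm) hne

/-- conjugates of the central element. -/
theorem Cfg.conj_ne {Q F C : Subgroup S} {w : S} (c : Cfg Q F C w) {g h : S} (hgh : h⁻¹ * g ∉ C) :
    g * w * g⁻¹ ≠ h * w * h⁻¹ := by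
  intro heq
  apply hgh
  rw [c.cent]
  have e1 : h⁻¹ * g * w = h⁻¹ * (g * w * g⁻¹) * g := by group
  rw [e1, heq]
  group

end Cfsg.Agent.Helper63.SR4
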