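import Mathlib
import Cfsg.Prelude.Def_CaseTheorems
import Cfsg.Agent.Helper63.Sect4C

/-!
# Sectional rank ≤ 4: a non-abelian subgroup with centre of order 2 normal in the centraliser of its centre
-/

set_option autoImplicit false

namespace Cfsg.Agent.Helper63.SR4

open Subgroup
open scoped Pointwise

variable {S : Type*} [Group S]

/-- `K ⧸ M` is elementary abelian. -/
structure EQuot (K M : Subgroup S) : Prop where
  le : M ≤ K
  sq : ∀ x ∈ K, x ^ 2 ∈ M
  comm : ∀ x ∈ K, ∀ y ∈ K, x * y * x⁻¹ * y⁻¹ ∈ M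

theorem EQuot.conj_mem {K M : Subgroup S} (h : EQuot K M) :
    ∀ x ∈ K, ∀ f ∈ M, x * f * x⁻¹ ∈ M := by
  intro x hx f hf
  have : x * f * x⁻¹ = (x * f * x⁻¹ * f⁻¹) * f := by group
  rw [this]
  exact M.mul_mem (h.comm x hx f (h.le hf)) hf

theorem EQuot.cj {K M : Subgroup S} (h : EQuot K M) (g : S) : EQuot (cj g K) (cj g M) := by
  refine ⟨cj_mono h.le, ?_, ?_⟩
  · intro x hx
    obtain ⟨y, hy, rfl⟩ := exists_of_mem_cj hx
    rw [conj_pow]
    exact conj_mem_cj (h.sq y hy)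
  · intro x hx y hy
    obtain ⟨a, ha, rfl⟩ := exists_of_mem_cj hx
    obtain ⟨b, hb, rfl⟩ := exists_of_mem_cj hy
    have : g * a * g⁻¹ * (g * b * g⁻¹) * (g * a * g⁻¹)⁻¹ * (g * b * g⁻¹)⁻¹
        = g * (a * b * a⁻¹ * b⁻¹) * g⁻¹ := by group
    rw [this]
    exact conj_mem_cj (h.comm a ha b hb)

/-- two commuting independent subgroups with elementary abelian quotients. -/
theorem pair_bound [Finite S] (hr : Cfsg.SectionalPRankLE 2 4 S) (K₁ M₁ K₂ M₂ : Subgroup S)
    (e₁ : EQuot K₁ M₁) (e₂ : EQuot K₂ M₂) (hc : ∀ x ∈ K₁, ∀ y ∈ K₂, x * y = y * x)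
    (hbot : K₁ ⊓ K₂ = ⊥) :
    Nat.card K₁ * Nat.card K₂ ≤ 16 * (Nat.card M₁ * Nat.card M₂) := by
  have hc' : ∀ x ∈ K₂, ∀ y ∈ K₁, x * y = y * x := fun x hx y hy => (hc y hy x hx).symm
  have conj_of_comm : ∀ y f : S, y * f = f * y → y * f * y⁻¹ = f := fun y f h => by
    rw [h, mul_inv_cancel_right]
  have comm_of_comm : ∀ x y : S, x * y = y * x → x * y * x⁻¹ * y⁻¹ = 1 := fun x y h => by
    rw [h, mul_inv_cancel_right, mul_inv_cancel]
  set Y : Set S := (K₁ : Set S) ∪ (K₂ : Set S) with hY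
  have hK₁W : K₁ ≤ closure Y := fun x hx => Subgroup.subset_closure (Or.inl hx)
  have hK₂W : K₂ ≤ closure Y := fun x hx => Subgroup.subset_closure (Or.inr hx)
  have hM₁N : M₁ ≤ M₁ ⊔ M₂ := le_sup_left
  have hM₂N : M₂ ≤ M₁ ⊔ M₂ := le_sup_right
  have hb := card_le_of_gens hr Y (M₁ ⊔ M₂) (sup_le (e₁.le.trans hK₁W) (e₂.le.trans hK₂W)) (by
      intro y hy
      have hle : M₁ ⊔ M₂ ≤ (M₁ ⊔ M₂).comap (MulAut.conj y).toMonoidHom := by
        rcases hy with hy | hy
        · refine sup_le ?_ ?_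
          · intro f hf
            rw [mem_comap]
            exact hM₁N (e₁.conj_mem y hy f hf)
          · intro f hf
            rw [mem_comap]
            show y * f * y⁻¹ ∈ M₁ ⊔ M₂
            rw [conj_of_comm y f (hc y hy f (e₂.le hf))]
            exact hM₂N hf
        · refine sup_le ?_ ?_
          · intro f hf
            rw [mem_comap]
            show y * f * y⁻¹ ∈ M₁ ⊔ M₂
            rw [conj_of_comm y f (hc' y hy f (e₁.le hf))]
            exact hM₁N hf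
          · intro f hf
            rw [mem_comap]
            exact hM₂N (e₂.conj_mem y hy f hf)
      intro n hn
      exact hle hn) (by
      intro y hy
      rcases hy with hy | hy
      · exact hM₁N (e₁.sq y hy)
      · exact hM₂N (e₂.sq y hy)) (by
      intro x hx y hy
      rcases hx with hx | hx <;> rcases hy with hy | hy
      · exact hM₁N (e₁.comm x hx y hy)
      · rw [comm_of_comm x y (hc x hx y hy)]; exact one_mem _
      · rw [comm_of_comm x y (hc' x hx y hy)]; exact one_mem _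
      · exact hM₂N (e₂.comm x hx y hy))
  have hN : Nat.card ↥(M₁ ⊔ M₂) ≤ Nat.card M₁ * Nat.card M₂ := by
    have := card_sup_mul_card_inf M₁ M₂ (le_normalizer_of_commute M₁ M₂
      (fun a ha b hb => hc a (e₁.le ha) b (e₂.le hb)))
    have hpos : 0 < Nat.card ↥(M₁ ⊓ M₂) := Nat.card_pos
    calc Nat.card ↥(M₁ ⊔ M₂) ≤ Nat.card ↥(M₁ ⊔ M₂) * Nat.card ↥(M₁ ⊓ M₂) :=
          Nat.le_mul_of_pos_right _ hpos
      _ = _ := this
  have hW : Nat.card K₁ * Nat.card K₂ ≤ Nat.card (closure Y) := by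
    have := card_sup_mul_card_inf K₁ K₂ (le_normalizer_of_commute K₁ K₂ hc)
    rw [hbot, card_bot, mul_one] at this
    rw [← this]
    exact card_le_of_le (sup_le hK₁W hK₂W)
  calc Nat.card K₁ * Nat.card K₂ ≤ Nat.card (closure Y) := hW
    _ ≤ 2 ^ 4 * Nat.card ↥(M₁ ⊔ M₂) := hb
    _ ≤ 2 ^ 4 * (Nat.card M₁ * Nat.card M₂) := Nat.mul_le_mul_left _ hN
    _ = 16 * (Nat.card M₁ * Nat.card M₂) := by norm_num

/-- a subgroup with a commuting independent conjugate has sectional rank ≤ 2. -/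
theorem sectional_two_of_pair [Finite S] (hr : Cfsg.SectionalPRankLE 2 4 S) (P : Subgroup S) (t : S)
    (hbot : P ⊓ cj t P = ⊥) (hcomm : ∀ x ∈ P, ∀ y ∈ cj t P, x * y = y * x) :
    Cfsg.SectionalPRankLE 2 2 ↥P := by
  apply sectional_of_bound 2
  intro K M hMK hsq hcm
  have e₁ : EQuot (K.map P.subtype) (M.map P.subtype) := by
    refine ⟨map_mono hMK, ?_, ?_⟩
    · rintro _ ⟨a, ha, rfl⟩
      exact ⟨a ^ 2, hsq a ha, by simp⟩
    · rintro _ ⟨a, ha, rfl⟩ _ ⟨b, hb, rfl⟩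
      exact ⟨a * b * a⁻¹ * b⁻¹, hcm a ha b hb, by simp⟩
  have e₂ := e₁.cj t
  have hKP : K.map P.subtype ≤ P := map_subtype_le _
  have hb := pair_bound hr _ _ _ _ e₁ e₂
    (fun x hx y hy => hcomm x (hKP hx) y (cj_mono hKP hy)) (by
      rw [eq_bot_iff, ← hbot]
      exact inf_le_inf hKP (cj_mono hKP))
  rw [card_cj, card_cj, card_map_of_injective P.subtype_injective,
    card_map_of_injective P.subtype_injective] at hb
  have h2 : Nat.card K ^ 2 ≤ (4 * Nat.card M) ^ 2 := by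
    calc Nat.card K ^ 2 = Nat.card K * Nat.card K := pow_two _
      _ ≤ 16 * (Nat.card M * Nat.card M) := hb
      _ = (4 * Nat.card M) ^ 2 := by ring
  have := (Nat.pow_le_pow_iff_left (by norm_num : (2 : ℕ) ≠ 0)).1 h2
  simpa using this

end Cfsg.Agent.Helper63.SR4
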