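import Mathlib
import Cfsg.Prelude.Def_CaseTheorems
import Cfsg.Agent.Helper63.Sect4D

/-!
# The core argument: `C_S(Z(P))` has index at most two
-/

set_option autoImplicit false

namespace Cfsg.Agent.Helper63.SR4

open Subgroup
open scoped Pointwise

variable {S : Type*} [Group S]

theorem Cfg.ne_conj {Q F C : Subgroup S} {w : S} (c : Cfg Q F C w) {t : S} (ht : t ∉ C) :
    w ≠ t * w * t⁻¹ := by
  intro h
  apply ht
  rw [c.cent]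
  calc t * w = t * w * t⁻¹ * t := by group
    _ = w * t := by rw [← h]

theorem Cfg.of_normalizer {Q F C : Subgroup S} {w : S} (c : Cfg Q F C w) {t : S}
    (ht : t ∈ normalizer (C : Set S)) : Cfg (SR4.cj t Q) (SR4.cj t F) C (t * w * t⁻¹) := by
  have := c.cj t
  rwa [cj_eq_self_of_mem_normalizer ht] at this

theorem inv_conj_mem_of_normalizer {T : Subgroup S} {u : S} (hu : u ∈ normalizer (T : Set S)) :
    ∀ h ∈ T, u⁻¹ * h * u ∈ T := fun h hh => (mem_normalizer_iff''.1 hu h).1 hh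

/-- `N_S(S₀)` normalises every `N_S(N_S(S₀))`-conjugate of `S₀`. -/
theorem conj_mem_cj_iff_of_normalizer {S₀ : Subgroup S} {u t : S}
    (hu : u ∈ normalizer ((normalizer (S₀ : Set S) : Subgroup S) : Set S))
    (ht : t ∈ normalizer (S₀ : Set S)) (s : S) : s ∈ cj u S₀ ↔ t * s * t⁻¹ ∈ cj u S₀ := by
  rw [mem_cj, mem_cj]
  have h1 := (mem_normalizer_iff.1 (inv_conj_mem_of_normalizer hu t ht)) (u⁻¹ * s * u)
  have e : u⁻¹ * t * u * (u⁻¹ * s * u) * (u⁻¹ * t * u)⁻¹ = u⁻¹ * (t * s * t⁻¹) * u := by group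
  rw [e] at h1
  exact h1

theorem step [Finite S] (hS : IsPGroup 2 S) {P F S₀ : Subgroup S} {z : S} (c₀ : Cfg P F S₀ z)
    (hnab : ¬ IsMulCommutative P)
    (hidx2 : ∀ t₁ ∈ normalizer (S₀ : Set S), ∀ t₂ ∈ normalizer (S₀ : Set S),
      t₁ ∉ S₀ → t₂ ∉ S₀ → t₂⁻¹ * t₁ ∈ S₀)
    {t : S} (htT : t ∈ normalizer (S₀ : Set S)) (htS : t ∉ S₀)
    {u : S} (hu : u ∈ normalizer ((normalizer (S₀ : Set S) : Subgroup S) : Set S)) :
    P ≤ cj u S₀ := by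
  have : Fact (Nat.Prime 2) := ⟨Nat.prime_two⟩
  have hS₀T : S₀ ≤ normalizer (S₀ : Set S) := le_normalizer
  have c₁ := c₀.cj u
  have hzS₀ : z ∈ S₀ := (c₀.cent z).2 rfl
  have huinv := inv_conj_mem_of_normalizer hu
  have hwT : u * z * u⁻¹ ∈ normalizer (S₀ : Set S) := (mem_normalizer_iff.1 hu z).1 (hS₀T hzS₀)
  have hc := fun t ht => conj_mem_cj_iff_of_normalizer (S₀ := S₀) hu (t := t) ht
  have hd : ∀ t₁ ∈ normalizer (S₀ : Set S), ∀ t₂ ∈ normalizer (S₀ : Set S),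
      t₁ ∉ cj u S₀ → t₂ ∉ cj u S₀ → t₂⁻¹ * t₁ ∈ cj u S₀ := by
    intro t₁ h₁ t₂ h₂ n₁ n₂
    rw [mem_cj] at n₁ n₂ ⊢
    have := hidx2 _ (huinv t₁ h₁) _ (huinv t₂ h₂) n₁ n₂
    have e : (u⁻¹ * t₂ * u)⁻¹ * (u⁻¹ * t₁ * u) = u⁻¹ * (t₂⁻¹ * t₁) * u := by group
    rwa [e] at this
  have ct := c₀.of_normalizer htT
  obtain ⟨hbot_t, hcomm_t⟩ := Cfg.pair hS c₀ ct c₀.le ct.le (c₀.ne_conj htS)
  -- Step i
  have hwS₀ : u * z * u⁻¹ ∈ S₀ := by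
    by_contra hwn
    have cw := c₀.of_normalizer hwT
    obtain ⟨hbot_w, -⟩ := Cfg.pair hS c₀ cw c₀.le cw.le (c₀.ne_conj hwn)
    have h1 : ∀ x ∈ P, x ∈ cj u S₀ → x = 1 := by
      intro x hx hxS
      have hxw : x * (u * z * u⁻¹) = u * z * u⁻¹ * x := (c₁.cent x).1 hxS
      have : x ∈ P ⊓ cj (u * z * u⁻¹) P := by
        refine ⟨hx, ?_⟩
        have e : x = (u * z * u⁻¹) * x * (u * z * u⁻¹)⁻¹ := by rw [← hxw]; group
        rw [e]; exact conj_mem_cj hx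
      rw [hbot_w, mem_bot] at this
      exact this
    apply hnab
    refine ⟨⟨fun a b => ?_⟩⟩
    by_cases ha : (a : S) ∈ cj u S₀
    · have : a = 1 := Subtype.ext (h1 a a.2 ha)
      rw [this]; simp
    · by_cases hb : (b : S) ∈ cj u S₀
      · have : b = 1 := Subtype.ext (h1 b b.2 hb)
        rw [this]; simp
      · have h2 := hd a (hS₀T (c₀.le a.2)) b (hS₀T (c₀.le b.2)) ha hb
        have h3 := h1 _ (P.mul_mem (P.inv_mem b.2) a.2) h2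
        have : a = b := by
          apply Subtype.ext
          have := inv_mul_eq_one.1 h3
          exact this.symm
        rw [this]
  -- Step iii
  intro x hx
  by_contra hxn
  have hxT : x ∈ normalizer (S₀ : Set S) := hS₀T (c₀.le hx)
  have hx'T : t * x * t⁻¹ ∈ normalizer (S₀ : Set S) :=
    mul_mem (mul_mem htT hxT) (inv_mem htT)
  have hx'n : t * x * t⁻¹ ∉ cj u S₀ := fun h => hxn ((hc t htT x).2 h)
  have hs := hd _ hx'T _ hxT hx'n hxn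
  have hsw : x⁻¹ * (t * x * t⁻¹) * (u * z * u⁻¹) = u * z * u⁻¹ * (x⁻¹ * (t * x * t⁻¹)) :=
    (c₁.cent _).1 hs
  have he1 : x * (u * z * u⁻¹) * x⁻¹ * (u * z * u⁻¹)⁻¹ ∈ P := by
    have : x * (u * z * u⁻¹) * x⁻¹ * (u * z * u⁻¹)⁻¹
        = x * ((u * z * u⁻¹) * x⁻¹ * (u * z * u⁻¹)⁻¹) := by group
    rw [this]
    exact P.mul_mem hx (c₀.norm _ hwS₀ _ (P.inv_mem hx))
  have he2 : x * (u * z * u⁻¹) * x⁻¹ * (u * z * u⁻¹)⁻¹ ∈ cj t P := by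
    have hx' : t * x * t⁻¹ ∈ cj t P := conj_mem_cj hx
    have h2 : (t * x * t⁻¹) * ((u * z * u⁻¹) * (t * x * t⁻¹)⁻¹ * (u * z * u⁻¹)⁻¹) ∈ cj t P :=
      (cj t P).mul_mem hx' (ct.norm _ hwS₀ _ ((cj t P).inv_mem hx'))
    have e : x * (u * z * u⁻¹) * x⁻¹ * (u * z * u⁻¹)⁻¹
        = (t * x * t⁻¹) * ((u * z * u⁻¹) * (t * x * t⁻¹)⁻¹ * (u * z * u⁻¹)⁻¹) := by
      have hsw' : x⁻¹ * (t * x * t⁻¹) * (u * z * u⁻¹) * (x⁻¹ * (t * x * t⁻¹))⁻¹ = u * z * u⁻¹ := by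
        rw [hsw]; group
      calc x * (u * z * u⁻¹) * x⁻¹ * (u * z * u⁻¹)⁻¹
          = x * (x⁻¹ * (t * x * t⁻¹) * (u * z * u⁻¹) * (x⁻¹ * (t * x * t⁻¹))⁻¹) * x⁻¹
            * (u * z * u⁻¹)⁻¹ := by rw [hsw']
        _ = _ := by group
    rw [e]; exact h2
  have hmem : x * (u * z * u⁻¹) * x⁻¹ * (u * z * u⁻¹)⁻¹ ∈ P ⊓ cj t P := ⟨he1, he2⟩
  rw [hbot_t, mem_bot] at hmem
  apply hxn
  rw [c₁.cent]
  have h3 := mul_inv_eq_one.1 hmem
  rw [mul_inv_eq_iff_eq_mul] at h3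
  exact h3

theorem core [Finite S] (hS : IsPGroup 2 S) (hr : Cfsg.SectionalPRankLE 2 4 S)
    {P F S₀ : Subgroup S} {z : S} (c₀ : Cfg P F S₀ z)
    (hnab : ¬ IsMulCommutative P) (hne : S₀ ≠ ⊤) :
    (∃ t, P ⊓ cj t P = ⊥ ∧ ∀ x ∈ P, ∀ y ∈ cj t P, x * y = y * x) ∧ S₀.index = 2 := by
  have : Fact (Nat.Prime 2) := ⟨Nat.prime_two⟩
  have hnil : Group.IsNilpotent S := hS.isNilpotent
  have hnc := Group.normalizerCondition_of_isNilpotent (G := S)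
  have hS₀T : S₀ ≤ normalizer (S₀ : Set S) := le_normalizer
  have hlt : S₀ < normalizer (S₀ : Set S) := hnc S₀ (lt_top_iff_ne_top.2 hne)
  obtain ⟨t, htT, htS⟩ := SetLike.exists_of_lt hlt
  have ct := c₀.of_normalizer htT
  obtain ⟨hbot_t, hcomm_t⟩ := Cfg.pair hS c₀ ct c₀.le ct.le (c₀.ne_conj htS)
  refine ⟨⟨t, hbot_t, hcomm_t⟩, ?_⟩
  have hidx2 : ∀ t₁ ∈ normalizer (S₀ : Set S), ∀ t₂ ∈ normalizer (S₀ : Set S),
      t₁ ∉ S₀ → t₂ ∉ S₀ → t₂⁻¹ * t₁ ∈ S₀ := by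
    intro t₁ h₁ t₂ h₂ n₁ n₂
    by_contra hn
    have c1 := c₀.of_normalizer h₁
    have c2 := c₀.of_normalizer h₂
    obtain ⟨hb1, hc1⟩ := Cfg.pair hS c₀ c1 c₀.le c1.le (c₀.ne_conj n₁)
    obtain ⟨hb2, hc2⟩ := Cfg.pair hS c₀ c2 c₀.le c2.le (c₀.ne_conj n₂)
    obtain ⟨hb12, hc12⟩ := Cfg.pair hS c1 c2 c1.le c2.le (c₀.conj_ne hn)
    exact no_three hr (cj t₁ P) (cj t₂ P) P _ _ _ c1.v4 c2.v4 c₀.v4 hc12
      (fun x hx y hy => (hc1 y hy x hx).symm) (fun x hx y hy => (hc2 y hy x hx).symm) hb12 z c₀.cen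
  by_cases hTtop : normalizer (S₀ : Set S) = ⊤
  · rw [index_eq_two_iff]
    refine ⟨t, fun b => ?_⟩
    by_cases hb : b ∈ S₀
    · refine Or.inr ⟨hb, fun h => htS ?_⟩
      have : t = b⁻¹ * (b * t) := by group
      rw [this]; exact S₀.mul_mem (S₀.inv_mem hb) h
    · refine Or.inl ⟨?_, hb⟩
      have hbT : b⁻¹ ∈ normalizer (S₀ : Set S) := by rw [hTtop]; exact mem_top _
      have := hidx2 t htT b⁻¹ hbT htS (fun h => hb (by simpa using S₀.inv_mem h))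
      simpa using this
  · exfalso
    have hlt2 := hnc (normalizer (S₀ : Set S)) (lt_top_iff_ne_top.2 hTtop)
    obtain ⟨u, huN, huT⟩ := SetLike.exists_of_lt hlt2
    have h1 : P ≤ cj u S₀ := step hS c₀ hnab hidx2 htT htS huN
    have huN' : u⁻¹ ∈ normalizer ((normalizer (S₀ : Set S) : Subgroup S) : Set S) := inv_mem huN
    have h2 : P ≤ cj u⁻¹ S₀ := step hS c₀ hnab hidx2 htT htS huN'
    have h2' : cj u P ≤ S₀ := by
      have := cj_mono (g := u) h2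
      rwa [cj_inv_cj] at this
    have c₁ := c₀.cj u
    have huS₀ : u ∉ S₀ := fun h => huT (hS₀T h)
    obtain ⟨hb1, hc1⟩ := Cfg.pair hS c₀ c₁ h1 h2' (c₀.ne_conj huS₀)
    have h3 : cj t P ≤ cj u S₀ := by
      intro y hy
      obtain ⟨a, ha, rfl⟩ := exists_of_mem_cj hy
      exact (conj_mem_cj_iff_of_normalizer huN htT a).1 (h1 ha)
    have hne3 : t * z * t⁻¹ ≠ u * z * u⁻¹ := by
      apply c₀.conj_ne
      intro h
      apply huT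
      have h' : u⁻¹ * t ∈ normalizer (S₀ : Set S) := hS₀T h
      have e : u = t * (u⁻¹ * t)⁻¹ := by group
      rw [e]
      exact mul_mem htT (inv_mem h')
    obtain ⟨hb2, hc2⟩ := Cfg.pair hS ct c₁ h3 h2' hne3
    exact no_three hr P (cj t P) (cj u P) _ _ _ c₀.v4 ct.v4 c₁.v4 hcomm_t hc1 hc2 hbot_t _ c₁.cen

end Cfsg.Agent.Helper63.SR4
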