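import Mathlib
import Cfsg.Prelude.Def_CaseTheorems
import Cfsg.Agent.Helper63.SectRank2B
import Cfsg.Agent.Helper73.PGroupCyclic

/-!
# 2-groups of sectional rank at most 2 containing `D₈` or `Q₈`, with a normal four-group

`SR2.exists_involution_centralizer_four` : such a group has an involution whose centralizer has order 4.
-/

set_option autoImplicit false

namespace Cfsg.Agent.Helper63.SR2

open Subgroup

theorem exists_involution_centralizer_four {S : Type*} [Group S] [Finite S] (h2 : IsPGroup 2 S)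
    (hr : Cfsg.SectionalPRankLE 2 2 S) (T : Subgroup S) (z : S) (hT : D8Like T z)
    (V : Subgroup S) [hVn : V.Normal] (hV4 : Nat.card V = 4) (hVsq : ∀ v ∈ V, v ^ 2 = 1)
    (hVc : ∀ v ∈ V, ∀ w ∈ V, v * w = w * v) :
    ∃ t : S, orderOf t = 2 ∧ Nat.card (centralizer ({t} : Set S)) = 4 := by
  have : Fact (Nat.Prime 2) := ⟨Nat.prime_two⟩
  have hz1 := hT.z_ne
  have hz2 := hT.z_sq
  have hzord : orderOf z = 2 := orderOf_eq_prime hz2 hz1
  have hzp := mem_zpowers_of_sq hz2
  -- step 0: a central involution in `V`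
  have hVne : V ≠ ⊥ := by
    intro h; rw [h, card_bot] at hV4; omega
  have h0 := normal_inf_center_ne_bot h2 V hVne
  rw [Ne, eq_bot_iff_forall] at h0
  push Not at h0
  obtain ⟨v0, hv0mem, hv01⟩ := h0
  have hv0V : v0 ∈ V := hv0mem.1
  have hv0Z : v0 ∈ center S := hv0mem.2
  have hv0c : ∀ g : S, g * v0 = v0 * g := mem_center_iff.1 hv0Z
  have hv0sq : v0 ^ 2 = 1 := hVsq v0 hv0V
  have hv0ord : orderOf v0 = 2 := orderOf_eq_prime hv0sq hv01
  -- step 1: `u ∈ V \ ⟨v0⟩`
  have hnle : ¬ V ≤ zpowers v0 := by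
    intro hle
    have := card_le_of_le hle
    rw [hV4, Nat.card_zpowers, hv0ord] at this
    omega
  obtain ⟨u, huV, hun⟩ := SetLike.not_le_iff_exists.1 hnle
  have hu1 : u ≠ 1 := fun h => hun (h ▸ one_mem _)
  have huv0 : u ≠ v0 := fun h => hun (h ▸ mem_zpowers v0)
  have hVenum := four_enum V hV4 hv0V huV hv01 hu1 (Ne.symm huv0) hv0sq
  -- step 3
  have hCV : ∀ g : S, g * u = u * g → ∀ w ∈ V, g * w = w * g := by
    intro g hg w hw
    rcases hVenum w hw with rfl | rfl | rfl | rfl
    · simp
    · exact hv0c g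
    · exact hg
    · rw [← mul_assoc, hv0c g, mul_assoc, hg, mul_assoc]
  -- step 4
  have hconj : ∀ g : S, g * u * g⁻¹ = u ∨ g * u * g⁻¹ = v0 * u := by
    intro g
    rcases hVenum _ (hVn.conj_mem u huV g) with h | h | h | h
    · exfalso; exact hu1 (conj_eq_one_iff.1 h)
    · exfalso
      apply huv0
      have : u = g⁻¹ * v0 * g := by rw [← h]; group
      rw [this, mul_assoc, ← hv0c g, inv_mul_cancel_left]
    · left; exact h
    · right; exact h
  -- step 5
  have hidx : ∀ K : Subgroup S, Nat.card K ≤ Nat.card ↥(K ⊓ centralizer {u}) * 2 := by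
    intro K
    have := CSC.card_le_of_commutator_mem K (zpowers v0) (zpowers_le.2 hv0Z) u (by
      intro b _
      rcases hconj b with h | h
      · rw [h, mul_inv_cancel]; exact one_mem _
      · rw [h, mul_inv_cancel_right]; exact mem_zpowers v0)
    rwa [Nat.card_zpowers, hv0ord] at this
  -- commuting involutions lie in `V`
  have hmemV : ∀ y : S, y ^ 2 = 1 → (∀ w ∈ V, y * w = w * y) → y ∈ V := by
    intro y hy2 hyc
    have hc := card_closure_le_four hr ((V : Set S) ∪ {y}) (by
      intro a ha
      rcases ha with ha | ha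
      · exact hVsq a ha
      · rw [Set.mem_singleton_iff] at ha; rw [ha]; exact hy2) (by
      intro a ha b hb
      rcases ha with ha | ha <;> rcases hb with hb | hb
      · exact hVc a ha b hb
      · rw [Set.mem_singleton_iff] at hb; subst hb; exact (hyc a ha).symm
      · rw [Set.mem_singleton_iff] at ha; subst ha; exact hyc b hb
      · rw [Set.mem_singleton_iff] at ha hb; rw [ha, hb])
    have hle : V ≤ closure ((V : Set S) ∪ {y}) := fun v hv => Subgroup.subset_closure (Or.inl hv)
    have heq := eq_of_le_of_card_ge hle (by rw [hV4]; exact hc)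
    rw [heq]; exact Subgroup.subset_closure (Or.inr rfl)
  -- Step A: `z ∈ V`
  have hzV : z ∈ V := by
    have h8 := hidx T
    rw [hT.card] at h8
    have hnle' : ¬ (T ⊓ centralizer {u}) ≤ zpowers z := by
      intro hle
      have := card_le_of_le hle
      rw [Nat.card_zpowers, hzord] at this
      omega
    obtain ⟨x, hx, hxn⟩ := SetLike.not_le_iff_exists.1 hnle'
    have hxT : x ∈ T := hx.1
    have hxu : x * u = u * x := mem_centralizer_singleton_iff.1 hx.2
    have hxV := hCV x hxu
    rcases hT.sq x hxT with hx2 | hx2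
    · have hxinV : x ∈ V := hmemV x hx2 hxV
      have hnc : ¬ ∀ t' ∈ T, x * t' = t' * x := by
        intro h
        rcases hT.cen x hxT h with h | h
        · exact hxn (h ▸ one_mem _)
        · exact hxn (h ▸ mem_zpowers z)
      push Not at hnc
      obtain ⟨t, htT, hne⟩ := hnc
      rcases hT.comm t htT x hxT with h | h
      · exfalso
        apply hne
        have := mul_inv_eq_one.1 h
        rw [mul_inv_eq_iff_eq_mul] at this
        exact this.symm
      · rw [← h]
        exact V.mul_mem (hVn.conj_mem x hxinV t) (V.inv_mem hxinV)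
    · apply hmemV z hz2
      intro w hw
      rw [← hx2, pow_two, mul_assoc, hxV w hw, ← mul_assoc, hxV w hw, mul_assoc]
  -- conjugation by `T` on `V` modulo `⟨z⟩`
  have hTVconj : ∀ t ∈ T, ∀ v ∈ V, v ∉ zpowers z → t * v * t⁻¹ = v ∨ t * v * t⁻¹ = z * v := by
    intro t ht v hv hvn
    have hv1 : v ≠ 1 := fun h => hvn (h ▸ one_mem _)
    have hvz : v ≠ z := fun h => hvn (h ▸ mem_zpowers z)
    have henum := four_enum V hV4 hzV hv hz1 hv1 (Ne.symm hvz) hz2
    rcases henum _ (hVn.conj_mem v hv t) with h | h | h | h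
    · exfalso; exact hv1 (conj_eq_one_iff.1 h)
    · exfalso
      apply hvz
      have : v = t⁻¹ * z * t := by rw [← h]; group
      rw [this, mul_assoc, ← hT.z_comm t ht, inv_mul_cancel_left]
    · left; exact h
    · right; exact h
  have hTV : ∀ t ∈ T, ∀ v ∈ V, t * v * t⁻¹ * v⁻¹ ∈ zpowers z := by
    intro t ht v hv
    by_cases hvn : v ∈ zpowers z
    · have hcomm : t * v = v * t := by
        rcases hzp v hvn with rfl | rfl
        · simp
        · exact hT.z_comm t ht
      rw [hcomm, mul_inv_cancel_right, mul_inv_cancel]; exact one_mem _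
    · rcases hTVconj t ht v hv hvn with h | h
      · rw [h, mul_inv_cancel]; exact one_mem _
      · rw [h, mul_inv_cancel_right]; exact mem_zpowers z
  have hTsqz : ∀ t ∈ T, t ^ 2 ∈ zpowers z := by
    intro t ht
    rcases hT.sq t ht with h | h
    · rw [h]; exact one_mem _
    · rw [h]; exact mem_zpowers z
  have hTcommz : ∀ t ∈ T, ∀ t' ∈ T, t * t' * t⁻¹ * t'⁻¹ ∈ zpowers z := by
    intro t ht t' ht'
    rcases hT.comm t ht t' ht' with h | h
    · rw [h]; exact one_mem _
    · rw [h]; exact mem_zpowers z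
  -- Step B: `V ≤ T`
  have hVT : V ≤ T := by
    have hc := card_closure_le hr ((V : Set S) ∪ (T : Set S)) z
      (Subgroup.subset_closure (Or.inr hT.z_mem)) (by
        intro y hy
        rcases hy with hy | hy
        · exact hVc y hy z hzV
        · exact hT.z_comm y hy) (by
        intro y hy
        rcases hy with hy | hy
        · rw [hVsq y hy]; exact one_mem _
        · exact hTsqz y hy) (by
        intro a ha b hb
        rcases ha with ha | ha <;> rcases hb with hb | hb
        · have : a * b * a⁻¹ * b⁻¹ = 1 := by rw [hVc a ha b hb]; group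
          rw [this]; exact one_mem _
        · have h := (zpowers z).inv_mem (hTV b hb a ha)
          have e : (b * a * b⁻¹ * a⁻¹)⁻¹ = a * b * a⁻¹ * b⁻¹ := by group
          rw [e] at h; exact h
        · exact hTV a ha b hb
        · exact hTcommz a ha b hb)
    rw [hzord] at hc
    have hle : T ≤ closure ((V : Set S) ∪ (T : Set S)) := fun t ht => Subgroup.subset_closure (Or.inr ht)
    have heq := eq_of_le_of_card_ge hle (by rw [hT.card]; omega)
    intro v hv
    rw [heq]; exact Subgroup.subset_closure (Or.inl hv)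
  -- Step C
  have hnTV : ¬ T ≤ V := by
    intro hle
    have := card_le_of_le hle
    rw [hT.card, hV4] at this
    omega
  obtain ⟨t0, ht0T, ht0V⟩ := SetLike.not_le_iff_exists.1 hnTV
  have hgenT : ∀ t ∈ T, t ∉ V → ∀ g : S, (∀ w ∈ V, g * w = w * g) → g * t = t * g →
      ∀ t' ∈ T, g * t' = t' * g := by
    intro t ht htV g hgV hgt
    have hVK : V ≤ T ⊓ centralizer {g} := by
      intro w hw
      refine ⟨hVT hw, ?_⟩
      show w ∈ centralizer {g}
      rw [mem_centralizer_singleton_iff]
      exact (hgV w hw).symm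
    have htK : t ∈ T ⊓ centralizer {g} := by
      refine ⟨ht, ?_⟩
      show t ∈ centralizer {g}
      rw [mem_centralizer_singleton_iff]
      exact hgt.symm
    have hd1 : Nat.card ↥(T ⊓ centralizer {g}) ∣ 8 := by
      have := card_dvd_of_le (inf_le_left : T ⊓ centralizer {g} ≤ T)
      rwa [hT.card] at this
    have hd2 : 4 ∣ Nat.card ↥(T ⊓ centralizer {g}) := by
      have := card_dvd_of_le hVK
      rwa [hV4] at this
    have hne4 : Nat.card ↥(T ⊓ centralizer {g}) ≠ 4 := by
      intro h
      have := eq_of_le_of_card_ge hVK (by rw [h, hV4])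
      exact htV (this ▸ htK)
    have hle8 := Nat.le_of_dvd (by norm_num) hd1
    have hpos : 0 < Nat.card ↥(T ⊓ centralizer {g}) := Nat.card_pos
    have h8 : Nat.card ↥(T ⊓ centralizer {g}) = 8 := by omega
    have heq := eq_of_le_of_card_ge (inf_le_left : T ⊓ centralizer {g} ≤ T) (by rw [h8, hT.card])
    intro t' ht'
    have : t' ∈ T ⊓ centralizer {g} := by rw [heq]; exact ht'
    exact (mem_centralizer_singleton_iff.1 this.2).symm
  obtain ⟨t, htT, htV, ht2⟩ : ∃ t ∈ T, t ∉ V ∧ t ^ 2 = 1 := by
    rcases hT.sq t0 ht0T with h | h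
    · exact ⟨t0, ht0T, ht0V, h⟩
    · have hnle2 : ¬ V ≤ zpowers z := by
        intro hle
        have := card_le_of_le hle
        rw [hV4, Nat.card_zpowers, hzord] at this
        omega
      obtain ⟨v, hvV, hvn⟩ := SetLike.not_le_iff_exists.1 hnle2
      have hc : t0 * v * t0⁻¹ = z * v := by
        rcases hTVconj t0 ht0T v hvV hvn with h' | h'
        · exfalso
          have hvt0 : v * t0 = t0 * v := by
            rw [mul_inv_eq_iff_eq_mul] at h'; exact h'.symm
          have := hgenT t0 ht0T ht0V v (hVc v hvV) hvt0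
          rcases hT.cen v (hVT hvV) this with h'' | h''
          · exact hvn (h'' ▸ one_mem _)
          · exact hvn (h'' ▸ mem_zpowers z)
        · exact h'
      refine ⟨t0 * v, T.mul_mem ht0T (hVT hvV), ?_, ?_⟩
      · intro hmem
        apply ht0V
        have := V.mul_mem hmem (V.inv_mem hvV)
        simpa using this
      · have e : (t0 * v) ^ 2 = (t0 * v * t0⁻¹) * t0 ^ 2 * v := by rw [pow_two, pow_two]; group
        rw [e, hc, h]
        have hzv : v * z = z * v := hVc v hvV z hzV
        calc z * v * z * v = z * (v * z) * v := by group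
          _ = z * (z * v) * v := by rw [hzv]
          _ = z ^ 2 * v ^ 2 := by rw [pow_two, pow_two]; group
          _ = 1 := by rw [hz2, hVsq v hvV, one_mul]
  have ht1 : t ≠ 1 := fun h => htV (h ▸ one_mem _)
  have htord : orderOf t = 2 := orderOf_eq_prime ht2 ht1
  refine ⟨t, htord, ?_⟩
  -- centralizer of `T`
  have hCT : ∀ d : S, (∀ t' ∈ T, d * t' = t' * d) → d ∈ zpowers z := by
    intro d hd
    by_contra hdn
    obtain ⟨k, hk1, hk2⟩ := Cfsg.Agent.Helper73.exists_pow_mem h2 (zpowers z) hdn
    have hd' : ∀ t' ∈ T, d ^ (2 ^ k) * t' = t' * d ^ (2 ^ k) := by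
      intro t' ht'
      have : Commute d t' := hd t' ht'
      exact (this.pow_left _).eq
    have hc := card_closure_le hr ((T : Set S) ∪ {d ^ (2 ^ k)}) z
      (Subgroup.subset_closure (Or.inl hT.z_mem)) (by
        intro y hy
        rcases hy with hy | hy
        · exact hT.z_comm y hy
        · rw [Set.mem_singleton_iff] at hy; rw [hy]; exact hd' z hT.z_mem) (by
        intro y hy
        rcases hy with hy | hy
        · exact hTsqz y hy
        · rw [Set.mem_singleton_iff] at hy; rw [hy]; exact hk2) (by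
        intro a ha b hb
        rcases ha with ha | ha <;> rcases hb with hb | hb
        · exact hTcommz a ha b hb
        · rw [Set.mem_singleton_iff] at hb
          have : a * b * a⁻¹ * b⁻¹ = 1 := by rw [hb, ← hd' a ha]; group
          rw [this]; exact one_mem _
        · rw [Set.mem_singleton_iff] at ha
          have : a * b * a⁻¹ * b⁻¹ = 1 := by rw [ha, hd' b hb]; group
          rw [this]; exact one_mem _
        · rw [Set.mem_singleton_iff] at ha hb
          have : a * b * a⁻¹ * b⁻¹ = 1 := by rw [ha, hb]; group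
          rw [this]; exact one_mem _)
    rw [hzord] at hc
    have hle : T ≤ closure ((T : Set S) ∪ {d ^ (2 ^ k)}) := fun t ht => Subgroup.subset_closure (Or.inl ht)
    have heq := eq_of_le_of_card_ge hle (by rw [hT.card]; omega)
    have hdT : d ^ (2 ^ k) ∈ T := by rw [heq]; exact Subgroup.subset_closure (Or.inr rfl)
    rcases hT.cen _ hdT hd' with h | h
    · exact hk1 (h ▸ one_mem _)
    · exact hk1 (h ▸ mem_zpowers z)
  -- the centralizer of `t`
  have hK1 := hidx (centralizer ({t} : Set S))
  have hKle : centralizer ({t} : Set S) ⊓ centralizer {u} ≤ zpowers z := by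
    intro g hg
    have hgt : g * t = t * g := mem_centralizer_singleton_iff.1 hg.1
    have hgu : g * u = u * g := mem_centralizer_singleton_iff.1 hg.2
    exact hCT g (hgenT t htT htV g (hCV g hgu) hgt)
  have hK2 : Nat.card ↥(centralizer ({t} : Set S) ⊓ centralizer {u}) ≤ 2 := by
    have := card_le_of_le hKle
    rwa [Nat.card_zpowers, hzord] at this
  have hzK : zpowers z ≤ centralizer ({t} : Set S) := by
    rw [zpowers_le, mem_centralizer_singleton_iff]
    exact (hT.z_comm t htT).symm
  have htK : t ∈ centralizer ({t} : Set S) := mem_centralizer_singleton_iff.2 rfl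
  have htz : t ∉ zpowers z := fun h => htV ((zpowers_le.2 hzV) h)
  have hdvd : 2 ∣ Nat.card ↥(centralizer ({t} : Set S)) := by
    have := card_dvd_of_le hzK
    rwa [Nat.card_zpowers, hzord] at this
  have hne2 : Nat.card ↥(centralizer ({t} : Set S)) ≠ 2 := by
    intro h
    have := eq_of_le_of_card_ge hzK (by rw [h, Nat.card_zpowers, hzord])
    exact htz (this ▸ htK)
  have hpos : 0 < Nat.card ↥(centralizer ({t} : Set S)) := Nat.card_pos
  omega

/-- a normal abelian non-cyclic subgroup of a 2-group of sectional rank at most 2 contains a normal four-group. -/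
theorem exists_normal_four {S : Type*} [Group S] [Finite S] (h2 : IsPGroup 2 S)
    (hr : Cfsg.SectionalPRankLE 2 2 S) (A : Subgroup S) (hAn : A.Normal) (hAc : IsMulCommutative A)
    (hAnc : ¬ IsCyclic A) :
    ∃ V : Subgroup S, V.Normal ∧ Nat.card V = 4 ∧ (∀ v ∈ V, v ^ 2 = 1) ∧
      ∀ v ∈ V, ∀ w ∈ V, v * w = w * v := by
  have : Fact (Nat.Prime 2) := ⟨Nat.prime_two⟩
  have hAcomm : ∀ a ∈ A, ∀ b ∈ A, a * b = b * a := fun a ha b hb =>
    setLike_mul_comm ha hb
  let V : Subgroup S :=
    { carrier := {a | a ∈ A ∧ a ^ 2 = 1}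
      one_mem' := ⟨A.one_mem, one_pow 2⟩
      mul_mem' := by
        rintro a b ⟨ha, ha2⟩ ⟨hb, hb2⟩
        refine ⟨A.mul_mem ha hb, ?_⟩
        have : Commute a b := hAcomm a ha b hb
        rw [this.mul_pow, ha2, hb2, one_mul]
      inv_mem' := by
        rintro a ⟨ha, ha2⟩
        exact ⟨A.inv_mem ha, by rw [inv_pow, ha2, inv_one]⟩ }
  have hVmem : ∀ a : S, a ∈ V ↔ a ∈ A ∧ a ^ 2 = 1 := fun a => Iff.rfl
  have hVn : V.Normal := by
    refine ⟨fun a ha g => ?_⟩
    rw [hVmem] at ha ⊢
    exact ⟨hAn.conj_mem a ha.1 g, by rw [conj_pow, ha.2, mul_one, mul_inv_cancel]⟩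
  have hVsq : ∀ v ∈ V, v ^ 2 = 1 := fun v hv => ((hVmem v).1 hv).2
  have hVc : ∀ v ∈ V, ∀ w ∈ V, v * w = w * v := fun v hv w hw =>
    hAcomm v ((hVmem v).1 hv).1 w ((hVmem w).1 hw).1
  have hle4 : Nat.card V ≤ 4 := by
    have := card_closure_le_four hr (V : Set S) hVsq hVc
    rwa [closure_eq] at this
  -- not cyclic gives two independent involutions
  have hnu : ¬ Cfsg.Agent.Helper73.UniqueOrderP 2 A := by
    intro hu
    exact hAnc (Cfsg.Agent.Helper73.isCyclic_of_comm_of_uniqueOrderP (h2.to_subgroup A)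
      (fun a b => Subtype.ext (hAcomm a a.2 b b.2)) hu)
  unfold Cfsg.Agent.Helper73.UniqueOrderP at hnu
  push Not at hnu
  obtain ⟨x, y, hx, hy, hyx⟩ := hnu
  have hx' : orderOf (x : S) = 2 := by rw [Subgroup.orderOf_coe]; exact hx
  have hy' : orderOf (y : S) = 2 := by rw [Subgroup.orderOf_coe]; exact hy
  have hxV : (x : S) ∈ V := ⟨x.2, by rw [← hx', pow_orderOf_eq_one]⟩
  have hyV : (y : S) ∈ V := ⟨y.2, by rw [← hy', pow_orderOf_eq_one]⟩
  have hyx' : (y : S) ∉ zpowers (x : S) := by
    intro h
    apply hyx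
    obtain ⟨k, hk⟩ := mem_zpowers_iff.1 h
    refine mem_zpowers_iff.2 ⟨k, Subtype.ext ?_⟩
    rw [Subgroup.coe_zpow]; exact hk
  have hzK : zpowers (x : S) ≤ V := zpowers_le.2 hxV
  have hdvd : 2 ∣ Nat.card V := by
    have := card_dvd_of_le hzK
    rwa [Nat.card_zpowers, hx'] at this
  have hne2 : Nat.card V ≠ 2 := by
    intro h
    have := eq_of_le_of_card_ge hzK (by rw [h, Nat.card_zpowers, hx'])
    exact hyx' (this ▸ hyV)
  have hpos : 0 < Nat.card V := Nat.card_pos
  exact ⟨V, hVn, by omega, hVsq, hVc⟩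

end Cfsg.Agent.Helper63.SR2
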