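-- helper63 for helper88 (S2772 farm #13205): leaf (OZN) `omegaZ_normal`.
import Mathlib
import Cfsg.Agent.Helper88.SimsD.Defs

set_option autoImplicit false

namespace Cfsg.Agent.Helper63.SimsD

open Cfsg.Agent.Helper88.SimsD

/-- (OZN) `Ω₁ Z(Q)` is normal when `Q` is. -/
theorem omegaZ_normal {Γ : Type*} [Group Γ] (Q : Subgroup Γ) [Q.Normal] : (omegaZ Q).Normal := by
  constructor
  intro v hv g
  obtain ⟨hvQ, hvc, hv2⟩ := hv
  refine ⟨‹Q.Normal›.conj_mem v hvQ g, fun y hy => ?_, ?_⟩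
  · -- `g⁻¹ y g ∈ Q` commutes with `v`
    have hy' : g⁻¹ * y * g ∈ Q := by
      have := ‹Q.Normal›.conj_mem y hy g⁻¹
      rwa [inv_inv] at this
    have h := hvc _ hy'
    calc y * (g * v * g⁻¹) = g * ((g⁻¹ * y * g) * v) * g⁻¹ := by group
      _ = g * (v * (g⁻¹ * y * g)) * g⁻¹ := by rw [h]
      _ = g * v * g⁻¹ * y := by group
  · rw [pow_two] at hv2 ⊢
    calc g * v * g⁻¹ * (g * v * g⁻¹) = g * (v * v) * g⁻¹ := by group
      _ = 1 := by rw [hv2]; group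

end Cfsg.Agent.Helper63.SimsD
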