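import Mathlib

/-!
# (GL) of helper80's S2333 farm (#10361): the order of `GL_{m+2}(q)`.
-/

set_option autoImplicit false

namespace Cfsg.Agent.Helper63.SpE

open Matrix

variable {F : Type*} [Field F] [Fintype F]

/-- (GL) the order of `GL_{m+2}(q)`. -/
theorem card_GL_add_two (m : ℕ) :
    Nat.card (GL (Fin (m + 2)) F) =
      (Fintype.card F ^ (m + 2) - 1) * (Fintype.card F ^ (m + 2) - Fintype.card F) *
        Fintype.card F ^ (2 * m) * Nat.card (GL (Fin m) F) := by
  rw [Matrix.card_GL_field, Matrix.card_GL_field, Fin.prod_univ_succ, Fin.prod_univ_succ]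
  have h : ∀ i : Fin m, Fintype.card F ^ (m + 2) - Fintype.card F ^ ((i.succ.succ : Fin (m + 2)) : ℕ)
      = Fintype.card F ^ 2 * (Fintype.card F ^ m - Fintype.card F ^ (i : ℕ)) := by
    intro i
    rw [Nat.mul_sub, ← pow_add, ← pow_add]
    simp only [Fin.val_succ]
    congr 2
    · ring
    · ring
  rw [Finset.prod_congr rfl (fun i _ => h i), Finset.prod_mul_distrib, Finset.prod_const,
    Finset.card_univ, Fintype.card_fin]
  simp only [Fin.val_zero, pow_zero, Fin.val_succ, zero_add, pow_one]
  rw [← pow_mul]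
  ring

end Cfsg.Agent.Helper63.SpE
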