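import Mathlib

/-!
# (Q3) of helper80's S2333 farm (#10361): the isometries fixing `x` and `y` with `b(x, y) ≠ 0` embed
into `GL_{n-2}` (restriction to `⟨x, y⟩^⊥`).
-/

set_option autoImplicit false

namespace Cfsg.Agent.Helper63.SpE

open Matrix

variable {F : Type*} [Field F] {n : ℕ}

/-- `v ↦ (b(x, v), b(y, v))`. -/
noncomputable def Q3_phi (Q : QuadraticForm F (Fin n → F)) (x y : Fin n → F) :
    (Fin n → F) →ₗ[F] F × F :=
  (QuadraticMap.polarBilin Q x).prod (QuadraticMap.polarBilin Q y)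

theorem Q3_phi_apply (Q : QuadraticForm F (Fin n → F)) (x y v : Fin n → F) :
    Q3_phi Q x y v = (QuadraticMap.polar Q x v, QuadraticMap.polar Q y v) := rfl

theorem Q3_mem_ker (Q : QuadraticForm F (Fin n → F)) (x y v : Fin n → F) :
    v ∈ LinearMap.ker (Q3_phi Q x y) ↔
      QuadraticMap.polar Q x v = 0 ∧ QuadraticMap.polar Q y v = 0 := by
  rw [LinearMap.mem_ker, Q3_phi_apply, Prod.mk_eq_zero]

theorem Q3_polar_self (h2 : (2 : F) = 0) (Q : QuadraticForm F (Fin n → F)) (x : Fin n → F) :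
    QuadraticMap.polar Q x x = 0 := by
  rw [QuadraticMap.polar_self, two_smul, ← two_mul, h2, zero_mul]

/-- every vector is in `⟨x, y⟩ + ⟨x, y⟩^⊥`. -/
theorem Q3_decomp (h2 : (2 : F) = 0) (Q : QuadraticForm F (Fin n → F)) (x y : Fin n → F)
    (hxy : QuadraticMap.polar Q x y ≠ 0) (v : Fin n → F) :
    ∃ a c : F, v - (a • x + c • y) ∈ LinearMap.ker (Q3_phi Q x y) := by
  refine ⟨QuadraticMap.polar Q y v / QuadraticMap.polar Q x y,
    QuadraticMap.polar Q x v / QuadraticMap.polar Q x y, ?_⟩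
  rw [Q3_mem_ker]
  have hyx : QuadraticMap.polar Q y x = QuadraticMap.polar Q x y := QuadraticMap.polar_comm Q y x
  constructor
  · rw [QuadraticMap.polar_sub_right, QuadraticMap.polar_add_right, QuadraticMap.polar_smul_right,
      QuadraticMap.polar_smul_right, Q3_polar_self h2, smul_zero, zero_add, smul_eq_mul,
      div_mul_cancel₀ _ hxy, sub_self]
  · rw [QuadraticMap.polar_sub_right, QuadraticMap.polar_add_right, QuadraticMap.polar_smul_right,
      QuadraticMap.polar_smul_right, Q3_polar_self h2, smul_zero, add_zero, smul_eq_mul, hyx,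
      div_mul_cancel₀ _ hxy, sub_self]

theorem Q3_surj (h2 : (2 : F) = 0) (Q : QuadraticForm F (Fin n → F)) (x y : Fin n → F)
    (hxy : QuadraticMap.polar Q x y ≠ 0) : Function.Surjective (Q3_phi Q x y) := by
  rintro ⟨a, c⟩
  have hyx : QuadraticMap.polar Q y x = QuadraticMap.polar Q x y := QuadraticMap.polar_comm Q y x
  refine ⟨(a / QuadraticMap.polar Q x y) • y + (c / QuadraticMap.polar Q x y) • x, ?_⟩
  rw [Q3_phi_apply]
  refine Prod.ext ?_ ?_
  · show QuadraticMap.polar Q x _ = a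
    rw [QuadraticMap.polar_add_right, QuadraticMap.polar_smul_right,
      QuadraticMap.polar_smul_right, Q3_polar_self h2, smul_zero, add_zero, smul_eq_mul,
      div_mul_cancel₀ _ hxy]
  · show QuadraticMap.polar Q y _ = c
    rw [QuadraticMap.polar_add_right, QuadraticMap.polar_smul_right,
      QuadraticMap.polar_smul_right, Q3_polar_self h2, smul_zero, zero_add, smul_eq_mul, hyx,
      div_mul_cancel₀ _ hxy]

theorem Q3_finrank_ker (h2 : (2 : F) = 0) (Q : QuadraticForm F (Fin n → F)) (x y : Fin n → F)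
    (hxy : QuadraticMap.polar Q x y ≠ 0) :
    Module.finrank F (LinearMap.ker (Q3_phi Q x y)) = n - 2 := by
  have h1 := LinearMap.finrank_range_add_finrank_ker (Q3_phi Q x y)
  rw [LinearMap.range_eq_top.2 (Q3_surj h2 Q x y hxy), finrank_top, Module.finrank_prod,
    Module.finrank_self, Module.finrank_fin_fun] at h1
  omega

/-- an isometry preserves the polar form. -/
theorem Q3_polar_map (Q : QuadraticForm F (Fin n → F)) (A : Matrix (Fin n) (Fin n) F)
    (hA : ∀ v : Fin n → F, Q (A *ᵥ v) = Q v) (v w : Fin n → F) :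
    QuadraticMap.polar Q (A *ᵥ v) (A *ᵥ w) = QuadraticMap.polar Q v w := by
  unfold QuadraticMap.polar
  rw [← Matrix.mulVec_add, hA, hA, hA]

/-- an isometry fixing `x, y` preserves `⟨x, y⟩^⊥`. -/
theorem Q3_map_mem (Q : QuadraticForm F (Fin n → F)) (x y : Fin n → F)
    (A : Matrix (Fin n) (Fin n) F)
    (hA : ∀ v : Fin n → F, Q (A *ᵥ v) = Q v) (hx : A *ᵥ x = x) (hy : A *ᵥ y = y)
    (w : Fin n → F) (hw : w ∈ LinearMap.ker (Q3_phi Q x y)) :
    A *ᵥ w ∈ LinearMap.ker (Q3_phi Q x y) := by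
  rw [Q3_mem_ker] at hw ⊢
  constructor
  · conv_lhs => rw [← hx]
    rw [Q3_polar_map Q A hA]; exact hw.1
  · conv_lhs => rw [← hy]
    rw [Q3_polar_map Q A hA]; exact hw.2

/-- the automorphism group of a space of dimension `k` has the order of `GL_k`. -/
theorem Q3_card_aut [Fintype F] {W : Type*} [AddCommGroup W] [Module F W] [Module.Finite F W]
    (k : ℕ) (hW : Module.finrank F W = k) :
    Nat.card (W ≃ₗ[F] W) = Nat.card (GL (Fin k) F) := by
  have e : W ≃ₗ[F] (Fin k → F) :=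
    LinearEquiv.ofFinrankEq _ _ (by rw [hW, Module.finrank_fin_fun])
  let E1 : (W ≃ₗ[F] W) ≃ ((Fin k → F) ≃ₗ[F] (Fin k → F)) :=
    { toFun := fun f => e.symm.trans (f.trans e)
      invFun := fun g => e.trans (g.trans e.symm)
      left_inv := by intro f; ext w; simp
      right_inv := by intro g; ext w; simp }
  let E2 : ((Fin k → F) ≃ₗ[F] (Fin k → F)) ≃ GL (Fin k) F :=
    ((LinearMap.GeneralLinearGroup.generalLinearEquiv F (Fin k → F)).symm.trans
      Matrix.GeneralLinearGroup.toLin.symm).toEquiv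
  exact Nat.card_congr (E1.trans E2)

variable [Fintype F]

/-- (Q3) the isometries fixing `x` and `y` with `b(x, y) ≠ 0` embed into `GL_{n-2}`. -/
theorem card_stab_le (h2 : (2 : F) = 0) (Q : QuadraticForm F (Fin n → F)) (x y : Fin n → F)
    (hxy : QuadraticMap.polar Q x y ≠ 0) :
    Nat.card {A : GL (Fin n) F // (∀ v : Fin n → F, Q ((A : Matrix (Fin n) (Fin n) F) *ᵥ v) = Q v) ∧
        (A : Matrix (Fin n) (Fin n) F) *ᵥ x = x ∧ (A : Matrix (Fin n) (Fin n) F) *ᵥ y = y} ≤
      Nat.card (GL (Fin (n - 2)) F) := by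
  classical
  set W := LinearMap.ker (Q3_phi Q x y) with hWdef
  rw [← Q3_card_aut (F := F) (W := W) (n - 2) (Q3_finrank_ker h2 Q x y hxy)]
  -- injectivity of `A ↦ A *ᵥ ·`
  have hinjA : ∀ A : GL (Fin n) F,
      Function.Injective (fun v : Fin n → F => (A : Matrix (Fin n) (Fin n) F) *ᵥ v) := by
    intro A v w hvw
    have h := congrArg (fun u => ((A⁻¹ : GL (Fin n) F) : Matrix (Fin n) (Fin n) F) *ᵥ u) hvw
    simpa [Matrix.mulVec_mulVec] using h
  -- the restriction map
  let Φ : {A : GL (Fin n) F // (∀ v : Fin n → F, Q ((A : Matrix (Fin n) (Fin n) F) *ᵥ v) = Q v) ∧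
        (A : Matrix (Fin n) (Fin n) F) *ᵥ x = x ∧ (A : Matrix (Fin n) (Fin n) F) *ᵥ y = y} →
      (W ≃ₗ[F] W) := fun A =>
    LinearEquiv.ofInjectiveEndo
      ((Matrix.mulVecLin (A.1 : Matrix (Fin n) (Fin n) F)).restrict
        (fun w hw => Q3_map_mem Q x y _ A.2.1 A.2.2.1 A.2.2.2 w hw))
      (by
        intro v w hvw
        apply Subtype.ext
        apply hinjA A.1
        exact congrArg Subtype.val hvw)
  have hΦ : ∀ A w, ((Φ A) w : Fin n → F) = (A.1 : Matrix (Fin n) (Fin n) F) *ᵥ (w : Fin n → F) := by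
    intro A w
    rfl
  have : Finite (W ≃ₗ[F] W) :=
    Finite.of_injective (fun f => (f : W → W)) DFunLike.coe_injective
  apply Nat.card_le_card_of_injective Φ
  intro A B hAB
  apply Subtype.ext
  apply Units.ext
  apply Matrix.mulVec_injective
  funext v
  obtain ⟨a, c, hw⟩ := Q3_decomp h2 Q x y hxy v
  have hv : v = (a • x + c • y) + (v - (a • x + c • y)) := by abel
  have h1 := hΦ A ⟨_, hw⟩
  have h3 := hΦ B ⟨_, hw⟩
  rw [hAB] at h1
  have h4 : (A.1 : Matrix (Fin n) (Fin n) F) *ᵥ (v - (a • x + c • y)) =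
      (B.1 : Matrix (Fin n) (Fin n) F) *ᵥ (v - (a • x + c • y)) := h1.symm.trans h3
  rw [hv, Matrix.mulVec_add, Matrix.mulVec_add, h4, Matrix.mulVec_add, Matrix.mulVec_add,
    Matrix.mulVec_smul, Matrix.mulVec_smul, Matrix.mulVec_smul, Matrix.mulVec_smul,
    A.2.2.1, A.2.2.2, B.2.2.1, B.2.2.2]

end Cfsg.Agent.Helper63.SpE
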