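import Mathlib

set_option autoImplicit false

namespace Cfsg.Agent.Helper63

open Subgroup

/-- Relative subnormality inside a fixed ambient group: `RelSubn H K` says `H ◁◁ K`. -/
inductive RelSubn {G : Type*} [Group G] : Subgroup G → Subgroup G → Prop
  | refl (K : Subgroup G) : RelSubn K K
  | step {H J K : Subgroup G} : H ≤ J → J ≤ Subgroup.normalizer (H : Set G) → RelSubn J K → RelSubn H K

theorem RelSubn.le {G : Type*} [Group G] {H K : Subgroup G} (h : RelSubn H K) : H ≤ K := by
  induction h with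
  | refl K => exact le_rfl
  | step hHJ _ _ ih => exact le_trans hHJ ih

/-- Extract the top step of a subnormal chain. -/
theorem RelSubn.top_step {G : Type*} [Group G] {H K : Subgroup G} (h : RelSubn H K) :
    H = K ∨ ∃ K₁ : Subgroup G, RelSubn H K₁ ∧ K₁ ≤ K ∧ K ≤ Subgroup.normalizer (K₁ : Set G) ∧ K₁ ≠ K := by
  induction h with
  | refl K => exact Or.inl rfl
  | @step H J K hHJ hJn hJK ih =>
    rcases ih with rfl | ⟨K₁, h1, h2, h3, h4⟩
    · by_cases hHJ' : H = J
      · exact Or.inl hHJ'
      · exact Or.inr ⟨H, RelSubn.refl H, hHJ, hJn, hHJ'⟩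
    · exact Or.inr ⟨K₁, RelSubn.step hHJ hJn h1, h2, h3, h4⟩

theorem relSubn_top_of_isSubnormal {G : Type*} [Group G] {H : Subgroup G} (h : H.IsSubnormal) :
    RelSubn H ⊤ := by
  induction h with
  | top => exact RelSubn.refl ⊤
  | step H K h_le _ hN ih =>
    exact RelSubn.step h_le ((Subgroup.normal_subgroupOf_iff_le_normalizer h_le).mp hN) ih

/-- If every element of `L` conjugates `H` into itself then `L` normalizes `H`. -/
theorem le_normalizer_of_forall_conj_mem {G : Type*} [Group G] (L H : Subgroup G)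
    (h : ∀ l ∈ L, ∀ x ∈ H, l * x * l⁻¹ ∈ H) : L ≤ Subgroup.normalizer (H : Set G) := by
  intro l hl
  rw [Subgroup.mem_normalizer_iff]
  intro x
  constructor
  · exact h l hl x
  · intro hx
    have := h l⁻¹ (L.inv_mem hl) _ hx
    simpa [mul_assoc] using this

/-- `L` is a minimal `K`-invariant ("normal in `K`") nontrivial subgroup of `K`. -/
def MinNormIn {G : Type*} [Group G] (K L : Subgroup G) : Prop :=
  L ≤ K ∧ K ≤ Subgroup.normalizer (L : Set G) ∧ L ≠ ⊥ ∧
    ∀ L' : Subgroup G, L' ≤ L → K ≤ Subgroup.normalizer (L' : Set G) → L' = ⊥ ∨ L' = L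

theorem exists_minNormIn {G : Type*} [Group G] [Finite G] (K : Subgroup G) :
    ∀ N : Subgroup G, N ≤ K → K ≤ Subgroup.normalizer (N : Set G) → N ≠ ⊥ →
      ∃ L₀ : Subgroup G, L₀ ≤ N ∧ MinNormIn K L₀ := by
  intro N
  induction' hn : Nat.card N using Nat.strong_induction_on with n ih generalizing N
  intro hNK hKN hN
  by_cases hmin : ∀ L' : Subgroup G, L' ≤ N → K ≤ Subgroup.normalizer (L' : Set G) → L' = ⊥ ∨ L' = N
  · exact ⟨N, le_rfl, hNK, hKN, hN, hmin⟩
  · push Not at hmin
    obtain ⟨L', hL'N, hKL', hL'bot, hL'ne⟩ := hmin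
    have hlt : Nat.card L' < n := by
      rw [← hn]
      have hle : Nat.card L' ≤ Nat.card N := Subgroup.card_le_of_le hL'N
      rcases hle.lt_or_eq with h | h
      · exact h
      · exact absurd (Subgroup.eq_of_le_of_card_ge hL'N h.ge) hL'ne
    obtain ⟨L₀, hL₀, hmin₀⟩ := ih _ hlt L' rfl (le_trans hL'N hNK) hKL' hL'bot
    exact ⟨L₀, le_trans hL₀ hL'N, hmin₀⟩

/-- Transport of `MinNormIn` along an automorphism. -/
theorem MinNormIn.map {G : Type*} [Group G] {K L : Subgroup G} (h : MinNormIn K L) (φ : G ≃* G) :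
    MinNormIn (K.map φ.toMonoidHom) (L.map φ.toMonoidHom) := by
  obtain ⟨h1, h2, h3, h4⟩ := h
  refine ⟨Subgroup.map_mono h1, ?_, ?_, ?_⟩
  · rw [← Subgroup.map_equiv_normalizer_eq]
    exact Subgroup.map_mono h2
  · intro hbot
    apply h3
    exact (Subgroup.map_eq_bot_iff_of_injective L φ.injective).mp hbot
  · intro L' hL' hKL'
    have hsymm : ∀ S : Subgroup G, (S.map φ.toMonoidHom).map φ.symm.toMonoidHom = S := by
      intro S
      rw [Subgroup.map_map]
      have : φ.symm.toMonoidHom.comp φ.toMonoidHom = MonoidHom.id G := by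
        ext x; simp
      rw [this, Subgroup.map_id]
    have hsymm' : ∀ S : Subgroup G, (S.map φ.symm.toMonoidHom).map φ.toMonoidHom = S := by
      intro S
      rw [Subgroup.map_map]
      have : φ.toMonoidHom.comp φ.symm.toMonoidHom = MonoidHom.id G := by
        ext x; simp
      rw [this, Subgroup.map_id]
    have h5 : L'.map φ.symm.toMonoidHom ≤ L := by
      have := Subgroup.map_mono (f := φ.symm.toMonoidHom) hL'
      rwa [hsymm] at this
    have h6 : K ≤ Subgroup.normalizer ((L'.map φ.symm.toMonoidHom : Subgroup G) : Set G) := by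
      rw [← Subgroup.map_equiv_normalizer_eq]
      have := Subgroup.map_mono (f := φ.symm.toMonoidHom) hKL'
      rwa [hsymm] at this
    rcases h4 _ h5 h6 with h7 | h7
    · left
      have := congrArg (Subgroup.map φ.toMonoidHom) h7
      rwa [hsymm', Subgroup.map_bot] at this
    · right
      have := congrArg (Subgroup.map φ.toMonoidHom) h7
      rwa [hsymm'] at this

/-- Relative form of: a minimal normal subgroup normalizes every subnormal subgroup
(Isaacs, FGT, Theorem 2.6). -/
theorem minNormIn_le_normalizer {G : Type*} [Group G] [Finite G] :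
    ∀ (K H L : Subgroup G), RelSubn H K → MinNormIn K L → L ≤ Subgroup.normalizer (H : Set G) := by
  intro K
  induction' hn : Nat.card K using Nat.strong_induction_on with n ih generalizing K
  intro H L hHK hL
  obtain ⟨hLK, hKL, hLbot, hLmin⟩ := hL
  rcases hHK.top_step with rfl | ⟨K₁, hHK₁, hK₁K, hKK₁, hK₁ne⟩
  · exact le_trans hLK Subgroup.le_normalizer
  · have hcard : Nat.card K₁ < n := by
      rw [← hn]
      have hle : Nat.card K₁ ≤ Nat.card K := Subgroup.card_le_of_le hK₁K
      rcases hle.lt_or_eq with h | h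
      · exact h
      · exact absurd (Subgroup.eq_of_le_of_card_ge hK₁K h.ge) hK₁ne
    have hHK₁le : H ≤ K₁ := hHK₁.le
    -- L ⊓ K₁ is K-invariant
    have hinv : K ≤ Subgroup.normalizer ((L ⊓ K₁ : Subgroup G) : Set G) := by
      apply le_normalizer_of_forall_conj_mem
      intro k hk x hx
      obtain ⟨hxL, hxK₁⟩ := Subgroup.mem_inf.mp hx
      exact Subgroup.mem_inf.mpr
        ⟨(Subgroup.mem_normalizer_iff.mp (hKL hk) x).mp hxL,
         (Subgroup.mem_normalizer_iff.mp (hKK₁ hk) x).mp hxK₁⟩
    rcases hLmin _ inf_le_left hinv with hbot | htop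
    · -- L and K₁ commute
      apply le_normalizer_of_forall_conj_mem
      intro l hl x hx
      have hxK₁ : x ∈ K₁ := hHK₁le hx
      have hlK : l ∈ K := hLK hl
      have hxK : x ∈ K := hK₁K hxK₁
      have hc1 : l * x * l⁻¹ * x⁻¹ ∈ K₁ :=
        K₁.mul_mem ((Subgroup.mem_normalizer_iff.mp (hKK₁ hlK) x).mp hxK₁) (K₁.inv_mem hxK₁)
      have hc2 : l * x * l⁻¹ * x⁻¹ ∈ L := by
        have h1 : x * l⁻¹ * x⁻¹ ∈ L :=
          (Subgroup.mem_normalizer_iff.mp (hKL hxK) l⁻¹).mp (L.inv_mem hl)
        have : l * x * l⁻¹ * x⁻¹ = l * (x * l⁻¹ * x⁻¹) := by group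
        rw [this]
        exact L.mul_mem hl h1
      have hc3 : l * x * l⁻¹ * x⁻¹ ∈ L ⊓ K₁ := Subgroup.mem_inf.mpr ⟨hc2, hc1⟩
      rw [hbot, Subgroup.mem_bot] at hc3
      have : l * x * l⁻¹ = x := by
        calc l * x * l⁻¹ = (l * x * l⁻¹ * x⁻¹) * x := by group
          _ = x := by rw [hc3, one_mul]
      rw [this]
      exact hx
    · -- L ≤ K₁
      have hLK₁ : L ≤ K₁ := by rw [← htop]; exact inf_le_right
      obtain ⟨L₀, hL₀L, hL₀min⟩ := exists_minNormIn K₁ L hLK₁ (le_trans hK₁K hKL) hLbot
      -- all K-conjugates of L₀ normalize H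
      have hconj : ∀ k ∈ K, L₀.map (MulAut.conj k).toMonoidHom ≤ Subgroup.normalizer (H : Set G) := by
        intro k hk
        have h1 := hL₀min.map (MulAut.conj k)
        have h2 : K₁.map (MulAut.conj k).toMonoidHom = K₁ :=
          Subgroup.mem_normalizer_iff_map_conj_eq.mp (hKK₁ hk)
        rw [h2] at h1
        exact ih _ hcard K₁ rfl H _ hHK₁ h1
      -- the join of the conjugates
      set T : Subgroup G := ⨆ k : K, L₀.map (MulAut.conj (k : G)).toMonoidHom with hT
      have hTL : T ≤ L := by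
        apply iSup_le
        intro k
        have h2 : L.map (MulAut.conj (k : G)).toMonoidHom = L :=
          Subgroup.mem_normalizer_iff_map_conj_eq.mp (hKL k.2)
        calc L₀.map (MulAut.conj (k : G)).toMonoidHom ≤ L.map (MulAut.conj (k : G)).toMonoidHom :=
              Subgroup.map_mono hL₀L
          _ = L := h2
      have hTinv : K ≤ Subgroup.normalizer (T : Set G) := by
        apply le_normalizer_of_forall_conj_mem
        intro k hk x hx
        rw [hT] at hx
        refine Subgroup.iSup_induction (C := fun x => k * x * k⁻¹ ∈ T) _ hx ?_ ?_ ?_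
        · intro i y hy
          obtain ⟨z, hz, rfl⟩ := hy
          have : k * (MulAut.conj (i : G)).toMonoidHom z * k⁻¹
              = (MulAut.conj ((⟨k * i, K.mul_mem hk i.2⟩ : K) : G)).toMonoidHom z := by
            simp [MulAut.conj_apply, mul_assoc]
          rw [this]
          exact Subgroup.mem_iSup_of_mem (⟨k * i, K.mul_mem hk i.2⟩ : K)
            (Subgroup.mem_map_of_mem _ hz)
        · simp
        · intro y z ihy ihz
          have : k * (y * z) * k⁻¹ = (k * y * k⁻¹) * (k * z * k⁻¹) := by group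
          rw [this]
          exact Subgroup.mul_mem _ ihy ihz
      have hL₀T : L₀ ≤ T := by
        have : L₀.map (MulAut.conj ((1 : K) : G)).toMonoidHom = L₀ := by
          ext x; simp
        rw [← this]
        exact le_iSup (fun k : K => L₀.map (MulAut.conj (k : G)).toMonoidHom) 1
      have hTbot : T ≠ ⊥ := by
        intro h
        apply hL₀min.2.2.1
        rw [h] at hL₀T
        exact le_bot_iff.mp hL₀T
      rcases hLmin T hTL hTinv with h | h
      · exact absurd h hTbot
      · rw [← h]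
        apply iSup_le
        intro k
        exact hconj k k.2

/-- A minimal normal subgroup of a finite group normalizes every subnormal subgroup. -/
theorem minNormal_le_normalizer_of_isSubnormal {G : Type*} [Group G] [Finite G]
    (H L : Subgroup G) (hH : H.IsSubnormal) (hLn : L.Normal) (hLbot : L ≠ ⊥)
    (hLmin : ∀ L' : Subgroup G, L'.Normal → L' ≤ L → L' = ⊥ ∨ L' = L) :
    L ≤ Subgroup.normalizer (H : Set G) := by
  apply minNormIn_le_normalizer ⊤ H L (relSubn_top_of_isSubnormal hH)
  refine ⟨le_top, ?_, hLbot, ?_⟩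
  · rw [Subgroup.normalizer_eq_top_iff.mpr hLn]
  · intro L' hL' hn
    have : L'.Normal := Subgroup.normalizer_eq_top_iff.mp (top_le_iff.mp hn)
    exact hLmin L' this hL'

/-- Existence of minimal normal subgroups in a nontrivial finite group. -/
theorem exists_minNormal {G : Type*} [Group G] [Finite G] (N : Subgroup G) (hNn : N.Normal)
    (hN : N ≠ ⊥) :
    ∃ L : Subgroup G, L ≤ N ∧ L.Normal ∧ L ≠ ⊥ ∧
      ∀ L' : Subgroup G, L'.Normal → L' ≤ L → L' = ⊥ ∨ L' = L := by
  obtain ⟨L, hLN, -, hLn, hLbot, hLmin⟩ := exists_minNormIn (⊤ : Subgroup G) N le_top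
    (by rw [Subgroup.normalizer_eq_top_iff.mpr hNn]) hN
  refine ⟨L, hLN, Subgroup.normalizer_eq_top_iff.mp (top_le_iff.mp hLn), hLbot, ?_⟩
  intro L' hL'n hL'
  exact hLmin L' hL' (by rw [Subgroup.normalizer_eq_top_iff.mpr hL'n])

end Cfsg.Agent.Helper63
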