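import Mathlib
import Cfsg.Prelude.Def_Characters
import Cfsg.Prelude.Def_Blocks

/-!
# S1022 (helper17's plan, board #6512): pieces (FIXP) and (FIXQ), Sylow subgroups fixed by an
element
-/

set_option autoImplicit false

namespace Cfsg.Agent.Helper63.SylFix

open Cfsg Subgroup

universe u

variable {G : Type u} [Group G] [Finite G]

/-- (FIXP) the number of Sylow `p`-subgroups normalized by an element of `C(P)` is `1` mod `p` -/
theorem card_fixed_sylow_modEq_one {p : ℕ} [Fact p.Prime] (P : Sylow p G) (c : G)
    (hc : c ∈ centralizer ((P : Subgroup G) : Set G)) :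
    Nat.card {Q : Sylow p G // c • Q = Q} ≡ 1 [MOD p] := by
  -- `P` acts on the set of fixed points of `c`
  let S : SubMulAction ↥(P : Subgroup G) (Sylow p G) :=
    { carrier := {Q | c • Q = Q}
      smul_mem' := by
        intro y Q hQ
        have hQ' : c • Q = Q := hQ
        show c • (y • Q) = y • Q
        have hcy : c * (y : G) = (y : G) * c := ((mem_centralizer_iff.mp hc) y y.2).symm
        rw [Subgroup.smul_def, ← mul_smul, hcy, mul_smul, hQ'] }
  have hPfix : c • P = P := by
    rw [Sylow.smul_eq_iff_mem_normalizer]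
    exact Subgroup.centralizer_le_normalizer _ hc
  have h1 := P.isPGroup'.card_modEq_card_fixedPoints ↥S
  have h2 : Nat.card (MulAction.fixedPoints ↥(P : Subgroup G) ↥S) = 1 := by
    have hall : ∀ x : MulAction.fixedPoints ↥(P : Subgroup G) ↥S, ((x : ↥S) : Sylow p G) = P := by
      rintro ⟨⟨Q, hQ⟩, hfix⟩
      have hQfix : Q ∈ MulAction.fixedPoints ↥(P : Subgroup G) (Sylow p G) := by
        intro y
        have := hfix y
        exact congrArg (fun z : ↥S => (z : Sylow p G)) this
      have hle : (P : Subgroup G) ≤ Q := P.isPGroup'.sylow_mem_fixedPoints_iff.mp hQfix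
      exact Sylow.ext (P.is_maximal' Q.isPGroup' hle)
    rw [Nat.card_eq_one_iff_unique]
    constructor
    · constructor
      intro x x'
      apply Subtype.ext
      apply Subtype.ext
      rw [hall x, hall x']
    · refine ⟨⟨⟨P, hPfix⟩, ?_⟩⟩
      intro y
      apply Subtype.ext
      show (y : G) • P = P
      rw [Sylow.smul_eq_iff_mem_normalizer]
      exact Subgroup.le_normalizer y.2
  rw [h2] at h1
  have h3 : Nat.card {Q : Sylow p G // c • Q = Q} = Nat.card ↥S :=
    Nat.card_congr (Equiv.subtypeEquivRight (fun _ => Iff.rfl))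
  rw [h3]
  exact h1

/-- (FIXQ) the number of Sylow `p`-subgroups normalized by an element of prime order `q` is
`n_p` mod `q` -/
theorem card_fixed_sylow_modEq_card {p q : ℕ} [Fact p.Prime] [Fact q.Prime] (c : G)
    (hc : orderOf c = q) :
    Nat.card {Q : Sylow p G // c • Q = Q} ≡ Nat.card (Sylow p G) [MOD q] := by
  have hZ : IsPGroup q (zpowers c) := by
    apply IsPGroup.of_card (n := 1)
    rw [Nat.card_zpowers, hc, pow_one]
  have h1 := hZ.card_modEq_card_fixedPoints (Sylow p G)
  have h2 : Nat.card {Q : Sylow p G // c • Q = Q} =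
      Nat.card (MulAction.fixedPoints ↥(zpowers c) (Sylow p G)) := by
    apply Nat.card_congr
    apply Equiv.subtypeEquivRight
    intro Q
    constructor
    · intro hQ z
      have hle : zpowers c ≤ MulAction.stabilizer G Q := by
        rw [Subgroup.zpowers_le]; exact hQ
      exact hle z.2
    · intro hQ
      exact hQ ⟨c, Subgroup.mem_zpowers c⟩
  rw [h2]
  exact h1.symm

end Cfsg.Agent.Helper63.SylFix
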