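import Mathlib

set_option autoImplicit false

namespace Cfsg.Agent.Helper63

open Subgroup
open scoped Pointwise

theorem map_conj_subtype' {G : Type*} [Group G] (A : Subgroup G) (K : Subgroup A) (a : A) :
    (K.map (MulAut.conj a).toMonoidHom).map A.subtype
      = (K.map A.subtype).map (MulAut.conj (a : G)).toMonoidHom := by
  rw [Subgroup.map_map, Subgroup.map_map]
  congr 1

/-- Sylow conjugacy inside a subgroup `M`: two `p`-subgroups of `M` of `p'`-index in `M` are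
conjugate by an element of `M`. -/
theorem exists_conj_eq_of_relIndex {G : Type*} [Group G] [Finite G] {p : ℕ} [Fact p.Prime]
    (M P₁ P₂ : Subgroup G) (h₁ : P₁ ≤ M) (h₂ : P₂ ≤ M) (hP₁ : IsPGroup p P₁) (hP₂ : IsPGroup p P₂)
    (hi₁ : ¬ p ∣ P₁.relIndex M) (hi₂ : ¬ p ∣ P₂.relIndex M) :
    ∃ m ∈ M, P₂ = P₁.map (MulAut.conj m).toMonoidHom := by
  have hQ₁ : IsPGroup p (P₁.subgroupOf M) := hP₁.comap_subtype
  have hQ₂ : IsPGroup p (P₂.subgroupOf M) := hP₂.comap_subtype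
  let S₁ : Sylow p M := hQ₁.toSylow hi₁
  let S₂ : Sylow p M := hQ₂.toSylow hi₂
  obtain ⟨m, hm⟩ := MulAction.exists_smul_eq M S₁ S₂
  refine ⟨(m : G), m.2, ?_⟩
  have h3 : ((m • S₁ : Sylow p M) : Subgroup M) = (S₂ : Subgroup M) := by rw [hm]
  rw [Sylow.coe_subgroup_smul] at h3
  have h4 : (S₁ : Subgroup M) = P₁.subgroupOf M := IsPGroup.toSylow_coe hQ₁ hi₁
  have h5 : (S₂ : Subgroup M) = P₂.subgroupOf M := IsPGroup.toSylow_coe hQ₂ hi₂
  rw [h4, h5] at h3
  have h6 := congrArg (Subgroup.map M.subtype) h3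
  rw [Subgroup.subgroupOf_map_subtype, inf_eq_left.mpr h₂] at h6
  rw [← h6]
  have h7 : MulAut.conj m • P₁.subgroupOf M = (P₁.subgroupOf M).map (MulAut.conj m).toMonoidHom := rfl
  rw [h7, map_conj_subtype', Subgroup.subgroupOf_map_subtype, inf_eq_left.mpr h₁]

end Cfsg.Agent.Helper63
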