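import Mathlib
import Cfsg.Agent.Helper95.TIC.Defs
import Cfsg.Agent.Helper95.TIC.SE5
import Cfsg.Agent.Helper95.SzOrd.Main
import Cfsg.Agent.Helper56.PSLCongr
import Cfsg.Agent.S1230
import Cfsg.Agent.S3375

/-!
# S4064 (helper95), batch 3, piece (ZP): identification in the elementary abelian case
-/

set_option autoImplicit false

namespace Cfsg.Agent.Helper63.TICent

open Subgroup Cfsg Cfsg.Agent.Helper75 Cfsg.Agent.Helper21 Cfsg.Agent.Helper4

universe u

variable {G : Type u} [Group G]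

/-- exponent `2` implies commutativity -/
theorem ZP_comm_of_sq {x y : G} (hx : x ^ 2 = 1) (hy : y ^ 2 = 1) (hxy : (x * y) ^ 2 = 1) :
    x * y = y * x := by
  have h1 : x⁻¹ = x := by
    rw [inv_eq_iff_mul_eq_one, ← pow_two]; exact hx
  have h2 : y⁻¹ = y := by
    rw [inv_eq_iff_mul_eq_one, ← pow_two]; exact hy
  have h3 : (x * y)⁻¹ = x * y := by
    rw [inv_eq_iff_mul_eq_one, ← pow_two]; exact hxy
  calc x * y = (x * y)⁻¹ := h3.symm
    _ = y⁻¹ * x⁻¹ := mul_inv_rev x y
    _ = y * x := by rw [h1, h2]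

open scoped Pointwise in
theorem ZP_mem_sylow_smul_iff {p : ℕ} (P : Sylow p G) (k x : G) :
    x ∈ ((k • P : Sylow p G) : Subgroup G) ↔ k⁻¹ * x * k ∈ (P : Subgroup G) := by
  rw [Sylow.smul_def]
  show x ∈ MulAut.conj k • (P : Subgroup G) ↔ _
  rw [Subgroup.mem_pointwise_smul_iff_inv_smul_mem]
  simp [MulAut.smul_def]

/-- (ZP) Identification in the elementary abelian case via `Cfsg.Agent.S1230.result`. -/
theorem psl_of_elemAb [Finite G] (A : Subgroup G)
    (hC : ∀ k ∈ A, k ≠ 1 → centralizer ({k} : Set G) ≤ A) (hsq : ∀ x ∈ A, x ^ 2 = 1)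
    (hodd : Odd A.index) (h4 : 4 ≤ Nat.card A) (hnn : ¬ A.Normal)
    (hG : ∀ (F : Type) [Field F] [Fintype F] (n : ℕ), n ≠ 0 → Fintype.card F = 2 ^ n →
      Nonempty (Matrix.ProjectiveSpecialLinearGroup (Fin 2) F ≃*
        Matrix.ProjectiveSpecialLinearGroup (Fin 2) (GaloisField 2 n))) :
    ∃ n : ℕ, 2 ≤ n ∧
      Nonempty (G ≃* Matrix.ProjectiveSpecialLinearGroup (Fin 2) (GaloisField 2 n)) := by
  classical
  have hfact : Fact (Nat.Prime 2) := ⟨Nat.prime_two⟩
  -- `A` is a Sylow `2`-subgroup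
  have hpA : IsPGroup 2 A := by
    intro x
    refine ⟨1, ?_⟩
    apply Subtype.ext
    rw [pow_one, Subgroup.coe_pow, Subgroup.coe_one]
    exact hsq x.1 x.2
  have hnd : ¬ 2 ∣ A.index := by
    intro h
    exact (Nat.not_even_iff_odd.2 hodd) (even_iff_two_dvd.2 h)
  set T : Sylow 2 G := hpA.toSylow hnd with hT
  have hTA : (T : Subgroup G) = A := rfl
  -- `A` is abelian
  have hAcomm : ∀ x ∈ A, ∀ y ∈ A, x * y = y * x := fun x hx y hy =>
    ZP_comm_of_sq (hsq x hx) (hsq y hy) (hsq _ (A.mul_mem hx hy))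
  -- not cyclic
  have hnc : ¬ IsCyclic (T : Subgroup G) := by
    rw [hTA]
    intro hcyc
    obtain ⟨g, hg⟩ := hcyc.exists_generator
    have hcard : Nat.card A = orderOf g := by
      rw [← Nat.card_zpowers g]
      have : Subgroup.zpowers g = ⊤ := by
        rw [eq_top_iff]; intro x _; exact hg x
      rw [this, Subgroup.card_top]
    have hg2 : g ^ 2 = 1 := by
      apply Subtype.ext
      rw [Subgroup.coe_pow, Subgroup.coe_one]
      exact hsq g.1 g.2
    have hle : orderOf g ≤ 2 := Nat.le_of_dvd (by norm_num) (orderOf_dvd_of_pow_eq_one hg2)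
    omega
  have hnn' : ¬ (T : Subgroup G).Normal := by rw [hTA]; exact hnn
  -- centralizers of involutions
  have hcent : ∀ t : G, orderOf t = 2 →
      IsMulCommutative (Subgroup.centralizer ({t} : Set G)) ∧
        ∀ c ∈ Subgroup.centralizer ({t} : Set G), c ^ 2 = 1 := by
    intro t ht
    -- `t` lies in a conjugate of `A`
    have htp : IsPGroup 2 (Subgroup.zpowers t) := by
      apply IsPGroup.of_card (n := 1)
      rw [Nat.card_zpowers, ht, pow_one]
    obtain ⟨Q, hQ⟩ := htp.exists_le_sylow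
    obtain ⟨g, hg⟩ := MulAction.exists_smul_eq G T Q
    have htQ : t ∈ (Q : Subgroup G) := hQ (Subgroup.mem_zpowers t)
    rw [← hg, ZP_mem_sylow_smul_iff] at htQ
    -- `a = g⁻¹ t g ∈ A`
    have haA : g⁻¹ * t * g ∈ A := htQ
    have ha1 : g⁻¹ * t * g ≠ 1 := by
      intro h
      have : t = 1 := by
        have h' : t = g * (g⁻¹ * t * g) * g⁻¹ := by group
        rw [h', h]; group
      rw [this, orderOf_one] at ht
      omega
    have hsqC : ∀ c ∈ Subgroup.centralizer ({t} : Set G), c ^ 2 = 1 := by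
      intro c hc
      have hc' : c * t = t * c := Subgroup.mem_centralizer_singleton_iff.1 hc
      have hmem : g⁻¹ * c * g ∈ Subgroup.centralizer ({g⁻¹ * t * g} : Set G) := by
        rw [Subgroup.mem_centralizer_singleton_iff]
        calc g⁻¹ * c * g * (g⁻¹ * t * g) = g⁻¹ * (c * t) * g := by group
          _ = g⁻¹ * (t * c) * g := by rw [hc']
          _ = g⁻¹ * t * g * (g⁻¹ * c * g) := by group
      have h2 := hsq _ (hC _ haA ha1 hmem)
      have h3 : (g⁻¹ * c * g) ^ 2 = g⁻¹ * c ^ 2 * g := by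
        rw [pow_two, pow_two]; group
      rw [h3] at h2
      have h4 : c ^ 2 = g * (g⁻¹ * c ^ 2 * g) * g⁻¹ := by group
      rw [h4, h2]; group
    refine ⟨⟨⟨fun x y => ?_⟩⟩, hsqC⟩
    apply Subtype.ext
    rw [Subgroup.coe_mul, Subgroup.coe_mul]
    exact ZP_comm_of_sq (hsqC x.1 x.2) (hsqC y.1 y.2)
      (hsqC _ (Subgroup.mul_mem _ x.2 y.2))
  obtain ⟨F, instF, instFin, hcardF, ⟨e⟩⟩ := Cfsg.Agent.S1230.result T hnc hnn' hcent
  -- the order of `A` is a power of `2`
  obtain ⟨n, hn⟩ := hpA.exists_card_eq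
  have hcardF' : Fintype.card F = 2 ^ n := by
    rw [hcardF]
    show Nat.card A = 2 ^ n
    exact hn
  have hn2 : 2 ≤ n := by
    by_contra hlt
    have hn1 : n ≤ 1 := by omega
    have : Nat.card A ≤ 2 ^ 1 := by
      rw [hn]; exact Nat.pow_le_pow_right (by norm_num) hn1
    omega
  obtain ⟨e'⟩ := hG F n (by omega) hcardF'
  exact ⟨n, hn2, ⟨e.trans e'⟩⟩

end Cfsg.Agent.Helper63.TICent
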