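import Mathlib
import Cfsg.Agent.Helper95.TIC.Defs
import Cfsg.Agent.Helper95.TIC.SE5
import Cfsg.Agent.Helper95.SzOrd.Main
import Cfsg.Agent.Helper56.PSLCongr
import Cfsg.Agent.S1230
import Cfsg.Agent.S3375

/-!
# S4064 (helper95), batch 3, piece (ZX): the Suzuki configuration is incompatible with `TIC`
-/

set_option autoImplicit false

namespace Cfsg.Agent.Helper63.TICent

open Subgroup Cfsg Cfsg.Agent.Helper75 Cfsg.Agent.Helper21 Cfsg.Agent.Helper4
open Cfsg.Agent.Helper95.TICent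

universe u

variable {G : Type u} [Group G]

/-- a subgroup acting freely by conjugation on a subset: its order divides the size of the set -/
theorem ZX_dvd_of_conj_free [Finite G] (K : Subgroup G) (X : Set G)
    (hX : ∀ k ∈ K, ∀ c ∈ X, k * c * k⁻¹ ∈ X)
    (hfree : ∀ k ∈ K, ∀ c ∈ X, k * c * k⁻¹ = c → k = 1) : Nat.card K ∣ Nat.card X := by
  classical
  let act : MulAction K X :=
    { smul := fun k c => ⟨k.1 * c.1 * k.1⁻¹, hX k.1 k.2 c.1 c.2⟩
      one_smul := fun c => Subtype.ext (by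
        show (1 : G) * c.1 * (1 : G)⁻¹ = c.1
        group)
      mul_smul := fun k k' c => Subtype.ext (by
        show (k.1 * k'.1) * c.1 * (k.1 * k'.1)⁻¹ = k.1 * (k'.1 * c.1 * k'.1⁻¹) * k.1⁻¹
        group) }
  have h : ∀ y : X, MulAction.stabilizer K y = ⊥ := by
    intro y
    rw [eq_bot_iff]
    intro k hk
    rw [Subgroup.mem_bot]
    apply Subtype.ext
    apply hfree k.1 k.2 y.1 y.2
    exact congrArg Subtype.val (MulAction.mem_stabilizer_iff.mp hk)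
  rw [Nat.card_congr (MulAction.selfEquivOrbitsQuotientProd h), Nat.card_prod]
  exact dvd_mul_left _ _

/-- the arithmetic contradiction -/
theorem ZX_arith (n m : ℕ) (h1 : n < m) (h2 : m < 2 * n)
    (hd : 2 ^ n - 1 ∣ 2 ^ m - 2 ^ n) : False := by
  have hn : 0 < n := by omega
  have e : 2 ^ m - 2 ^ n = 2 ^ n * (2 ^ (m - n) - 1) := by
    have : m = n + (m - n) := by omega
    conv_lhs => rw [this, pow_add]
    rw [Nat.mul_sub, mul_one]
  rw [e] at hd
  have hcop : Nat.Coprime (2 ^ n - 1) (2 ^ n) := by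
    have h1le : 1 ≤ 2 ^ n := Nat.one_le_two_pow
    have : Nat.Coprime (2 ^ n - 1) (2 ^ n - 1 + 1) := by
      rw [Nat.coprime_self_add_right]
      exact Nat.coprime_one_right _
    rwa [Nat.sub_add_cancel h1le] at this
  have hd' : 2 ^ n - 1 ∣ 2 ^ (m - n) - 1 := hcop.dvd_of_dvd_mul_left hd
  have hlt : 2 ^ (m - n) < 2 ^ n := Nat.pow_lt_pow_right (by norm_num) (by omega)
  have hpos : 0 < 2 ^ (m - n) - 1 := by
    have : 2 ^ 1 ≤ 2 ^ (m - n) := Nat.pow_le_pow_right (by norm_num) (by omega)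
    omega
  have := Nat.le_of_dvd hpos hd'
  omega

/-- (ZX) The Suzuki configuration is incompatible with `TIC`. -/
theorem suzuki_excluded {Ω : Type*} [Finite G] [MulAction G Ω] [Fintype Ω] (h : TIC G)
    {a b : Ω} (hab : a ≠ b) {Q : Subgroup G} (hZT : Cfsg.Agent.Helper95.SzOrd.ZT a Q)
    (hcent : ∀ x ∈ Q, x ≠ 1 → centralizer ({x} : Set G) ≤ Q) : False := by
  classical
  have : Fintype G := Fintype.ofFinite G
  obtain ⟨q, n, F, hQ, -⟩ := Cfsg.Agent.Helper95.SzOrd.suzuki_main hZT hab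
  obtain ⟨x, hxQ, v, hvQ, hxv⟩ := hZT.nonab
  have hx1 : x ≠ 1 := by
    rintro rfl
    exact hxv (by rw [one_mul, mul_one])
  set C : Subgroup G := centralizer ({x} : Set G) with hCdef
  have hCQ : C ≤ Q := hcent x hxQ hx1
  have hmemC : ∀ g : G, g ∈ C ↔ g * x = x * g := fun g =>
    Subgroup.mem_centralizer_singleton_iff
  -- `Zs Q ≤ C`
  have hZC : Cfsg.Agent.Helper95.SzOrd.Zs Q ≤ C := by
    intro z hz
    rw [hmemC]
    exact ((Cfsg.Agent.Helper95.SzOrd.mem_Zs.1 hz).2 x hxQ).symm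
  have hxC : x ∈ C := (hmemC x).2 rfl
  have hxZ : x ∉ Cfsg.Agent.Helper95.SzOrd.Zs Q := by
    intro hz
    exact hxv ((Cfsg.Agent.Helper95.SzOrd.mem_Zs.1 hz).2 v hvQ).symm
  have hvC : v ∉ C := by
    intro hv
    exact hxv ((hmemC v).1 hv).symm
  -- cardinalities
  have hq : q = 2 ^ n := F.hq
  have hcardZ : Nat.card (Cfsg.Agent.Helper95.SzOrd.Zs Q) = 2 ^ n := by rw [F.card_Zs, hq]
  have hcardQ : Nat.card Q = 2 ^ (2 * n) := by rw [hQ, hq, ← pow_mul, mul_comm]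
  have hdvdCQ : Nat.card C ∣ Nat.card Q := Subgroup.card_dvd_of_le hCQ
  have hdvdZC : Nat.card (Cfsg.Agent.Helper95.SzOrd.Zs Q) ∣ Nat.card C :=
    Subgroup.card_dvd_of_le hZC
  rw [hcardQ] at hdvdCQ
  obtain ⟨m, hm2, hm⟩ := (Nat.dvd_prime_pow Nat.prime_two).1 hdvdCQ
  rw [hcardZ, hm] at hdvdZC
  have hnm : n ≤ m := (Nat.pow_dvd_pow_iff_le_right (by norm_num)).1 hdvdZC
  have hnm' : n < m := by
    rcases Nat.lt_or_ge n m with h' | h'
    · exact h'
    · exfalso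
      have hmn : m = n := le_antisymm h' hnm
      have heq : Cfsg.Agent.Helper95.SzOrd.Zs Q = C := by
        apply Subgroup.eq_of_le_of_card_ge hZC
        rw [hcardZ, hm, hmn]
      exact hxZ (heq ▸ hxC)
  have hm2' : m < 2 * n := by
    rcases Nat.lt_or_ge m (2 * n) with h' | h'
    · exact h'
    · exfalso
      have hmn : m = 2 * n := le_antisymm hm2 h'
      have heq : C = Q := by
        apply Subgroup.eq_of_le_of_card_ge hCQ
        rw [hcardQ, hm, hmn]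
      exact hvC (heq ▸ hvQ)
  -- `K` normalizes `Q`, `Zs Q` and `C`
  have hKQ : ∀ k ∈ Cfsg.Agent.Helper95.SzOrd.Kab G a b, ∀ u ∈ Q, k * u * k⁻¹ ∈ Q :=
    fun k hk u hu => hZT.Qnorm k hk.1 u hu
  have hKZ : ∀ k ∈ Cfsg.Agent.Helper95.SzOrd.Kab G a b,
      ∀ z ∈ Cfsg.Agent.Helper95.SzOrd.Zs Q, k * z * k⁻¹ ∈ Cfsg.Agent.Helper95.SzOrd.Zs Q := by
    intro k hk z hz
    obtain ⟨hzQ, hzc⟩ := Cfsg.Agent.Helper95.SzOrd.mem_Zs.1 hz
    rw [Cfsg.Agent.Helper95.SzOrd.mem_Zs]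
    refine ⟨hKQ k hk z hzQ, fun w hw => ?_⟩
    have hk' : k⁻¹ ∈ Cfsg.Agent.Helper95.SzOrd.Kab G a b := Subgroup.inv_mem _ hk
    have hw' : k⁻¹ * w * k ∈ Q := by
      have := hKQ k⁻¹ hk' w hw
      rwa [inv_inv] at this
    have h1 := hzc _ hw'
    calc w * (k * z * k⁻¹) = k * ((k⁻¹ * w * k) * z) * k⁻¹ := by group
      _ = k * (z * (k⁻¹ * w * k)) * k⁻¹ := by rw [h1]
      _ = k * z * k⁻¹ * w := by group
  -- a non-identity element of `Zs Q`
  have hq4 : 2 ≤ Nat.card (Cfsg.Agent.Helper95.SzOrd.Zs Q) := by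
    rw [hcardZ]
    calc 2 = 2 ^ 1 := by norm_num
      _ ≤ 2 ^ n := Nat.pow_le_pow_right (by norm_num) (by have := F.hn; omega)
  obtain ⟨z, hz1⟩ : ∃ z : Cfsg.Agent.Helper95.SzOrd.Zs Q, z ≠ 1 := by
    have : Nontrivial (Cfsg.Agent.Helper95.SzOrd.Zs Q) :=
      (Finite.one_lt_card_iff_nontrivial).1 (by omega)
    exact exists_ne 1
  have hz1' : (z : G) ≠ 1 := fun h' => hz1 (Subtype.ext h')
  have hKC : ∀ k ∈ Cfsg.Agent.Helper95.SzOrd.Kab G a b, ∀ c ∈ C, k * c * k⁻¹ ∈ C := by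
    intro k hk c hc
    have hkN : k ∈ Subgroup.normalizer ((C : Subgroup G) : Set G) :=
      TIC.mem_normalizer h (hZC z.2) hz1' (hZC (hKZ k hk z.1 z.2))
    exact (Subgroup.mem_normalizer_iff.1 hkN c).1 hc
  -- the free action on `C \ Zs Q`
  have hdvd := ZX_dvd_of_conj_free (Cfsg.Agent.Helper95.SzOrd.Kab G a b)
    ((C : Set G) \ (Cfsg.Agent.Helper95.SzOrd.Zs Q : Set G))
    (by
      rintro k hk c ⟨hc, hcz⟩
      refine ⟨hKC k hk c hc, fun hmem => hcz ?_⟩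
      have := hKZ k⁻¹ (Subgroup.inv_mem _ hk) _ hmem
      rw [inv_inv] at this
      have e : k⁻¹ * (k * c * k⁻¹) * k = c := by group
      rwa [e] at this)
    (by
      rintro k hk c ⟨hc, hcz⟩ hfix
      by_contra hk1
      have hc1 : c = 1 := F.K_fpf k hk hk1 c (hCQ hc) hfix
      apply hcz
      rw [hc1]
      exact Subgroup.one_mem _)
  have hcardX : Nat.card ↥((C : Set G) \ (Cfsg.Agent.Helper95.SzOrd.Zs Q : Set G)) =
      2 ^ m - 2 ^ n := by
    rw [Nat.card_coe_set_eq, Set.ncard_sdiff (by exact_mod_cast hZC) (Set.toFinite _),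
      ← Nat.card_coe_set_eq, ← Nat.card_coe_set_eq]
    show Nat.card C - Nat.card (Cfsg.Agent.Helper95.SzOrd.Zs Q) = _
    rw [hm, hcardZ]
  have hcardK : Nat.card (Cfsg.Agent.Helper95.SzOrd.Kab G a b) = 2 ^ n - 1 := by
    have := F.card_K
    rw [hq] at this
    omega
  rw [hcardX, hcardK] at hdvd
  exact ZX_arith n m hnm' hm2' hdvd

end Cfsg.Agent.Helper63.TICent
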