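import Mathlib
import Cfsg.Agent.Helper44.U4Defs
import Cfsg.Agent.Helper55.U4G1a
import Cfsg.Agent.Helper55.U4G1b
import Cfsg.Agent.Helper41.P4U4

/-! # (NF) of helper44's WANTED-2 #9369 (S6001): the unitary normal form, with the pieces (NF0), (G2),
(G3) as explicit hypotheses (in the exact shape of the skeleton statements). -/

set_option autoImplicit false
open scoped MatrixGroups

namespace Cfsg.Agent.Helper63.U4

open Matrix Polynomial Cfsg.Agent.Helper99.P4 Cfsg.Geo Cfsg.Agent.Helper44.U4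

variable {F : Type*} [Field F]

/-- (NF) modulo (NF0), (G2), (G3) -/
theorem normal_form_of [Fintype F] {p : ℕ} [Fact p.Prime] [CharP F p] (hF : Fintype.card F = p ^ 2)
    (hp4 : p % 4 = 3)
    (hNF0 : (2 : F) ≠ 0 → ∀ R : Subgroup (GL (Fin 4) F), IsSymplecticTypeGroup 2 R →
      ActsAbsolutelyIrreducibly (matrixSet R) → Nat.card R = 2 ^ 6 →
      Nat.card (Subgroup.center R) = 4 →
      ∃ (i : F) (hi : i ^ 2 = -1) (P : GL (Fin 4) F),
        R = (R0 i hi).map (MulAut.conj P).toMonoidHom)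
    (hG2 : ∀ (bar : F →+* F), (∀ x, bar x = x ^ p) → ∀ {i : F} (hi : i ^ 2 = -1),
      bar i = -i → R0 i hi ≤ Cfsg.GU 4 F p)
    (hG3 : ∀ (bar : F →+* F), (∀ x, bar x = x ^ p) → (∀ a, bar (bar a) = a) →
      (∀ c : F, bar c = c → ∃ μ : F, μ * bar μ = c) →
      (∀ M : Matrix (Fin 4) (Fin 4) F, (∀ v : V4, M * pw v = pw v * M) → ∃ c : F, M = c • 1) →
      ∀ {i : F} (hi : i ^ 2 = -1), R0 i hi ≤ Cfsg.GU 4 F p → ∀ P : GL (Fin 4) F,
      (R0 i hi).map (MulAut.conj P).toMonoidHom ≤ Cfsg.GU 4 F p →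
      ∃ P' : GL (Fin 4) F, P' ∈ Cfsg.GU 4 F p ∧ ∀ g : GL (Fin 4) F, P' * g * P'⁻¹ = P * g * P⁻¹)
    (R : Subgroup (GL (Fin 4) F)) (hRs : IsSymplecticTypeGroup 2 R)
    (hRi : ActsAbsolutelyIrreducibly (matrixSet R)) (hRU : R ≤ Cfsg.GU 4 F p)
    (hR6 : Nat.card R = 2 ^ 6) (hRZ : Nat.card (Subgroup.center R) = 4) :
    ∃ (i : F) (hi : i ^ 2 = -1) (P : GL (Fin 4) F), P ∈ Cfsg.GU 4 F p ∧
      R = (R0 i hi).map (MulAut.conj P).toMonoidHom := by
  set bar : F →+* F := frobenius F p with hbardef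
  have hbar : ∀ x, bar x = x ^ p := fun x => frobenius_def p x
  obtain ⟨hinv, -, h2, hbi, -⟩ := Cfsg.Agent.Helper55.U4.bar_facts hF hp4 bar hbar
  obtain ⟨i, hi, P, hRP⟩ := hNF0 h2 R hRs hRi hR6 hRZ
  have hR0U : R0 i hi ≤ Cfsg.GU 4 F p := hG2 bar hbar hi (hbi i hi)
  have hP : (R0 i hi).map (MulAut.conj P).toMonoidHom ≤ Cfsg.GU 4 F p := by
    rw [← hRP]; exact hRU
  obtain ⟨P', hP'U, hP'⟩ := hG3 bar hbar hinv
    (fun c hc => Cfsg.Agent.Helper55.U4.norm_surj hF bar hbar c hc)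
    (fun M hM => Cfsg.Agent.Helper41.P4.scalar_of_commute h2 M hM) hi hR0U P hP
  refine ⟨i, hi, P', hP'U, ?_⟩
  have hconj : (MulAut.conj P').toMonoidHom = (MulAut.conj P).toMonoidHom := by
    ext g : 1
    simp only [MulEquiv.coe_toMonoidHom, MulAut.conj_apply]
    exact hP' g
  rw [hconj]
  exact hRP

end Cfsg.Agent.Helper63.U4
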