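import Mathlib
import Cfsg.Agent.Helper63.U4NFx
import Cfsg.Agent.Helper72.U4NF0
import Cfsg.Agent.Helper41.U4G2
import Cfsg.Agent.Helper41.U4G3

/-! # (NF) of helper44's WANTED-2 #9369 (S6001): the unitary normal form, exact statement. -/

set_option autoImplicit false
open scoped MatrixGroups

namespace Cfsg.Agent.Helper63.U4

open Matrix Polynomial Cfsg.Agent.Helper99.P4 Cfsg.Geo Cfsg.Agent.Helper44.U4

variable {F : Type*} [Field F]

/-- (NF) unitary normal form. -/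
theorem normal_form [Fintype F] {p : ℕ} [Fact p.Prime] [CharP F p] (hF : Fintype.card F = p ^ 2)
    (hp4 : p % 4 = 3) (R : Subgroup (GL (Fin 4) F)) (hRs : IsSymplecticTypeGroup 2 R)
    (hRi : ActsAbsolutelyIrreducibly (matrixSet R)) (hRU : R ≤ Cfsg.GU 4 F p)
    (hR6 : Nat.card R = 2 ^ 6) (hRZ : Nat.card (Subgroup.center R) = 4) :
    ∃ (i : F) (hi : i ^ 2 = -1) (P : GL (Fin 4) F), P ∈ Cfsg.GU 4 F p ∧
      R = (R0 i hi).map (MulAut.conj P).toMonoidHom :=
  normal_form_of hF hp4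
    (fun h2 R a b c d => Cfsg.Agent.Helper72.U4.normal_form_GL h2 R a b c d)
    (fun bar hbar _ hi hbi => Cfsg.Agent.Helper41.U4.R0_le_GU bar hbar hi hbi)
    (fun bar hbar hinv hnorm hU4 _ hi hR0U P hP =>
      Cfsg.Agent.Helper41.U4.exists_unitary_conj bar hbar hinv hnorm hU4 hi hR0U P hP)
    R hRs hRi hRU hR6 hRZ

end Cfsg.Agent.Helper63.U4
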